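import Mathlib.Algebra.Field.Basic
import Mathlib.Data.Fintype.OfMap
import Mathlib.Data.Fintype.Basic
import Mathlib.Data.Fintype.Card
import Mathlib.Tactic.DeriveFintype

/-!
The field of four elements with computable operations.
-/

set_option autoImplicit false

namespace CfsgLib.Spor

/-- the field of four elements: `0`, `1`, a root of `x² + x + 1` and its square -/
structure QField where
  /-- the code of an element -/
  val : Fin 4
  deriving DecidableEq

namespace QField

instance instFintype : Fintype QField :=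
  Fintype.ofEquiv (Fin 4) ⟨QField.mk, QField.val, fun _ => rfl, fun _ => rfl⟩

/-- sum of codes -/
def qadd (a b : Fin 4) : Fin 4 := ⟨(a.val ^^^ b.val) % 4, Nat.mod_lt _ (Nat.succ_pos 3)⟩

/-- product of codes -/
def qmul (a b : Fin 4) : Fin 4 :=
  ⟨(2625168384 >>> (2 * (4 * a.val + b.val))) % 4, Nat.mod_lt _ (Nat.succ_pos 3)⟩

/-- inverse of a code -/
def qinv (a : Fin 4) : Fin 4 := ⟨(180 >>> (2 * a.val)) % 4, Nat.mod_lt _ (Nat.succ_pos 3)⟩

instance : Zero QField := ⟨⟨⟨0, Nat.succ_pos 3⟩⟩⟩
instance : One QField := ⟨⟨⟨1, Nat.succ_lt_succ (Nat.succ_pos 2)⟩⟩⟩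
instance : Add QField := ⟨fun a b => ⟨qadd a.val b.val⟩⟩
instance : Mul QField := ⟨fun a b => ⟨qmul a.val b.val⟩⟩
instance : Neg QField := ⟨fun a => a⟩
instance : Inv QField := ⟨fun a => ⟨qinv a.val⟩⟩

theorem tables_two : ∀ a : Fin 4, qadd ⟨0, by omega⟩ a = a ∧ qadd a ⟨0, by omega⟩ = a ∧
    qmul ⟨1, by omega⟩ a = a ∧ qmul a ⟨1, by omega⟩ = a ∧ qmul ⟨0, by omega⟩ a = ⟨0, by omega⟩ ∧
    qmul a ⟨0, by omega⟩ = ⟨0, by omega⟩ ∧ qadd a a = ⟨0, by omega⟩ ∧
    (a.val = 0 ∨ qmul a (qinv a) = ⟨1, by omega⟩) ∧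
    ∀ b : Fin 4, qadd a b = qadd b a ∧ qmul a b = qmul b a := by decide +kernel

theorem tables_three : ∀ a b c : Fin 4, qadd (qadd a b) c = qadd a (qadd b c) ∧
    qmul (qmul a b) c = qmul a (qmul b c) ∧
    qmul a (qadd b c) = qadd (qmul a b) (qmul a c) ∧
    qmul (qadd a b) c = qadd (qmul a c) (qmul b c) := by decide +kernel

instance instCommRing : CommRing QField where
  add_assoc a b c := congrArg QField.mk (tables_three a.val b.val c.val).1
  zero_add a := congrArg QField.mk (tables_two a.val).1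
  add_zero a := congrArg QField.mk (tables_two a.val).2.1
  add_comm a b := congrArg QField.mk ((tables_two a.val).2.2.2.2.2.2.2.2 b.val).1
  mul_assoc a b c := congrArg QField.mk (tables_three a.val b.val c.val).2.1
  one_mul a := congrArg QField.mk (tables_two a.val).2.2.1
  mul_one a := congrArg QField.mk (tables_two a.val).2.2.2.1
  mul_comm a b := congrArg QField.mk ((tables_two a.val).2.2.2.2.2.2.2.2 b.val).2
  left_distrib a b c := congrArg QField.mk (tables_three a.val b.val c.val).2.2.1
  right_distrib a b c := congrArg QField.mk (tables_three a.val b.val c.val).2.2.2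
  zero_mul a := congrArg QField.mk (tables_two a.val).2.2.2.2.1
  mul_zero a := congrArg QField.mk (tables_two a.val).2.2.2.2.2.1
  neg_add_cancel a := congrArg QField.mk (tables_two a.val).2.2.2.2.2.2.1
  nsmul := nsmulRec
  zsmul := zsmulRec

instance instField : Field QField where
  exists_pair_ne := ⟨0, 1, fun h => absurd (congrArg (fun x : QField => x.val.val) h) Nat.zero_ne_one⟩
  mul_inv_cancel a ha := congrArg QField.mk
    ((tables_two a.val).2.2.2.2.2.2.2.1.resolve_left fun h => ha (congrArg QField.mk (Fin.ext h)))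
  inv_zero := rfl
  nnqsmul := _
  qsmul := _
  nnqsmul_def := fun _ _ => rfl
  qsmul_def := fun _ _ => rfl

theorem card_eq : Fintype.card QField = 4 := rfl

end QField

end CfsgLib.Spor
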