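import Cfsg.Agent.Lib.Spor.M24Trans

/-!
Orders of point and dodecad stabilisers in `Cfsg.M24`, sharp 5-transitivity of the dodecad
stabiliser and 3-transitivity of the small Mathieu group on the complementary dodecad.
-/

set_option autoImplicit false

namespace CfsgLib.Spor

open Cfsg
open scoped Pointwise

theorem isPretransitive_M24 : MulAction.IsPretransitive M24 GolayPt := by
  rw [MulAction.isPretransitive_iff]
  intro p q
  have := isMultiplyPretransitive_le_five (k := 1) (by norm_num)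
  have hp : Function.Injective (fun _ : Fin 1 => p) := Function.injective_of_subsingleton _
  have hq : Function.Injective (fun _ : Fin 1 => q) := Function.injective_of_subsingleton _
  obtain ⟨g, hg⟩ := MulAction.exists_smul_eq M24 (⟨_, hp⟩ : Fin 1 ↪ GolayPt) ⟨_, hq⟩
  exact ⟨g, DFunLike.congr_fun hg 0⟩

theorem natCard_of_index {G : Type*} [Group G] {H : Subgroup G} {n a b : ℕ} (hG : Nat.card G = n)
    (hH : H.index = a) (h : n = b * a) (ha : 0 < a) : Nat.card H = b := by
  have := H.card_mul_index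
  rw [hG, hH, h] at this
  exact Nat.eq_of_mul_eq_mul_right ha this

theorem natCard_stab_point (p : GolayPt) :
    Nat.card (MulAction.stabilizer M24 p) = 10200960 := by
  haveI := isPretransitive_M24
  refine natCard_of_index natCard_M24 (MulAction.index_stabilizer_of_transitive M24 p) ?_ ?_
  · rw [Nat.card_eq_fintype_card, card_golayPt]
  · rw [Nat.card_eq_fintype_card, card_golayPt]; norm_num

theorem natCard_stab_two {p q : GolayPt} (hpq : p ≠ q) :
    Nat.card ↥(MulAction.stabilizer M24 p ⊓ MulAction.stabilizer M24 q) = 443520 := by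
  have h2 := isMultiplyPretransitive_le_five (k := 2) (by norm_num)
  have hinj : Function.Injective ![p, q] := by
    intro i j h
    fin_cases i <;> fin_cases j <;> simp_all [Ne.symm hpq]
  set x : Fin 2 ↪ GolayPt := ⟨![p, q], hinj⟩
  have horb : MulAction.orbit M24 x = Set.univ :=
    Set.eq_univ_of_forall fun y => MulAction.isMultiplyPretransitive_iff.1 h2 x y
  have hK : MulAction.stabilizer M24 p ⊓ MulAction.stabilizer M24 q = MulAction.stabilizer M24 x := by
    ext g
    simp only [Subgroup.mem_inf, MulAction.mem_stabilizer_iff]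
    constructor
    · rintro ⟨h, h'⟩
      exact DFunLike.ext _ _ fun i => by fin_cases i <;> assumption
    · exact fun h => ⟨DFunLike.congr_fun h 0, DFunLike.congr_fun h 1⟩
  rw [hK]
  have hc : Nat.card (Fin 2 ↪ GolayPt) = 552 := by
    rw [Nat.card_eq_fintype_card, Fintype.card_embedding_eq, card_golayPt]; rfl
  refine natCard_of_index natCard_M24 ?_ (show 244823040 = 443520 * 552 by norm_num) (by norm_num)
  rw [MulAction.index_stabilizer, ← hc, ← Set.ncard_univ]
  exact congrArg Set.ncard horb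

theorem smul_mem_dodecads {g : Equiv.Perm GolayPt} (hg : g ∈ M24) {d : Finset GolayPt}
    (hd : d ∈ dodecads) : g • d ∈ dodecads := by
  refine ⟨?_, by rw [Finset.card_smul_finset]; exact hd.2⟩
  rw [mem_supports_iff]
  exact mem_M24_iff.1 hg d (mem_supports_iff.1 hd.1)

theorem orbit_dodecad {d : Finset GolayPt} (hd : d ∈ dodecads) :
    MulAction.orbit M24 d = dodecads := by
  ext s
  constructor
  · rintro ⟨g, rfl⟩; exact smul_mem_dodecads g.2 hd
  · intro hs
    obtain ⟨g, hg, h⟩ := exists_smul_dodecad hd hs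
    exact ⟨⟨g, hg⟩, h⟩

theorem orbit_octad {o : Finset GolayPt} (ho : o ∈ octads) :
    MulAction.orbit M24 o = octads := by
  ext s
  constructor
  · rintro ⟨g, rfl⟩; exact smul_octad_mem g.2 ho
  · intro hs
    obtain ⟨g, hg, h⟩ := exists_smul_octad ho hs
    exact ⟨⟨g, hg⟩, h⟩

theorem natCard_stab_dodecad {d : Finset GolayPt} (hd : d ∈ dodecads) :
    Nat.card (MulAction.stabilizer M24 d) = 95040 := by
  refine natCard_of_index natCard_M24 ?_ (show 244823040 = 95040 * 2576 by norm_num) (by norm_num)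
  rw [MulAction.index_stabilizer, orbit_dodecad hd, ncard_dodecads]

theorem natCard_stab_octad {o : Finset GolayPt} (ho : o ∈ octads) :
    Nat.card (MulAction.stabilizer M24 o) = 322560 := by
  refine natCard_of_index natCard_M24 ?_ (show 244823040 = 322560 * 759 by norm_num) (by norm_num)
  rw [MulAction.index_stabilizer, orbit_octad ho, ncard_octads]

theorem exists_five_base_dodec0 (x : Fin 5 ↪ GolayPt) (hx : ∀ i, x i ∈ toSet dodec0) :
    ∃ g ∈ M24, g • toSet dodec0 = toSet dodec0 ∧ ∀ i : Fin 5, g (pt i) = x i := by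
  obtain ⟨g, hg, hgd, h⟩ := exists_tuple_map lev12 [] lev12_ok (by simp) (List.ofFn x)
    (by simp [lev12]) (by simpa [List.nodup_ofFn] using x.injective)
    (fun p hp => by
      obtain ⟨i, rfl⟩ := List.mem_ofFn.1 hp
      exact hx i)
  refine ⟨g, hg.1, hgd, fun i => ?_⟩
  have hm : lev12.map (fun l => g (pt l.1)) = List.ofFn fun i : Fin 5 => g (pt i) := rfl
  rw [hm] at h
  exact (congrFun (List.ofFn_inj.1 h) i).symm

theorem exists_five_dodecad {d : Finset GolayPt} (hd : d ∈ dodecads) {x y : Fin 5 ↪ GolayPt}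
    (hx : ∀ i, x i ∈ d) (hy : ∀ i, y i ∈ d) : ∃ g ∈ M24, g • d = d ∧ ∀ i, g (x i) = y i := by
  obtain ⟨a, ha, rfl⟩ := exists_smul_dodec0 hd
  have key : ∀ z : Fin 5 ↪ GolayPt, (∀ i, z i ∈ a • toSet dodec0) →
      ∃ g ∈ M24, g • toSet dodec0 = a • toSet dodec0 ∧ ∀ i : Fin 5, g (pt i) = z i := by
    intro z hz
    obtain ⟨g, hg, hgd, h⟩ := exists_five_base_dodec0 (z.trans a.symm.toEmbedding) (fun i => by
      obtain ⟨q, hq, he⟩ := Finset.mem_smul_finset.1 (hz i)
      simpa [← he] using hq)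
    refine ⟨a * g, Subgroup.mul_mem _ ha hg, by rw [mul_smul, hgd], fun i => ?_⟩
    rw [Equiv.Perm.mul_apply, h i]; simp
  obtain ⟨b, hb, hbd, hbx⟩ := key x hx
  obtain ⟨c, hc, hcd, hcy⟩ := key y hy
  refine ⟨c * b⁻¹, Subgroup.mul_mem _ hc (Subgroup.inv_mem _ hb), ?_, fun i => ?_⟩
  · nth_rewrite 1 [← hbd]
    rw [mul_smul, inv_smul_smul, hcd]
  · rw [Equiv.Perm.mul_apply, ← hbx i]
    simp [hcy i]

theorem existsUnique_five_dodecad {d : Finset GolayPt} (hd : d ∈ dodecads)
    (x y : Fin 5 ↪ GolayPt) (hx : ∀ i, x i ∈ d) (hy : ∀ i, y i ∈ d) :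
    ∃! g : MulAction.stabilizer M24 d,
      ∀ i, ((g : M24) : Equiv.Perm GolayPt) (x i) = y i := by
  classical
  have hmem : ∀ g : MulAction.stabilizer M24 d, ∀ p ∈ d,
      ((g : M24) : Equiv.Perm GolayPt) p ∈ d := by
    intro g p hp
    have h : ((g : M24) : Equiv.Perm GolayPt) • d = d := g.2
    have h' := Finset.smul_mem_smul_finset (a := ((g : M24) : Equiv.Perm GolayPt)) hp
    rw [h] at h'
    exact h'
  let f : MulAction.stabilizer M24 d → (Fin 5 ↪ {p // p ∈ d}) := fun g =>
    ⟨fun i => ⟨((g : M24) : Equiv.Perm GolayPt) (x i), hmem g _ (hx i)⟩,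
      fun i j h => x.injective ((Equiv.injective _) (congrArg Subtype.val h))⟩
  have hs : Function.Surjective f := by
    intro z
    obtain ⟨g, hg, hgd, h⟩ := exists_five_dodecad hd hx
      (y := z.trans (Function.Embedding.subtype _)) (fun i => (z i).2)
    exact ⟨⟨⟨g, hg⟩, hgd⟩, DFunLike.ext _ _ fun i => Subtype.ext (h i)⟩
  have hb : Function.Bijective f := by
    rw [Nat.bijective_iff_surjective_and_card]
    refine ⟨hs, ?_⟩
    rw [natCard_stab_dodecad hd, Nat.card_eq_fintype_card, Fintype.card_embedding_eq,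
      Fintype.card_coe, card_dodecad hd]
    rfl
  obtain ⟨g, hg, hu⟩ := hb.existsUnique
    ⟨fun i => ⟨y i, hy i⟩, fun i j h => y.injective (congrArg Subtype.val h)⟩
  refine ⟨g, fun i => congrArg Subtype.val (DFunLike.congr_fun hg i), fun g' hg' => hu g' ?_⟩
  exact DFunLike.ext _ _ fun i => Subtype.ext (hg' i)

theorem exists_stab_dodecad_point {d : Finset GolayPt} (hd : d ∈ dodecads) {p q : GolayPt}
    (hp : p ∈ d) (hq : q ∈ d) : ∃ g ∈ M24, g • d = d ∧ g p = q := by
  have emb : ∀ r ∈ d, ∃ x : Fin 5 ↪ GolayPt, (∀ i, x i ∈ d) ∧ x 0 = r := by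
    intro r hr
    let e := d.equivFinOfCardEq (card_dodecad hd)
    let e' : {p // p ∈ d} ≃ Fin 12 := e.trans (Equiv.swap (e ⟨r, hr⟩) 0)
    refine ⟨(Fin.castLEEmb (by norm_num : 5 ≤ 12)).trans
      (e'.symm.toEmbedding.trans (Function.Embedding.subtype _)), fun i => ?_, ?_⟩
    · exact Subtype.coe_prop _
    · simp [e']
  obtain ⟨x, hx, rfl⟩ := emb p hp
  obtain ⟨y, hy, rfl⟩ := emb q hq
  obtain ⟨g, hg, hgd, h⟩ := exists_five_dodecad hd hx hy
  exact ⟨g, hg, hgd, h 0⟩

theorem natCard_stab_dodecad_point {d : Finset GolayPt} (hd : d ∈ dodecads) {p : GolayPt}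
    (hp : p ∈ d) :
    Nat.card ↥(MulAction.stabilizer M24 d ⊓ MulAction.stabilizer M24 p) = 7920 := by
  set K := MulAction.stabilizer M24 d
  have h1 : MulAction.orbit K p = (d : Set GolayPt) := by
    ext q
    constructor
    · rintro ⟨g, rfl⟩
      have h : ((g : M24) : Equiv.Perm GolayPt) • d = d := g.2
      have h' := Finset.smul_mem_smul_finset (a := ((g : M24) : Equiv.Perm GolayPt)) hp
      rw [h] at h'
      exact h'
    · intro hq
      obtain ⟨g, hg, hgd, h⟩ := exists_stab_dodecad_point hd hp hq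
      exact ⟨⟨⟨g, hg⟩, hgd⟩, h⟩
  have h2 : Nat.card (MulAction.stabilizer K p) = 7920 := by
    refine natCard_of_index (natCard_stab_dodecad hd) ?_ (show 95040 = 7920 * 12 by norm_num)
      (by norm_num)
    rw [MulAction.index_stabilizer, h1, Set.ncard_coe_finset, card_dodecad hd]
  rw [← h2]
  exact Nat.card_congr ⟨fun g => ⟨⟨g.1, g.2.1⟩, g.2.2⟩, fun g => ⟨g.1.1, g.1.2, g.2⟩,
    fun _ => rfl, fun _ => rfl⟩

theorem exists_three_outside {d : Finset GolayPt} (hd : d ∈ dodecads) {p : GolayPt} (hp : p ∈ d)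
    {x y : Fin 3 ↪ GolayPt} (hx : ∀ i, x i ∉ d) (hy : ∀ i, y i ∉ d) :
    ∃ g ∈ M24, g • d = d ∧ g p = p ∧ ∀ i, g (x i) = y i := by
  obtain ⟨a0, ha0, had⟩ := exists_smul_dodec0 hd
  have h0 : pt 0 ∈ toSet dodec0 := by decide +kernel
  obtain ⟨b, hb, hbd, hbp⟩ := exists_stab_dodecad_point hd (p := a0 (pt 0))
    (had ▸ Finset.smul_mem_smul_finset h0) hp
  set a := b * a0 with ha
  have had' : a • toSet dodec0 = d := by rw [ha, mul_smul, had, hbd]
  have hap : a (pt 0) = p := by rw [ha, Equiv.Perm.mul_apply, hbp]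
  have key : ∀ z : Fin 3 ↪ GolayPt, (∀ i, z i ∉ d) →
      ∃ g ∈ M24, g • toSet dodec0 = d ∧ g (pt 0) = p ∧
        ∀ i : Fin 3, g (pt ((lev11c.map Prod.fst).getD i 0)) = z i := by
    intro z hz
    have hzc : ∀ i, a.symm (z i) ∈ toSet (16777215 ^^^ dodec0) := by
      intro i
      rw [toSet_compl, Finset.mem_compl]
      intro h
      apply hz i
      rw [← had']
      simpa using Finset.smul_mem_smul_finset (a := a) h
    obtain ⟨g, ⟨hg, hgd, hg0⟩, -, h⟩ := exists_tuple_map lev11c [0] lev11c_ok (by simp)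
      (List.ofFn fun i => a.symm (z i)) (by simp [lev11c])
      (by
        simp only [List.map_cons, List.map_nil, List.singleton_append, List.nodup_cons,
          List.nodup_ofFn, List.mem_ofFn]
        refine ⟨?_, a.symm.injective.comp z.injective⟩
        rintro ⟨i, hi⟩
        have := hzc i
        rw [hi, toSet_compl, Finset.mem_compl] at this
        exact this h0)
      (fun q hq => by
        obtain ⟨i, rfl⟩ := List.mem_ofFn.1 hq
        exact hzc i)
    refine ⟨a * g, Subgroup.mul_mem _ (ha ▸ Subgroup.mul_mem _ hb ha0) hg, ?_, ?_, fun i => ?_⟩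
    · rw [mul_smul, hgd dodec0 List.mem_cons_self, had']
    · rw [Equiv.Perm.mul_apply, hg0 0 List.mem_cons_self, hap]
    · have hm : lev11c.map (fun l => g (pt l.1))
          = List.ofFn fun i : Fin 3 => g (pt ((lev11c.map Prod.fst).getD i 0)) := rfl
      rw [hm] at h
      have := congrFun (List.ofFn_inj.1 h) i
      rw [Equiv.Perm.mul_apply, ← this]
      simp
  obtain ⟨g₁, hg₁, hd₁, hp₁, h₁⟩ := key x hx
  obtain ⟨g₂, hg₂, hd₂, hp₂, h₂⟩ := key y hy
  refine ⟨g₂ * g₁⁻¹, Subgroup.mul_mem _ hg₂ (Subgroup.inv_mem _ hg₁), ?_, ?_, fun i => ?_⟩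
  · nth_rewrite 1 [← hd₁]
    rw [mul_smul, inv_smul_smul, hd₂]
  · rw [Equiv.Perm.mul_apply, Equiv.Perm.inv_eq_iff_eq.2 hp₁.symm, hp₂]
  · rw [Equiv.Perm.mul_apply, Equiv.Perm.inv_eq_iff_eq.2 (h₁ i).symm, h₂ i]

end CfsgLib.Spor
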