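import Mathlib

/-!
Simplicity criteria: a self-centralising-like Sylow subgroup of prime order with normaliser of
order `p * q`, and transitive groups with simple point stabiliser.
-/

set_option autoImplicit false

namespace CfsgLib.Spor

open Subgroup

/-- Every nontrivial normal subgroup has order divisible by `p`, and a Sylow `p`-subgroup of order
`p` has normaliser of order `p * q` with `q` prime: then the group is simple. -/
theorem isSimpleGroup_of_sylow_normalizer {G : Type*} [Group G] [Finite G] {p q : ℕ}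
    [hpf : Fact p.Prime] (hq : q.Prime) (P : Sylow p G) (hP : Nat.card (P : Subgroup G) = p)
    (hN : Nat.card (normalizer ((P : Subgroup G) : Set G)) = p * q)
    (hbig : p * q < Nat.card G)
    (hdiv : ∀ N : Subgroup G, N.Normal → N ≠ ⊥ → p ∣ Nat.card N) : IsSimpleGroup G := by
  have hp := hpf.out
  have hnt : Nontrivial G := Finite.one_lt_card_iff_nontrivial.1
    (lt_trans (Nat.one_lt_mul_iff.2 ⟨hp.pos, hq.pos, Or.inl hp.one_lt⟩) hbig)
  refine { eq_bot_or_eq_top_of_normal := fun N hNn => ?_ }
  by_cases hbot : N = ⊥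
  · exact Or.inl hbot
  right
  -- `P` lies in `N`
  obtain ⟨x, hx⟩ := exists_prime_orderOf_dvd_card' p (hdiv N hNn hbot)
  have hxp : IsPGroup p (zpowers (x : G)) := IsPGroup.of_card (n := 1) (by
    rw [Nat.card_zpowers, Subgroup.orderOf_coe, hx, pow_one])
  obtain ⟨Q, hQ⟩ := hxp.exists_le_sylow
  have hQP : Nat.card (Q : Subgroup G) = p := by
    rw [Sylow.card_eq_multiplicity, ← Sylow.card_eq_multiplicity P, hP]
  have hQeq : (Q : Subgroup G) = zpowers (x : G) := (Subgroup.eq_of_le_of_card_ge hQ
    (by rw [hQP, Nat.card_zpowers, Subgroup.orderOf_coe, hx])).symm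
  obtain ⟨g, hg⟩ := MulAction.exists_smul_eq G Q P
  have hPN : (P : Subgroup G) ≤ N := by
    intro y hy
    rw [← hg] at hy
    obtain ⟨z, hz, rfl⟩ := hy
    refine hNn.conj_mem z ?_ g
    have : z ∈ zpowers (x : G) := hQeq ▸ hz
    exact (zpowers_le.2 x.2) this
  have hsup : normalizer ((P : Subgroup G) : Set G) ⊔ N = ⊤ := Sylow.normalizer_sup_eq_top' P hPN
  by_cases hle : normalizer ((P : Subgroup G) : Set G) ≤ N
  · rwa [sup_eq_right.2 hle] at hsup
  exfalso
  -- `N ∩ N(P) = P`
  have hint : N ⊓ normalizer ((P : Subgroup G) : Set G) = P := by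
    have h1 : (P : Subgroup G) ≤ N ⊓ normalizer ((P : Subgroup G) : Set G) :=
      le_inf hPN le_normalizer
    obtain ⟨a, ha⟩ := hP ▸ card_dvd_of_le h1
    have h2 : Nat.card ↥(N ⊓ normalizer ((P : Subgroup G) : Set G)) ∣ p * q :=
      hN ▸ card_dvd_of_le inf_le_right
    rw [ha, Nat.mul_dvd_mul_iff_left hp.pos] at h2
    rcases (Nat.dvd_prime hq).1 h2 with rfl | rfl
    · exact (eq_of_le_of_card_ge h1 (by rw [ha, mul_one, hP])).symm
    · have heq := eq_of_le_of_card_ge
        (inf_le_right : N ⊓ normalizer ((P : Subgroup G) : Set G) ≤ _) (by rw [ha, hN])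
      exact absurd (inf_eq_right.1 heq) hle
  -- Burnside transfer inside `N`
  set R := P.subtype hPN with hR
  have hRc : normalizer ((R : Subgroup N) : Set N) ≤ centralizer ((R : Subgroup N) : Set N) := by
    intro n hn
    have hn' : (n : G) ∈ normalizer ((P : Subgroup G) : Set G) := by
      rw [mem_normalizer_iff] at hn ⊢
      intro h
      constructor
      · intro hh
        have := (hn ⟨h, hPN hh⟩).1 hh
        exact this
      · intro hh
        have hmem : h ∈ N := by
          have := hPN hh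
          have h2 := N.mul_mem (N.mul_mem (N.inv_mem n.2) this) n.2
          simpa [mul_assoc] using h2
        exact (hn ⟨h, hmem⟩).2 hh
    have hnP : (n : G) ∈ (P : Subgroup G) := hint ▸ (⟨n.2, hn'⟩ : (n : G) ∈ N ⊓ _)
    rw [mem_centralizer_iff]
    intro r hr
    have hcyc : IsCyclic (P : Subgroup G) := isCyclic_of_prime_card hP
    have := hcyc.commGroup.mul_comm (⟨(r : G), hr⟩ : (P : Subgroup G)) ⟨n, hnP⟩
    apply Subtype.ext
    simpa using congrArg Subtype.val this
  set K := (MonoidHom.transferSylow R hRc).ker with hK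
  have hKp : ¬ p ∣ Nat.card K := MonoidHom.not_dvd_card_ker_transferSylow R hRc
  have hKmem : ∀ y : N, y ∈ K ↔ ¬ p ∣ orderOf y := by
    intro y
    constructor
    · intro hy hdvd
      exact hKp (hdvd.trans (by simpa using _root_.orderOf_dvd_natCard (⟨y, hy⟩ : K)))
    · intro hy
      rw [hK, MonoidHom.mem_ker, ← orderOf_eq_one_iff]
      have h1 := orderOf_map_dvd (MonoidHom.transferSylow R hRc) y
      have hcard : Nat.card (R : Subgroup N) = p := by
        rw [hR, Sylow.coe_subtype, Nat.card_congr (subgroupOfEquivOfLe hPN).toEquiv, hP]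
      have h2 : orderOf (MonoidHom.transferSylow R hRc y) ∣ p := (_root_.orderOf_dvd_natCard _).trans (dvd_of_eq hcard)
      rcases (Nat.dvd_prime hp).1 h2 with h | h
      · exact h
      · rw [h] at h1
        exact absurd h1 hy
  have hKn : (K.map N.subtype).Normal := by
    constructor
    rintro _ ⟨y, hy, rfl⟩ g
    refine ⟨⟨g * y * g⁻¹, hNn.conj_mem _ y.2 g⟩, ?_, rfl⟩
    rw [SetLike.mem_coe, hKmem] at hy ⊢
    have : orderOf (⟨g * y * g⁻¹, hNn.conj_mem _ y.2 g⟩ : N) = orderOf y := by
      rw [← Subgroup.orderOf_coe, ← Subgroup.orderOf_coe y]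
      exact (MulAut.conj g).orderOf_eq (y : G)
    rwa [this]
  have hKbot : K = ⊥ := by
    by_contra hne
    have hne' : K.map N.subtype ≠ ⊥ := by
      rwa [Ne, map_eq_bot_iff_of_injective _ N.subtype_injective]
    have := hdiv _ hKn hne'
    rw [card_map_of_injective N.subtype_injective] at this
    exact hKp this
  have hcompl : IsComplement' K (R : Subgroup N) :=
    MonoidHom.ker_transferSylow_isComplement' R hRc
  rw [hKbot, isComplement'_bot_left] at hcompl
  have hNP : N = (P : Subgroup G) := by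
    rw [hR, Sylow.coe_subtype, subgroupOf_eq_top] at hcompl
    exact le_antisymm hcompl hPN
  have htop : normalizer ((P : Subgroup G) : Set G) = ⊤ :=
    normalizer_eq_top_iff.2 (hNP ▸ hNn)
  rw [htop, card_top] at hN
  omega

/-- Sylow counting for the normaliser of a subgroup of prime order `p`, given a bound on its
centraliser. -/
theorem natCard_normalizer_sylow {G : Type*} [Group G] [Finite G] {p q k n : ℕ}
    [hpf : Fact p.Prime] (P : Sylow p G) (hP : Nat.card (P : Subgroup G) = p)
    (hG : Nat.card G = n) (hC : Nat.card (centralizer ((P : Subgroup G) : Set G)) ≤ p * k)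
    (harith : ∀ a ≤ k, ∀ j < p, j ∣ p - 1 → p * a * j ∣ n → n / (p * a * j) % p = 1 → a * j = q) :
    Nat.card (normalizer ((P : Subgroup G) : Set G)) = p * q := by
  have hp := hpf.out
  set Cp := centralizer ((P : Subgroup G) : Set G) with hCp
  set Np := normalizer ((P : Subgroup G) : Set G) with hNp
  have hcyc : IsCyclic (P : Subgroup G) := isCyclic_of_prime_card hP
  obtain ⟨a, ha⟩ : p ∣ Nat.card Cp := by
    rw [← hP]
    refine card_dvd_of_le fun x hx => mem_centralizer_iff.2 fun y hy => ?_
    exact congrArg Subtype.val (hcyc.commGroup.mul_comm (⟨y, hy⟩ : (P : Subgroup G)) ⟨x, hx⟩)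
  have hak : a ≤ k := Nat.le_of_mul_le_mul_left (ha ▸ hC) hp.pos
  set φ := (P : Subgroup G).normalizerMonoidHom with hφ
  have hker : Nat.card φ.ker = Nat.card Cp := by
    rw [hφ, normalizerMonoidHom_ker]
    exact Nat.card_congr (subgroupOfEquivOfLe (centralizer_le_normalizer _)).toEquiv
  have hj : Nat.card φ.range ∣ p - 1 := by
    have := card_subgroup_dvd_card φ.range
    rwa [hcyc.card_mulAut, hP, Nat.totient_prime hp] at this
  have hcardN : Nat.card Np = p * a * Nat.card φ.range := by
    rw [← ha, ← hker, ← index_ker φ, card_mul_index]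
  have hlt : Nat.card φ.range < p := by
    have h1 := Nat.le_of_dvd (Nat.sub_pos_of_lt hp.one_lt) hj
    have := hp.one_lt
    omega
  have hdvd : p * a * Nat.card φ.range ∣ n := by
    rw [← hcardN, ← hG]; exact card_subgroup_dvd_card _
  have hmod : n / (p * a * Nat.card φ.range) % p = 1 := by
    have h1 := card_sylow_modEq_one p G
    rw [P.card_eq_index_normalizer] at h1
    have hpos : 0 < Nat.card Np := Nat.card_pos
    have h2 : Np.index = n / (p * a * Nat.card φ.range) := by
      rw [← hcardN, ← hG, ← card_mul_index Np, Nat.mul_div_cancel_left _ hpos]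
    rw [← h2, hNp]
    simpa [Nat.ModEq, Nat.mod_eq_of_lt hp.one_lt] using h1
  rw [hcardN, mul_assoc, harith a hak _ hlt hj hdvd hmod]

/-- A faithful 2-transitive group whose point stabiliser is simple and whose degree has two
different prime divisors is simple. -/
theorem isSimpleGroup_of_simple_stabilizer {G X : Type*} [Group G] [Finite G] [MulAction G X]
    [FaithfulSMul G X] (a : X) (hsimple : IsSimpleGroup (MulAction.stabilizer G a))
    (htwo : ∀ b c : X, b ≠ a → c ≠ a → ∃ g : G, g • a = a ∧ g • b = c)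
    (htrans : ∀ b : X, ∃ g : G, g • a = b)
    {p q : ℕ} (hp : p.Prime) (hq : q.Prime) (hpq : p ≠ q)
    (hpX : p ∣ Nat.card X) (hqX : q ∣ Nat.card X) : IsSimpleGroup G := by
  set H := MulAction.stabilizer G a with hH
  have hnt : Nontrivial G := H.subtype_injective.nontrivial
  refine { eq_bot_or_eq_top_of_normal := fun N hNn => ?_ }
  by_cases hbot : N = ⊥
  · exact Or.inl hbot
  right
  -- `N` is transitive
  obtain ⟨m, hm, hm1⟩ : ∃ m ∈ N, m ≠ (1 : G) := by
    by_contra hc
    push Not at hc
    exact hbot ((eq_bot_iff_forall N).2 hc)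
  obtain ⟨x, hx⟩ : ∃ x : X, m • x ≠ x := by
    by_contra hc
    push Not at hc
    exact hm1 (eq_of_smul_eq_smul fun x => by rw [hc x, one_smul])
  have horb : ∀ b : X, ∃ n ∈ N, n • a = b := by
    intro b
    obtain ⟨g, hg⟩ := htrans x
    set n₀ := g⁻¹ * m * g with hn₀
    have hn₀m : n₀ ∈ N := by
      have := hNn.conj_mem m hm g⁻¹
      rwa [inv_inv] at this
    have hne : n₀ • a ≠ a := by
      rw [hn₀, mul_smul, mul_smul, hg, Ne, inv_smul_eq_iff, hg]
      exact hx
    by_cases hb : b = a
    · exact ⟨1, N.one_mem, by rw [one_smul, hb]⟩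
    obtain ⟨k, hka, hkb⟩ := htwo _ b hne hb
    refine ⟨k * n₀ * k⁻¹, hNn.conj_mem _ hn₀m k, ?_⟩
    rw [mul_smul, mul_smul, (inv_smul_eq_iff).2 hka.symm, hkb]
  have hsub : (N.subgroupOf H).Normal := hNn.subgroupOf H
  rcases hsub.eq_bot_or_eq_top with hb | ht
  · exfalso
    have hfree : ∀ n ∈ N, n • a = a → n = 1 := by
      intro n hn hna
      have : (⟨n, hna⟩ : H) ∈ N.subgroupOf H := hn
      rw [hb, Subgroup.mem_bot] at this
      exact congrArg Subtype.val this
    have hcard : Nat.card N = Nat.card X := by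
      refine Nat.card_eq_of_bijective (fun n : N => (n : G) • a) ⟨fun n n' h => ?_, fun b => ?_⟩
      · have h1 := hfree ((n' : G)⁻¹ * n) (N.mul_mem (N.inv_mem n'.2) n.2)
          (by rw [mul_smul]; exact inv_smul_eq_iff.2 h)
        exact Subtype.ext (inv_mul_eq_one.1 h1).symm
      · obtain ⟨n, hn, h⟩ := horb b
        exact ⟨⟨n, hn⟩, h⟩
    haveI := Fact.mk hp
    haveI := Fact.mk hq
    haveI : Finite N := inferInstance
    obtain ⟨u, hu⟩ := exists_prime_orderOf_dvd_card' (G := N) p (hcard ▸ hpX)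
    obtain ⟨v, hv⟩ := exists_prime_orderOf_dvd_card' (G := N) q (hcard ▸ hqX)
    have hne : ∀ w : N, w ≠ 1 → (w : G) • a ≠ a := fun w hw h =>
      hw (Subtype.ext (hfree w w.2 h))
    have hu1 : u ≠ 1 := by rintro rfl; rw [orderOf_one] at hu; exact hp.ne_one hu.symm
    have hv1 : v ≠ 1 := by rintro rfl; rw [orderOf_one] at hv; exact hq.ne_one hv.symm
    obtain ⟨k, hka, hkb⟩ := htwo _ _ (hne u hu1) (hne v hv1)
    have h1 := hfree ((v : G)⁻¹ * (k * u * k⁻¹))
      (N.mul_mem (N.inv_mem v.2) (hNn.conj_mem _ u.2 k))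
      (by rw [mul_smul, mul_smul, mul_smul, inv_smul_eq_iff.2 hka.symm, hkb, inv_smul_smul])
    have h2 := congrArg orderOf (inv_mul_eq_one.1 h1)
    rw [Subgroup.orderOf_coe, hv, ← MulAut.conj_apply, MulEquiv.orderOf_eq,
      Subgroup.orderOf_coe, hu] at h2
    exact hpq h2.symm
  · refine eq_top_iff.2 fun g _ => ?_
    obtain ⟨n, hn, hna⟩ := horb (g • a)
    have hh : n⁻¹ * g ∈ H := by
      rw [hH, MulAction.mem_stabilizer_iff, mul_smul, inv_smul_eq_iff, hna]
    have : n⁻¹ * g ∈ N := subgroupOf_eq_top.1 ht hh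
    simpa using N.mul_mem hn this

end CfsgLib.Spor
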