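import Mathlib
import Cfsg.Agent.Lib.Spor.SimpleCrit
import Cfsg.Agent.Lib.Small.Basic

/-!
Sharply multiply transitive actions: Jordan's degree restrictions and the simplicity of the groups
in degrees eleven and twelve.
-/

set_option autoImplicit false

namespace CfsgLib.Spor.Sharp

open MulAction Finset

/-- `G` acts sharply `k`-transitively on `α`. -/
structure IsSharp (G α : Type*) [Group G] [MulAction G α] (k : ℕ) : Prop where
  pretrans : IsMultiplyPretransitive G α k
  trivial_of_fix : ∀ (g : G) (s : Finset α), s.card = k → (∀ x ∈ s, g • x = x) → g = 1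

theorem isSharp_of_stabilizer {α : Type*} (G : Subgroup (Equiv.Perm α)) {k : ℕ}
    [h : IsMultiplyPretransitive G α k] (hsharp : ∀ x : Fin k ↪ α, stabilizer G x = ⊥) :
    IsSharp G α k := by
  refine ⟨h, fun g s hs hfix => ?_⟩
  let x : Fin k ↪ α :=
    (s.equivFinOfCardEq hs).symm.toEmbedding.trans (Function.Embedding.subtype _)
  have hg : g ∈ stabilizer G x := by
    rw [mem_stabilizer_iff]
    ext i
    exact hfix _ ((s.equivFinOfCardEq hs).symm i).2
  rwa [hsharp x, Subgroup.mem_bot] at hg

variable {G α : Type*} [Group G] [MulAction G α] [Fintype α] {k : ℕ}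

theorem IsSharp.faithful (h : IsSharp G α k) (hk : k ≤ Fintype.card α) : FaithfulSMul G α := by
  obtain ⟨s, -, hs⟩ := Finset.exists_subset_card_eq (s := (univ : Finset α)) (n := k) (by simpa)
  refine ⟨fun {g g'} hgg => ?_⟩
  exact (inv_mul_eq_one.1 (h.trivial_of_fix (g'⁻¹ * g) s hs
    (fun x _ => by rw [mul_smul, hgg, inv_smul_smul]))).symm

theorem IsSharp.eq_of_smul_eq (h : IsSharp G α k) {x : Fin k ↪ α} {g g' : G}
    (he : ∀ i, g • x i = g' • x i) : g = g' := by
  refine (inv_mul_eq_one.1 (h.trivial_of_fix (g'⁻¹ * g) (univ.map x) (by simp) ?_)).symm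
  intro y hy
  obtain ⟨i, -, rfl⟩ := Finset.mem_map.1 hy
  rw [mul_smul, he, inv_smul_smul]

theorem IsSharp.natCard_eq (h : IsSharp G α k) (hk : k ≤ Fintype.card α) :
    Nat.card G = (Fintype.card α).descFactorial k := by
  classical
  obtain ⟨e⟩ : Nonempty (Fin k ↪ α) := Function.Embedding.nonempty_of_card_le (by simpa)
  have := h.pretrans
  rw [Nat.card_eq_of_bijective (fun g : G => g • e) ⟨fun g g' hgg => ?_, fun y => exists_smul_eq G e y⟩,
    Nat.card_eq_fintype_card, Fintype.card_embedding_eq, Fintype.card_fin]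
  refine h.eq_of_smul_eq (x := e) fun i => ?_
  simpa [Function.Embedding.smul_apply] using congrArg (fun z : Fin k ↪ α => z i) hgg

theorem IsSharp.finite (h : IsSharp G α k) (hk : k ≤ Fintype.card α) : Finite G := by
  have := h.faithful hk
  exact Finite.of_injective (fun g : G => fun x : α => g • x)
    (fun g g' e => eq_of_smul_eq_smul (congrFun e))

/-- The stabiliser of a point of a sharply `(k+1)`-transitive action is sharply `k`-transitive. -/
theorem IsSharp.stabilizer (h : IsSharp G α (k + 1)) (hk : k + 1 ≤ Fintype.card α) (a : α) :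
    IsSharp (MulAction.stabilizer G a) (SubMulAction.ofStabilizer G a) k := by
  classical
  have h1 := h.pretrans
  have : IsMultiplyPretransitive G α 1 := isMultiplyPretransitive_of_le (n := k + 1) (by omega)
    (by rwa [Nat.card_eq_fintype_card])
  have := is_one_pretransitive_iff.1 this
  refine ⟨SubMulAction.ofStabilizer.isMultiplyPretransitive.1 h.pretrans, fun g s hs hfix => ?_⟩
  apply Subtype.ext
  refine h.trivial_of_fix g (insert a (s.map (Function.Embedding.subtype _))) ?_ ?_
  · rw [Finset.card_insert_of_notMem, Finset.card_map, hs]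
    intro ha
    obtain ⟨y, -, hy⟩ := Finset.mem_map.1 ha
    exact y.2 hy
  · intro x hx
    rcases Finset.mem_insert.1 hx with rfl | hx
    · exact g.2
    · obtain ⟨y, hy, rfl⟩ := Finset.mem_map.1 hx
      exact congrArg Subtype.val (hfix y hy)

section Four

variable [DecidableEq α]

/-- An element exchanging `x 0` and `x 1` and acting on `x 2`, `x 3` as the prescribed
permutation. -/
def Pat (τ : Equiv.Perm (Fin 4)) (g : G) (x : Fin 4 ↪ α) : Prop := ∀ i, g • x i = x (τ i)

theorem existsUnique_pat (h : IsSharp G α 4) (τ : Equiv.Perm (Fin 4)) (x : Fin 4 ↪ α) :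
    ∃! g : G, Pat τ g x := by
  have := h.pretrans
  obtain ⟨g, hg⟩ := exists_smul_eq G x (τ.toEmbedding.trans x)
  refine ⟨g, fun i => ?_, fun g' hg' => h.eq_of_smul_eq (x := x) fun i => ?_⟩
  · simpa [Function.Embedding.smul_apply] using congrArg (fun z : Fin 4 ↪ α => z i) hg
  · rw [hg' i]
    simpa [Function.Embedding.smul_apply] using
      (congrArg (fun z : Fin 4 ↪ α => z i) hg).symm

theorem sum_card_pat [Fintype G] (h : IsSharp G α 4) (τ : Equiv.Perm (Fin 4))
    [∀ g : G, DecidablePred fun x : Fin 4 ↪ α => Pat τ g x] :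
    ∑ g : G, (univ.filter fun x : Fin 4 ↪ α => Pat τ g x).card =
      (Fintype.card α).descFactorial 4 := by
  classical
  calc ∑ g : G, (univ.filter fun x : Fin 4 ↪ α => Pat τ g x).card
      = ∑ g : G, ∑ x : Fin 4 ↪ α, (if Pat τ g x then 1 else 0) := by
        refine Finset.sum_congr rfl fun g _ => ?_
        rw [Finset.card_filter]
    _ = ∑ x : Fin 4 ↪ α, ∑ g : G, (if Pat τ g x then 1 else 0) := Finset.sum_comm
    _ = ∑ x : Fin 4 ↪ α, 1 := by
        refine Finset.sum_congr rfl fun x _ => ?_
        obtain ⟨g, hg, huniq⟩ := existsUnique_pat h τ x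
        rw [Finset.sum_eq_single g (fun b _ hb => if_neg fun hp => hb (huniq b hp))
          (fun hn => absurd (mem_univ _) hn), if_pos hg]
    _ = _ := by rw [Finset.sum_const, card_univ, Fintype.card_embedding_eq, Fintype.card_fin,
        smul_eq_mul, mul_one]

/-- `(01)` on four letters. -/
def tauOne : Equiv.Perm (Fin 4) := Equiv.swap 0 1

/-- `(01)(23)` on four letters. -/
def tauTwo : Equiv.Perm (Fin 4) := Equiv.swap 0 1 * Equiv.swap 2 3

theorem invol_of_pat (h : IsSharp G α 4) {τ : Equiv.Perm (Fin 4)} (hτ : τ * τ = 1)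
    (h0 : τ 0 ≠ 0) {g : G} {x : Fin 4 ↪ α} (hp : Pat τ g x) : g * g = 1 ∧ g ≠ 1 := by
  constructor
  · refine h.eq_of_smul_eq (x := x) fun i => ?_
    rw [mul_smul, hp i, hp (τ i), one_smul, ← Equiv.Perm.mul_apply, hτ, Equiv.Perm.one_apply]
  · rintro rfl
    exact h0 (x.injective (by simpa using (hp 0).symm))

/-- The fixed points of `g`. -/
abbrev fixSet (g : G) : Finset α := univ.filter fun x => g • x = x

/-- The moved points of `g`. -/
abbrev moved (g : G) : Finset α := univ.filter fun x => ¬ g • x = x

theorem card_moved (g : G) : (moved (α := α) g).card = Fintype.card α - (fixSet (α := α) g).card := by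
  have := Finset.card_filter_add_card_filter_not (s := (univ : Finset α)) (fun x => g • x = x)
  rw [card_univ] at this
  simp only [fixSet, moved]
  omega

theorem card_patOne {g : G} (hg : g * g = 1) [DecidablePred fun x : Fin 4 ↪ α => Pat tauOne g x] :
    (univ.filter fun x : Fin 4 ↪ α => Pat tauOne g x).card =
      (moved (α := α) g).card *
        ((fixSet (α := α) g).card * (fixSet (α := α) g).card - (fixSet (α := α) g).card) := by
  rw [← Finset.offDiag_card, ← Finset.card_product]
  refine Finset.card_bij (fun x _ => (x 0, (x 2, x 3))) ?_ ?_ ?_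
  · intro x hx
    have hp := (mem_filter.1 hx).2
    have h0 : g • x 0 = x 1 := hp 0
    have h2 : g • x 2 = x 2 := hp 2
    have h3 : g • x 3 = x 3 := hp 3
    simp [fixSet, moved, h0, h2, h3, x.injective.eq_iff]
  · intro x hx y hy he
    have hp := (mem_filter.1 hx).2
    have hq := (mem_filter.1 hy).2
    simp only [Prod.mk.injEq] at he
    have e1 : x 1 = y 1 := by
      rw [show x 1 = g • x 0 from (hp 0).symm, show y 1 = g • y 0 from (hq 0).symm, he.1]
    ext i
    fin_cases i
    · exact he.1
    · exact e1
    · exact he.2.1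
    · exact he.2.2
  · rintro ⟨a, c, d⟩ hb
    simp only [mem_product, mem_offDiag, fixSet, moved, mem_filter, mem_univ, true_and] at hb
    obtain ⟨ha, hc, hd, hcd⟩ := hb
    have hga : g • g • a = a := by rw [smul_smul, hg, one_smul]
    have n1 : a ≠ g • a := fun e => ha e.symm
    have n2 : a ≠ c := fun e => ha (e ▸ hc)
    have n3 : a ≠ d := fun e => ha (e ▸ hd)
    have n4 : g • a ≠ c := fun e => ha (by
      have := congrArg (g • ·) e
      simp only [hga, hc] at this
      rw [this, hc])
    have n5 : g • a ≠ d := fun e => ha (by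
      have := congrArg (g • ·) e
      simp only [hga, hd] at this
      rw [this, hd])
    refine ⟨⟨![a, g • a, c, d], ?_⟩, ?_, rfl⟩
    · intro i j hij
      fin_cases i <;> fin_cases j <;>
        simp [n1, n2, n3, n4, n5, hcd, n1.symm, n2.symm, n3.symm, n4.symm, n5.symm, Ne.symm hcd]
          at hij ⊢
    · refine mem_filter.2 ⟨mem_univ _, fun i => ?_⟩
      fin_cases i
      · rfl
      · exact hga
      · exact hc
      · exact hd

theorem card_patTwo {g : G} (hg : g * g = 1) [DecidablePred fun x : Fin 4 ↪ α => Pat tauTwo g x] :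
    (univ.filter fun x : Fin 4 ↪ α => Pat tauTwo g x).card =
      (moved (α := α) g).card * ((moved (α := α) g).card - 2) := by
  set M := moved (α := α) g with hM
  have hgg : ∀ a : α, g • g • a = a := fun a => by rw [smul_smul, hg, one_smul]
  have hmv : ∀ a ∈ M, g • a ∈ M := by
    intro a ha
    simp only [hM, moved, mem_filter, mem_univ, true_and] at ha ⊢
    rw [hgg]
    exact fun e => ha e.symm
  have key : (M.sigma fun a => (M.erase a).erase (g • a)).card = M.card * (M.card - 2) := by
    rw [Finset.card_sigma, Finset.sum_const_nat (m := M.card - 2) fun a ha => ?_]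
    have hne : g • a ≠ a := (mem_filter.1 ha).2
    rw [Finset.card_erase_of_mem (Finset.mem_erase.2 ⟨hne, hmv a ha⟩),
      Finset.card_erase_of_mem ha]
    omega
  rw [← key]
  refine Finset.card_bij (fun x _ => (⟨x 0, x 2⟩ : (_ : α) × α)) ?_ ?_ ?_
  · intro x hx
    have hp := (mem_filter.1 hx).2
    have h0 : g • x 0 = x 1 := hp 0
    have h2 : g • x 2 = x 3 := hp 2
    simp [hM, moved, h0, h2, x.injective.eq_iff]
  · intro x hx y hy he
    have hp := (mem_filter.1 hx).2
    have hq := (mem_filter.1 hy).2
    simp only [Sigma.mk.injEq, heq_eq_eq] at he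
    have e1 : x 1 = y 1 := by
      rw [show x 1 = g • x 0 from (hp 0).symm, show y 1 = g • y 0 from (hq 0).symm, he.1]
    have e3 : x 3 = y 3 := by
      rw [show x 3 = g • x 2 from (hp 2).symm, show y 3 = g • y 2 from (hq 2).symm, he.2]
    ext i
    fin_cases i
    · exact he.1
    · exact e1
    · exact he.2
    · exact e3
  · rintro ⟨a, c⟩ hb
    simp only [mem_sigma, mem_erase, hM, moved, mem_filter, mem_univ, true_and] at hb
    obtain ⟨ha, hcga, hca, hc⟩ := hb
    have n1 : a ≠ g • a := fun e => ha e.symm
    have n2 : c ≠ g • c := fun e => hc e.symm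
    have n3 : a ≠ g • c := fun e => hcga (by rw [e, hgg])
    have n4 : g • a ≠ g • c := fun e => hca (MulAction.injective g e).symm
    refine ⟨⟨![a, g • a, c, g • c], ?_⟩, ?_, rfl⟩
    · intro i j hij
      fin_cases i <;> fin_cases j <;>
        simp [n1, n1.symm, n2, n2.symm, n3, n3.symm, n4, n4.symm, hca, Ne.symm hca, hcga,
          Ne.symm hcga] at hij ⊢
    · refine mem_filter.2 ⟨mem_univ _, fun i => ?_⟩
      fin_cases i
      · rfl
      · exact hgg a
      · rfl
      · exact hgg c

theorem card_fixSet_lt (h : IsSharp G α 4) {g : G} (hg : g ≠ 1) :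
    (fixSet (α := α) g).card < 4 := by
  by_contra hc
  obtain ⟨s, hs, hcard⟩ := Finset.exists_subset_card_eq (s := fixSet (α := α) g) (n := 4) (by omega)
  exact hg (h.trivial_of_fix g s hcard fun x hx => (mem_filter.1 (hs hx)).2)

theorem card_fixSet_mod_two {g : G} (hg : g * g = 1) :
    (fixSet (α := α) g).card % 2 = Fintype.card α % 2 := by
  have h1 : (MulAction.toPerm g : Equiv.Perm α) ^ 2 ^ 1 = 1 := by
    ext x
    simp [pow_two, smul_smul, hg]
  haveI : Fact (Nat.Prime 2) := ⟨Nat.prime_two⟩
  have h2 := Equiv.Perm.card_compl_support_modEq h1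
  have h3 : (MulAction.toPerm g : Equiv.Perm α).supportᶜ = fixSet (α := α) g := by
    ext x; simp [fixSet]
  rw [h3] at h2
  exact h2

/-- The involutions with exactly `f` fixed points. -/
abbrev invol [Fintype G] [DecidableEq G] (α : Type*) [MulAction G α] [Fintype α] [DecidableEq α]
    (f : ℕ) : Finset G :=
  univ.filter fun g : G => g * g = 1 ∧ g ≠ 1 ∧ (fixSet (α := α) g).card = f

theorem sum_eq_two_classes [Fintype G] [DecidableEq G] (h : IsSharp G α 4)
    {τ : Equiv.Perm (Fin 4)} (hτ : τ * τ = 1) (h0 : τ 0 ≠ 0)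
    [∀ g : G, DecidablePred fun x : Fin 4 ↪ α => Pat τ g x] (φ : ℕ → ℕ) {i j : ℕ} (hij : i ≠ j)
    (hcl : ∀ g : G, g * g = 1 → g ≠ 1 → (fixSet (α := α) g).card = i ∨ (fixSet (α := α) g).card = j)
    (hφ : ∀ g : G, g * g = 1 →
      (univ.filter fun x : Fin 4 ↪ α => Pat τ g x).card = φ (fixSet (α := α) g).card) :
    (invol (G := G) α i).card * φ i + (invol (G := G) α j).card * φ j =
      (Fintype.card α).descFactorial 4 := by
  rw [← sum_card_pat h τ]
  have key : ∀ g : G, (univ.filter fun x : Fin 4 ↪ α => Pat τ g x).card =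
      (if g ∈ invol (G := G) α i then φ i else 0) +
        (if g ∈ invol (G := G) α j then φ j else 0) := by
    intro g
    simp only [invol, mem_filter, mem_univ, true_and]
    by_cases hg : g * g = 1 ∧ g ≠ 1
    · rcases hcl g hg.1 hg.2 with hf | hf <;>
        simp [hg.1, hg.2, hf, hij, Ne.symm hij, hφ g hg.1]
    · rw [if_neg (fun e => hg ⟨e.1, e.2.1⟩), if_neg (fun e => hg ⟨e.1, e.2.1⟩), add_zero,
        card_eq_zero, filter_eq_empty_iff]
      exact fun x _ hp => hg (invol_of_pat h hτ h0 hp)
  simp_rw [key]
  rw [sum_add_distrib, sum_ite_mem, sum_ite_mem, univ_inter, univ_inter, sum_const, sum_const,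
    smul_eq_mul, smul_eq_mul]

theorem dvd_card_invol_one [Fintype G] [DecidableEq G] [IsPretransitive G α] :
    Fintype.card α ∣ (invol (G := G) α 1).card := by
  set A := invol (G := G) α 1 with hA
  rcases isEmpty_or_nonempty α with hα | ⟨⟨a⟩⟩
  · have : A = ∅ := by
      refine filter_eq_empty_iff.2 fun g _ hg => ?_
      rw [Finset.eq_empty_of_isEmpty (fixSet (α := α) g)] at hg
      simp at hg
    simp [this]
  let c : α → ℕ := fun b => (A.filter fun g => g • b = b).card
  have hc : ∀ b, c b = c a := by
    intro b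
    obtain ⟨t, rfl⟩ := exists_smul_eq G a b
    refine (Finset.card_equiv (MulAut.conj t).toEquiv fun g => ?_).symm
    have hfix : (fixSet (α := α) (t * g * t⁻¹)) = (fixSet (α := α) g).map (MulAction.toPerm t).toEmbedding := by
      ext x
      simp [fixSet, Finset.mem_map_equiv, mul_smul, smul_eq_iff_eq_inv_smul]
    have hsq : (t * g * t⁻¹) * (t * g * t⁻¹) = t * (g * g) * t⁻¹ := by group
    simp only [hA, invol, mem_filter, mem_univ, true_and, MulEquiv.toEquiv_eq_coe,
      MulEquiv.coe_toEquiv, MulAut.conj_apply, hfix, card_map, hsq, ne_eq, conj_eq_one_iff,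
      mul_smul, inv_smul_smul, smul_left_cancel_iff]
  have h1 : ∑ b : α, c b = A.card := by
    calc ∑ b : α, c b = ∑ b : α, ∑ g ∈ A, (if g • b = b then 1 else 0) :=
          sum_congr rfl fun b _ => card_filter _ _
      _ = ∑ g ∈ A, ∑ b : α, (if g • b = b then 1 else 0) := sum_comm
      _ = ∑ g ∈ A, 1 := sum_congr rfl fun g hg => by
          rw [← card_filter]
          exact (mem_filter.1 hg).2.2.2
      _ = A.card := by simp
  rw [← h1, sum_congr rfl (fun b _ => hc b), sum_const, card_univ, smul_eq_mul]
  exact dvd_mul_right _ _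

/-- Jordan: the degree of a sharply `4`-transitive action. -/
theorem degree_four (h : IsSharp G α 4) (hn : 4 ≤ Fintype.card α) :
    Fintype.card α = 4 ∨ Fintype.card α = 5 ∨ Fintype.card α = 6 ∨ Fintype.card α = 11 := by
  classical
  have := h.finite hn
  letI := Fintype.ofFinite G
  set n := Fintype.card α with hndef
  set A0 := (invol (G := G) α 0).card
  set A1 := (invol (G := G) α 1).card with hA1
  set A2 := (invol (G := G) α 2).card
  set A3 := (invol (G := G) α 3).card
  have hτ1 : tauOne * tauOne = 1 := by decide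
  have hτ2 : tauTwo * tauTwo = 1 := by decide
  have h10 : tauOne 0 ≠ 0 := by decide
  have h20 : tauTwo 0 ≠ 0 := by decide
  have hN : n.descFactorial 4 = n * (n - 1) * (n - 2) * (n - 3) := by
    simp [Nat.descFactorial_succ]; ring
  have hpos : 0 < n * (n - 1) * (n - 2) * (n - 3) := by
    have : 0 < n - 1 := by omega
    have : 0 < n - 2 := by omega
    have : 0 < n - 3 := by omega
    positivity
  have hφ1 : ∀ g : G, g * g = 1 → (univ.filter fun x : Fin 4 ↪ α => Pat tauOne g x).card =
      (fun f => (n - f) * (f * f - f)) (fixSet (α := α) g).card := fun g hg => by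
    rw [card_patOne hg, card_moved]
  have hφ2 : ∀ g : G, g * g = 1 → (univ.filter fun x : Fin 4 ↪ α => Pat tauTwo g x).card =
      (fun f => (n - f) * (n - f - 2)) (fixSet (α := α) g).card := fun g hg => by
    rw [card_patTwo hg, card_moved]
  rcases Nat.even_or_odd n with he | ho
  · have hcl : ∀ g : G, g * g = 1 → g ≠ 1 →
        (fixSet (α := α) g).card = 0 ∨ (fixSet (α := α) g).card = 2 := fun g hg hg1 => by
      have := card_fixSet_lt (α := α) h hg1
      have := card_fixSet_mod_two (α := α) hg
      obtain ⟨m, hm⟩ := he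
      omega
    have e1 := sum_eq_two_classes h hτ1 h10 (fun f => (n - f) * (f * f - f)) (by decide : (0 : ℕ) ≠ 2) hcl hφ1
    have e2 := sum_eq_two_classes h hτ2 h20 (fun f => (n - f) * (n - f - 2)) (by decide : (0 : ℕ) ≠ 2) hcl hφ2
    rw [← hndef, hN] at e1 e2
    rw [show (invol (G := G) α 0).card = A0 from rfl, show (invol (G := G) α 2).card = A2 from rfl] at e1 e2
    simp only [Nat.zero_mul, Nat.sub_zero, Nat.mul_zero, zero_add] at e1 e2
    have hle : n ≤ 6 := by
      by_contra hc
      have hA2 : 0 < A2 := by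
        by_contra h0
        have : A2 = 0 := by omega
        rw [this] at e1
        simp at e1
        omega
      have : A2 * ((n - 2) * (n - 2 - 2)) ≤ A2 * ((n - 2) * (2 * 2 - 2)) := by omega
      have := Nat.le_of_mul_le_mul_left (Nat.le_of_mul_le_mul_left this hA2) (by omega)
      omega
    obtain ⟨m, hm⟩ := he
    omega
  · have hcl : ∀ g : G, g * g = 1 → g ≠ 1 →
        (fixSet (α := α) g).card = 1 ∨ (fixSet (α := α) g).card = 3 := fun g hg hg1 => by
      have := card_fixSet_lt (α := α) h hg1
      have := card_fixSet_mod_two (α := α) hg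
      obtain ⟨m, hm⟩ := ho
      omega
    have e1 := sum_eq_two_classes h hτ1 h10 (fun f => (n - f) * (f * f - f)) (by decide : (1 : ℕ) ≠ 3) hcl hφ1
    have e2 := sum_eq_two_classes h hτ2 h20 (fun f => (n - f) * (n - f - 2)) (by decide : (1 : ℕ) ≠ 3) hcl hφ2
    rw [← hndef, hN] at e1 e2
    rw [show (invol (G := G) α 1).card = A1 from rfl, show (invol (G := G) α 3).card = A3 from rfl] at e1 e2
    simp only [one_mul, Nat.sub_self, Nat.mul_zero, zero_add] at e1
    have hle : n ≤ 11 := by
      by_contra hc
      have hA3 : 0 < A3 := by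
        by_contra h0
        have : A3 = 0 := by omega
        rw [this] at e1
        simp at e1
        omega
      have : A3 * ((n - 3) * (n - 3 - 2)) ≤ A3 * ((n - 3) * (3 * 3 - 3)) := by omega
      have := Nat.le_of_mul_le_mul_left (Nat.le_of_mul_le_mul_left this hA3) (by omega)
      omega
    have htr : IsPretransitive G α := by
      have := h.pretrans
      exact is_one_pretransitive_iff.1
        (isMultiplyPretransitive_of_le (n := 4) (by omega) (by rw [Nat.card_eq_fintype_card]; exact hn))
    have hd : n ∣ A1 := dvd_card_invol_one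
    obtain ⟨m, hm⟩ := ho
    have : n = 5 ∨ n = 7 ∨ n = 9 ∨ n = 11 := by omega
    rcases this with h5 | h7 | h9 | h11
    · omega
    · rw [h7] at e1 e2
      norm_num at e1 e2
      omega
    · rw [h9] at e1 e2 hd
      norm_num at e1 e2
      omega
    · omega

end Four

theorem degree_five (h : IsSharp G α 5) (hn : 5 ≤ Fintype.card α) :
    Fintype.card α = 5 ∨ Fintype.card α = 6 ∨ Fintype.card α = 7 ∨ Fintype.card α = 12 := by
  classical
  obtain ⟨a⟩ : Nonempty α := Fintype.card_pos_iff.1 (by omega)
  letI : Fintype (SubMulAction.ofStabilizer G a) := Fintype.ofFinite _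
  have hc : Fintype.card (SubMulAction.ofStabilizer G a) = Fintype.card α - 1 := by
    rw [← Nat.card_eq_fintype_card, SubMulAction.nat_card_ofStabilizer_eq, Nat.card_eq_fintype_card]
  have := degree_four (h.stabilizer hn a) (by omega)
  omega

/-- An element of prime order `p` acting faithfully on `p` points has centraliser of order at
most `p`. -/
theorem natCard_centralizer_le [DecidableEq α] [FaithfulSMul G α] {p : ℕ} (hp : p.Prime)
    (hα : Fintype.card α = p) (H : Subgroup G) (hH : Nat.card H = p) :
    Nat.card (Subgroup.centralizer (H : Set G)) ≤ p := by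
  haveI := Fact.mk hp
  haveI : Finite H := Nat.finite_of_card_ne_zero (hH ▸ hp.ne_zero)
  obtain ⟨u, hu⟩ := exists_prime_orderOf_dvd_card' (G := H) p hH.symm.dvd
  set g : G := (u : G) with hgdef
  have hσ : orderOf (MulAction.toPerm g : Equiv.Perm α) = p := by
    rw [show (MulAction.toPerm g : Equiv.Perm α) = MulAction.toPermHom G α g from rfl,
      orderOf_injective _ MulAction.toPerm_injective, hgdef, Subgroup.orderOf_coe, hu]
  have hcyc := Equiv.Perm.isCycle_of_prime_order'' (hα ▸ hp) (hα ▸ hσ)
  have hsupp : (MulAction.toPerm g : Equiv.Perm α).support = univ := by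
    rw [← Finset.card_eq_iff_eq_univ, ← hcyc.orderOf, hσ, hα]
  have hmv : ∀ x : α, (MulAction.toPerm g : Equiv.Perm α) x ≠ x := fun x =>
    Equiv.Perm.mem_support.1 (hsupp ▸ mem_univ x)
  obtain ⟨a⟩ : Nonempty α := Fintype.card_pos_iff.1 (hα ▸ hp.pos)
  have hinj : Function.Injective fun c : Subgroup.centralizer (H : Set G) => (c : G) • a := by
    intro c c' hcc
    apply Subtype.ext
    refine eq_of_smul_eq_smul fun y : α => ?_
    obtain ⟨i, hi⟩ := hcyc.exists_zpow_eq (hmv a) (hmv y)
    have hy : g ^ i • a = y := by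
      rw [← hi, show (MulAction.toPerm g : Equiv.Perm α) = MulAction.toPermHom G α g from rfl,
        ← map_zpow]
      rfl
    have hg : g ^ i ∈ H := H.zpow_mem u.2 i
    rw [← hy, smul_smul, smul_smul, ← Subgroup.mem_centralizer_iff.1 c.2 _ hg,
      ← Subgroup.mem_centralizer_iff.1 c'.2 _ hg, mul_smul, mul_smul]
    exact congrArg _ hcc
  exact (Nat.card_le_card_of_injective _ hinj).trans (by rw [Nat.card_eq_fintype_card, hα])

/-- There is no sharply `6`-transitive action of degree `13`. -/
theorem six_ne_thirteen (h : IsSharp G α 6) : Fintype.card α ≠ 13 := by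
  classical
  intro h13
  have := h.finite (by omega)
  have := h.faithful (by omega)
  have hG : Nat.card G = 1235520 := by
    rw [h.natCard_eq (by omega), h13]; rfl
  haveI : Fact (Nat.Prime 13) := ⟨by norm_num⟩
  have P : Sylow 13 G := Classical.arbitrary _
  have hP : Nat.card (P : Subgroup G) = 13 := by
    simpa using CfsgLib.Small.card_sylow_eq 1 95040 (by norm_num [hG]) (by norm_num) P
  have hC := natCard_centralizer_le (by norm_num) h13 (P : Subgroup G) hP
  have hN := natCard_normalizer_sylow (q := 0) (k := 1) P hP hG (by simpa using hC) (by decide)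
  have : 0 < Nat.card (Subgroup.normalizer ((P : Subgroup G) : Set G)) := Nat.card_pos
  omega

/-- A sharply `4`-transitive action of degree `11` belongs to a simple group. -/
theorem isSimpleGroup_eleven (h : IsSharp G α 4) (h11 : Fintype.card α = 11) :
    IsSimpleGroup G := by
  classical
  have := h.finite (by omega)
  have := h.faithful (by omega)
  have hG : Nat.card G = 7920 := by
    rw [h.natCard_eq (by omega), h11]; rfl
  haveI : Fact (Nat.Prime 11) := ⟨by norm_num⟩
  have P : Sylow 11 G := Classical.arbitrary _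
  have hP : Nat.card (P : Subgroup G) = 11 := by
    simpa using CfsgLib.Small.card_sylow_eq 1 720 (by norm_num [hG]) (by norm_num) P
  have hC := natCard_centralizer_le (by norm_num) h11 (P : Subgroup G) hP
  have hN := natCard_normalizer_sylow (q := 5) (k := 1) P hP hG (by simpa using hC) (by decide)
  refine isSimpleGroup_of_sylow_normalizer (q := 5) (by norm_num) P hP hN (by omega)
    fun N hNn hne => ?_
  have := h.pretrans
  have h2 : IsMultiplyPretransitive G α 2 := isMultiplyPretransitive_of_le (n := 4) (by omega)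
    (by rw [Nat.card_eq_fintype_card]; omega)
  have := isPreprimitive_of_is_two_pretransitive h2
  have hfp : fixedPoints N α ≠ .univ := by
    intro he
    apply hne
    rw [eq_bot_iff]
    intro m hm
    rw [Subgroup.mem_bot]
    refine eq_of_smul_eq_smul fun x : α => ?_
    rw [one_smul]
    exact mem_fixedPoints.1 (he ▸ Set.mem_univ x) ⟨m, hm⟩
  have := IsQuasiPreprimitive.isPretransitive_of_normal hfp
  obtain ⟨a⟩ : Nonempty α := Fintype.card_pos_iff.1 (by omega)
  have := index_stabilizer_of_transitive N a
  rw [Nat.card_eq_fintype_card (α := α), h11] at this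
  exact this ▸ Subgroup.index_dvd_card _

/-- A sharply `5`-transitive action of degree `12` belongs to a simple group. -/
theorem isSimpleGroup_twelve (h : IsSharp G α 5) (h12 : Fintype.card α = 12) :
    IsSimpleGroup G := by
  classical
  have := h.finite (by omega)
  have := h.faithful (by omega)
  obtain ⟨a⟩ : Nonempty α := Fintype.card_pos_iff.1 (by omega)
  letI : Fintype (SubMulAction.ofStabilizer G a) := Fintype.ofFinite _
  have hc : Fintype.card (SubMulAction.ofStabilizer G a) = 11 := by
    rw [← Nat.card_eq_fintype_card, SubMulAction.nat_card_ofStabilizer_eq, Nat.card_eq_fintype_card,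
      h12]
  have hs := isSimpleGroup_eleven (h.stabilizer (by omega) a) hc
  have := h.pretrans
  have h2 : IsMultiplyPretransitive G α 2 := isMultiplyPretransitive_of_le (n := 5) (by omega)
    (by rw [Nat.card_eq_fintype_card]; omega)
  rw [is_two_pretransitive_iff] at h2
  have htr : IsPretransitive G α := is_one_pretransitive_iff.1
    (isMultiplyPretransitive_of_le (n := 5) (by omega) (by rw [Nat.card_eq_fintype_card]; omega))
  exact isSimpleGroup_of_simple_stabilizer a hs (fun b c hb hc => h2 hb.symm hc.symm)
    (fun b => exists_smul_eq G a b) Nat.prime_two Nat.prime_three (by norm_num)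
    (by rw [Nat.card_eq_fintype_card, h12]; norm_num)
    (by rw [Nat.card_eq_fintype_card, h12]; norm_num)

/-- Jordan: sharply `k`-transitive actions with `k ≥ 6` have degree at most `k + 2`. -/
theorem degree_large : ∀ (k : ℕ), 6 ≤ k → ∀ {G α : Type*} [Group G] [MulAction G α] [Fintype α],
    IsSharp G α k → k ≤ Fintype.card α →
    Fintype.card α = k ∨ Fintype.card α = k + 1 ∨ Fintype.card α = k + 2 := by
  intro k hk
  induction k, hk using Nat.le_induction with
  | base =>
    intro G α _ _ _ h hn
    classical
    have hne := six_ne_thirteen h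
    obtain ⟨a⟩ : Nonempty α := Fintype.card_pos_iff.1 (by omega)
    letI : Fintype (SubMulAction.ofStabilizer G a) := Fintype.ofFinite _
    have hc : Fintype.card (SubMulAction.ofStabilizer G a) = Fintype.card α - 1 := by
      rw [← Nat.card_eq_fintype_card, SubMulAction.nat_card_ofStabilizer_eq,
        Nat.card_eq_fintype_card]
    have := degree_five (h.stabilizer hn a) (by omega)
    omega
  | succ k hk ih =>
    intro G α _ _ _ h hn
    classical
    obtain ⟨a⟩ : Nonempty α := Fintype.card_pos_iff.1 (by omega)
    letI : Fintype (SubMulAction.ofStabilizer G a) := Fintype.ofFinite _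
    have hc : Fintype.card (SubMulAction.ofStabilizer G a) = Fintype.card α - 1 := by
      rw [← Nat.card_eq_fintype_card, SubMulAction.nat_card_ofStabilizer_eq,
        Nat.card_eq_fintype_card]
    have := ih (h.stabilizer hn a) (by omega)
    omega

end CfsgLib.Spor.Sharp
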