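import Cfsg.Agent.Lib.Spor.Tables
import Cfsg.Agent.Lib.Spor.M24Points

/-!
Octads against a dodecad: the hexads form S(5, 6, 12), and the three intersection classes.
-/

set_option autoImplicit false

namespace CfsgLib.Spor

open Cfsg
open scoped Pointwise

theorem octad_dodecad_card {o d : Finset GolayPt} (ho : o ∈ octads) (hd : d ∈ dodecads) :
    (o ∩ d).card = 2 ∨ (o ∩ d).card = 4 ∨ (o ∩ d).card = 6 := by
  have h := card_symmDiff_add o d
  rw [card_octad ho, card_dodecad hd] at h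
  have hle : (o ∩ d).card ≤ 8 := card_octad ho ▸ Finset.card_le_card Finset.inter_subset_left
  rcases card_symmDiff_cases ho.1 hd.1 with h0 | h0 | h0 | h0 | h0 <;> omega

theorem hexads_isSteiner {d : Finset GolayPt} (hd : d ∈ dodecads) :
    IsSteinerSystem 5 6 {h : Finset {p : GolayPt // p ∈ d} |
      ∃ o ∈ octads, (o ∩ d).card = 6 ∧ h = Finset.subtype (fun p => p ∈ d) o} := by
  have hcard : ∀ o : Finset GolayPt,
      (Finset.subtype (fun p => p ∈ d) o).card = (o ∩ d).card := fun o => by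
    rw [Finset.card_subtype, Finset.filter_mem_eq_inter]
  have hsub : ∀ (u : Finset {p : GolayPt // p ∈ d}) (o : Finset GolayPt),
      u ⊆ Finset.subtype (fun p => p ∈ d) o ↔ u.map (Function.Embedding.subtype _) ⊆ o := by
    intro u o
    simp [Finset.subset_iff, Finset.mem_subtype]
  refine ⟨?_, fun u hu => ?_⟩
  · rintro _ ⟨o, -, h6, rfl⟩
    rw [hcard, h6]
  · have hu' : (u.map (Function.Embedding.subtype _)).card = 5 := by rw [Finset.card_map, hu]
    obtain ⟨o, ⟨ho, hso⟩, huniq⟩ := isSteinerSystem_octads.2 _ hu'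
    have h5 : 5 ≤ (o ∩ d).card := by
      rw [← hcard, ← hu]
      exact Finset.card_le_card ((hsub u o).2 hso)
    have h6 : (o ∩ d).card = 6 := by rcases octad_dodecad_card ho hd with h | h | h <;> omega
    refine ⟨_, ⟨⟨o, ho, h6, rfl⟩, (hsub u o).2 hso⟩, ?_⟩
    rintro _ ⟨⟨o', ho', -, rfl⟩, hsu⟩
    rw [huniq o' ⟨ho', (hsub u o').1 hsu⟩]

theorem octI_test_inter (m j : ℕ) (i : ℕ) :
    Nat.beq (pop (getT 24 octTbl i &&& m)) j = true ↔ (octI.sem i ∩ toSet m).card = j := by
  rw [Nat.beq_eq, ← card_toSet, toSet_and]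
  rfl

set_option maxRecDepth 100000 in
theorem dodec0_octad_counts :
    (classList 759 fun i => Nat.beq (pop (getT 24 octTbl i &&& dodec0)) 6).length = 132 ∧
    (classList 759 fun i => Nat.beq (pop (getT 24 octTbl i &&& dodec0)) 2).length = 132 ∧
    (classList 759 fun i => Nat.beq (pop (getT 24 octTbl i &&& dodec0)) 4).length = 495 := by
  decide +kernel

theorem ncard_octads_inter_smul {g : Equiv.Perm GolayPt} (hg : g ∈ M24) (d : Finset GolayPt)
    (j : ℕ) : {o : Finset GolayPt | o ∈ octads ∧ (o ∩ g • d).card = j}.ncard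
      = {o : Finset GolayPt | o ∈ octads ∧ (o ∩ d).card = j}.ncard := by
  rw [← Set.ncard_image_of_injective {o : Finset GolayPt | o ∈ octads ∧ (o ∩ d).card = j}
    (MulAction.injective g)]
  congr 1
  ext o
  simp only [Set.mem_setOf_eq, Set.mem_image]
  constructor
  · rintro ⟨ho, h⟩
    refine ⟨g⁻¹ • o, ⟨smul_octad_mem (Subgroup.inv_mem _ hg) ho, ?_⟩, smul_inv_smul g o⟩
    rw [← Finset.card_smul_finset g, Finset.smul_finset_inter, smul_inv_smul, h]
  · rintro ⟨o, ⟨ho, h⟩, rfl⟩
    exact ⟨smul_octad_mem hg ho, by rw [← Finset.smul_finset_inter, Finset.card_smul_finset, h]⟩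

theorem ncard_octads_dodecad {d : Finset GolayPt} (hd : d ∈ dodecads) :
    {o : Finset GolayPt | o ∈ octads ∧ (o ∩ d).card = 6}.ncard = 132 ∧
    {o : Finset GolayPt | o ∈ octads ∧ (o ∩ d).card = 2}.ncard = 132 ∧
    {o : Finset GolayPt | o ∈ octads ∧ (o ∩ d).card = 4}.ncard = 495 := by
  obtain ⟨g, hg, rfl⟩ := exists_smul_dodec0 hd
  simp only [ncard_octads_inter_smul hg]
  obtain ⟨h6, h2, h4⟩ := dodec0_octad_counts
  refine ⟨?_, ?_, ?_⟩
  · exact (octI.ncard_setOf fun i _ => octI_test_inter dodec0 6 i).trans h6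
  · exact (octI.ncard_setOf fun i _ => octI_test_inter dodec0 2 i).trans h2
  · exact (octI.ncard_setOf fun i _ => octI_test_inter dodec0 4 i).trans h4

end CfsgLib.Spor
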