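import Cfsg.Agent.Lib.Spor.M24Points
import Cfsg.Agent.Lib.Spor.SimpleCrit

/-!
Simplicity of the five Mathieu groups inside `Cfsg.M24`.
-/

set_option autoImplicit false

namespace CfsgLib.Spor

open Cfsg
open scoped Pointwise

/-- number of indices fixed by a packed permutation -/
def fixCount (a : ℕ) : ℕ := ((List.range 24).filter fun i => Nat.beq (getP a i) i).length

set_option maxRecDepth 100000 in
theorem fiveFix_check : (m24T5.all fun s => m24T6.all fun t =>
    Nat.ble (fixCount (compP s t)) 8 || Nat.beq (fixCount (compP s t)) 24) = true := by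
  decide +kernel

theorem exists_pair_of_fix_five {g : Equiv.Perm GolayPt} (hg : g ∈ fixL M24 [0, 1, 2, 3, 4]) :
    ∃ s ∈ m24T5, ∃ t ∈ m24T6, Rep g (compP s t) := by
  obtain ⟨-, -, -, -, -, -, -, -, -, -, -, -, -, -, -, -, -, -, -, -, h5, h5', -, -, h6, h6', -, -,
    hbot⟩ := isChain_M24
  obtain ⟨s, hs, hsi⟩ := h5' g hg
  obtain ⟨σ, hσ, hσs⟩ := h5 s hs
  rw [hσs 5 (by norm_num)] at hsi
  have hmem : σ⁻¹ * g ∈ fixL M24 [0, 1, 2, 3, 4, 5] := by
    refine Subgroup.mem_inf.2 ⟨Subgroup.mul_mem _ (Subgroup.inv_mem _ hσ.1) hg, ?_⟩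
    rw [MulAction.mem_stabilizer_iff, Equiv.Perm.smul_def, Equiv.Perm.mul_apply,
      ← idx_injective hsi]
    simp
  obtain ⟨t, ht, hti⟩ := h6' _ hmem
  obtain ⟨τ, hτ, hτt⟩ := h6 t ht
  rw [hτt 7 (by norm_num)] at hti
  have hmem' : τ⁻¹ * (σ⁻¹ * g) ∈ fixL M24 [0, 1, 2, 3, 4, 5, 7] := by
    refine Subgroup.mem_inf.2 ⟨Subgroup.mul_mem _ (Subgroup.inv_mem _ hτ.1) hmem, ?_⟩
    rw [MulAction.mem_stabilizer_iff, Equiv.Perm.smul_def, Equiv.Perm.mul_apply,
      ← idx_injective hti]
    simp
  have hb : τ⁻¹ * (σ⁻¹ * g) = 1 := by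
    have hbot' : fixL M24 [0, 1, 2, 3, 4, 5, 7] = ⊥ := hbot
    rwa [hbot', Subgroup.mem_bot] at hmem'
  have : g = σ * τ := by
    rw [inv_mul_eq_one, eq_inv_mul_iff_mul_eq] at hb
    exact hb.symm
  exact ⟨s, hs, t, ht, this ▸ hσs.mul hτt⟩

theorem Rep.fixCount_eq {g : Equiv.Perm GolayPt} {a : ℕ} (h : Rep g a) :
    fixCount a = (Finset.univ.filter fun p => g p = p).card := by
  have hn : ((List.range 24).filter fun i => Nat.beq (getP a i) i).Nodup :=
    List.nodup_range.filter _
  rw [fixCount, ← List.toFinset_card_of_nodup hn]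
  refine Finset.card_bij' (fun i _ => pt i) (fun p _ => idx p) ?_ ?_ ?_ ?_
  · intro i hi
    simp only [List.mem_toFinset, List.mem_filter, List.mem_range, Nat.beq_eq] at hi
    simp [h.fix_iff hi.1, hi.2]
  · intro p hp
    simp only [Finset.mem_filter, Finset.mem_univ, true_and] at hp
    simp [idx_lt, h.get, hp]
  · intro i hi
    simp only [List.mem_toFinset, List.mem_filter, List.mem_range] at hi
    exact idx_pt hi.1
  · intro p _
    exact pt_idx p

/-- an element of M24 fixing nine points is trivial -/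
theorem eq_one_of_nine_fixed {g : Equiv.Perm GolayPt} (hg : g ∈ M24) (F : Finset GolayPt)
    (hF : 9 ≤ F.card) (hfix : ∀ p ∈ F, g p = p) : g = 1 := by
  obtain ⟨s, hs, hsc⟩ := Finset.exists_subset_card_eq (s := F) (n := 5) (by omega)
  let x : Fin 5 ↪ GolayPt :=
    ((s.equivFinOfCardEq hsc).symm.toEmbedding.trans (Function.Embedding.subtype _))
  obtain ⟨h, hh, hx⟩ := exists_five_base x
  set g' := h⁻¹ * g * h with hg'
  have hg'm : g' ∈ fixL M24 [0, 1, 2, 3, 4] := by
    rw [mem_fixL]
    refine ⟨Subgroup.mul_mem _ (Subgroup.mul_mem _ (Subgroup.inv_mem _ hh) hg) hh, fun b hb => ?_⟩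
    have hb5 : b < 5 := by simp at hb; omega
    have : g (h (pt b)) = h (pt b) := by
      have := hx ⟨b, hb5⟩
      rw [this]
      exact hfix _ (hs (Subtype.coe_prop _))
    simp [hg', this]
  obtain ⟨a, ha, b, hb, hab⟩ := exists_pair_of_fix_five hg'm
  have hc := List.all_eq_true.1 (List.all_eq_true.1 fiveFix_check a ha) b hb
  simp only [Bool.or_eq_true, Nat.ble_eq, Nat.beq_eq] at hc
  have hcard : 9 ≤ (Finset.univ.filter fun p => g' p = p).card := by
    refine le_trans hF ?_
    rw [← Finset.card_map h.symm.toEmbedding]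
    refine Finset.card_le_card fun p hp => ?_
    obtain ⟨q, hq, rfl⟩ := Finset.mem_map.1 hp
    simp [hg', hfix q hq]
  rw [← hab.fixCount_eq] at hcard
  have hall : (Finset.univ.filter fun p => g' p = p).card = Fintype.card GolayPt := by
    rw [← hab.fixCount_eq, card_golayPt]; omega
  rw [Finset.card_eq_iff_eq_univ] at hall
  have h1 : g' = 1 := Equiv.ext fun p => by
    have hp := Finset.mem_univ p
    rw [← hall] at hp
    simpa using (Finset.mem_filter.1 hp).2
  rw [hg', mul_assoc, inv_mul_eq_one] at h1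
  exact mul_eq_right.1 h1.symm

/-- simplicity of a subgroup of M24 acting 2-transitively on a set of `p * k` points, `p` a prime
at least 9, from the Sylow count for `p` -/
theorem isSimpleGroup_of_twoTrans {G : Subgroup (Equiv.Perm GolayPt)} (hG : G ≤ M24)
    {X : Finset GolayPt} {p q k n : ℕ} [hpf : Fact p.Prime] (hq : q.Prime) (hp9 : 9 ≤ p)
    (hXc : X.card = p * k) (hk : 0 < k)
    (hinv : ∀ g ∈ G, ∀ x ∈ X, g x ∈ X)
    (htwo : ∀ b ∈ X, ∀ c ∈ X, ∀ b' ∈ X, ∀ c' ∈ X, b ≠ c → b' ≠ c' →
      ∃ g ∈ G, g b = b' ∧ g c = c')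
    (hn : Nat.card G = n) (hpn : p ∣ n) (hpn2 : ¬ p * p ∣ n) (hbig : p * q < n)
    (harith : ∀ a ≤ k, ∀ j < p, j ∣ p - 1 → p * a * j ∣ n → n / (p * a * j) % p = 1 → a * j = q) :
    IsSimpleGroup G := by
  classical
  have hp := hpf.out
  have hX9 : 9 ≤ X.card := by
    rw [hXc]; exact le_trans hp9 (Nat.le_mul_of_pos_right _ hk)
  have hfaith : ∀ g : G, (∀ x ∈ X, (g : Equiv.Perm GolayPt) x = x) → g = 1 := fun g h =>
    Subtype.ext (eq_one_of_nine_fixed (hG g.2) X hX9 h)
  set P : Sylow p G := default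
  have hP : Nat.card (P : Subgroup G) = p := by
    obtain ⟨e, he⟩ := P.isPGroup'.exists_card_eq
    have h1 : p ^ e ∣ n := he ▸ hn ▸ Subgroup.card_subgroup_dvd_card _
    have h2 : p ∣ Nat.card (P : Subgroup G) := P.dvd_card_of_dvd_card (hn ▸ hpn)
    rcases e with - | - | e
    · rw [he, pow_zero, Nat.dvd_one] at h2; exact absurd h2 hp.ne_one
    · rw [he, pow_one]
    · exact absurd ((pow_dvd_pow p (by omega : 2 ≤ e + 2)).trans h1) (by rwa [pow_two])
  have hPnt : (P : Subgroup G) ≠ ⊥ := by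
    intro hbot; rw [hbot, Subgroup.card_bot] at hP; exact hp.ne_one hP.symm
  obtain ⟨x, hxP, hx1⟩ : ∃ x ∈ (P : Subgroup G), x ≠ 1 := by
    by_contra hc
    push Not at hc
    exact hPnt ((Subgroup.eq_bot_iff_forall _).2 hc)
  have hxord : orderOf x = p := by
    have h1 : orderOf (⟨x, hxP⟩ : (P : Subgroup G)) ∣ p :=
      (_root_.orderOf_dvd_natCard _).trans (dvd_of_eq hP)
    rw [Subgroup.orderOf_mk] at h1
    exact ((Nat.dvd_prime hp).1 h1).resolve_left (fun h => hx1 (orderOf_eq_one_iff.1 h))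
  obtain ⟨a, ha, hxa⟩ : ∃ a ∈ X, (x : Equiv.Perm GolayPt) a ≠ a := by
    by_contra hc
    push Not at hc
    exact hx1 (hfaith x hc)
  have hfree : ∀ c : G, c * x = x * c → (c : Equiv.Perm GolayPt) a = a → c = 1 := by
    intro c hcomm hca
    let f : ℕ → GolayPt := fun i => ((x ^ i : G) : Equiv.Perm GolayPt) a
    have hinj : Set.InjOn f (Finset.range p) := by
      suffices key : ∀ i j, i < j → j < p → f i ≠ f j by
        intro i hi j hj h
        simp only [Finset.coe_range, Set.mem_Iio] at hi hj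
        rcases lt_trichotomy i j with hlt | heq | hgt
        · exact absurd h (key i j hlt hj)
        · exact heq
        · exact absurd h.symm (key j i hgt hi)
      intro i j hij hj h
      have hfix : ((x ^ (j - i) : G) : Equiv.Perm GolayPt) a = a := by
        apply ((x ^ i : G) : Equiv.Perm GolayPt).injective
        rw [← Equiv.Perm.mul_apply, ← Subgroup.coe_mul, ← pow_add, Nat.add_sub_cancel' hij.le]
        exact h.symm
      have hcop : (j - i).Coprime (orderOf x) := by
        rw [hxord]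
        exact (hp.coprime_iff_not_dvd.2 (fun hd => by
          have := Nat.le_of_dvd (by omega) hd; omega)).symm
      obtain ⟨m, hm⟩ := exists_pow_eq_self_of_coprime hcop
      apply hxa
      rw [← hm, SubmonoidClass.coe_pow]
      exact Equiv.Perm.pow_apply_eq_self_of_apply_eq_self hfix m
    refine Subtype.ext (eq_one_of_nine_fixed (hG c.2) ((Finset.range p).image f) ?_ ?_)
    · rw [Finset.card_image_of_injOn hinj, Finset.card_range]; exact hp9
    · intro y hy
      obtain ⟨i, -, rfl⟩ := Finset.mem_image.1 hy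
      have hc : c * x ^ i = x ^ i * c := (Commute.pow_right (show Commute c x from hcomm) i).eq
      simp only [f]
      rw [← Equiv.Perm.mul_apply, ← Subgroup.coe_mul, hc, Subgroup.coe_mul,
        Equiv.Perm.mul_apply, hca]
  have hC : Nat.card (Subgroup.centralizer ((P : Subgroup G) : Set G)) ≤ p * k := by
    rw [← hXc, ← Fintype.card_coe, ← Nat.card_eq_fintype_card]
    refine Nat.card_le_card_of_injective
      (fun c => (⟨((c : G) : Equiv.Perm GolayPt) a, hinv _ (c : G).2 a ha⟩ : X)) ?_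
    intro c c' h
    have h' : ((c : G) : Equiv.Perm GolayPt) a = ((c' : G) : Equiv.Perm GolayPt) a :=
      congrArg Subtype.val h
    have := hfree ((c' : G)⁻¹ * c) ?_ ?_
    · exact Subtype.ext (inv_mul_eq_one.1 this).symm
    · have h1 : x * ↑c = ↑c * x := Subgroup.mem_centralizer_iff.1 c.2 x hxP
      have h2 : x * ↑c' = ↑c' * x := Subgroup.mem_centralizer_iff.1 c'.2 x hxP
      exact ((Commute.inv_left (show Commute (c' : G) x from h2.symm)).mul_left h1.symm).eq
    · rw [Subgroup.coe_mul, Equiv.Perm.mul_apply, h', Subgroup.coe_inv,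
        Equiv.Perm.inv_def, Equiv.symm_apply_apply]
  have hN := natCard_normalizer_sylow P hP hn hC harith
  refine isSimpleGroup_of_sylow_normalizer hq P hP hN (hn ▸ hbig) fun N hNn hne => ?_
  obtain ⟨m, hm, hm1⟩ : ∃ m ∈ N, m ≠ (1 : G) := by
    by_contra hc
    push Not at hc
    exact hne ((Subgroup.eq_bot_iff_forall _).2 hc)
  obtain ⟨b, hb, hmb⟩ : ∃ b ∈ X, (m : Equiv.Perm GolayPt) b ≠ b := by
    by_contra hc
    push Not at hc
    exact hm1 (hfaith m hc)
  have horb : MulAction.orbit N a = (X : Set GolayPt) := by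
    ext y
    constructor
    · rintro ⟨g, rfl⟩; exact hinv _ (g : G).2 a ha
    · intro hy
      by_cases hya : y = a
      · exact ⟨1, by rw [hya]; exact one_smul _ a⟩
      obtain ⟨g, hgG, hgb, hgc⟩ := htwo b hb _ (hinv _ m.2 b hb) a ha y hy (Ne.symm hmb)
        (Ne.symm hya)
      refine ⟨⟨⟨g, hgG⟩ * m * (⟨g, hgG⟩ : G)⁻¹, hNn.conj_mem m hm _⟩, ?_⟩
      show (g * (m : Equiv.Perm GolayPt) * g⁻¹) a = y
      rw [Equiv.Perm.mul_apply, Equiv.Perm.mul_apply, Equiv.Perm.inv_eq_iff_eq.2 hgb.symm, hgc]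
  have := Subgroup.index_dvd_card (MulAction.stabilizer N a)
  rw [MulAction.index_stabilizer, horb, Set.ncard_coe_finset, hXc] at this
  exact (dvd_mul_right p k).trans this

/-- prefix of an embedding with values in a given set -/
theorem exists_emb_prefix {S : Finset GolayPt} {n : ℕ} (l : List GolayPt) (hl : l.Nodup)
    (hS : ∀ x ∈ l, x ∈ S) (hn : n ≤ S.card) :
    ∃ x : Fin n ↪ GolayPt, (∀ i, x i ∈ S) ∧
      ∀ (i : ℕ) (h : i < n) (h' : i < l.length), x ⟨i, h⟩ = l[i] := by
  classical
  set L := l ++ (S \ l.toFinset).toList with hL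
  have hnd : L.Nodup := by
    rw [hL, List.nodup_append']
    refine ⟨hl, Finset.nodup_toList _, ?_⟩
    intro x hx hx'
    simp [hx] at hx'
  have hlen : n ≤ L.length := by
    have : S ⊆ L.toFinset := by
      intro x hx
      by_cases h : x ∈ l <;> simp [hL, hx, h]
    exact le_trans hn (le_trans (Finset.card_le_card this) (List.toFinset_card_le L))
  refine ⟨⟨fun i => L[(i : ℕ)]'(lt_of_lt_of_le i.2 hlen),
    fun i j h => Fin.ext ((List.Nodup.getElem_inj_iff hnd).1 h)⟩, fun i => ?_, fun i h h' => ?_⟩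
  · have hmem : L[(i : ℕ)]'(lt_of_lt_of_le i.2 hlen) ∈ L := List.getElem_mem _
    rcases List.mem_append.1 hmem with h | h
    · exact hS _ h
    · exact (Finset.mem_sdiff.1 (Finset.mem_toList.1 h)).1
  · simp only [Function.Embedding.coeFn_mk, hL]
    rw [List.getElem_append_left h']

theorem exists_list_map_M24 {l l' : List GolayPt} (hl : l.Nodup) (hl' : l'.Nodup)
    (hlen : l.length = l'.length) (h5 : l.length ≤ 5) : ∃ g ∈ M24, l.map g = l' := by
  obtain ⟨x, -, hx⟩ := exists_emb_prefix (S := Finset.univ) (n := 5) l hl (by simp)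
    (by rw [Finset.card_univ, card_golayPt]; norm_num)
  obtain ⟨y, -, hy⟩ := exists_emb_prefix (S := Finset.univ) (n := 5) l' hl' (by simp)
    (by rw [Finset.card_univ, card_golayPt]; norm_num)
  obtain ⟨g, hg, h⟩ := exists_five (x := x) (y := y)
  refine ⟨g, hg, List.ext_getElem (by simpa using hlen) fun i hi hi' => ?_⟩
  rw [List.getElem_map, ← hx i (by omega) (by simpa using hi), h, hy]

theorem exists_list_map_dodecad {d : Finset GolayPt} (hd : d ∈ dodecads) {l l' : List GolayPt}
    (hl : l.Nodup) (hl' : l'.Nodup) (hS : ∀ x ∈ l, x ∈ d) (hS' : ∀ x ∈ l', x ∈ d)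
    (hlen : l.length = l'.length) (h5 : l.length ≤ 5) :
    ∃ g ∈ M24, g • d = d ∧ l.map g = l' := by
  obtain ⟨x, hxd, hx⟩ := exists_emb_prefix (n := 5) l hl hS (by rw [card_dodecad hd]; norm_num)
  obtain ⟨y, hyd, hy⟩ := exists_emb_prefix (n := 5) l' hl' hS' (by rw [card_dodecad hd]; norm_num)
  obtain ⟨g, hg, hgd, h⟩ := exists_five_dodecad hd hxd hyd
  refine ⟨g, hg, hgd, List.ext_getElem (by simpa using hlen) fun i hi hi' => ?_⟩
  rw [List.getElem_map, ← hx i (by omega) (by simpa using hi), h, hy]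

theorem isSimpleGroup_stab_point (a : GolayPt) :
    IsSimpleGroup (MulAction.stabilizer M24 a) := by
  classical
  set G : Subgroup (Equiv.Perm GolayPt) := (MulAction.stabilizer M24 a).map M24.subtype with hGdef
  have hmem : ∀ g, g ∈ G ↔ g ∈ M24 ∧ g a = a := by
    intro g
    simp only [hGdef, Subgroup.mem_map]
    constructor
    · rintro ⟨h, hh, rfl⟩; exact ⟨h.2, hh⟩
    · rintro ⟨h, hh⟩; exact ⟨⟨g, h⟩, hh, rfl⟩
  let e := (MulAction.stabilizer M24 a).equivMapOfInjective M24.subtype M24.subtype_injective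
  haveI : Fact (Nat.Prime 23) := ⟨by norm_num⟩
  have hs : IsSimpleGroup G := by
    refine isSimpleGroup_of_twoTrans (p := 23) (q := 11) (k := 1) (n := 10200960)
      (X := Finset.univ.erase a) (fun g hg => ((hmem g).1 hg).1) (by norm_num) (by norm_num)
      (by rw [Finset.card_erase_of_mem (Finset.mem_univ _), Finset.card_univ, card_golayPt])
      (by norm_num) ?_ ?_ ((Nat.card_congr e.toEquiv).symm.trans (natCard_stab_point a))
      (by norm_num) (by norm_num) (by norm_num) (by decide +kernel)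
    · intro g hg x hx
      have hga := ((hmem g).1 hg).2
      simp only [Finset.mem_erase, Finset.mem_univ, and_true] at hx ⊢
      exact fun h => hx (g.injective (h.trans hga.symm))
    · intro b hb c hc b' hb' c' hc' hbc hbc'
      simp only [Finset.mem_erase, Finset.mem_univ, and_true] at hb hc hb' hc'
      obtain ⟨g, hg, h⟩ := exists_list_map_M24 (l := [a, b, c]) (l' := [a, b', c'])
        (by simp [Ne.symm hb, Ne.symm hc, hbc]) (by simp [Ne.symm hb', Ne.symm hc', hbc'])
        rfl (by simp)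
      simp only [List.map_cons, List.map_nil, List.cons.injEq, and_true] at h
      exact ⟨g, (hmem g).2 ⟨hg, h.1⟩, h.2⟩
  exact e.isSimpleGroup

theorem isSimpleGroup_stab_two {a c : GolayPt} (hac : a ≠ c) :
    IsSimpleGroup ↥(MulAction.stabilizer M24 a ⊓ MulAction.stabilizer M24 c) := by
  classical
  set K := MulAction.stabilizer M24 a ⊓ MulAction.stabilizer M24 c with hK
  set G : Subgroup (Equiv.Perm GolayPt) := K.map M24.subtype with hGdef
  have hmem : ∀ g, g ∈ G ↔ g ∈ M24 ∧ g a = a ∧ g c = c := by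
    intro g
    simp only [hGdef, Subgroup.mem_map]
    constructor
    · rintro ⟨h, hh, rfl⟩; exact ⟨h.2, hh.1, hh.2⟩
    · rintro ⟨h, hh, hh'⟩; exact ⟨⟨g, h⟩, ⟨hh, hh'⟩, rfl⟩
  let e := K.equivMapOfInjective M24.subtype M24.subtype_injective
  haveI : Fact (Nat.Prime 11) := ⟨by norm_num⟩
  have hs : IsSimpleGroup G := by
    refine isSimpleGroup_of_twoTrans (p := 11) (q := 5) (k := 2) (n := 443520)
      (X := (Finset.univ.erase a).erase c) (fun g hg => ((hmem g).1 hg).1) (by norm_num)
      (by norm_num)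
      (by rw [Finset.card_erase_of_mem (by simp [Ne.symm hac]),
        Finset.card_erase_of_mem (Finset.mem_univ _), Finset.card_univ, card_golayPt])
      (by norm_num) ?_ ?_ ((Nat.card_congr e.toEquiv).symm.trans (natCard_stab_two hac))
      (by norm_num) (by norm_num) (by norm_num) (by decide +kernel)
    · intro g hg x hx
      obtain ⟨-, hga, hgc⟩ := (hmem g).1 hg
      simp only [Finset.mem_erase, Finset.mem_univ, and_true] at hx ⊢
      exact ⟨fun h => hx.1 (g.injective (h.trans hgc.symm)),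
        fun h => hx.2 (g.injective (h.trans hga.symm))⟩
    · intro b hb d hd b' hb' d' hd' hbd hbd'
      simp only [Finset.mem_erase, Finset.mem_univ, and_true] at hb hd hb' hd'
      obtain ⟨g, hg, h⟩ := exists_list_map_M24 (l := [a, c, b, d]) (l' := [a, c, b', d'])
        (by simp [hac, Ne.symm hb.1, Ne.symm hb.2, Ne.symm hd.1, Ne.symm hd.2, hbd])
        (by simp [hac, Ne.symm hb'.1, Ne.symm hb'.2, Ne.symm hd'.1, Ne.symm hd'.2, hbd'])
        rfl (by simp)
      simp only [List.map_cons, List.map_nil, List.cons.injEq, and_true] at h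
      exact ⟨g, (hmem g).2 ⟨hg, h.1, h.2.1⟩, h.2.2⟩
  exact e.isSimpleGroup

theorem isSimpleGroup_stab_dodecad_point {d : Finset GolayPt} (hd : d ∈ dodecads) {a : GolayPt}
    (ha : a ∈ d) : IsSimpleGroup ↥(MulAction.stabilizer M24 d ⊓ MulAction.stabilizer M24 a) := by
  classical
  set K := MulAction.stabilizer M24 d ⊓ MulAction.stabilizer M24 a with hK
  set G : Subgroup (Equiv.Perm GolayPt) := K.map M24.subtype with hGdef
  have hmem : ∀ g, g ∈ G ↔ g ∈ M24 ∧ g • d = d ∧ g a = a := by
    intro g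
    simp only [hGdef, Subgroup.mem_map]
    constructor
    · rintro ⟨h, hh, rfl⟩; exact ⟨h.2, hh.1, hh.2⟩
    · rintro ⟨h, hh, hh'⟩; exact ⟨⟨g, h⟩, ⟨hh, hh'⟩, rfl⟩
  let e := K.equivMapOfInjective M24.subtype M24.subtype_injective
  haveI : Fact (Nat.Prime 11) := ⟨by norm_num⟩
  have hs : IsSimpleGroup G := by
    refine isSimpleGroup_of_twoTrans (p := 11) (q := 5) (k := 1) (n := 7920)
      (X := d.erase a) (fun g hg => ((hmem g).1 hg).1) (by norm_num) (by norm_num)
      (by rw [Finset.card_erase_of_mem ha, card_dodecad hd])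
      (by norm_num) ?_ ?_ ((Nat.card_congr e.toEquiv).symm.trans (natCard_stab_dodecad_point hd ha))
      (by norm_num) (by norm_num) (by norm_num) (by decide +kernel)
    · intro g hg x hx
      obtain ⟨-, hgd, hga⟩ := (hmem g).1 hg
      simp only [Finset.mem_erase] at hx ⊢
      refine ⟨fun h => hx.1 (g.injective (h.trans hga.symm)), ?_⟩
      have := Finset.smul_mem_smul_finset (a := g) hx.2
      rwa [hgd] at this
    · intro b hb c hc b' hb' c' hc' hbc hbc'
      simp only [Finset.mem_erase] at hb hc hb' hc'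
      obtain ⟨g, hg, hgd, h⟩ := exists_list_map_dodecad hd (l := [a, b, c]) (l' := [a, b', c'])
        (by simp [Ne.symm hb.1, Ne.symm hc.1, hbc]) (by simp [Ne.symm hb'.1, Ne.symm hc'.1, hbc'])
        (by simp [ha, hb.2, hc.2]) (by simp [ha, hb'.2, hc'.2]) rfl (by simp)
      simp only [List.map_cons, List.map_nil, List.cons.injEq, and_true] at h
      exact ⟨g, (hmem g).2 ⟨hg, hgd, h.1⟩, h.2⟩
  exact e.isSimpleGroup

theorem isSimpleGroup_M24 : IsSimpleGroup M24 := by
  refine isSimpleGroup_of_simple_stabilizer (none : GolayPt) (isSimpleGroup_stab_point none)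
    (fun b c hb hc => ?_) (fun b => ?_) (p := 2) (q := 3) Nat.prime_two Nat.prime_three
    (by norm_num) (by rw [Nat.card_eq_fintype_card, card_golayPt]; norm_num)
    (by rw [Nat.card_eq_fintype_card, card_golayPt]; norm_num)
  · obtain ⟨g, hg, h⟩ := exists_list_map_M24 (l := [none, b]) (l' := [none, c])
      (by simp [Ne.symm hb]) (by simp [Ne.symm hc]) rfl (by simp)
    simp only [List.map_cons, List.map_nil, List.cons.injEq, and_true] at h
    exact ⟨⟨g, hg⟩, h⟩
  · obtain ⟨g, hg, h⟩ := exists_list_map_M24 (l := [none]) (l' := [b])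
      (by simp) (by simp) rfl (by simp)
    simp only [List.map_cons, List.map_nil, List.cons.injEq, and_true] at h
    exact ⟨⟨g, hg⟩, h⟩

theorem isSimpleGroup_stab_dodecad {d : Finset GolayPt} (hd : d ∈ dodecads) :
    IsSimpleGroup (MulAction.stabilizer M24 d) := by
  classical
  obtain ⟨a, ha⟩ : d.Nonempty := Finset.card_pos.1 (by rw [card_dodecad hd]; norm_num)
  set K := MulAction.stabilizer M24 d with hK
  have hmem : ∀ (g : K) (x : GolayPt), x ∈ d → ((g : M24) : Equiv.Perm GolayPt) x ∈ d := by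
    intro g x hx
    have h := Finset.smul_mem_smul_finset (a := ((g : M24) : Equiv.Perm GolayPt)) hx
    have hgd : ((g : M24) : Equiv.Perm GolayPt) • d = d := g.2
    rwa [hgd] at h
  letI actD : MulAction K {x // x ∈ d} :=
    { smul := fun g x => ⟨((g : M24) : Equiv.Perm GolayPt) x, hmem g x x.2⟩
      one_smul := fun x => rfl
      mul_smul := fun g h x => rfl }
  haveI : FaithfulSMul K {x // x ∈ d} := by
    constructor
    intro g h hgh
    refine inv_mul_eq_one.1 (Subtype.ext (Subtype.ext (eq_one_of_nine_fixed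
      ((g⁻¹ * h : K) : M24).2 d (by rw [card_dodecad hd]; norm_num) fun x hx => ?_)))
    have h1 : ((g : M24) : Equiv.Perm GolayPt) x = ((h : M24) : Equiv.Perm GolayPt) x :=
      congrArg Subtype.val (hgh ⟨x, hx⟩)
    simp [← h1]
  let e : MulAction.stabilizer K (⟨a, ha⟩ : {x // x ∈ d}) ≃*
      ↥(MulAction.stabilizer M24 d ⊓ MulAction.stabilizer M24 a) :=
    { toFun := fun g => ⟨(g : K), (g : K).2, congrArg Subtype.val g.2⟩
      invFun := fun g => ⟨⟨(g : M24), g.2.1⟩, Subtype.ext g.2.2⟩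
      left_inv := fun _ => rfl
      right_inv := fun _ => rfl
      map_mul' := fun _ _ => rfl }
  have hs := isSimpleGroup_stab_dodecad_point hd ha
  refine isSimpleGroup_of_simple_stabilizer (⟨a, ha⟩ : {x // x ∈ d}) e.isSimpleGroup
    (fun b c hb hc => ?_) (fun b => ?_) (p := 2) (q := 3) Nat.prime_two Nat.prime_three
    (by norm_num) (by rw [Nat.card_eq_fintype_card, Fintype.card_coe, card_dodecad hd]; norm_num)
    (by rw [Nat.card_eq_fintype_card, Fintype.card_coe, card_dodecad hd]; norm_num)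
  · obtain ⟨g, hg, hgd, h⟩ := exists_list_map_dodecad hd (l := [a, b.1]) (l' := [a, c.1])
      (by simpa using fun h : a = b.1 => hb (Subtype.ext h.symm))
      (by simpa using fun h : a = c.1 => hc (Subtype.ext h.symm))
      (by simp [ha, b.2]) (by simp [ha, c.2]) rfl (by simp)
    simp only [List.map_cons, List.map_nil, List.cons.injEq, and_true] at h
    exact ⟨⟨⟨g, hg⟩, hgd⟩, Subtype.ext h.1, Subtype.ext h.2⟩
  · obtain ⟨g, hg, hgd, h⟩ := exists_list_map_dodecad hd (l := [a]) (l' := [b.1])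
      (by simp) (by simp) (by simp [ha]) (by simp [b.2]) rfl (by simp)
    simp only [List.map_cons, List.map_nil, List.cons.injEq, and_true] at h
    exact ⟨⟨⟨g, hg⟩, hgd⟩, Subtype.ext h⟩

end CfsgLib.Spor
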