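import Cfsg.Prelude.Def_Sporadic_a

/-!
Counting in Steiner systems: number of blocks through a set, intersection equations, and the
closure of the blocks of S(5, 8, 24) under symmetric difference.
-/

set_option autoImplicit false

namespace CfsgLib.Spor

open Cfsg
open scoped symmDiff

variable {α : Type*} [Fintype α] [DecidableEq α]

/-- the blocks containing a set -/
noncomputable def blocksThrough (B : Set (Finset α)) (s : Finset α) : Finset (Finset α) :=
  (B.toFinite.toFinset).filter fun c => s ⊆ c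

theorem mem_blocksThrough {B : Set (Finset α)} {s c : Finset α} :
    c ∈ blocksThrough B s ↔ c ∈ B ∧ s ⊆ c := by
  simp [blocksThrough]

theorem card_Icc_filter (s T : Finset α) (h : s ⊆ T) (n : ℕ) (hn : s.card ≤ n) :
    ((T.powersetCard n).filter fun u => s ⊆ u).card
      = Nat.choose (T.card - s.card) (n - s.card) := by
  rw [← Finset.card_sdiff_of_subset h, ← Finset.card_powersetCard]
  refine Finset.card_bij' (fun u _ => u \ s) (fun w _ => w ∪ s) ?_ ?_ ?_ ?_
  · intro u hu
    simp only [Finset.mem_filter, Finset.mem_powersetCard] at hu ⊢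
    exact ⟨Finset.sdiff_subset_sdiff hu.1.1 (Finset.Subset.refl s),
      by rw [Finset.card_sdiff_of_subset hu.2, hu.1.2]⟩
  · intro w hw
    simp only [Finset.mem_filter, Finset.mem_powersetCard] at hw ⊢
    refine ⟨⟨Finset.union_subset (hw.1.trans Finset.sdiff_subset) h, ?_⟩, Finset.subset_union_right⟩
    rw [Finset.card_union_of_disjoint ((Finset.sdiff_disjoint).mono_left hw.1), hw.2]
    omega
  · intro u hu
    simp only [Finset.mem_filter] at hu
    exact Finset.sdiff_union_of_subset hu.2
  · intro w hw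
    simp only [Finset.mem_powersetCard] at hw
    rw [Finset.union_sdiff_right]
    exact Finset.sdiff_eq_self_of_disjoint ((Finset.sdiff_disjoint).mono_left hw.1)

theorem steiner_unique {t k : ℕ} {B : Set (Finset α)} (hB : IsSteinerSystem t k B)
    {b c : Finset α} (hb : b ∈ B) (hc : c ∈ B) (h : t ≤ (b ∩ c).card) : b = c := by
  obtain ⟨s, hs, hsc⟩ := Finset.exists_subset_card_eq h
  exact (hB.2 s hsc).unique ⟨hb, hs.trans Finset.inter_subset_left⟩
    ⟨hc, hs.trans Finset.inter_subset_right⟩

theorem card_blocksThrough_mul {t k : ℕ} {B : Set (Finset α)} (hB : IsSteinerSystem t k B)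
    (s : Finset α) (hs : s.card ≤ t) :
    (blocksThrough B s).card * Nat.choose (k - s.card) (t - s.card)
      = Nat.choose (Fintype.card α - s.card) (t - s.card) := by
  rw [← Finset.card_univ, ← card_Icc_filter s Finset.univ (Finset.subset_univ s) t hs]
  have hsum : ∑ c ∈ blocksThrough B s, ((c.powersetCard t).filter fun u => s ⊆ u).card
      = (blocksThrough B s).card * Nat.choose (k - s.card) (t - s.card) := by
    rw [Finset.sum_congr rfl fun c hc => ?_, Finset.sum_const, smul_eq_mul]
    obtain ⟨hcB, hsc⟩ := mem_blocksThrough.1 hc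
    rw [card_Icc_filter s c hsc t hs, hB.1 c hcB]
  rw [← hsum, ← Finset.card_biUnion]
  · congr 1
    ext u
    simp only [Finset.mem_biUnion, Finset.mem_filter, Finset.mem_powersetCard,
      mem_blocksThrough]
    constructor
    · rintro ⟨c, -, ⟨-, hu⟩, hsu⟩
      exact ⟨⟨Finset.subset_univ _, hu⟩, hsu⟩
    · rintro ⟨⟨-, hu⟩, hsu⟩
      obtain ⟨c, ⟨hc, huc⟩, -⟩ := hB.2 u hu
      exact ⟨c, ⟨hc, hsu.trans huc⟩, ⟨huc, hu⟩, hsu⟩
  · intro c hc c' hc' hne
    simp only [Function.onFun, Finset.disjoint_left, Finset.mem_filter, Finset.mem_powersetCard]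
    rintro u ⟨⟨huc, hu⟩, -⟩ ⟨⟨huc', -⟩, -⟩
    exact hne ((hB.2 u hu).unique ⟨(mem_blocksThrough.1 hc).1, huc⟩
      ⟨(mem_blocksThrough.1 hc').1, huc'⟩)

theorem card_blocksThrough_eq {t k L : ℕ} {B : Set (Finset α)} (hB : IsSteinerSystem t k B)
    (s : Finset α) {n : ℕ} (hn : s.card = n) (hs : n ≤ t)
    (hpos : 0 < Nat.choose (k - n) (t - n))
    (hL : L * Nat.choose (k - n) (t - n) = Nat.choose (Fintype.card α - n) (t - n)) :
    (blocksThrough B s).card = L := by
  subst hn
  exact Nat.eq_of_mul_eq_mul_right hpos ((card_blocksThrough_mul hB s hs).trans hL.symm)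

/-- for a subset `s` of a block `b`, summing `C(|b ∩ c| - |s|, i)` over the blocks `c ⊇ s` -/
theorem sum_inter_choose {t k L : ℕ} {B : Set (Finset α)} (hB : IsSteinerSystem t k B)
    {b : Finset α} (hb : b ∈ B) {s : Finset α} (hsb : s ⊆ b) {n : ℕ} (hn : s.card = n) (i : ℕ)
    (hi : n + i ≤ t) (hpos : 0 < Nat.choose (k - (n + i)) (t - (n + i)))
    (hL : L * Nat.choose (k - (n + i)) (t - (n + i))
      = Nat.choose (Fintype.card α - (n + i)) (t - (n + i))) :
    ∑ c ∈ blocksThrough B s, Nat.choose ((b ∩ c).card - n) i = Nat.choose (k - n) i * L := by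
  have h1 : ∀ c ∈ blocksThrough B s, Nat.choose ((b ∩ c).card - n) i
      = (((b ∩ c).powersetCard (n + i)).filter fun u => s ⊆ u).card := by
    intro c hc
    rw [card_Icc_filter s (b ∩ c) (Finset.subset_inter hsb (mem_blocksThrough.1 hc).2) (n + i)
      (by omega), hn, Nat.add_sub_cancel_left]
  rw [Finset.sum_congr rfl h1]
  have h2 : ∀ c ∈ blocksThrough B s, (((b ∩ c).powersetCard (n + i)).filter fun u => s ⊆ u)
      = (((b.powersetCard (n + i)).filter fun u => s ⊆ u)).filter fun u => u ⊆ c := by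
    intro c _
    ext u
    simp only [Finset.mem_filter, Finset.mem_powersetCard, Finset.subset_inter_iff]
    tauto
  rw [Finset.sum_congr rfl fun c hc => congrArg Finset.card (h2 c hc)]
  simp only [Finset.card_filter]
  rw [Finset.sum_comm]
  rw [Finset.sum_congr rfl fun u hu => ?_, Finset.sum_const, smul_eq_mul, ← hB.1 b hb, ← hn]
  · rw [card_Icc_filter s b hsb _ (by omega), Nat.add_sub_cancel_left]
  simp only [Finset.mem_filter, Finset.mem_powersetCard] at hu
  rw [← Finset.card_filter]
  rw [show (blocksThrough B s).filter (fun c => u ⊆ c) = blocksThrough B u by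
    ext c
    simp only [Finset.mem_filter, mem_blocksThrough]
    exact ⟨fun h => ⟨h.1.1, h.2⟩, fun h => ⟨⟨h.1, hu.2.trans h.2⟩, h.2⟩⟩]
  exact card_blocksThrough_eq hB u hu.1.2 hi hpos hL

/-- number of blocks through `s` meeting `b` in exactly `j` points -/
noncomputable def interNum (B : Set (Finset α)) (b s : Finset α) (j : ℕ) : ℕ :=
  ((blocksThrough B s).filter fun c => (b ∩ c).card = j).card

theorem sum_interNum {t k L : ℕ} {B : Set (Finset α)} (hB : IsSteinerSystem t k B)
    {b : Finset α} (hb : b ∈ B) {s : Finset α} (hsb : s ⊆ b) {n : ℕ} (hn : s.card = n) (i : ℕ)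
    (hi : n + i ≤ t) (hpos : 0 < Nat.choose (k - (n + i)) (t - (n + i)))
    (hL : L * Nat.choose (k - (n + i)) (t - (n + i))
      = Nat.choose (Fintype.card α - (n + i)) (t - (n + i))) :
    ∑ j ∈ Finset.range (k + 1), Nat.choose (j - n) i * interNum B b s j
      = Nat.choose (k - n) i * L := by
  rw [← sum_inter_choose hB hb hsb hn i hi hpos hL]
  have hmaps : ∀ c ∈ blocksThrough B s, (b ∩ c).card ∈ Finset.range (k + 1) := by
    intro c _
    rw [Finset.mem_range, Nat.lt_succ_iff, ← hB.1 b hb]
    exact Finset.card_le_card Finset.inter_subset_left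
  rw [← Finset.sum_fiberwise_of_maps_to hmaps]
  refine Finset.sum_congr rfl fun j _ => ?_
  rw [Finset.sum_congr rfl (fun c hc => by rw [(Finset.mem_filter.1 hc).2]), Finset.sum_const,
    smul_eq_mul, interNum, mul_comm]

theorem interNum_big {t k : ℕ} {B : Set (Finset α)} (hB : IsSteinerSystem t k B)
    {b : Finset α} (hb : b ∈ B) (s : Finset α) {j : ℕ} (hj : t ≤ j) (hjk : j < k) :
    interNum B b s j = 0 := by
  rw [interNum, Finset.card_eq_zero, Finset.filter_eq_empty_iff]
  intro c hc h
  have := steiner_unique hB hb (mem_blocksThrough.1 hc).1 (h ▸ hj)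
  subst this
  rw [Finset.inter_self, hB.1 b hb] at h
  omega

theorem interNum_self {t k : ℕ} {B : Set (Finset α)} (hB : IsSteinerSystem t k B)
    {b : Finset α} (hb : b ∈ B) {s : Finset α} (hsb : s ⊆ b) :
    interNum B b s k = 1 := by
  rw [interNum, Finset.card_eq_one]
  refine ⟨b, Finset.eq_singleton_iff_unique_mem.2 ⟨?_, fun c hc => ?_⟩⟩
  · simp [mem_blocksThrough, hb, hsb, hB.1 b hb]
  · obtain ⟨hc, hk⟩ := Finset.mem_filter.1 hc
    have hcB := (mem_blocksThrough.1 hc).1
    have h1 : b ∩ c = b := Finset.eq_of_subset_of_card_le Finset.inter_subset_left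
      (by rw [hk, hB.1 b hb])
    have h2 : b ∩ c = c := Finset.eq_of_subset_of_card_le Finset.inter_subset_right
      (by rw [hk, hB.1 c hcB])
    exact h2.symm.trans h1

theorem interNum_small {B : Set (Finset α)} {b s : Finset α} (hsb : s ⊆ b) {j : ℕ}
    (hj : j < s.card) : interNum B b s j = 0 := by
  rw [interNum, Finset.card_eq_zero, Finset.filter_eq_empty_iff]
  intro c hc h
  have := Finset.card_le_card (Finset.subset_inter hsb (mem_blocksThrough.1 hc).2)
  omega

theorem interNum_pos_of_mem {B : Set (Finset α)} {b c : Finset α} (hc : c ∈ B) :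
    0 < interNum B b ∅ (b ∩ c).card :=
  Finset.card_pos.2 ⟨c, by simp [mem_blocksThrough, hc]⟩

theorem ncard_inter_eq {B : Set (Finset α)} {b : Finset α} (s : Finset α) :
    {c : Finset α | c ∈ B ∧ b ∩ c = s}.ncard
      = ((blocksThrough B s).filter fun c => b ∩ c = s).card := by
  rw [← Set.ncard_coe_finset]
  congr 1
  ext c
  simp only [Set.mem_setOf_eq, Finset.coe_filter, mem_blocksThrough]
  exact ⟨fun h => ⟨⟨h.1, h.2 ▸ Finset.inter_subset_right⟩, h.2⟩, fun h => ⟨h.1.1, h.2⟩⟩

theorem interNum_eq_ncard {B : Set (Finset α)} {b : Finset α} {s : Finset α} (hsb : s ⊆ b) :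
    interNum B b s s.card = {c : Finset α | c ∈ B ∧ b ∩ c = s}.ncard := by
  rw [ncard_inter_eq, interNum]
  congr 1
  refine Finset.filter_congr fun c hc => ⟨fun h => ?_, fun h => by rw [h]⟩
  exact (Finset.eq_of_subset_of_card_le (Finset.subset_inter hsb (mem_blocksThrough.1 hc).2)
    h.le).symm

/-! ### S(5, 8, 24) -/

theorem s5824_interNum {B : Set (Finset α)} (hα : Fintype.card α = 24)
    (hB : IsSteinerSystem 5 8 B) {b : Finset α} (hb : b ∈ B) :
    interNum B b ∅ 0 = 30 ∧ interNum B b ∅ 1 = 0 ∧ interNum B b ∅ 2 = 448 ∧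
      interNum B b ∅ 3 = 0 ∧ interNum B b ∅ 4 = 280 := by
  have e0 := sum_interNum (L := 759) hB hb (Finset.empty_subset b) Finset.card_empty 0 (by norm_num)
    (by decide +kernel) (by rw [hα]; decide +kernel)
  have e1 := sum_interNum (L := 253) hB hb (Finset.empty_subset b) Finset.card_empty 1 (by norm_num)
    (by decide +kernel) (by rw [hα]; decide +kernel)
  have e2 := sum_interNum (L := 77) hB hb (Finset.empty_subset b) Finset.card_empty 2 (by norm_num)
    (by decide +kernel) (by rw [hα]; decide +kernel)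
  have e3 := sum_interNum (L := 21) hB hb (Finset.empty_subset b) Finset.card_empty 3 (by norm_num)
    (by decide +kernel) (by rw [hα]; decide +kernel)
  have e4 := sum_interNum (L := 5) hB hb (Finset.empty_subset b) Finset.card_empty 4 (by norm_num)
    (by decide +kernel) (by rw [hα]; decide +kernel)
  have h5 := interNum_big hB hb ∅ (j := 5) (by norm_num) (by norm_num)
  have h6 := interNum_big hB hb ∅ (j := 6) (by norm_num) (by norm_num)
  have h7 := interNum_big hB hb ∅ (j := 7) (by norm_num) (by norm_num)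
  have h8 := interNum_self hB hb (Finset.empty_subset b)
  simp only [Finset.sum_range_succ, Finset.sum_range_zero, h5, h6, h7, h8] at e0 e1 e2 e3 e4
  norm_num [Nat.choose_eq_descFactorial_div_factorial, Nat.descFactorial_succ,
    Nat.factorial_succ] at e0 e1 e2 e3 e4
  omega

theorem s5824_inter_card {B : Set (Finset α)} (hα : Fintype.card α = 24)
    (hB : IsSteinerSystem 5 8 B) {b c : Finset α} (hb : b ∈ B) (hc : c ∈ B) (hbc : b ≠ c) :
    (b ∩ c).card = 0 ∨ (b ∩ c).card = 2 ∨ (b ∩ c).card = 4 := by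
  have h5 : (b ∩ c).card < 5 := not_le.1 fun h => hbc (steiner_unique hB hb hc h)
  obtain ⟨-, h1, -, h3, -⟩ := s5824_interNum hα hB hb
  have hpos := interNum_pos_of_mem (b := b) hc
  interval_cases hj : (b ∩ c).card <;> simp_all

theorem s5824_inter_even {B : Set (Finset α)} (hα : Fintype.card α = 24)
    (hB : IsSteinerSystem 5 8 B) {b c : Finset α} (hb : b ∈ B) (hc : c ∈ B) :
    Even (b ∩ c).card := by
  by_cases h : b = c
  · rw [h, Finset.inter_self, hB.1 c hc]; decide
  · rcases s5824_inter_card hα hB hb hc h with h | h | h <;> rw [h] <;> decide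

theorem s5824_symmDiff_mem {B : Set (Finset α)} (hα : Fintype.card α = 24)
    (hB : IsSteinerSystem 5 8 B) {b c : Finset α} (hb : b ∈ B) (hc : c ∈ B)
    (h4 : (b ∩ c).card = 4) : symmDiff b c ∈ B := by
  have hcard : ∀ u v : Finset α, (u ∆ v).card + 2 * (u ∩ v).card = u.card + v.card := by
    intro u v
    have hd : u ∆ v = (u \ v) ∪ (v \ u) := rfl
    rw [hd, Finset.card_union_of_disjoint disjoint_sdiff_sdiff]
    have h1 := Finset.card_sdiff_add_card_inter u v
    have h2 := Finset.card_sdiff_add_card_inter v u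
    rw [Finset.inter_comm v u] at h2
    omega
  have heven : ∀ u v : Finset α, (∀ e ∈ B, Even (e ∩ u).card) → (∀ e ∈ B, Even (e ∩ v).card) →
      ∀ e ∈ B, Even (e ∩ (u ∆ v)).card := by
    intro u v hu hv e he
    rw [show e ∩ (u ∆ v) = (e ∩ u) ∆ (e ∩ v) from inf_symmDiff_distrib_left e u v]
    have := hcard (e ∩ u) (e ∩ v)
    obtain ⟨x, hx⟩ := hu e he
    obtain ⟨y, hy⟩ := hv e he
    rw [Nat.even_iff]; omega
  have hbl : ∀ v ∈ B, ∀ e ∈ B, Even (e ∩ v).card := fun v hv e he => s5824_inter_even hα hB he hv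
  set S := b ∆ c with hS
  have hS8 : S.card = 8 := by have := hcard b c; rw [← hS, h4, hB.1 b hb, hB.1 c hc] at this; omega
  obtain ⟨s, hs, hsc⟩ := Finset.exists_subset_card_eq (s := S) (n := 5) (by omega)
  obtain ⟨e, ⟨he, hse⟩, -⟩ := hB.2 s hsc
  have hSe : ∀ f ∈ B, Even (f ∩ S).card := heven b c (hbl b hb) (hbl c hc)
  have h5 : 5 ≤ (e ∩ S).card := hsc ▸ Finset.card_le_card (Finset.subset_inter hse hs)
  have h8 : (e ∩ S).card ≤ 8 := hS8 ▸ Finset.card_le_card Finset.inter_subset_right
  obtain ⟨m, hm⟩ := hSe e he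
  by_cases hfull : (e ∩ S).card = 8
  · have h1 : e ∩ S = S :=
      Finset.eq_of_subset_of_card_le Finset.inter_subset_right (by omega)
    have h2 : e ∩ S = e :=
      Finset.eq_of_subset_of_card_le Finset.inter_subset_left (by rw [hB.1 e he]; omega)
    rw [← h1, h2]; exact he
  exfalso
  set w := e ∆ S with hw
  have hw4 : w.card = 4 := by
    have := hcard e S
    rw [← hw, hB.1 e he, hS8] at this
    omega
  have hwev : ∀ f ∈ B, Even (f ∩ w).card := heven e S (hbl e he) hSe
  -- blocks through three points of `w` avoiding the fourth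
  obtain ⟨u, hu, huc⟩ := Finset.exists_subset_card_eq (s := w) (n := 3) (by omega)
  have h21 := card_blocksThrough_eq (L := 21) hB u huc (by norm_num) (by decide +kernel)
    (by rw [hα]; decide +kernel)
  have h5' := card_blocksThrough_eq (L := 5) hB w hw4 (by norm_num) (by decide +kernel)
    (by rw [hα]; decide +kernel)
  have hsub : blocksThrough B u ⊆ blocksThrough B w := by
    intro f hf
    obtain ⟨hfB, huf⟩ := mem_blocksThrough.1 hf
    refine mem_blocksThrough.2 ⟨hfB, ?_⟩
    have h3 : 3 ≤ (f ∩ w).card := huc ▸ Finset.card_le_card (Finset.subset_inter huf hu)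
    have h4' : (f ∩ w).card ≤ 4 := hw4 ▸ Finset.card_le_card Finset.inter_subset_right
    obtain ⟨r, hr⟩ := hwev f hfB
    have : f ∩ w = w := Finset.eq_of_subset_of_card_le Finset.inter_subset_right (by omega)
    rw [← this]; exact Finset.inter_subset_left
  have := Finset.card_le_card hsub
  omega

end CfsgLib.Spor
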