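import Cfsg.Agent.Lib.Spor.Steiner

/-!
Block counts, derived systems, and intersection numbers in the Steiner systems S(4, 7, 23),
S(3, 6, 22), S(5, 6, 12).
-/

set_option autoImplicit false

namespace CfsgLib.Spor

open Cfsg

variable {α : Type*} [Fintype α] [DecidableEq α]

theorem steiner_ncard_mul {t k : ℕ} {B : Set (Finset α)} (hB : IsSteinerSystem t k B) :
    B.ncard * Nat.choose k t = Nat.choose (Fintype.card α) t := by
  have h := card_blocksThrough_mul hB ∅ (by simp)
  simp only [Finset.card_empty, Nat.sub_zero] at h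
  rw [← h, Set.ncard_eq_toFinset_card _ B.toFinite]
  congr 2
  ext c
  simp [mem_blocksThrough]

theorem subtype_subset_iff {p : α} {u : Finset {a : α // a ≠ p}} {b : Finset α} :
    u ⊆ Finset.subtype (fun a => a ≠ p) b ↔ u.map (Function.Embedding.subtype _) ⊆ b := by
  simp [Finset.subset_iff, Finset.mem_subtype]

theorem steiner_derived {t k : ℕ} {B : Set (Finset α)} (hB : IsSteinerSystem (t + 1) (k + 1) B)
    (p : α) : IsSteinerSystem t k {b' : Finset {a : α // a ≠ p} |
      ∃ b ∈ B, p ∈ b ∧ b' = Finset.subtype (fun a => a ≠ p) b} := by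
  constructor
  · rintro _ ⟨b, hb, hp, rfl⟩
    rw [Finset.card_subtype, Finset.filter_ne', Finset.card_erase_of_mem hp, hB.1 b hb]
    rfl
  · intro u hu
    have hpu : p ∉ u.map (Function.Embedding.subtype _) := by simp
    have hcard : (insert p (u.map (Function.Embedding.subtype _))).card = t + 1 := by
      rw [Finset.card_insert_of_notMem hpu, Finset.card_map, hu]
    obtain ⟨b, ⟨hb, hsub⟩, huniq⟩ := hB.2 _ hcard
    rw [Finset.insert_subset_iff] at hsub
    refine ⟨Finset.subtype (fun a => a ≠ p) b,
      ⟨⟨b, hb, hsub.1, rfl⟩, subtype_subset_iff.2 hsub.2⟩, ?_⟩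
    rintro _ ⟨⟨c, hc, hpc, rfl⟩, huc⟩
    rw [huniq c ⟨hc, Finset.insert_subset_iff.2 ⟨hpc, subtype_subset_iff.1 huc⟩⟩]

theorem s4723_inter_card {B : Set (Finset α)} (hα : Fintype.card α = 23)
    (hB : IsSteinerSystem 4 7 B) {b c : Finset α} (hb : b ∈ B) (hc : c ∈ B) (hbc : b ≠ c) :
    (b ∩ c).card = 1 ∨ (b ∩ c).card = 3 := by
  have h4 : (b ∩ c).card < 4 := not_le.1 fun h => hbc (steiner_unique hB hb hc h)
  have e0 := sum_interNum (L := 253) hB hb (Finset.empty_subset b) Finset.card_empty 0 (by norm_num)
    (by decide +kernel) (by rw [hα]; decide +kernel)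
  have e1 := sum_interNum (L := 77) hB hb (Finset.empty_subset b) Finset.card_empty 1 (by norm_num)
    (by decide +kernel) (by rw [hα]; decide +kernel)
  have e2 := sum_interNum (L := 21) hB hb (Finset.empty_subset b) Finset.card_empty 2 (by norm_num)
    (by decide +kernel) (by rw [hα]; decide +kernel)
  have e3 := sum_interNum (L := 5) hB hb (Finset.empty_subset b) Finset.card_empty 3 (by norm_num)
    (by decide +kernel) (by rw [hα]; decide +kernel)
  have h4' := interNum_big hB hb ∅ (j := 4) (by norm_num) (by norm_num)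
  have h5 := interNum_big hB hb ∅ (j := 5) (by norm_num) (by norm_num)
  have h6 := interNum_big hB hb ∅ (j := 6) (by norm_num) (by norm_num)
  have h7 := interNum_self hB hb (Finset.empty_subset b)
  simp only [Finset.sum_range_succ, Finset.sum_range_zero, h4', h5, h6, h7] at e0 e1 e2 e3
  norm_num [Nat.choose_eq_descFactorial_div_factorial, Nat.descFactorial_succ,
    Nat.factorial_succ] at e0 e1 e2 e3
  have hpos := interNum_pos_of_mem (b := b) hc
  interval_cases hj : (b ∩ c).card <;> omega

theorem s3622_interNum {B : Set (Finset α)} (hα : Fintype.card α = 22)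
    (hB : IsSteinerSystem 3 6 B) {b : Finset α} (hb : b ∈ B) :
    interNum B b ∅ 0 = 16 ∧ interNum B b ∅ 1 = 0 ∧ interNum B b ∅ 2 = 60 := by
  have e0 := sum_interNum (L := 77) hB hb (Finset.empty_subset b) Finset.card_empty 0 (by norm_num)
    (by decide +kernel) (by rw [hα]; decide +kernel)
  have e1 := sum_interNum (L := 21) hB hb (Finset.empty_subset b) Finset.card_empty 1 (by norm_num)
    (by decide +kernel) (by rw [hα]; decide +kernel)
  have e2 := sum_interNum (L := 5) hB hb (Finset.empty_subset b) Finset.card_empty 2 (by norm_num)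
    (by decide +kernel) (by rw [hα]; decide +kernel)
  have h3 := interNum_big hB hb ∅ (j := 3) (by norm_num) (by norm_num)
  have h4 := interNum_big hB hb ∅ (j := 4) (by norm_num) (by norm_num)
  have h5 := interNum_big hB hb ∅ (j := 5) (by norm_num) (by norm_num)
  have h6 := interNum_self hB hb (Finset.empty_subset b)
  simp only [Finset.sum_range_succ, Finset.sum_range_zero, h3, h4, h5, h6] at e0 e1 e2
  norm_num [Nat.choose_eq_descFactorial_div_factorial, Nat.descFactorial_succ,
    Nat.factorial_succ] at e0 e1 e2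
  omega

theorem s3622_inter_card {B : Set (Finset α)} (hα : Fintype.card α = 22)
    (hB : IsSteinerSystem 3 6 B) {b c : Finset α} (hb : b ∈ B) (hc : c ∈ B) (hbc : b ≠ c) :
    (b ∩ c).card = 0 ∨ (b ∩ c).card = 2 := by
  have h3 : (b ∩ c).card < 3 := not_le.1 fun h => hbc (steiner_unique hB hb hc h)
  obtain ⟨-, h1, -⟩ := s3622_interNum hα hB hb
  have hpos := interNum_pos_of_mem (b := b) hc
  interval_cases hj : (b ∩ c).card <;> omega

theorem s5612_interNum {B : Set (Finset α)} (hα : Fintype.card α = 12)
    (hB : IsSteinerSystem 5 6 B) {b : Finset α} (hb : b ∈ B) :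
    interNum B b ∅ 0 = 1 ∧ interNum B b ∅ 1 = 0 ∧ interNum B b ∅ 2 = 45 ∧
      interNum B b ∅ 3 = 40 ∧ interNum B b ∅ 4 = 45 := by
  have e0 := sum_interNum (L := 132) hB hb (Finset.empty_subset b) Finset.card_empty 0 (by norm_num)
    (by decide +kernel) (by rw [hα]; decide +kernel)
  have e1 := sum_interNum (L := 66) hB hb (Finset.empty_subset b) Finset.card_empty 1 (by norm_num)
    (by decide +kernel) (by rw [hα]; decide +kernel)
  have e2 := sum_interNum (L := 30) hB hb (Finset.empty_subset b) Finset.card_empty 2 (by norm_num)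
    (by decide +kernel) (by rw [hα]; decide +kernel)
  have e3 := sum_interNum (L := 12) hB hb (Finset.empty_subset b) Finset.card_empty 3 (by norm_num)
    (by decide +kernel) (by rw [hα]; decide +kernel)
  have e4 := sum_interNum (L := 4) hB hb (Finset.empty_subset b) Finset.card_empty 4 (by norm_num)
    (by decide +kernel) (by rw [hα]; decide +kernel)
  have h5 := interNum_big hB hb ∅ (j := 5) (by norm_num) (by norm_num)
  have h6 := interNum_self hB hb (Finset.empty_subset b)
  simp only [Finset.sum_range_succ, Finset.sum_range_zero, h5, h6] at e0 e1 e2 e3 e4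
  norm_num [Nat.choose_eq_descFactorial_div_factorial, Nat.descFactorial_succ,
    Nat.factorial_succ] at e0 e1 e2 e3 e4
  omega

theorem s5612_compl_mem {B : Set (Finset α)} (hα : Fintype.card α = 12)
    (hB : IsSteinerSystem 5 6 B) {b : Finset α} (hb : b ∈ B) : bᶜ ∈ B := by
  obtain ⟨h0, -⟩ := s5612_interNum hα hB hb
  rw [interNum, Finset.card_eq_one] at h0
  obtain ⟨c, hc⟩ := h0
  obtain ⟨hcm, hc0⟩ := Finset.mem_filter.1 (hc ▸ Finset.mem_singleton_self c)
  have hcB := (mem_blocksThrough.1 hcm).1
  have hcsub : c ⊆ bᶜ := fun x hx => Finset.mem_compl.2 fun hxb =>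
    Finset.notMem_empty x (Finset.card_eq_zero.1 hc0 ▸ Finset.mem_inter.2 ⟨hxb, hx⟩)
  rw [← Finset.eq_of_subset_of_card_le hcsub (by rw [Finset.card_compl, hα, hB.1 b hb, hB.1 c hcB])]
  exact hcB

theorem s5612_prescribed {B : Set (Finset α)} (hα : Fintype.card α = 12)
    (hB : IsSteinerSystem 5 6 B) {b : Finset α} (hb : b ∈ B) {s : Finset α} (hs : s ⊆ b) :
    (s.card = 2 → {c : Finset α | c ∈ B ∧ b ∩ c = s}.ncard = 3) ∧
    (s.card = 3 → {c : Finset α | c ∈ B ∧ b ∩ c = s}.ncard = 2) ∧
    (s.card = 4 → {c : Finset α | c ∈ B ∧ b ∩ c = s}.ncard = 3) := by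
  have h5 := interNum_big hB hb s (j := 5) (by norm_num) (by norm_num)
  have h6 := interNum_self hB hb hs
  refine ⟨fun hn => ?_, fun hn => ?_, fun hn => ?_⟩
  · rw [← interNum_eq_ncard hs, hn]
    have e0 := sum_interNum (L := 30) hB hb hs hn 0 (by norm_num)
      (by decide +kernel) (by rw [hα]; decide +kernel)
    have e1 := sum_interNum (L := 12) hB hb hs hn 1 (by norm_num)
      (by decide +kernel) (by rw [hα]; decide +kernel)
    have e2 := sum_interNum (L := 4) hB hb hs hn 2 (by norm_num)
      (by decide +kernel) (by rw [hα]; decide +kernel)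
    have h0 := interNum_small (B := B) hs (j := 0) (by omega)
    have h1 := interNum_small (B := B) hs (j := 1) (by omega)
    simp only [Finset.sum_range_succ, Finset.sum_range_zero, h0, h1, h5, h6] at e0 e1 e2
    norm_num [Nat.choose_eq_descFactorial_div_factorial, Nat.descFactorial_succ,
      Nat.factorial_succ] at e0 e1 e2
    omega
  · rw [← interNum_eq_ncard hs, hn]
    have e0 := sum_interNum (L := 12) hB hb hs hn 0 (by norm_num)
      (by decide +kernel) (by rw [hα]; decide +kernel)
    have e1 := sum_interNum (L := 4) hB hb hs hn 1 (by norm_num)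
      (by decide +kernel) (by rw [hα]; decide +kernel)
    have h0 := interNum_small (B := B) hs (j := 0) (by omega)
    have h1 := interNum_small (B := B) hs (j := 1) (by omega)
    have h2 := interNum_small (B := B) hs (j := 2) (by omega)
    simp only [Finset.sum_range_succ, Finset.sum_range_zero, h0, h1, h2, h5, h6] at e0 e1
    norm_num [Nat.choose_eq_descFactorial_div_factorial, Nat.descFactorial_succ,
      Nat.factorial_succ] at e0 e1
    omega
  · rw [← interNum_eq_ncard hs, hn]
    have e0 := sum_interNum (L := 4) hB hb hs hn 0 (by norm_num)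
      (by decide +kernel) (by rw [hα]; decide +kernel)
    have h0 := interNum_small (B := B) hs (j := 0) (by omega)
    have h1 := interNum_small (B := B) hs (j := 1) (by omega)
    have h2 := interNum_small (B := B) hs (j := 2) (by omega)
    have h3 := interNum_small (B := B) hs (j := 3) (by omega)
    simp only [Finset.sum_range_succ, Finset.sum_range_zero, h0, h1, h2, h3, h5, h6] at e0
    norm_num [Nat.choose_eq_descFactorial_div_factorial, Nat.descFactorial_succ,
      Nat.factorial_succ] at e0
    omega

theorem s5612_inter_card {B : Set (Finset α)} (hα : Fintype.card α = 12)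
    (hB : IsSteinerSystem 5 6 B) {b c : Finset α} (hb : b ∈ B) (hc : c ∈ B) (hcb : c ≠ b) :
    (b ∩ c).card = 0 ∨ (b ∩ c).card = 2 ∨ (b ∩ c).card = 3 ∨ (b ∩ c).card = 4 := by
  have h5 : (b ∩ c).card < 5 := not_le.1 fun h => hcb (steiner_unique hB hb hc h).symm
  obtain ⟨-, h1, -⟩ := s5612_interNum hα hB hb
  have hpos := interNum_pos_of_mem (b := b) hc
  interval_cases hj : (b ∩ c).card <;> omega

theorem s5824_ncard_disjoint {B : Set (Finset α)} (hα : Fintype.card α = 24)
    (hB : IsSteinerSystem 5 8 B) {b : Finset α} (hb : b ∈ B) :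
    {c : Finset α | c ∈ B ∧ Disjoint b c}.ncard = 30 := by
  have h := (s5824_interNum hα hB hb).1
  have h2 := interNum_eq_ncard (B := B) (Finset.empty_subset b)
  rw [Finset.card_empty, h] at h2
  simpa [Finset.disjoint_iff_inter_eq_empty] using h2.symm

theorem s5824_prescribed {B : Set (Finset α)} (hα : Fintype.card α = 24)
    (hB : IsSteinerSystem 5 8 B) {b : Finset α} (hb : b ∈ B) {s : Finset α} (hs : s ⊆ b) :
    (s.card = 2 → {c : Finset α | c ∈ B ∧ b ∩ c = s}.ncard = 16) ∧
    (s.card = 4 → {c : Finset α | c ∈ B ∧ b ∩ c = s}.ncard = 4) := by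
  have h5 := interNum_big hB hb s (j := 5) (by norm_num) (by norm_num)
  have h6 := interNum_big hB hb s (j := 6) (by norm_num) (by norm_num)
  have h7 := interNum_big hB hb s (j := 7) (by norm_num) (by norm_num)
  have h8 := interNum_self hB hb hs
  have h3 : interNum B b s 3 = 0 := by
    refine Nat.le_zero.1 (le_trans ?_ (s5824_interNum hα hB hb).2.2.2.1.le)
    refine Finset.card_le_card fun c hc => ?_
    simp only [Finset.mem_filter, mem_blocksThrough] at hc ⊢
    exact ⟨⟨hc.1.1, Finset.empty_subset _⟩, hc.2⟩
  refine ⟨fun hn => ?_, fun hn => ?_⟩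
  · rw [← interNum_eq_ncard hs, hn]
    have e0 := sum_interNum (L := 77) hB hb hs hn 0 (by norm_num)
      (by decide +kernel) (by rw [hα]; decide +kernel)
    have e1 := sum_interNum (L := 21) hB hb hs hn 1 (by norm_num)
      (by decide +kernel) (by rw [hα]; decide +kernel)
    have h0 := interNum_small (B := B) hs (j := 0) (by omega)
    have h1 := interNum_small (B := B) hs (j := 1) (by omega)
    simp only [Finset.sum_range_succ, Finset.sum_range_zero, h0, h1, h3, h5, h6, h7, h8] at e0 e1
    norm_num [Nat.choose_eq_descFactorial_div_factorial, Nat.descFactorial_succ,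
      Nat.factorial_succ] at e0 e1
    omega
  · rw [← interNum_eq_ncard hs, hn]
    have e0 := sum_interNum (L := 5) hB hb hs hn 0 (by norm_num)
      (by decide +kernel) (by rw [hα]; decide +kernel)
    have h0 := interNum_small (B := B) hs (j := 0) (by omega)
    have h1 := interNum_small (B := B) hs (j := 1) (by omega)
    have h2 := interNum_small (B := B) hs (j := 2) (by omega)
    simp only [Finset.sum_range_succ, Finset.sum_range_zero, h0, h1, h2, h3, h5, h6, h7, h8] at e0
    norm_num [Nat.choose_eq_descFactorial_div_factorial, Nat.descFactorial_succ,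
      Nat.factorial_succ] at e0
    omega

end CfsgLib.Spor
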