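import Cfsg.Agent.Lib.Spor.Co1Simple

/-!
Centralisers of the monomial elements of orders 23 and 11 inside the stabilisers of lattice
vectors they fix.
-/

set_option autoImplicit false
set_option maxRecDepth 100000
set_option maxHeartbeats 0

namespace CfsgLib.Spor.CentralFree

open Cfsg
open CfsgLib.Spor
open CfsgLib.ThreeTransp.CoReduce (bigE)
open scoped Pointwise

/-! ### Monomial elements -/

theorem permEl_coe (σ : ↥M24) (v : leechLattice) (p : GolayPt) :
    ((permEl σ • v : leechLattice) : GolayPt → ℤ) p =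
      (v : GolayPt → ℤ) ((σ : Equiv.Perm GolayPt).symm p) := by
  rw [permEl, monoEl_smul, signedPerm_empty_apply]

theorem permEl_injective : Function.Injective permEl := fun σ τ h =>
  congrArg Prod.fst (monoEl_injective h)

theorem orderOf_permEl (σ : ↥M24) : orderOf (permEl σ) = orderOf σ := by
  have h := orderOf_injective (MonoidHom.mk' permEl permEl_mul) permEl_injective σ
  exact h

/-- A monomial element without signs. -/
theorem monoEl_eq_permEl {p : MonoIdx} (h : ∀ i, i ∉ (p.2 : Finset GolayPt)) :
    monoEl p = permEl p.1 := by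
  obtain ⟨σ, ⟨c, hc⟩⟩ := p
  have : c = ∅ := Finset.eq_empty_of_forall_notMem h
  subst this
  rfl

/-- Fixing a vector without zeros of one sign pattern forbids signs. -/
theorem notMem_of_fix {p : MonoIdx} {v : leechLattice} (h : monoEl p • v = v)
    {i : GolayPt} (hsign : 0 < (v : GolayPt → ℤ) i *
      (v : GolayPt → ℤ) ((p.1 : Equiv.Perm GolayPt).symm i)) : i ∉ (p.2 : Finset GolayPt) := by
  intro hc
  have h' := congrArg (fun x : leechLattice => (x : GolayPt → ℤ) i) h
  simp only [monoEl_smul, signedPerm, if_pos hc] at h'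
  rw [← h', neg_mul] at hsign
  linarith [mul_self_nonneg ((v : GolayPt → ℤ) ((p.1 : Equiv.Perm GolayPt).symm i))]

/-! ### The element of order 23 -/

/-- the translation -/
def z23 : Co0 := permEl ⟨gT, gT_mem⟩

theorem orderOf_z23 : orderOf z23 = 23 := by rw [z23, orderOf_permEl, orderOf_gT]

theorem gT_pow_apply : ∀ (n : ℕ) (p : GolayPt), (gT ^ n) p = p.map (· + (n : ZMod 23))
  | 0, p => by cases p <;> simp
  | n + 1, p => by
    rw [pow_succ, Equiv.Perm.mul_apply, gT_pow_apply n]
    cases p <;> simp [gT, add_assoc, add_comm (1 : ZMod 23)]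

/-- A vector of norm 64 fixed by the translation is `± 8` at the extra point. -/
theorem top_of_fixed23 {v : GolayPt → ℤ} (hn : sqNorm v = 64)
    (hinv : ∀ p, v (gT.symm p) = v p) : v = Pi.single none (v none) ∧ (v none = 8 ∨ v none = -8) := by
  have hall : ∀ z : ZMod 23, v (some z) = v (some 0) := by
    intro z
    rw [← ZMod.natCast_zmod_val z]
    induction z.val with
    | zero => simp
    | succ n ih =>
      have e : gT.symm (some ((n + 1 : ℕ) : ZMod 23)) = some (n : ZMod 23) := by
        rw [Equiv.symm_apply_eq]; simp [gT]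
      rw [← hinv, e, ih]
  rw [sqNorm, Fintype.sum_option] at hn
  simp only [hall, Finset.sum_const, Finset.card_univ, ZMod.card, nsmul_eq_mul] at hn
  push_cast at hn
  have hb : v (some 0) = 0 := by
    by_contra hne
    have h1 : -2 < v (some 0) := by nlinarith [sq_nonneg (v none)]
    have h2 : v (some 0) < 2 := by nlinarith [sq_nonneg (v none)]
    have h41 : v none ^ 2 = 41 := by
      generalize v (some 0) = b at hne h1 h2 hn
      interval_cases b <;> first | (exact absurd rfl hne) | linarith
    have hlo : -7 < v none := by nlinarith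
    have hhi : v none < 7 := by nlinarith
    generalize v none = a at h41 hlo hhi
    interval_cases a <;> norm_num at h41
  refine ⟨funext fun p => ?_, ?_⟩
  · cases p with
    | none => simp
    | some z => rw [Pi.single_eq_of_ne (Option.some_ne_none z), hall, hb]
  · rw [hb] at hn
    have : (v none - 8) * (v none + 8) = 0 := by linear_combination hn
    rcases mul_eq_zero.1 this with e | e
    · left; linarith
    · right; linarith

/-- The centraliser of `z23` in the stabiliser of a vector constant and nonzero on the residues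
and nonzero at the extra point. -/
theorem central23 {v : leechLattice} (h0 : (v : GolayPt → ℤ) none ≠ 0) {b : ℤ} (hb : b ≠ 0)
    (hv : ∀ x : ZMod 23, (v : GolayPt → ℤ) (some x) = b) {g : Co0} (hgv : g • v = v)
    (hg : g * z23 = z23 * g) : ∃ n : ℕ, g = z23 ^ n := by
  have hfix : z23 • eTop = eTop := Subtype.ext (funext fun p => by
    rw [z23, permEl_coe, eTop_coe]
    cases p <;> simp [gT, Pi.single_apply, Equiv.symm_apply_eq])
  set w : GolayPt → ℤ := ((g • eTop : leechLattice) : GolayPt → ℤ) with hw
  obtain ⟨hform, hval⟩ := top_of_fixed23 (v := w) ((coe_smul_sqNorm g eTop).trans (sqNorm_bigE none))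
    (fun p => by
      have h := congrArg (fun x : Co0 => ((x • eTop : leechLattice) : GolayPt → ℤ) p) hg
      simp only [mul_smul, hfix] at h
      rw [z23, permEl_coe] at h
      exact h.symm)
  have h8 : w none = 8 := by
    have hd := CfsgLib.ThreeTransp.CoReduce.dot_preserved g.2 eTop v
    change dotInt w ((g • v : leechLattice) : GolayPt → ℤ) = _ at hd
    rw [hgv, hform, eTop_coe] at hd
    simp [dotInt, Pi.single_apply] at hd
    rcases hd with hd | hd
    · exact hd
    · exact absurd hd h0
  have htop : ((g • eTop : leechLattice) : GolayPt → ℤ) = (eTop : GolayPt → ℤ) := by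
    rw [← hw, hform, h8, eTop_coe]
  obtain ⟨p, rfl⟩ := exists_monoEl (g := g) (htop ▸ bigE_mem_stdCross none)
  obtain ⟨hs, hc⟩ := (signedPerm_top_iff p).1 (Subtype.ext htop)
  have hnot : ∀ i, i ∉ (p.2 : Finset GolayPt) := by
    intro i
    cases hi : i with
    | none => exact hc
    | some x =>
      refine notMem_of_fix hgv ?_
      have : ∃ y, (p.1 : Equiv.Perm GolayPt).symm (some x) = some y := by
        cases h : (p.1 : Equiv.Perm GolayPt).symm (some x) with
        | none => rw [Equiv.symm_apply_eq, hs] at h; simp at h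
        | some y => exact ⟨y, rfl⟩
      obtain ⟨y, hy⟩ := this
      rw [hy, hv, hv]
      exact mul_self_pos.2 hb
  rw [monoEl_eq_permEl hnot] at hg ⊢
  rw [z23, ← permEl_mul, ← permEl_mul] at hg
  have hcomm := congrArg (fun s : ↥M24 => (s : Equiv.Perm GolayPt)) (permEl_injective hg)
  simp only [Subgroup.coe_mul] at hcomm
  obtain ⟨k, hk⟩ : ∃ k : ZMod 23, (p.1 : Equiv.Perm GolayPt) (some 0) = some k := by
    cases h : (p.1 : Equiv.Perm GolayPt) (some 0) with
    | none => rw [← hs] at h; exact absurd ((Equiv.injective _) h) (by simp)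
    | some y => exact ⟨y, rfl⟩
  refine ⟨k.val, ?_⟩
  rw [z23, ← permEl_pow]
  refine congrArg permEl (Subtype.ext (Equiv.ext fun q => ?_))
  rw [SubgroupClass.coe_pow]
  show (p.1 : Equiv.Perm GolayPt) q = (gT ^ k.val) q
  cases q with
  | none => rw [hs, gT_pow_apply]; rfl
  | some x =>
    have h1 : some x = (gT ^ x.val) (some 0) := by rw [gT_pow_apply]; simp
    have h2 : (p.1 : Equiv.Perm GolayPt) * gT ^ x.val = gT ^ x.val * p.1 :=
      (Commute.pow_right hcomm x.val)
    rw [gT_pow_apply k.val]
    conv_lhs => rw [h1, ← Equiv.Perm.mul_apply, h2, Equiv.Perm.mul_apply, hk, gT_pow_apply]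
    simp [add_comm]

/-! ### The element of order 11 -/

/-- doubling -/
def g2 : Equiv.Perm GolayPt :=
  Equiv.optionCongr (Units.mulLeft (⟨2, 12, by decide, by decide⟩ : (ZMod 23)ˣ))

theorem g2_mem : g2 ∈ M24 := mulSquare_mem _ ⟨⟨5, 14, by decide, by decide⟩, Units.ext (by decide)⟩

theorem g2_apply_some (x : ZMod 23) : g2 (some x) = some (2 * x) := rfl

theorem g2_none : g2 none = none := rfl

theorem g2_pow_apply : ∀ (n : ℕ) (p : GolayPt), (g2 ^ n) p = p.map ((2 : ZMod 23) ^ n * ·)
  | 0, p => by cases p <;> simp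
  | n + 1, p => by
    rw [pow_succ, Equiv.Perm.mul_apply, g2_pow_apply n]
    cases p with
    | none => rfl
    | some x => simp [g2_apply_some, pow_succ, mul_assoc]

/-- doubling in the lattice group -/
def z11 : Co0 := permEl ⟨g2, g2_mem⟩

theorem orderOf_z11 : orderOf z11 = 11 := by
  have : Fact (Nat.Prime 11) := ⟨by norm_num⟩
  rw [z11, orderOf_permEl]
  refine orderOf_eq_prime ?_ ?_
  · apply Subtype.ext
    rw [SubgroupClass.coe_pow]
    ext1 p
    rw [g2_pow_apply]
    cases p with
    | none => rfl
    | some x => simp [show (2 : ZMod 23) ^ 11 = 1 from by decide]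
  · intro h
    have := congrArg (fun g : ↥M24 => (g : Equiv.Perm GolayPt) (some 1)) h
    simp [g2_apply_some] at this
    exact absurd this (by decide)

theorem residue_cases : ∀ x : ZMod 23, x ≠ 0 →
    ∃ k < 11, (x ^ 11 = 1 ∧ x = 2 ^ k) ∨ (x ^ 11 ≠ 1 ∧ x = 2 ^ k * 5) := by decide +kernel

/-- multiplication by `a` on squares and by `b` on non-squares -/
def twoMul (a b : ZMod 23) : GolayPt → GolayPt
  | none => none
  | some x => some (if x ^ 11 = 1 then x * a else x * b)

/-- the image of a word -/
def imgMask (a b : ZMod 23) (m : ℕ) : ℕ := mask ((toSet m).image (twoMul a b))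

theorem twoMul_check : ∀ a b : ZMod 23,
    (golayBasis.all fun m => inCode (imgMask a b m)) = true →
      ∃ k < 11, a = 2 ^ k ∧ b = a := by decide +kernel

/-- The centraliser of doubling inside the stabiliser of the two fixed points in `M₂₄`. -/
theorem exists_pow_of_comm {σ : Equiv.Perm GolayPt} (hσ : σ ∈ M24) (hn : σ none = none)
    (h0 : σ (some 0) = some 0) (hc : σ * g2 = g2 * σ) : ∃ n : ℕ, σ = g2 ^ n := by
  have hsome : ∀ x : ZMod 23, ∃ y, σ (some x) = some y := by
    intro x
    cases h : σ (some x) with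
    | none => rw [← hn] at h; exact absurd (σ.injective h) (by simp)
    | some y => exact ⟨y, rfl⟩
  obtain ⟨a, ha⟩ := hsome 1
  obtain ⟨c, hc5⟩ := hsome 5
  have hpow : ∀ (k : ℕ) (y : ZMod 23), σ (some (2 ^ k * y)) = (g2 ^ k) (σ (some y)) := by
    intro k y
    have h2 : σ * g2 ^ k = g2 ^ k * σ := Commute.pow_right hc k
    rw [← Equiv.Perm.mul_apply, ← h2, Equiv.Perm.mul_apply, g2_pow_apply]
    rfl
  have hform : (σ : GolayPt → GolayPt) = twoMul a (c * 14) := by
    funext p
    cases p with
    | none => exact hn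
    | some x =>
      by_cases hx : x = 0
      · subst hx; rw [h0]; simp [twoMul]
      obtain ⟨k, -, ⟨hq, e⟩ | ⟨hq, e⟩⟩ := residue_cases x hx
      · have h1 := hpow k 1
        rw [mul_one, ← e, ha, g2_pow_apply] at h1
        rw [h1]
        simp only [twoMul, if_pos hq, Option.map_some]
        rw [← e]
      · have h1 := hpow k 5
        rw [← e, hc5, g2_pow_apply] at h1
        rw [h1]
        simp only [twoMul, if_neg hq, Option.map_some]
        congr 1
        calc (2 : ZMod 23) ^ k * c = 2 ^ k * c * (5 * 14) := by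
              rw [show (5 : ZMod 23) * 14 = 1 from by decide, mul_one]
          _ = 2 ^ k * 5 * (c * 14) := by ring
          _ = x * (c * 14) := by rw [← e]
  have hall : (golayBasis.all fun m => inCode (imgMask a (c * 14) m)) = true := by
    refine List.all_eq_true.2 fun m hm => ?_
    have hmem : mask (toSet m) ∈ codeList := by
      have hb : inCode m = true ∧ m < 2 ^ 24 := by
        refine ⟨(basis_octads m hm).2.2, ?_⟩
        have := (basis_octads m hm).2.1
        norm_num
        omega
      rw [mask_toSet hb.2]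
      exact mem_codeList_iff.2 ⟨hb.2, hb.1⟩
    have h := mem_M24_iff.1 hσ _ hmem
    have e : σ • toSet m = (toSet m).image (twoMul a (c * 14)) := by
      rw [← hform]; rfl
    rw [imgMask, ← e]
    exact (mem_codeList_iff.1 h).2
  obtain ⟨k, -, e1, e2⟩ := twoMul_check a (c * 14) hall
  refine ⟨k, Equiv.ext fun p => ?_⟩
  rw [show σ p = twoMul a (c * 14) p from congrFun hform p, g2_pow_apply, e2, e1]
  cases p with
  | none => rfl
  | some x => simp [twoMul, mul_comm]

/-- A vector of norm 64 fixed by doubling has at most four distinct coordinates. -/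
theorem coords_fixed11 {v : GolayPt → ℤ} (hinv : ∀ p, v (g2.symm p) = v p) :
    ∀ x : ZMod 23, x ≠ 0 →
      v (some x) = if x ^ 11 = 1 then v (some 1) else v (some 5) := by
  have hpow : ∀ (k : ℕ) (y : ZMod 23), v (some (2 ^ k * y)) = v (some y) := by
    intro k y
    induction k with
    | zero => simp
    | succ k ih =>
      have e : g2.symm (some (2 ^ (k + 1) * y)) = some (2 ^ k * y) := by
        rw [Equiv.symm_apply_eq, g2_apply_some, pow_succ]; congr 1; ring
      rw [← hinv, e, ih]
  intro x hx
  obtain ⟨k, -, ⟨hq, e⟩ | ⟨hq, e⟩⟩ := residue_cases x hx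
  · rw [if_pos hq, e, ← mul_one ((2 : ZMod 23) ^ k), hpow]
  · rw [if_neg hq, e, hpow]

theorem sum_classes (F : GolayPt → ℤ) (a b : ℤ)
    (h : ∀ x : ZMod 23, x ≠ 0 → F (some x) = if x ^ 11 = 1 then a else b) :
    ∑ p, F p = F none + F (some 0) + 11 * a + 11 * b := by
  rw [Fintype.sum_option, ← Finset.add_sum_erase _ _ (Finset.mem_univ (0 : ZMod 23)),
    Finset.sum_congr rfl fun x hx => h x (Finset.mem_erase.1 hx).1,
    Finset.sum_ite, Finset.sum_const, Finset.sum_const,
    show ((Finset.univ.erase (0 : ZMod 23)).filter fun x => x ^ 11 = 1).card = 11 from by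
      decide +kernel,
    show ((Finset.univ.erase (0 : ZMod 23)).filter fun x => ¬ x ^ 11 = 1).card = 11 from by
      decide +kernel]
  simp only [nsmul_eq_mul]
  push_cast
  ring

/-- What is needed of the two fixed vectors in order to pin the image of the top vector. -/
theorem central11 {v w : leechLattice} (hw : ∀ p : GolayPt, (w : GolayPt → ℤ) p ≠ 0)
    (hww : ∀ x y : ZMod 23, 0 < (w : GolayPt → ℤ) (some x) * (w : GolayPt → ℤ) (some y))
    (hforce : ∀ u : GolayPt → ℤ, (∀ p, u (g2.symm p) = u p) → sqNorm u = 64 →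
      dotInt u (v : GolayPt → ℤ) = dotInt (eTop : GolayPt → ℤ) (v : GolayPt → ℤ) →
      dotInt u (w : GolayPt → ℤ) = dotInt (eTop : GolayPt → ℤ) (w : GolayPt → ℤ) →
      u = (eTop : GolayPt → ℤ))
    (hzero : ∀ σ : Equiv.Perm GolayPt, σ none = none →
      ((∀ p, (v : GolayPt → ℤ) (σ.symm p) = (v : GolayPt → ℤ) p) ∧
        ∀ p, (w : GolayPt → ℤ) (σ.symm p) = (w : GolayPt → ℤ) p) → σ (some 0) = some 0)
    {g : Co0} (hgv : g • v = v) (hgw : g • w = w) (hg : g * z11 = z11 * g) :
    ∃ n : ℕ, g = z11 ^ n := by
  have hfix : z11 • eTop = eTop := Subtype.ext (funext fun p => by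
    rw [z11, permEl_coe, eTop_coe]
    cases p <;> simp [g2, Pi.single_apply, Equiv.symm_apply_eq])
  have htop : ((g • eTop : leechLattice) : GolayPt → ℤ) = (eTop : GolayPt → ℤ) := by
    refine hforce _ (fun p => ?_) ((coe_smul_sqNorm g eTop).trans (sqNorm_bigE none)) ?_ ?_
    · have h := congrArg (fun x : Co0 => ((x • eTop : leechLattice) : GolayPt → ℤ) p) hg
      simp only [mul_smul, hfix] at h
      rw [z11, permEl_coe] at h
      exact h.symm
    · conv_lhs => rw [← hgv]
      exact CfsgLib.ThreeTransp.CoReduce.dot_preserved g.2 eTop v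
    · conv_lhs => rw [← hgw]
      exact CfsgLib.ThreeTransp.CoReduce.dot_preserved g.2 eTop w
  obtain ⟨p, rfl⟩ := exists_monoEl (g := g) (htop ▸ bigE_mem_stdCross none)
  obtain ⟨hs, hc⟩ := (signedPerm_top_iff p).1 (Subtype.ext htop)
  have hnot : ∀ i, i ∉ (p.2 : Finset GolayPt) := by
    intro i
    cases i with
    | none => exact hc
    | some x =>
      refine notMem_of_fix hgw ?_
      cases h : (p.1 : Equiv.Perm GolayPt).symm (some x) with
      | none => rw [Equiv.symm_apply_eq, hs] at h; simp at h
      | some y => exact hww x y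
  rw [monoEl_eq_permEl hnot] at hg hgv hgw ⊢
  have h0 := hzero (p.1 : Equiv.Perm GolayPt) hs
    ⟨fun q => by rw [← permEl_coe, hgv], fun q => by rw [← permEl_coe, hgw]⟩
  rw [z11, ← permEl_mul, ← permEl_mul] at hg
  have hcomm := congrArg (fun s : ↥M24 => (s : Equiv.Perm GolayPt)) (permEl_injective hg)
  simp only [Subgroup.coe_mul] at hcomm
  obtain ⟨n, hn⟩ := exists_pow_of_comm p.1.2 hs h0 hcomm
  exact ⟨n, by rw [z11, ← permEl_pow]; exact congrArg permEl (Subtype.ext hn)⟩

end CfsgLib.Spor.CentralFree
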