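import Cfsg.Agent.Lib.Spor.Co0Main

/-!
Orbit certificates for subgroups of `Cfsg.Co0` on lattice vectors: vectors packed as numbers, eight
bits a coordinate, and depth-first walks with generators given as programs.
-/

set_option autoImplicit false
set_option maxRecDepth 100000

namespace CfsgLib.Spor

open Cfsg

/-! ### Packed vectors -/

/-- a field of a packed vector -/
def coordN (x i : ℕ) : ℕ := (x >>> (8 * i)) &&& 255

/-- pack the first `k` values of a function -/
def packW (w : ℕ → ℕ) : ℕ → ℕ
  | 0 => 0
  | k + 1 => packW w k ||| (w k <<< (8 * k))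

theorem packW_congr {w w' : ℕ → ℕ} : ∀ {k : ℕ}, (∀ i < k, w i = w' i) → packW w k = packW w' k
  | 0, _ => rfl
  | k + 1, h => by
    rw [packW, packW, h k (Nat.lt_succ_self k),
      packW_congr fun i hi => h i (Nat.lt_succ_of_lt hi)]

theorem testBit_byte {v b : ℕ} (hv : v < 256) (h : v.testBit b = true) : b < 8 :=
  (Nat.pow_lt_pow_iff_right (by norm_num : 1 < 2)).1 (lt_of_le_of_lt (Nat.ge_two_pow_of_testBit h) hv)

theorem testBit_packW (w : ℕ → ℕ) (hw : ∀ i, w i < 256) (i b : ℕ) (hb : b < 8) :
    ∀ k, (packW w k).testBit (8 * i + b) = (decide (i < k) && (w i).testBit b) := by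
  intro k
  induction k with
  | zero => simp [packW]
  | succ k ih =>
    rw [packW, Nat.testBit_or, ih, Nat.testBit_shiftLeft]
    rcases lt_trichotomy i k with h | rfl | h
    · have h1 : ¬ 8 * k ≤ 8 * i + b := by omega
      simp [h1, h, Nat.lt_succ_of_lt h]
    · simp
    · have hf : (w k).testBit (8 * i + b - 8 * k) = false := by
        by_contra hcon
        have := testBit_byte (hw k) (by simpa using hcon)
        omega
      have h1 : ¬ i < k + 1 := by omega
      have h2 : ¬ i < k := by omega
      simp [hf, h1, h2]

theorem coordN_packW {w : ℕ → ℕ} (hw : ∀ i, w i < 256) {i k : ℕ} (hi : i < k) :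
    coordN (packW w k) i = w i := by
  apply Nat.eq_of_testBit_eq
  intro b
  rw [coordN, Nat.testBit_and, Nat.testBit_shiftRight, show (255 : ℕ) = 2 ^ 8 - 1 by norm_num,
    Nat.testBit_two_pow_sub_one]
  by_cases hb : b < 8
  · rw [testBit_packW w hw i b hb]
    simp [hi, hb]
  · have : (w i).testBit b = false := by
      by_contra hcon
      exact hb (testBit_byte (hw i) (by simpa using hcon))
    simp [hb, this]

/-- the code of a vector -/
def encV (x : GolayPt → ℤ) : ℕ := packW (fun i => (x (pt i) + 128).toNat) 24

/-- all coordinates fit in a field, with room for negation -/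
def Small (x : GolayPt → ℤ) : Prop := ∀ p, -100 < x p ∧ x p < 100

theorem small_of_sqNorm {x : GolayPt → ℤ} (h : sqNorm x ≤ 64) : Small x := fun p => by
  have h1 : x p ^ 2 ≤ 64 :=
    le_trans (Finset.single_le_sum (f := fun q => x q ^ 2) (fun q _ => sq_nonneg (x q))
      (Finset.mem_univ p)) h
  constructor <;> nlinarith only [h1]

theorem coordN_encV {x : GolayPt → ℤ} (hx : Small x) {i : ℕ} (hi : i < 24) :
    ((coordN (encV x) i : ℕ) : ℤ) = x (pt i) + 128 := by
  rw [encV, coordN_packW (fun j => by have := hx (pt j); omega) hi]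
  have := hx (pt i)
  omega

/-! ### Steps -/

/-- field of the image under a monomial map -/
def monoW (a s x k : ℕ) : ℕ :=
  match (s >>> k) &&& 1 with
  | 0 => coordN x (getP a k)
  | _ + 1 => 256 - coordN x (getP a k)

/-- the other points of the tetrad of a point, with the point, and the sign of its row -/
def tetList : ℕ → Bool × ℕ × ℕ × ℕ × ℕ
  | i =>
    if Nat.beq (tetOf i) 8388615 then (true, 0, 1, 2, 23)
    else if Nat.beq (tetOf i) 147496 then (false, 3, 5, 14, 17)
    else if Nat.beq (tetOf i) 4268048 then (false, 4, 13, 16, 22)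
    else if Nat.beq (tetOf i) 2621632 then (false, 6, 7, 19, 21)
    else if Nat.beq (tetOf i) 268544 then (false, 8, 11, 12, 18)
    else (false, 9, 10, 15, 20)

/-- half the sum of a tetrad -/
def tetHalf (x : ℕ) (t : ℕ × ℕ × ℕ × ℕ) : ℕ :=
  (coordN x t.1 + coordN x t.2.1 + coordN x t.2.2.1 + coordN x t.2.2.2) / 2

/-- field of the image under the involution -/
def xiW (x k : ℕ) : ℕ :=
  match tetList k with
  | (true, t) => tetHalf x t - coordN x k
  | (false, t) => coordN x k + 256 - tetHalf x t

/-- a step on packed vectors -/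
def stepN : Stp → ℕ → ℕ
  | .mono a s, x => packW (monoW a s x) 24
  | .xi, x => packW (xiW x) 24

/-- a program on packed vectors -/
def runN : List Stp → ℕ → ℕ
  | [], x => x
  | s :: r, x => runN r (stepN s x)

theorem monoW_spec {a s : ℕ} (h : (Stp.mono a s).ok = true) {v : leechLattice} {g : Co0}
    (hg : ActsAs g (Stp.mono a s).run) (hv : sqNorm (v : GolayPt → ℤ) ≤ 64) :
    packW (monoW a s (encV (v : GolayPt → ℤ))) 24 =
      encV ((g • v : leechLattice) : GolayPt → ℤ) := by
  simp only [Stp.ok, Bool.and_eq_true] at h
  obtain ⟨σ, -, hr⟩ := exists_rep_M24 h.1.1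
  refine packW_congr fun i hi => ?_
  have hlt : getP a i < 24 := by rw [hr i hi]; exact idx_lt _
  have e := congrArg (fun l : List ℤ => l.getD i 0) (hg v)
  simp only [lOf_getD _ hi, Stp.run, List.getD_eq_getElem?_getD, List.getElem?_map,
    List.getElem?_range hi, Option.map_some, Option.getD_some] at e
  rw [← List.getD_eq_getElem?_getD, lOf_getD _ hlt] at e
  have hsm := small_of_sqNorm hv
  have hc := coordN_encV hsm hlt
  have := hsm (pt (getP a i))
  rw [e]
  simp only [monoW]
  rw [show (s >>> i) &&& 1 = (s.testBit i).toNat by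
    rw [Nat.and_one_is_mod, Nat.shiftRight_eq_div_pow, Nat.toNat_testBit]]
  cases s.testBit i <;>
    simp only [Bool.toNat_false, Bool.toNat_true, Bool.false_eq_true, if_false, if_true] <;> omega

/-- the list of the tetrad -/
def tetL (i : ℕ) : List ℕ :=
  [(tetList i).2.1, (tetList i).2.2.1, (tetList i).2.2.2.1, (tetList i).2.2.2.2]

theorem tet_check : ∀ i < 24, (tetL i).Nodup ∧ (∀ j ∈ tetL i, j < 24) ∧
    ∀ j < 24, xiE i j = (if (tetList i).1 then 1 else -1) *
      ((if (tetL i).contains j then 1 else 0) - (if i = j then 2 else 0)) := by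
  decide +kernel

theorem xiW_spec {v : leechLattice} (hv : sqNorm (v : GolayPt → ℤ) ≤ 64) :
    packW (xiW (encV (v : GolayPt → ℤ))) 24 =
      encV ((xiEl • v : leechLattice) : GolayPt → ℤ) := by
  refine packW_congr fun i hi => ?_
  obtain ⟨hnd, hlt, hE⟩ := tet_check i hi
  obtain ⟨x, hxdef⟩ : ∃ x, x = (v : GolayPt → ℤ) := ⟨_, rfl⟩
  have h2 := congrFun (two_smul_xiFun v.2) (pt i)
  rw [Pi.smul_apply, smul_eq_mul, ← xiEl_smul] at h2
  rw [← hxdef] at hv h2 ⊢
  set S := ((tetL i).map fun j => x (pt j)).sum with hS
  have hsum : (xiMat.mulVec x) (pt i) =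
      (if (tetList i).1 then 1 else -1) * (S - 2 * x (pt i)) := by
    have e1 : (xiMat.mulVec x) (pt i) = ∑ j ∈ Finset.range 24, xiE i j * x (pt j) := by
      rw [Matrix.mulVec, dotProduct, sum_pt]
      show _ = ((List.range 24).map fun j => xiE i j * x (pt j)).sum
      refine congrArg List.sum (List.map_congr_left fun j hj => ?_)
      simp [xiMat, idx_pt hi, idx_pt (List.mem_range.1 hj)]
    have e2 : S = ∑ j ∈ Finset.range 24, (if (tetL i).contains j then 1 else 0) * x (pt j) := by
      rw [hS, ← List.sum_toFinset _ hnd]
      simp only [ite_mul, one_mul, zero_mul, ← Finset.sum_filter]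
      refine Finset.sum_congr ?_ fun _ _ => rfl
      ext j
      simp only [List.mem_toFinset, Finset.mem_filter, Finset.mem_range, List.contains_iff_mem]
      exact ⟨fun h => ⟨hlt j h, h⟩, fun h => h.2⟩
    have e3 : 2 * x (pt i) = ∑ j ∈ Finset.range 24, (if i = j then 2 else 0) * x (pt j) := by
      simp [ite_mul, hi]
    rw [e1, e2, e3, ← Finset.sum_sub_distrib, Finset.mul_sum]
    refine Finset.sum_congr rfl fun j hj => ?_
    rw [hE j (Finset.mem_range.1 hj)]
    ring
  rw [hsum] at h2
  have hsm := small_of_sqNorm hv
  obtain ⟨b, t1, t2, t3, t4, htl⟩ : ∃ b t1 t2 t3 t4, tetList i = (b, t1, t2, t3, t4) :=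
    ⟨_, _, _, _, _, rfl⟩
  simp only [tetL, htl, List.mem_cons, List.not_mem_nil, or_false, forall_eq_or_imp, forall_eq]
    at hlt
  obtain ⟨l1, l2, l3, l4⟩ := hlt
  have hS' : S = x (pt t1) + x (pt t2) + x (pt t3) + x (pt t4) := by
    simp [hS, tetL, htl]; ring
  have c0 := coordN_encV hsm hi
  have c1 := coordN_encV hsm l1
  have c2 := coordN_encV hsm l2
  have c3 := coordN_encV hsm l3
  have c4 := coordN_encV hsm l4
  have hout := small_of_sqNorm (le_of_eq_of_le (coe_smul_sqNorm xiEl v) (hxdef ▸ hv)) (pt i)
  have := hsm (pt i)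
  have := hsm (pt t1)
  have := hsm (pt t2)
  have := hsm (pt t3)
  have := hsm (pt t4)
  rw [htl] at h2
  simp only [xiW, htl]
  cases b <;>
    simp only [Bool.false_eq_true, if_false, if_true, tetHalf] at h2 ⊢ <;> omega

theorem stepN_spec {st : Stp} (h : st.ok = true) {g : Co0} (hg : ActsAs g st.run)
    {v : leechLattice} (hv : sqNorm (v : GolayPt → ℤ) ≤ 64) :
    stepN st (encV (v : GolayPt → ℤ)) = encV ((g • v : leechLattice) : GolayPt → ℤ) := by
  cases st with
  | mono a s => exact monoW_spec h hg hv
  | xi =>
    have : (g • v : leechLattice) = xiEl • v :=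
      Subtype.ext (lOf_inj ((hg v).trans (xi_actsAs v).symm))
    rw [this]
    exact xiW_spec hv

theorem runN_spec : ∀ {P : List Stp}, P.all Stp.ok = true → ∀ {g : Co0}, ActsAs g (runP P) →
    ∀ {v : leechLattice}, sqNorm (v : GolayPt → ℤ) ≤ 64 →
      runN P (encV (v : GolayPt → ℤ)) = encV ((g • v : leechLattice) : GolayPt → ℤ) := by
  intro P
  induction P with
  | nil =>
    intro _ g hg v _
    rw [show (g • v : leechLattice) = v from Subtype.ext (lOf_inj (hg v))]
    rfl
  | cons st r ih =>
    intro h g hg v hv
    simp only [List.all_cons, Bool.and_eq_true] at h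
    obtain ⟨a, ha⟩ : ∃ a : Co0, ActsAs a st.run := by
      cases st with
      | mono p s => exact ⟨_, (exists_mono_of_ok h.1).choose_spec⟩
      | xi => exact ⟨_, xi_actsAs⟩
    obtain ⟨b, -, hb⟩ := exists_prog h.2
    have e : (g • v : leechLattice) = b • (a • v) :=
      Subtype.ext (lOf_inj (by rw [hg, hb, ha]; rfl))
    rw [e]
    show runN r (stepN st (encV (v : GolayPt → ℤ))) = _
    rw [stepN_spec h.1 ha hv, ih h.2 hb (le_of_eq_of_le (coe_smul_sqNorm a v) hv)]

/-! ### Walks -/

/-- binary trees of numbers -/
inductive NTree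
  | leaf
  | node (v : ℕ) (l r : NTree)

/-- search -/
def NTree.find : NTree → ℕ → Bool
  | .leaf, _ => false
  | .node v l r, w => if Nat.beq w v then true else if Nat.blt w v then l.find w else r.find w

/-- insertion of a new number; fails on a number already found -/
def NTree.ins : NTree → ℕ → Option NTree
  | .leaf, w => some (.node w .leaf .leaf)
  | .node v l r, w =>
    if Nat.beq w v then none else
    if Nat.blt w v then
      (match l.ins w with
        | none => none
        | some l' => some (.node v l' r))
    else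
      (match r.ins w with
        | none => none
        | some r' => some (.node v l r'))

theorem NTree.ins_spec : ∀ {t t' : NTree} {w : ℕ}, t.ins w = some t' →
    t.find w = false ∧ ∀ u, t'.find u = (Nat.beq u w || t.find u) := by
  intro t
  induction t with
  | leaf =>
    intro t' w h
    simp only [NTree.ins, Option.some.injEq] at h
    subst h
    refine ⟨rfl, fun u => ?_⟩
    cases hu : Nat.beq u w <;> simp [NTree.find, hu]
  | node v l r ihl ihr =>
    intro t' w h
    simp only [NTree.ins] at h
    cases h1 : Nat.beq w v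
    · rw [h1] at h
      have hne : w ≠ v := fun e => by simp [e] at h1
      cases h2 : Nat.blt w v
      · rw [h2] at h
        have hlt : ¬ w < v := fun e => by rw [← Nat.blt_eq] at e; simp [e] at h2
        cases h3 : r.ins w with
        | none => simp [h3] at h
        | some r' =>
          simp only [h3, Bool.false_eq_true, if_false, Option.some.injEq] at h
          subst h
          obtain ⟨hf, hu⟩ := ihr h3
          refine ⟨by simp [NTree.find, h1, h2, hf], fun u => ?_⟩
          simp only [NTree.find]
          by_cases e1 : Nat.beq u v = true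
          · simp [e1]
          · by_cases e2 : Nat.blt u v = true
            · have : Nat.beq u w = false := by
                rw [← Bool.not_eq_true, Nat.beq_eq]; rw [Nat.blt_eq] at e2; omega
              simp [e1, e2, this]
            · simp [e1, e2, hu]
      · rw [h2] at h
        have hlt : w < v := by rwa [Nat.blt_eq] at h2
        cases h3 : l.ins w with
        | none => simp [h3] at h
        | some l' =>
          simp only [h3, Bool.false_eq_true, if_false, if_true, Option.some.injEq] at h
          subst h
          obtain ⟨hf, hu⟩ := ihl h3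
          refine ⟨by simp [NTree.find, h1, h2, hf], fun u => ?_⟩
          simp only [NTree.find]
          by_cases e1 : Nat.beq u v = true
          · simp [e1]
          · by_cases e2 : Nat.blt u v = true
            · simp [e1, e2, hu]
            · have : Nat.beq u w = false := by
                rw [← Bool.not_eq_true, Nat.beq_eq]; rw [Nat.blt_eq] at e2; omega
              simp [e1, e2, this]
    · simp [h1] at h

theorem NTree.ins_find {t t' : NTree} {w : ℕ} (h : t.ins w = some t') (u : ℕ) :
    t'.find u = true ↔ u = w ∨ t.find u = true := by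
  rw [(NTree.ins_spec h).2 u, Bool.or_eq_true, Nat.beq_eq]

/-- a depth-first walk: digit `0` steps back, digit `g + 1` applies generator `g` -/
def walk (gs : List (List Stp)) (b : ℕ) : ℕ → ℕ → List ℕ → NTree → ℕ → Option ℕ
  | 0, n, _, _, c => if Nat.beq n 0 then some c else none
  | f + 1, n, st, t, c =>
    match n % b with
    | 0 =>
      match st with
      | [] => none
      | _ :: st' => walk gs b f (n / b) st' t c
    | g + 1 =>
      match st with
      | [] => none
      | x :: st' =>
        match t.ins (runN (gs.getD g []) x) with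
        | none => none
        | some t' => walk gs b f (n / b) (runN (gs.getD g []) x :: x :: st') t' (c + 1)

/-- the walk from a start -/
def walkFrom (gs : List (List Stp)) (b fuel ops start : ℕ) : Option ℕ :=
  walk gs b fuel ops [start] (.node start .leaf .leaf) 1

/-- programs whose elements fix the given vectors -/
def fixesB (gs : List (List Stp)) (cfg : List (List ℤ)) : Bool :=
  gs.all fun P => P.all Stp.ok && cfg.all fun l => decide (runP P l = l)

theorem exists_gen_of_fixesB {gs : List (List Stp)} {cfg : List (List ℤ)}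
    (h : fixesB gs cfg = true) {P : List Stp} (hP : P ∈ gs) :
    P.all Stp.ok = true ∧ ∃ g : Co0, ActsAs g (runP P) ∧
      ∀ u : leechLattice, lOf (u : GolayPt → ℤ) ∈ cfg → g • u = u := by
  simp only [fixesB, List.all_eq_true, Bool.and_eq_true, decide_eq_true_eq] at h
  obtain ⟨hok, hfix⟩ := h P hP
  have hok' : P.all Stp.ok = true := List.all_eq_true.2 hok
  obtain ⟨g, -, hg⟩ := exists_prog hok'
  exact ⟨hok', g, hg, fun u hu => Subtype.ext (lOf_inj ((hg u).trans (hfix _ hu)))⟩

theorem finite_normSet (n : ℤ) : (normSet n).Finite := by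
  have hbox : (Set.univ.pi fun _ : GolayPt => Set.Icc (-n) n).Finite :=
    Set.Finite.pi fun _ => Set.finite_Icc _ _
  refine (hbox.preimage Subtype.val_injective.injOn).subset fun v hv p _ => ?_
  have h : ((v : GolayPt → ℤ) p) ^ 2 ≤ n := (show sqNorm (v : GolayPt → ℤ) = n from hv) ▸
    Finset.single_le_sum (f := fun q => (v : GolayPt → ℤ) q ^ 2) (fun q _ => sq_nonneg _)
      (Finset.mem_univ p)
  have h1 := Int.le_self_sq ((v : GolayPt → ℤ) p)
  have h2 := Int.le_self_sq (-(v : GolayPt → ℤ) p)
  rw [neg_sq] at h2
  exact ⟨by omega, by omega⟩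

/-- A successful walk gives a lower bound on an orbit. -/
theorem le_ncard_orbit {H : Subgroup Co0} {gs : List (List Stp)}
    (hgs : ∀ P ∈ gs, P.all Stp.ok = true ∧ ∃ g ∈ H, ActsAs g (runP P)) {v : leechLattice}
    (hv : sqNorm (v : GolayPt → ℤ) ≤ 64) {b fuel ops start N : ℕ}
    (hs : start = encV (v : GolayPt → ℤ)) (hw : walkFrom gs b fuel ops start = some N) :
    N ≤ (MulAction.orbit H v).ncard := by
  classical
  let O : Set ℕ := (fun w : leechLattice => encV (w : GolayPt → ℤ)) '' MulAction.orbit H v
  have hfin : (MulAction.orbit H v).Finite :=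
    (finite_normSet (sqNorm (v : GolayPt → ℤ))).subset fun w hw => by
      obtain ⟨g, rfl⟩ := hw
      exact coe_smul_sqNorm (g : Co0) v
  have hstep : ∀ g, ∀ x ∈ O, runN (gs.getD g []) x ∈ O := by
    rintro g x ⟨w, hw, rfl⟩
    by_cases hg : g < gs.length
    · have hP : gs.getD g [] ∈ gs := by
        rw [List.getD_eq_getElem _ _ hg]; exact List.getElem_mem hg
      obtain ⟨hok, k, hk, hka⟩ := hgs _ hP
      refine ⟨k • w, ?_, ?_⟩
      · obtain ⟨a, rfl⟩ := hw
        exact ⟨⟨k, hk⟩ * a, mul_smul k (a : Co0) v⟩
      · refine (runN_spec hok hka (le_of_eq_of_le ?_ hv)).symm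
        obtain ⟨a, rfl⟩ := hw
        exact coe_smul_sqNorm (a : Co0) v
    · rw [List.getD_eq_default _ _ (le_of_not_gt hg)]
      exact ⟨w, hw, rfl⟩
  have main : ∀ (f n : ℕ) (st : List ℕ) (t : NTree) (c : ℕ) (F : Finset ℕ),
      (∀ x ∈ st, x ∈ O) → (∀ x ∈ F, x ∈ O) → (∀ u, t.find u = true ↔ u ∈ F) → F.card = c →
      walk gs b f n st t c = some N → N ≤ O.ncard := by
    intro f
    induction f with
    | zero =>
      intro n st t c F _ hF _ hc h
      simp only [walk] at h
      split at h
      · rw [Option.some.injEq] at h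
        rw [← h, ← hc, ← Set.ncard_coe_finset]
        exact Set.ncard_le_ncard (fun x hx => hF x hx) (hfin.image _)
      · simp at h
    | succ f ih =>
      intro n st t c F hst hF ht hc h
      simp only [walk] at h
      split at h
      · split at h
        · simp at h
        · exact ih _ _ _ _ F (fun x hx => hst x (List.mem_cons_of_mem _ hx)) hF ht hc h
      · rename_i g _
        split at h
        · simp at h
        · rename_i x st'
          split at h
          · simp at h
          · rename_i t' heq
            obtain ⟨hf, hu⟩ := NTree.ins_spec heq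
            have hy := hstep g x (hst x List.mem_cons_self)
            have hnot : runN (gs.getD g []) x ∉ F := fun hm => by
              rw [(ht _).2 hm] at hf; exact Bool.noConfusion hf
            refine ih _ _ _ _ (insert (runN (gs.getD g []) x) F) (fun u hu' => ?_) (fun u hu' => ?_)
              (fun u => ?_) ?_ h
            · rcases List.mem_cons.1 hu' with rfl | hu'
              exacts [hy, hst u hu']
            · rcases Finset.mem_insert.1 hu' with rfl | hu'
              exacts [hy, hF u hu']
            · rw [Finset.mem_insert, ← ht u]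
              exact NTree.ins_find heq u
            · rw [Finset.card_insert_of_notMem hnot, hc]
  have hv0 : start ∈ O := ⟨v, MulAction.mem_orbit_self v, hs.symm⟩
  refine le_trans (main fuel ops [start] _ 1 {start} (by simpa using hv0) (by simpa using hv0)
    (fun u => ?_) (Finset.card_singleton _) hw) ?_
  · simp only [NTree.find, Finset.mem_singleton]
    by_cases h : u = start
    · simp [h]
    · have : Nat.beq u start = false := by rw [← Bool.not_eq_true, Nat.beq_eq]; exact h
      simp [this, h]
  · exact Set.ncard_image_le hfin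

end CfsgLib.Spor
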