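import Cfsg.Agent.Lib.Spor.Co0Census
import Cfsg.Agent.Lib.Spor.Co0Orbit

/-!
Configurations of lattice vectors: the short vectors with prescribed inner products, their
transport by automorphisms, and orbit decompositions from counts and walks.
-/

set_option autoImplicit false
set_option maxRecDepth 100000

namespace CfsgLib.Spor.Config

open Cfsg
open CfsgLib.Spor
open CfsgLib.ThreeTransp.CoReduce (dot_preserved)

theorem dot_smul (g : Co0) (v w : leechLattice) :
    dotInt ((g • v : leechLattice) : GolayPt → ℤ) ((g • w : leechLattice) : GolayPt → ℤ) =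
      dotInt (v : GolayPt → ℤ) (w : GolayPt → ℤ) :=
  dot_preserved g.2 v w

theorem dot_comm (x y : GolayPt → ℤ) : dotInt x y = dotInt y x :=
  Finset.sum_congr rfl fun _ _ => mul_comm _ _

theorem dot_self (x : GolayPt → ℤ) : dotInt x x = sqNorm x :=
  Finset.sum_congr rfl fun _ _ => (pow_two _).symm

theorem sqNorm_sub (x y : GolayPt → ℤ) :
    sqNorm (x - y) = sqNorm x + sqNorm y - 2 * dotInt x y := by
  simp only [sqNorm, dotInt, Finset.mul_sum, ← Finset.sum_add_distrib, ← Finset.sum_sub_distrib,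
    Pi.sub_apply]
  exact Finset.sum_congr rfl fun i _ => by ring

theorem coe_inj_of_lOf {v : leechLattice} {w : leechLattice} {l : List ℤ}
    (hv : lOf (v : GolayPt → ℤ) = l) (hw : lOf (w : GolayPt → ℤ) = l) : v = w :=
  Subtype.ext (lOf_inj (hv.trans hw.symm))

/-- the short vectors with prescribed inner products -/
def cfgSet (us : List (leechLattice × ℤ)) : Set leechLattice :=
  {x | sqNorm (x : GolayPt → ℤ) = 32 ∧
    ∀ q ∈ us, dotInt (q.1 : GolayPt → ℤ) (x : GolayPt → ℤ) = q.2}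

theorem mem_cfgSet_one {u x : leechLattice} {a : ℤ} :
    x ∈ cfgSet [(u, a)] ↔
      sqNorm (x : GolayPt → ℤ) = 32 ∧ dotInt (u : GolayPt → ℤ) (x : GolayPt → ℤ) = a := by
  simp [cfgSet]

theorem mem_cfgSet_two {u w x : leechLattice} {a b : ℤ} :
    x ∈ cfgSet [(u, a), (w, b)] ↔
      sqNorm (x : GolayPt → ℤ) = 32 ∧ dotInt (u : GolayPt → ℤ) (x : GolayPt → ℤ) = a ∧
        dotInt (w : GolayPt → ℤ) (x : GolayPt → ℤ) = b := by
  simp [cfgSet]

theorem smul_mem_cfgSet {g : Co0} {us : List (leechLattice × ℤ)} {x : leechLattice}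
    (h : x ∈ cfgSet us) : g • x ∈ cfgSet (us.map fun q => (g • q.1, q.2)) := by
  refine ⟨(coe_smul_sqNorm g x).trans h.1, fun q hq => ?_⟩
  obtain ⟨r, hr, rfl⟩ := List.mem_map.1 hq
  rw [dot_smul, h.2 r hr]

theorem mem_cfgSet_smul {g : Co0} {us : List (leechLattice × ℤ)} {x : leechLattice}
    (h : g • x ∈ cfgSet (us.map fun q => (g • q.1, q.2))) : x ∈ cfgSet us := by
  refine ⟨(coe_smul_sqNorm g x).symm.trans h.1, fun q hq => ?_⟩
  rw [← dot_smul g]
  exact h.2 _ (List.mem_map.2 ⟨q, hq, rfl⟩)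

theorem image_cfgSet (g : Co0) (us : List (leechLattice × ℤ)) :
    (fun x => g • x) '' cfgSet us = cfgSet (us.map fun q => (g • q.1, q.2)) := by
  ext y
  constructor
  · rintro ⟨x, hx, rfl⟩; exact smul_mem_cfgSet hx
  · intro hy
    exact ⟨g⁻¹ • y, mem_cfgSet_smul (g := g) (by rwa [smul_inv_smul]), smul_inv_smul g y⟩

theorem ncard_cfgSet_smul (g : Co0) (us : List (leechLattice × ℤ)) :
    (cfgSet (us.map fun q => (g • q.1, q.2))).ncard = (cfgSet us).ncard := by
  rw [← image_cfgSet, Set.ncard_image_of_injective _ (MulAction.injective g)]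

theorem cfgSet_finite (us : List (leechLattice × ℤ)) : (cfgSet us).Finite :=
  (finite_normSet 32).subset fun _ h => h.1

theorem cfgSet_eq_censusSet {us : List (leechLattice × ℤ)} {C : List (Census.Cls × ℤ)}
    (h : us.map (fun q => (lOf (q.1 : GolayPt → ℤ), q.2)) =
      C.map fun q => (lOf (Census.clsVec q.1), q.2)) :
    cfgSet us = Census.censusSet C := by
  ext x
  refine and_congr Iff.rfl ⟨fun hx q hq => ?_, fun hx q hq => ?_⟩
  · obtain ⟨r, hr, e⟩ := List.mem_map.1 (h ▸ List.mem_map.2 ⟨q, hq, rfl⟩ :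
      (lOf (Census.clsVec q.1), q.2) ∈ us.map fun q => (lOf (q.1 : GolayPt → ℤ), q.2))
    rw [Prod.mk.injEq] at e
    rw [← lOf_inj e.1, ← e.2]
    exact hx r hr
  · obtain ⟨r, hr, e⟩ := List.mem_map.1 (h ▸ List.mem_map.2 ⟨q, hq, rfl⟩ :
      (lOf (q.1 : GolayPt → ℤ), q.2) ∈ C.map fun q => (lOf (Census.clsVec q.1), q.2))
    rw [Prod.mk.injEq] at e
    rw [← lOf_inj e.1, ← e.2]
    exact hx r hr

/-! ### Orbits -/

/-- The programs fix the configuration `cfg`, whose joint stabiliser is inside `K`. -/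
structure Gens (K : Subgroup Co0) (gs : List (List Stp)) : Prop where
  spec : ∀ P ∈ gs, P.all Stp.ok = true ∧ ∃ g ∈ K, ActsAs g (runP P)

theorem Gens.of_fixesB {K : Subgroup Co0} {gs : List (List Stp)} {cfg : List (List ℤ)}
    (h : fixesB gs cfg = true)
    (hK : ∀ g : Co0, (∀ u : leechLattice, lOf (u : GolayPt → ℤ) ∈ cfg → g • u = u) → g ∈ K) :
    Gens K gs :=
  ⟨fun _ hP => by
    obtain ⟨hok, g, hg, hfix⟩ := exists_gen_of_fixesB h hP
    exact ⟨hok, g, hK g hfix, hg⟩⟩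

/-- the checked walk from a start -/
def walkOK (gs : List (List Stp)) (w : ℕ × ℕ × ℕ) (start : List ℤ) (N : ℕ) : Bool :=
  match walkFrom gs w.1 w.2.1 w.2.2 (packW (fun i => (start.getD i 0 + 128).toNat) 24) with
  | none => false
  | some M => Nat.beq M N

theorem Gens.le_orbit {K : Subgroup Co0} {gs : List (List Stp)} (h : Gens K gs)
    {v : leechLattice} {start : List ℤ} (hs : lOf (v : GolayPt → ℤ) = start)
    (hv : sqNorm (v : GolayPt → ℤ) ≤ 64) {w : ℕ × ℕ × ℕ} {N : ℕ}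
    (hw : walkOK gs w start N = true) : N ≤ (MulAction.orbit K v).ncard := by
  simp only [walkOK] at hw
  split at hw
  · simp at hw
  · rename_i M hM
    rw [Nat.beq_eq] at hw
    subst hw
    refine le_ncard_orbit h.spec hv ?_ hM
    refine packW_congr fun i hi => ?_
    rw [← hs, lOf_getD _ hi]

theorem orbit_subset {K : Subgroup Co0} {us : List (leechLattice × ℤ)}
    (hK : ∀ g ∈ K, ∀ q ∈ us, g • q.1 = q.1) {v : leechLattice} (hv : v ∈ cfgSet us) :
    MulAction.orbit K v ⊆ cfgSet us := by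
  rintro _ ⟨⟨g, hg⟩, rfl⟩
  have := smul_mem_cfgSet (g := g) hv
  rwa [List.map_congr_left (g := id) fun q hq => by rw [hK g hg q hq]; rfl, List.map_id] at this

/-- A walk as long as the whole set shows transitivity. -/
theorem orbit_eq_cfgSet {K : Subgroup Co0} {us : List (leechLattice × ℤ)}
    (hK : ∀ g ∈ K, ∀ q ∈ us, g • q.1 = q.1) {v : leechLattice} (hv : v ∈ cfgSet us) {N : ℕ}
    (hN : (cfgSet us).ncard = N) (hle : N ≤ (MulAction.orbit K v).ncard) :
    MulAction.orbit K v = cfgSet us :=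
  Set.eq_of_subset_of_ncard_le (orbit_subset hK hv) (hN ▸ hle) (cfgSet_finite us)

/-- Orbit lower bounds in classes distinguished by an inner product that sum up to everything
show that the classes are the orbits. -/
theorem classes_of_bounds {K : Subgroup Co0} {us : List (leechLattice × ℤ)}
    (hK : ∀ g ∈ K, ∀ q ∈ us, g • q.1 = q.1) {x : leechLattice} (hxK : ∀ g ∈ K, g • x = x)
    (hx : x ∈ cfgSet us) {ι : Type*} [Fintype ι] (d : ι → ℤ) (hd : Function.Injective d)
    (hd32 : ∀ i, d i ≠ 32) (y : ι → leechLattice) (N : ι → ℕ)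
    (hy : ∀ i, y i ∈ cfgSet us ∧ dotInt (x : GolayPt → ℤ) (y i : GolayPt → ℤ) = d i)
    (hle : ∀ i, N i ≤ (MulAction.orbit K (y i)).ncard) (hsum : (cfgSet us).ncard = 1 + ∑ i, N i) :
    (∀ i, MulAction.orbit K (y i) =
        {z | z ∈ cfgSet us ∧ dotInt (x : GolayPt → ℤ) (z : GolayPt → ℤ) = d i} ∧
      {z | z ∈ cfgSet us ∧ dotInt (x : GolayPt → ℤ) (z : GolayPt → ℤ) = d i}.ncard = N i) ∧
    ∀ z ∈ cfgSet us, z = x ∨ ∃ i, dotInt (x : GolayPt → ℤ) (z : GolayPt → ℤ) = d i := by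
  classical
  set C : ι → Set leechLattice := fun i =>
    {z | z ∈ cfgSet us ∧ dotInt (x : GolayPt → ℤ) (z : GolayPt → ℤ) = d i} with hC
  have hfin : ∀ i, (C i).Finite := fun i => (cfgSet_finite us).subset fun _ h => h.1
  have hsub : ∀ i, MulAction.orbit K (y i) ⊆ C i := by
    intro i z hz
    refine ⟨orbit_subset hK (hy i).1 hz, ?_⟩
    obtain ⟨⟨g, hg⟩, rfl⟩ := hz
    conv_lhs => rw [← hxK g hg]
    exact (dot_smul g x (y i)).trans (hy i).2
  have hge : ∀ i, N i ≤ (C i).ncard := fun i =>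
    le_trans (hle i) (Set.ncard_le_ncard (hsub i) (hfin i))
  obtain ⟨U, hU⟩ : ∃ U, U = insert x (⋃ i, C i) := ⟨_, rfl⟩
  have hxnot : x ∉ ⋃ i, C i := by
    simp only [Set.mem_iUnion, not_exists]
    rintro i ⟨-, h⟩
    rw [dot_self, hx.1] at h
    exact hd32 i h.symm
  have hUs : U ⊆ cfgSet us := by
    rw [hU, Set.insert_subset_iff]
    exact ⟨hx, Set.iUnion_subset fun i z hz => hz.1⟩
  have hUc : U.ncard = 1 + ∑ i, (C i).ncard := by
    rw [hU, Set.ncard_insert_of_notMem hxnot (Set.finite_iUnion hfin), add_comm,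
      Set.ncard_iUnion_of_finite (fun i => hfin i) fun i j hij =>
        Set.disjoint_left.2 fun z h1 h2 => hij (hd (h1.2.symm.trans h2.2)),
      finsum_eq_sum_of_fintype]
  have hUle := Set.ncard_le_ncard hUs (cfgSet_finite us)
  rw [hUc, hsum] at hUle
  have hsumge : ∑ i, N i ≤ ∑ i, (C i).ncard := Finset.sum_le_sum fun i _ => hge i
  have heq : ∀ i, N i = (C i).ncard := fun i =>
    (Finset.sum_eq_sum_iff_of_le fun j _ => hge j).1 (le_antisymm hsumge (by omega)) i
      (Finset.mem_univ i)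
  refine ⟨fun i => ⟨Set.eq_of_subset_of_ncard_le (hsub i)
    ((heq i).symm.le.trans (hle i)) (hfin i), (heq i).symm⟩, fun z hz => ?_⟩
  have hall : U = cfgSet us := Set.eq_of_subset_of_ncard_le hUs (by
    rw [hUc, hsum]; exact Nat.add_le_add_left hsumge 1) (cfgSet_finite us)
  rw [← hall, hU, Set.mem_insert_iff, Set.mem_iUnion] at hz
  exact hz.imp id fun ⟨i, h⟩ => ⟨i, h.2⟩

/-- Transport of an orbit along an automorphism. -/
theorem ncard_orbit_conj {K L : Subgroup Co0} (g : Co0)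
    (hKL : ∀ k, k ∈ K ↔ g * k * g⁻¹ ∈ L) (v : leechLattice) :
    (MulAction.orbit K v).ncard = (MulAction.orbit L (g • v)).ncard := by
  have e : MulAction.orbit L (g • v) = (fun x => g • x) '' MulAction.orbit K v := by
    ext z
    constructor
    · rintro ⟨⟨l, hl⟩, rfl⟩
      refine ⟨(g⁻¹ * l * g) • v, ⟨⟨g⁻¹ * l * g, (hKL _).2 (by group; exact hl)⟩, rfl⟩, ?_⟩
      show g • (g⁻¹ * l * g) • v = l • g • v
      rw [smul_smul, smul_smul, mul_assoc g⁻¹, mul_inv_cancel_left]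
    · rintro ⟨_, ⟨⟨k, hk⟩, rfl⟩, rfl⟩
      refine ⟨⟨g * k * g⁻¹, (hKL k).1 hk⟩, ?_⟩
      show (g * k * g⁻¹) • g • v = g • k • v
      rw [smul_smul, smul_smul, inv_mul_cancel_right]
  rw [e, Set.ncard_image_of_injective _ (MulAction.injective g)]

theorem mem_stabilizer_conj {g : Co0} {u u' : leechLattice} (hu : g • u = u') (k : Co0) :
    k ∈ MulAction.stabilizer Co0 u ↔ g * k * g⁻¹ ∈ MulAction.stabilizer Co0 u' := by
  simp only [MulAction.mem_stabilizer_iff, mul_smul, ← hu, inv_smul_smul, smul_left_cancel_iff]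

theorem mem_cfgSet_append {us : List (leechLattice × ℤ)} {x z : leechLattice} {d : ℤ} :
    z ∈ cfgSet (us ++ [(x, d)]) ↔
      z ∈ cfgSet us ∧ dotInt (x : GolayPt → ℤ) (z : GolayPt → ℤ) = d := by
  simp only [cfgSet, Set.mem_ofPred_eq, List.mem_append, List.mem_singleton, or_imp, forall_and,
    forall_eq, and_assoc]

theorem classSet_eq (us : List (leechLattice × ℤ)) (x : leechLattice) (d : ℤ) :
    {z | z ∈ cfgSet us ∧ dotInt (x : GolayPt → ℤ) (z : GolayPt → ℤ) = d} =
      cfgSet (us ++ [(x, d)]) :=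
  Set.ext fun _ => mem_cfgSet_append.symm

/-- Transitivity transported from the standard configuration. -/
theorem exists_map_of_orbit {K : Subgroup Co0} {us us0 : List (leechLattice × ℤ)}
    {p : leechLattice} (horb : MulAction.orbit K p = cfgSet us0)
    (hK : ∀ k ∈ K, ∀ q ∈ us0, k • q.1 = q.1) {g : Co0}
    (hg : us.map (fun q => (g • q.1, q.2)) = us0) {x x' : leechLattice} (hx : x ∈ cfgSet us)
    (hx' : x' ∈ cfgSet us) :
    ∃ h : Co0, (∀ q ∈ us, h • q.1 = q.1) ∧ h • x = x' := by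
  have h1 : g • x ∈ MulAction.orbit K p := horb ▸ hg ▸ smul_mem_cfgSet hx
  have h2 : g • x' ∈ MulAction.orbit K p := horb ▸ hg ▸ smul_mem_cfgSet hx'
  obtain ⟨⟨a, ha⟩, ea⟩ := h1
  obtain ⟨⟨b, hb⟩, eb⟩ := h2
  change a • p = g • x at ea
  change b • p = g • x' at eb
  refine ⟨g⁻¹ * (b * a⁻¹) * g, fun q hq => ?_, ?_⟩
  · have hfix := hK (b * a⁻¹) (mul_mem hb (inv_mem ha)) (g • q.1, q.2)
      (hg ▸ List.mem_map.2 ⟨q, hq, rfl⟩)
    rw [mul_smul, mul_smul, hfix, inv_smul_smul]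
  · rw [mul_smul, mul_smul, mul_smul, ← ea, inv_smul_smul, eb, inv_smul_smul]

end CfsgLib.Spor.Config
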