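import Cfsg.Agent.Lib.Spor.FpfSimple
import Cfsg.Agent.Lib.Spor.Co0Config

/-!
Group-theoretic helpers for the simplicity of the stabilisers in the Conway group: transport of a
self-centralising element, orders of normal subgroups, orbits of normal subgroups.
-/

set_option autoImplicit false

namespace CfsgLib.Spor.ConwayArith

open Cfsg
open CfsgLib.Spor

/-- There is a self-centralising element of order `p`. -/
def FreeElt (G : Type*) [Group G] (p : ℕ) : Prop :=
  ∃ z : G, orderOf z = p ∧ ∀ g : G, g * z = z * g → g ∈ Subgroup.zpowers z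

theorem FreeElt.of_equiv {G H : Type*} [Group G] [Group H] (e : G ≃* H) {p : ℕ}
    (h : FreeElt G p) : FreeElt H p := by
  obtain ⟨z, hz, hC⟩ := h
  refine ⟨e z, by rw [MulEquiv.orderOf_eq, hz], fun g hg => ?_⟩
  obtain ⟨k, hk⟩ := hC (e.symm g) (e.injective (by
    rw [map_mul, map_mul, MulEquiv.apply_symm_apply, hg]))
  exact ⟨k, by
    show e z ^ k = g
    rw [← map_zpow, show z ^ k = e.symm g from hk, MulEquiv.apply_symm_apply]⟩

theorem FreeElt.of_co0 {K : Subgroup Co0} {p : ℕ} {z : Co0} (hz : z ∈ K) (hord : orderOf z = p)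
    (hC : ∀ g ∈ K, g * z = z * g → ∃ n : ℕ, g = z ^ n) : FreeElt K p := by
  refine ⟨⟨z, hz⟩, by rw [← Subgroup.orderOf_coe, hord], fun g hg => ?_⟩
  obtain ⟨n, hn⟩ := hC g g.2 (congrArg Subtype.val hg)
  exact ⟨n, Subtype.ext (by simp [hn])⟩

/-- Conjugate subgroups are isomorphic. -/
def confEquiv {K L : Subgroup Co0} (g : Co0) (hKL : ∀ k, k ∈ K ↔ g * k * g⁻¹ ∈ L) : K ≃* L where
  toFun k := ⟨g * k * g⁻¹, (hKL k).1 k.2⟩
  invFun l := ⟨g⁻¹ * l * g, (hKL _).2 (by
    rw [show g * (g⁻¹ * (l : Co0) * g) * g⁻¹ = l by group]; exact l.2)⟩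
  left_inv k := Subtype.ext (show g⁻¹ * (g * (k : Co0) * g⁻¹) * g = k by group)
  right_inv l := Subtype.ext (show g * (g⁻¹ * (l : Co0) * g) * g⁻¹ = l by group)
  map_mul' a b := Subtype.ext
    (show g * ((a : Co0) * b) * g⁻¹ = g * a * g⁻¹ * (g * b * g⁻¹) by group)

theorem natCard_confEquiv {K L : Subgroup Co0} (g : Co0)
    (hKL : ∀ k, k ∈ K ↔ g * k * g⁻¹ ∈ L) : Nat.card K = Nat.card L :=
  Nat.card_congr (confEquiv g hKL).toEquiv

/-- Orbit-stabiliser inside a subgroup. -/
theorem natCard_inf_stab {K : Subgroup Co0} (x : leechLattice) :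
    Nat.card ↥(K ⊓ MulAction.stabilizer Co0 x) * (MulAction.orbit K x).ncard = Nat.card K := by
  have e : Nat.card ↥(K ⊓ MulAction.stabilizer Co0 x) = Nat.card (MulAction.stabilizer K x) := by
    refine Nat.card_congr
      ⟨fun k => ⟨⟨k.1, k.2.1⟩, k.2.2⟩, fun k => ⟨k.1.1, k.1.2, k.2⟩, fun k => rfl, fun k => rfl⟩
  rw [e, ← MulAction.index_stabilizer, Subgroup.card_mul_index]

/-- The orbits of a normal subgroup inside an orbit. -/
theorem ncard_orbit_normal {K : Subgroup Co0} {N : Subgroup K} (hN : N.Normal) (x : leechLattice) :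
    (MulAction.orbit N x).ncard ∣ (MulAction.orbit K x).ncard ∧
      (MulAction.orbit N x).ncard ∣ Nat.card N := by
  refine ⟨?_, ?_⟩
  · haveI := hN
    let X := ↥(MulAction.orbit K x)
    let x' : X := ⟨x, MulAction.mem_orbit_self x⟩
    have hB : MulAction.IsBlock K (MulAction.orbit N x') := MulAction.IsBlock.orbit_of_normal x'
    have h := hB.ncard_dvd_card (MulAction.nonempty_orbit x')
    have e : MulAction.orbit N x = Subtype.val '' MulAction.orbit N x' := by
      ext y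
      constructor
      · rintro ⟨n, rfl⟩; exact ⟨n • x', ⟨n, rfl⟩, rfl⟩
      · rintro ⟨_, ⟨n, rfl⟩, rfl⟩; exact ⟨n, rfl⟩
    rw [e, Set.ncard_image_of_injective _ Subtype.val_injective]
    simpa [X, Nat.card_coe_set_eq] using h
  · rw [← MulAction.index_stabilizer]
    exact Subgroup.index_dvd_card _

theorem eq_one_of_dvd_pow {m n r k : ℕ} [hr : Fact r.Prime] (h : m ∣ r ^ k) (h' : m ∣ n)
    (hn : ¬ r ∣ n) : m = 1 :=
  Nat.eq_one_of_dvd_coprimes ((hr.out.coprime_iff_not_dvd.2 hn).pow_left k) h h'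

/-- Removing primes that do not divide. -/
theorem dvd_of_coprime_factor {m a r b : ℕ} (hr : r.Prime) (h : m ∣ a * r ^ b) (hd : ¬ r ∣ m) :
    m ∣ a :=
  ((hr.coprime_iff_not_dvd.2 hd).symm.pow_right b).dvd_of_dvd_mul_right h

end CfsgLib.Spor.ConwayArith
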