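import Cfsg.Agent.Lib.Spor.Co0Config

/-!
Spanning sets of short vectors: fixing them forces the identity.
-/

set_option autoImplicit false
set_option maxRecDepth 100000
set_option maxHeartbeats 0

namespace CfsgLib.Spor.ConwaySpan

open Cfsg
open CfsgLib.Spor
open CfsgLib.ThreeTransp.CoReduce (bigE)

/-- `D • 8 eᵢ` is the combination with the coefficients of the certificate -/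
def spanOK (S : List (List ℤ)) (cert : List (ℤ × List ℤ)) : Prop :=
  (∀ l ∈ S, inLeechB (lOf (vOf l)) = true ∧ lOf (vOf l) = l) ∧
  ∀ p : GolayPt, (cert.getD (idx p) (0, [])).1 ≠ 0 ∧
    lOf ((((cert.getD (idx p) (0, [])).2.zip S).map fun q => q.1 • vOf q.2).sum) =
      lOf ((cert.getD (idx p) (0, [])).1 • (Pi.single p 8 : GolayPt → ℤ))

theorem eq_one_of_span {S : List (List ℤ)} {cert : List (ℤ × List ℤ)} (h : spanOK S cert)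
    {g : Co0} (hfix : ∀ x : leechLattice, lOf (x : GolayPt → ℤ) ∈ S → g • x = x) : g = 1 := by
  refine co0_ext fun p => ?_
  rw [one_smul]
  let F : AddSubgroup leechLattice := (co0Hom g).eqLocus (AddMonoidHom.id _)
  let T : AddSubgroup (GolayPt → ℤ) := F.map leechLattice.subtype
  have hS : ∀ l ∈ S, vOf l ∈ T := fun l hl => by
    obtain ⟨h1, h2⟩ := h.1 l hl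
    exact ⟨⟨vOf l, mem_leech_of_inLeechB h1⟩, hfix _ (h2.symm ▸ hl), rfl⟩
  obtain ⟨hD, he⟩ := h.2 p
  obtain ⟨D, hDe⟩ : ∃ D, D = (cert.getD (idx p) (0, [])).1 := ⟨_, rfl⟩
  rw [← hDe] at hD he
  have hmem : D • (Pi.single p 8 : GolayPt → ℤ) ∈ T := by
    rw [← lOf_inj he]
    refine list_sum_mem fun y hy => ?_
    obtain ⟨q, hq, rfl⟩ := List.mem_map.1 hy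
    exact AddSubgroup.zsmul_mem _ (hS _ (List.of_mem_zip hq).2) _
  obtain ⟨x, hx, hxe⟩ := hmem
  have hxD : x = D • bigE p := Subtype.ext (by
    rw [AddSubgroup.coe_zsmul, bigE_coe]; exact hxe)
  have h1 : co0Hom g x = x := hx
  rw [hxD, map_zsmul] at h1
  refine Subtype.ext (funext fun j => ?_)
  have h2 := congrArg (fun y : leechLattice => (y : GolayPt → ℤ) j) h1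
  simp only [AddSubgroup.coe_zsmul, Pi.smul_apply, smul_eq_mul] at h2
  exact mul_left_cancel₀ hD h2

/-- spanning vectors -/
def mclSpan : List (List ℤ) := [
  [4, 0, 0, 0, 0, 0, 0, 0, 0, 0, 0, 0, 0, 0, 0, 0, 0, 0, 0, 0, 0, 0, 0, 4],
  [-1, 3, -1, -1, -1, -1, -1, -1, -1, -1, -1, -1, -1, -1, -1, -1, -1, -1, -1, -1, -1, -1, -1, -1],
  [4, 4, 0, 0, 0, 0, 0, 0, 0, 0, 0, 0, 0, 0, 0, 0, 0, 0, 0, 0, 0, 0, 0, 0],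
  [0, 4, 0, 0, 0, 0, 0, 0, 0, 0, 0, 0, 0, 0, 0, 0, 0, 0, 0, 0, 0, 0, 0, 4],
  [2, 0, -2, 0, -2, -2, -2, 0, 0, 0, -2, -2, 0, 0, 0, 0, 0, 0, 0, 0, 0, 0, 0, 2],
  [2, 2, 0, -2, 0, 0, -2, 0, -2, 0, -2, 0, 0, 2, 0, 0, 0, 0, 0, 0, 0, 0, 0, 2],
  [2, 2, 0, -2, 0, 0, -2, 0, -2, 0, 2, 0, 0, -2, 0, 0, 0, 0, 0, 0, 0, 0, 0, 2],
  [2, 2, 0, -2, 0, 0, -2, 0, 2, 0, -2, 0, 0, -2, 0, 0, 0, 0, 0, 0, 0, 0, 0, 2],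
  [2, 2, 0, -2, 0, 0, 2, 0, -2, 0, -2, 0, 0, -2, 0, 0, 0, 0, 0, 0, 0, 0, 0, 2],
  [2, 2, 0, 2, 0, 0, -2, 0, -2, 0, -2, 0, 0, -2, 0, 0, 0, 0, 0, 0, 0, 0, 0, 2],
  [2, 0, 0, -2, 0, 0, 0, 0, 0, -2, -2, -2, -2, 0, -2, 0, 0, 0, 0, 0, 0, 0, 0, 2],
  [2, 2, 0, 0, -2, -2, 0, -2, -2, 0, 0, 0, 0, 0, 0, 2, 0, 0, 0, 0, 0, 0, 0, 2],
  [2, 2, 0, 0, -2, -2, 0, -2, 2, 0, 0, 0, 0, 0, 0, -2, 0, 0, 0, 0, 0, 0, 0, 2],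
  [2, 2, 0, 0, -2, -2, 0, 2, -2, 0, 0, 0, 0, 0, 0, -2, 0, 0, 0, 0, 0, 0, 0, 2],
  [2, 2, 0, 0, -2, 2, 0, -2, -2, 0, 0, 0, 0, 0, 0, -2, 0, 0, 0, 0, 0, 0, 0, 2],
  [2, 0, -2, 0, 0, 0, 0, -2, -2, 0, -2, 0, 0, 0, -2, 0, -2, 0, 0, 0, 0, 0, 0, 2],
  [2, 0, 0, 0, 0, 0, 0, 0, -2, -2, 0, 0, -2, -2, 0, -2, -2, 0, 0, 0, 0, 0, 0, 2],
  [2, 2, 0, 0, 0, 0, -2, 0, 0, 0, 0, -2, 0, 0, -2, 2, -2, 0, 0, 0, 0, 0, 0, 2],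
  [2, 2, 0, 0, -2, 0, -2, 0, 0, -2, 0, 0, -2, 0, 0, 0, 0, 2, 0, 0, 0, 0, 0, 2],
  [2, 2, 0, 0, -2, 0, -2, 0, 0, -2, 0, 0, 2, 0, 0, 0, 0, -2, 0, 0, 0, 0, 0, 2],
  [2, 2, -2, 0, 0, 0, 0, 0, -2, 0, 0, -2, -2, 0, 0, 0, 0, 0, 2, 0, 0, 0, 0, 2],
  [2, 0, 0, 0, -2, 0, 0, -2, 0, -2, -2, 0, 0, -2, 0, 0, 0, 0, 0, -2, 0, 0, 0, 2],
  [2, 0, 0, 0, 0, 0, -2, -2, -2, -2, 0, -2, 0, 0, 0, 0, 0, 0, 0, 0, -2, 0, 0, 2],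
  [2, 0, -2, -2, -2, 0, 0, 0, -2, -2, 0, 0, 0, 0, 0, 0, 0, 0, 0, 0, 0, -2, 0, 2]]

/-- coordinates of the standard vectors -/
def mclCert : List (ℤ × List ℤ) := [
  (1, [1, 0, 1, -1, 0, 0, 0, 0, 0, 0, 0, 0, 0, 0, 0, 0, 0, 0, 0, 0, 0, 0, 0, 0]),
  (1, [-1, 0, 1, 1, 0, 0, 0, 0, 0, 0, 0, 0, 0, 0, 0, 0, 0, 0, 0, 0, 0, 0, 0, 0]),
  (3, [1, 0, -5, -5, -6, 4, -2, -2, 4, 4, 0, 0, 6, 0, 0, -6, 0, 6, 0, 0, 0, 0, 0, 0]),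
  (3, [1, 0, 1, 1, 0, -2, -2, -2, -2, 4, 0, 0, 0, 0, 0, 0, 0, 0, 0, 0, 0, 0, 0, 0]),
  (3, [1, 0, 1, 1, 0, 4, 4, -8, 4, 4, 0, -6, 6, -6, -6, 0, 0, 0, 0, 0, 0, 0, 0, 0]),
  (3, [1, 0, 1, 1, 0, -2, -2, 4, -2, -2, 0, 0, -6, 0, 6, 0, 0, 0, 0, 0, 0, 0, 0, 0]),
  (3, [1, 0, 1, 1, 0, -2, -2, -2, 4, -2, 0, 0, 0, 0, 0, 0, 0, 0, 0, 0, 0, 0, 0, 0]),
  (3, [1, 0, 1, 1, 0, -2, -2, 4, -2, -2, 0, 0, -6, 6, 0, 0, 0, 0, 0, 0, 0, 0, 0, 0]),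
  (3, [1, 0, 1, 1, 0, -2, -2, 4, -2, -2, 0, 0, 0, 0, 0, 0, 0, 0, 0, 0, 0, 0, 0, 0]),
  (3, [1, 0, 1, 1, 0, -2, -2, 10, -8, -2, 0, 6, -6, 6, 6, 0, 0, 0, -6, -6, 0, 0, 0, 0]),
  (3, [1, 0, 1, 1, 0, -2, 4, -2, -2, -2, 0, 0, 0, 0, 0, 0, 0, 0, 0, 0, 0, 0, 0, 0]),
  (3, [1, 0, 1, 1, -6, -2, -2, 10, -8, -2, 0, 6, -6, 6, 0, 6, 0, -6, 0, 0, 0, 0, 0, 0]),
  (3, [1, 0, -5, -5, 0, 4, 4, -14, 16, 4, -6, -12, 12, -6, -6, 0, -6, 6, 6, 6, 0, 0, 0, 0]),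
  (3, [1, 0, 1, 1, 0, 4, -2, -2, -2, -2, 0, 0, 0, 0, 0, 0, 0, 0, 0, 0, 0, 0, 0, 0]),
  (3, [1, 0, 1, 1, 6, 4, -2, -2, 4, -2, -6, 0, 0, -6, 0, -6, 6, 0, 0, 0, 0, 0, 0, 0]),
  (3, [1, 0, 1, 1, 0, -2, -2, 4, -2, -2, 0, 6, -6, 0, 0, 0, 0, 0, 0, 0, 0, 0, 0, 0]),
  (3, [1, 0, 1, 1, 0, -2, 4, -2, -2, 4, 6, 0, 0, 0, 0, 0, -6, -6, 0, 0, 0, 0, 0, 0]),
  (3, [1, 0, -5, -5, 0, 4, 4, -14, 16, 4, -6, -12, 12, -6, -6, 0, -6, 6, 12, 0, 0, 0, 0, 0]),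
  (3, [1, 0, -11, -11, -12, 4, -2, -2, 10, 4, -6, -6, 12, 0, -6, 0, -6, 6, 6, 6, 12, 0, 0, 0]),
  (3, [1, 0, -5, -5, 0, -2, -2, -2, 10, 4, 0, 0, 6, -6, 0, 0, 0, 0, 6, 6, 0, -12, 0, 0]),
  (3, [1, 0, -5, -5, 6, 10, 10, -26, 16, 10, 0, -12, 18, -18, -6, -6, 0, 6, 6, 6, 0, 0, -12, 0]),
  (3, [1, 0, 1, 1, 6, -2, 4, -2, 4, -8, 0, 0, -6, 0, 0, 6, 0, -6, 6, 6, 0, 0, 0, -12]),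
  (3, [-35, -24, 31, 31, 6, -14, -8, 46, -56, -14, 18, 30, -36, 30, 18, 6, 18, -12, -36, -24, -12, 12, 12, 12]),
  (1, [1, 0, -1, 1, 0, 0, 0, 0, 0, 0, 0, 0, 0, 0, 0, 0, 0, 0, 0, 0, 0, 0, 0, 0])]

/-- spanning vectors -/
def co2Span : List (List ℤ) := [
  [4, 0, 0, 0, 0, 0, 0, 0, 0, 0, 0, 0, 0, 0, 0, 0, 0, 0, 0, 0, 0, 0, 0, 4],
  [-1, 3, -1, -1, -1, 1, 1, -1, 1, 1, -1, 1, -1, 1, 1, 1, 1, 1, 1, 1, 1, 1, 1, 1],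
  [4, 0, 0, 0, 0, 0, 0, 0, 0, 0, 0, 0, 0, 0, 0, 0, 0, 0, 0, 0, 0, 0, 0, -4],
  [0, 4, 4, 0, 0, 0, 0, 0, 0, 0, 0, 0, 0, 0, 0, 0, 0, 0, 0, 0, 0, 0, 0, 0],
  [0, 4, -4, 0, 0, 0, 0, 0, 0, 0, 0, 0, 0, 0, 0, 0, 0, 0, 0, 0, 0, 0, 0, 0],
  [0, 4, 0, 4, 0, 0, 0, 0, 0, 0, 0, 0, 0, 0, 0, 0, 0, 0, 0, 0, 0, 0, 0, 0],
  [0, 4, 0, 0, 4, 0, 0, 0, 0, 0, 0, 0, 0, 0, 0, 0, 0, 0, 0, 0, 0, 0, 0, 0],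
  [0, 4, 0, 0, 0, 4, 0, 0, 0, 0, 0, 0, 0, 0, 0, 0, 0, 0, 0, 0, 0, 0, 0, 0],
  [0, 4, 0, 0, 0, 0, 4, 0, 0, 0, 0, 0, 0, 0, 0, 0, 0, 0, 0, 0, 0, 0, 0, 0],
  [0, 4, 0, 0, 0, 0, 0, 4, 0, 0, 0, 0, 0, 0, 0, 0, 0, 0, 0, 0, 0, 0, 0, 0],
  [0, 4, 0, 0, 0, 0, 0, 0, 4, 0, 0, 0, 0, 0, 0, 0, 0, 0, 0, 0, 0, 0, 0, 0],
  [0, 4, 0, 0, 0, 0, 0, 0, 0, 4, 0, 0, 0, 0, 0, 0, 0, 0, 0, 0, 0, 0, 0, 0],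
  [0, 4, 0, 0, 0, 0, 0, 0, 0, 0, 4, 0, 0, 0, 0, 0, 0, 0, 0, 0, 0, 0, 0, 0],
  [0, 4, 0, 0, 0, 0, 0, 0, 0, 0, 0, 4, 0, 0, 0, 0, 0, 0, 0, 0, 0, 0, 0, 0],
  [0, 4, 0, 0, 0, 0, 0, 0, 0, 0, 0, 0, 4, 0, 0, 0, 0, 0, 0, 0, 0, 0, 0, 0],
  [0, 4, 0, 0, 0, 0, 0, 0, 0, 0, 0, 0, 0, 4, 0, 0, 0, 0, 0, 0, 0, 0, 0, 0],
  [0, 4, 0, 0, 0, 0, 0, 0, 0, 0, 0, 0, 0, 0, 4, 0, 0, 0, 0, 0, 0, 0, 0, 0],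
  [0, 4, 0, 0, 0, 0, 0, 0, 0, 0, 0, 0, 0, 0, 0, 4, 0, 0, 0, 0, 0, 0, 0, 0],
  [0, 4, 0, 0, 0, 0, 0, 0, 0, 0, 0, 0, 0, 0, 0, 0, 4, 0, 0, 0, 0, 0, 0, 0],
  [0, 4, 0, 0, 0, 0, 0, 0, 0, 0, 0, 0, 0, 0, 0, 0, 0, 4, 0, 0, 0, 0, 0, 0],
  [0, 4, 0, 0, 0, 0, 0, 0, 0, 0, 0, 0, 0, 0, 0, 0, 0, 0, 4, 0, 0, 0, 0, 0],
  [0, 4, 0, 0, 0, 0, 0, 0, 0, 0, 0, 0, 0, 0, 0, 0, 0, 0, 0, 4, 0, 0, 0, 0],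
  [0, 4, 0, 0, 0, 0, 0, 0, 0, 0, 0, 0, 0, 0, 0, 0, 0, 0, 0, 0, 4, 0, 0, 0],
  [0, 4, 0, 0, 0, 0, 0, 0, 0, 0, 0, 0, 0, 0, 0, 0, 0, 0, 0, 0, 0, 4, 0, 0]]

/-- coordinates of the standard vectors -/
def co2Cert : List (ℤ × List ℤ) := [
  (1, [1, 0, 1, 0, 0, 0, 0, 0, 0, 0, 0, 0, 0, 0, 0, 0, 0, 0, 0, 0, 0, 0, 0, 0]),
  (1, [0, 0, 0, 1, 1, 0, 0, 0, 0, 0, 0, 0, 0, 0, 0, 0, 0, 0, 0, 0, 0, 0, 0, 0]),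
  (1, [0, 0, 0, 1, -1, 0, 0, 0, 0, 0, 0, 0, 0, 0, 0, 0, 0, 0, 0, 0, 0, 0, 0, 0]),
  (1, [0, 0, 0, -1, -1, 2, 0, 0, 0, 0, 0, 0, 0, 0, 0, 0, 0, 0, 0, 0, 0, 0, 0, 0]),
  (1, [0, 0, 0, -1, -1, 0, 2, 0, 0, 0, 0, 0, 0, 0, 0, 0, 0, 0, 0, 0, 0, 0, 0, 0]),
  (1, [0, 0, 0, -1, -1, 0, 0, 2, 0, 0, 0, 0, 0, 0, 0, 0, 0, 0, 0, 0, 0, 0, 0, 0]),
  (1, [0, 0, 0, -1, -1, 0, 0, 0, 2, 0, 0, 0, 0, 0, 0, 0, 0, 0, 0, 0, 0, 0, 0, 0]),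
  (1, [0, 0, 0, -1, -1, 0, 0, 0, 0, 2, 0, 0, 0, 0, 0, 0, 0, 0, 0, 0, 0, 0, 0, 0]),
  (1, [0, 0, 0, -1, -1, 0, 0, 0, 0, 0, 2, 0, 0, 0, 0, 0, 0, 0, 0, 0, 0, 0, 0, 0]),
  (1, [0, 0, 0, -1, -1, 0, 0, 0, 0, 0, 0, 2, 0, 0, 0, 0, 0, 0, 0, 0, 0, 0, 0, 0]),
  (1, [0, 0, 0, -1, -1, 0, 0, 0, 0, 0, 0, 0, 2, 0, 0, 0, 0, 0, 0, 0, 0, 0, 0, 0]),
  (1, [0, 0, 0, -1, -1, 0, 0, 0, 0, 0, 0, 0, 0, 2, 0, 0, 0, 0, 0, 0, 0, 0, 0, 0]),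
  (1, [0, 0, 0, -1, -1, 0, 0, 0, 0, 0, 0, 0, 0, 0, 2, 0, 0, 0, 0, 0, 0, 0, 0, 0]),
  (1, [0, 0, 0, -1, -1, 0, 0, 0, 0, 0, 0, 0, 0, 0, 0, 2, 0, 0, 0, 0, 0, 0, 0, 0]),
  (1, [0, 0, 0, -1, -1, 0, 0, 0, 0, 0, 0, 0, 0, 0, 0, 0, 2, 0, 0, 0, 0, 0, 0, 0]),
  (1, [0, 0, 0, -1, -1, 0, 0, 0, 0, 0, 0, 0, 0, 0, 0, 0, 0, 2, 0, 0, 0, 0, 0, 0]),
  (1, [0, 0, 0, -1, -1, 0, 0, 0, 0, 0, 0, 0, 0, 0, 0, 0, 0, 0, 2, 0, 0, 0, 0, 0]),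
  (1, [0, 0, 0, -1, -1, 0, 0, 0, 0, 0, 0, 0, 0, 0, 0, 0, 0, 0, 0, 2, 0, 0, 0, 0]),
  (1, [0, 0, 0, -1, -1, 0, 0, 0, 0, 0, 0, 0, 0, 0, 0, 0, 0, 0, 0, 0, 2, 0, 0, 0]),
  (1, [0, 0, 0, -1, -1, 0, 0, 0, 0, 0, 0, 0, 0, 0, 0, 0, 0, 0, 0, 0, 0, 2, 0, 0]),
  (1, [0, 0, 0, -1, -1, 0, 0, 0, 0, 0, 0, 0, 0, 0, 0, 0, 0, 0, 0, 0, 0, 0, 2, 0]),
  (1, [0, 0, 0, -1, -1, 0, 0, 0, 0, 0, 0, 0, 0, 0, 0, 0, 0, 0, 0, 0, 0, 0, 0, 2]),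
  (1, [0, 8, 2, 7, 5, 2, 2, -2, -2, 2, -2, -2, 2, -2, 2, -2, -2, -2, -2, -2, -2, -2, -2, -2]),
  (1, [1, 0, -1, 0, 0, 0, 0, 0, 0, 0, 0, 0, 0, 0, 0, 0, 0, 0, 0, 0, 0, 0, 0, 0])]

theorem mcl_ok : spanOK mclSpan mclCert := by
  refine ⟨?_, ?_⟩ <;> decide +kernel

theorem co2_ok : spanOK co2Span co2Cert := by
  refine ⟨?_, ?_⟩ <;> decide +kernel

end CfsgLib.Spor.ConwaySpan
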