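import Cfsg.Agent.Lib.Spor.HSPair

/-!
The configurations related to the Higman-Sims group: 11178 short vectors against a norm 48 vector,
the 100 between two norm 48 vectors, and a fixed point free involution on those.
-/

set_option autoImplicit false
set_option Elab.async false
set_option maxRecDepth 100000
set_option maxHeartbeats 0

namespace CfsgLib.Spor.HSConfig

open Cfsg
open CfsgLib.Spor
open CfsgLib.Spor.Config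

/-- an involution -/
def hsInvo : List Stp :=
  [.mono 852481606344333691452652842658060364 9934559, .xi, .mono 797406130324642531297993889944713317 9268876, .xi, .mono 672932690829408042839108325690037792 6984989, .mono 959936633408132892010523614937951424 0, .mono 852481606344333691452652842658060364 9934559, .xi, .mono 797406130324642531297993889944713317 9268876, .xi, .mono 672932690829408042839108325690037792 6984989, .mono 959936633408132892010523614937951424 0, .mono 852481606344333691452652842658060364 9934559, .xi, .mono 797406130324642531297993889944713317 9268876, .xi, .mono 672932690829408042839108325690037792 6984989, .mono 959936633408132892010523614937951424 0]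

/-- the 100 points -/
def hsList : List (List ℤ) := [
  [-4, 0, 0, 0, 0, 0, 0, 0, 0, 0, 0, 0, 0, 0, 0, 0, 0, 0, 0, 0, 0, 0, 0, -4],
  [-2, 0, -2, 0, -2, -2, -2, 0, 0, 0, -2, -2, 0, 0, 0, 0, 0, 0, 0, 0, 0, 0, 0, -2],
  [-2, -2, 0, -2, 0, 0, -2, 0, -2, 0, -2, 0, 0, -2, 0, 0, 0, 0, 0, 0, 0, 0, 0, -2],
  [-2, 0, 0, -2, 0, 0, 0, 0, 0, -2, -2, -2, -2, 0, -2, 0, 0, 0, 0, 0, 0, 0, 0, -2],
  [-2, -2, 0, 0, -2, -2, 0, -2, -2, 0, 0, 0, 0, 0, 0, -2, 0, 0, 0, 0, 0, 0, 0, -2],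
  [-2, 0, -2, -2, 0, 0, 0, -2, 0, 0, 0, -2, 0, -2, 0, -2, 0, 0, 0, 0, 0, 0, 0, -2],
  [-2, 0, -2, 0, 0, 0, 0, -2, -2, 0, -2, 0, 0, 0, -2, 0, -2, 0, 0, 0, 0, 0, 0, -2],
  [-2, 0, 0, 0, 0, 0, 0, 0, -2, -2, 0, 0, -2, -2, 0, -2, -2, 0, 0, 0, 0, 0, 0, -2],
  [-2, -2, 0, 0, 0, 0, -2, 0, 0, 0, 0, -2, 0, 0, -2, -2, -2, 0, 0, 0, 0, 0, 0, -2],
  [-2, -2, 0, 0, -2, 0, -2, 0, 0, -2, 0, 0, -2, 0, 0, 0, 0, -2, 0, 0, 0, 0, 0, -2],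
  [-2, -2, -2, -2, 0, -2, 0, 0, 0, 0, 0, 0, 0, 0, -2, 0, 0, -2, 0, 0, 0, 0, 0, -2],
  [-2, 0, 0, 0, -2, 0, 0, 0, -2, 0, 0, -2, 0, -2, -2, 0, 0, -2, 0, 0, 0, 0, 0, -2],
  [-2, 0, 0, 0, 0, -2, -2, -2, 0, 0, 0, 0, 0, -2, 0, 0, -2, -2, 0, 0, 0, 0, 0, -2],
  [-2, 0, 0, -2, -2, 0, 0, 0, 0, 0, -2, 0, 0, 0, 0, -2, -2, -2, 0, 0, 0, 0, 0, -2],
  [-2, -2, -2, 0, 0, 0, 0, 0, -2, 0, 0, -2, -2, 0, 0, 0, 0, 0, -2, 0, 0, 0, 0, -2],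
  [-2, 0, 0, -2, -2, -2, 0, 0, 0, 0, 0, 0, -2, -2, 0, 0, 0, 0, -2, 0, 0, 0, 0, -2],
  [-2, 0, -2, 0, 0, 0, -2, 0, 0, -2, 0, 0, 0, -2, -2, 0, 0, 0, -2, 0, 0, 0, 0, -2],
  [-2, 0, 0, 0, 0, 0, -2, -2, 0, 0, -2, 0, -2, 0, 0, -2, 0, 0, -2, 0, 0, 0, 0, -2],
  [-2, -2, 0, -2, 0, 0, 0, -2, 0, -2, 0, 0, 0, 0, 0, 0, -2, 0, -2, 0, 0, 0, 0, -2],
  [-2, 0, 0, 0, 0, -2, 0, 0, -2, -2, -2, 0, 0, 0, 0, 0, 0, -2, -2, 0, 0, 0, 0, -2],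
  [-2, 0, 0, 0, -2, 0, 0, -2, 0, -2, -2, 0, 0, -2, 0, 0, 0, 0, 0, -2, 0, 0, 0, -2],
  [-2, 0, 0, -2, 0, -2, -2, 0, 0, -2, 0, 0, 0, 0, 0, -2, 0, 0, 0, -2, 0, 0, 0, -2],
  [-2, 0, -2, 0, -2, 0, 0, 0, 0, 0, 0, 0, -2, 0, -2, -2, 0, 0, 0, -2, 0, 0, 0, -2],
  [-2, -2, 0, 0, 0, -2, 0, 0, 0, 0, -2, 0, -2, 0, 0, 0, -2, 0, 0, -2, 0, 0, 0, -2],
  [-2, 0, 0, -2, 0, 0, 0, -2, -2, 0, 0, 0, -2, 0, 0, 0, 0, -2, 0, -2, 0, 0, 0, -2],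
  [-2, 0, -2, 0, 0, 0, 0, 0, 0, -2, 0, -2, 0, 0, 0, 0, -2, -2, 0, -2, 0, 0, 0, -2],
  [-2, 0, 0, 0, 0, -2, 0, -2, 0, 0, 0, -2, 0, 0, -2, 0, 0, 0, -2, -2, 0, 0, 0, -2],
  [-2, 0, 0, 0, -2, 0, -2, 0, -2, 0, 0, 0, 0, 0, 0, 0, -2, 0, -2, -2, 0, 0, 0, -2],
  [-2, -2, 0, 0, 0, 0, 0, 0, 0, 0, 0, 0, 0, -2, 0, -2, 0, -2, -2, -2, 0, 0, 0, -2],
  [-2, 0, 0, 0, 0, 0, -2, -2, -2, -2, 0, -2, 0, 0, 0, 0, 0, 0, 0, 0, -2, 0, 0, -2],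
  [-2, -2, 0, 0, 0, 0, 0, -2, 0, 0, 0, 0, -2, -2, -2, 0, 0, 0, 0, 0, -2, 0, 0, -2],
  [-2, -2, -2, 0, 0, 0, 0, 0, 0, -2, -2, 0, 0, 0, 0, -2, 0, 0, 0, 0, -2, 0, 0, -2],
  [-2, 0, -2, -2, 0, 0, -2, 0, 0, 0, 0, 0, -2, 0, 0, 0, -2, 0, 0, 0, -2, 0, 0, -2],
  [-2, 0, 0, 0, -2, -2, 0, 0, 0, -2, 0, 0, 0, 0, -2, 0, -2, 0, 0, 0, -2, 0, 0, -2],
  [-2, 0, 0, 0, 0, -2, 0, 0, 0, 0, 0, -2, -2, 0, 0, -2, 0, -2, 0, 0, -2, 0, 0, -2],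
  [-2, 0, 0, -2, 0, 0, 0, 0, -2, 0, 0, 0, 0, 0, -2, -2, 0, 0, -2, 0, -2, 0, 0, -2],
  [-2, 0, 0, 0, 0, 0, 0, 0, 0, 0, -2, -2, 0, -2, 0, 0, -2, 0, -2, 0, -2, 0, 0, -2],
  [-2, 0, -2, 0, -2, 0, 0, -2, 0, 0, 0, 0, 0, 0, 0, 0, 0, -2, -2, 0, -2, 0, 0, -2],
  [-2, -2, 0, -2, -2, 0, 0, 0, 0, 0, 0, -2, 0, 0, 0, 0, 0, 0, 0, -2, -2, 0, 0, -2],
  [-2, 0, -2, 0, 0, -2, 0, 0, -2, 0, 0, 0, 0, -2, 0, 0, 0, 0, 0, -2, -2, 0, 0, -2],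
  [-2, 0, 0, 0, 0, 0, -2, 0, 0, 0, -2, 0, 0, 0, -2, 0, 0, -2, 0, -2, -2, 0, 0, -2],
  [-2, 0, -2, -2, -2, 0, 0, 0, -2, -2, 0, 0, 0, 0, 0, 0, 0, 0, 0, 0, 0, -2, 0, -2],
  [-2, -2, 0, 0, 0, -2, 0, 0, 0, -2, 0, -2, 0, -2, 0, 0, 0, 0, 0, 0, 0, -2, 0, -2],
  [-2, 0, 0, 0, 0, -2, -2, 0, -2, 0, 0, 0, -2, 0, -2, 0, 0, 0, 0, 0, 0, -2, 0, -2],
  [-2, 0, 0, 0, -2, 0, 0, -2, 0, 0, 0, -2, -2, 0, 0, 0, -2, 0, 0, 0, 0, -2, 0, -2],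
  [-2, 0, -2, 0, 0, 0, 0, 0, 0, 0, -2, 0, -2, -2, 0, 0, 0, -2, 0, 0, 0, -2, 0, -2],
  [-2, 0, 0, 0, 0, 0, 0, -2, 0, -2, 0, 0, 0, 0, -2, -2, 0, -2, 0, 0, 0, -2, 0, -2],
  [-2, -2, 0, 0, -2, 0, 0, 0, 0, 0, -2, 0, 0, 0, -2, 0, 0, 0, -2, 0, 0, -2, 0, -2],
  [-2, 0, -2, 0, 0, -2, 0, 0, 0, 0, 0, 0, 0, 0, 0, -2, -2, 0, -2, 0, 0, -2, 0, -2],
  [-2, 0, 0, -2, 0, 0, -2, 0, 0, 0, 0, -2, 0, 0, 0, 0, 0, -2, -2, 0, 0, -2, 0, -2],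
  [-2, -2, -2, 0, 0, 0, -2, -2, 0, 0, 0, 0, 0, 0, 0, 0, 0, 0, 0, -2, 0, -2, 0, -2],
  [-2, 0, 0, 0, 0, 0, 0, 0, -2, 0, -2, -2, 0, 0, 0, -2, 0, 0, 0, -2, 0, -2, 0, -2],
  [-2, 0, 0, -2, 0, 0, 0, 0, 0, 0, 0, 0, 0, -2, -2, 0, -2, 0, 0, -2, 0, -2, 0, -2],
  [-2, 0, 0, -2, 0, -2, 0, -2, 0, 0, -2, 0, 0, 0, 0, 0, 0, 0, 0, 0, -2, -2, 0, -2],
  [-2, 0, 0, 0, -2, 0, -2, 0, 0, 0, 0, 0, 0, -2, 0, -2, 0, 0, 0, 0, -2, -2, 0, -2],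
  [-2, -2, 0, 0, 0, 0, 0, 0, -2, 0, 0, 0, 0, 0, 0, 0, -2, -2, 0, 0, -2, -2, 0, -2],
  [-2, 0, 0, 0, 0, 0, 0, 0, 0, -2, 0, 0, -2, 0, 0, 0, 0, 0, -2, -2, -2, -2, 0, -2],
  [-2, 0, -2, 0, 0, -2, 0, -2, 0, -2, 0, 0, -2, 0, 0, 0, 0, 0, 0, 0, 0, 0, -2, -2],
  [-2, 0, 0, -2, -2, 0, -2, -2, 0, 0, 0, 0, 0, 0, -2, 0, 0, 0, 0, 0, 0, 0, -2, -2],
  [-2, 0, 0, 0, 0, -2, 0, 0, 0, 0, -2, 0, 0, -2, -2, -2, 0, 0, 0, 0, 0, 0, -2, -2],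
  [-2, 0, 0, -2, 0, -2, 0, 0, -2, 0, 0, -2, 0, 0, 0, 0, -2, 0, 0, 0, 0, 0, -2, -2],
  [-2, -2, -2, 0, -2, 0, 0, 0, 0, 0, 0, 0, 0, -2, 0, 0, -2, 0, 0, 0, 0, 0, -2, -2],
  [-2, -2, 0, 0, 0, 0, 0, -2, 0, 0, -2, -2, 0, 0, 0, 0, 0, -2, 0, 0, 0, 0, -2, -2],
  [-2, 0, -2, 0, 0, 0, -2, 0, -2, 0, 0, 0, 0, 0, 0, -2, 0, -2, 0, 0, 0, 0, -2, -2],
  [-2, 0, 0, 0, -2, 0, 0, 0, 0, -2, 0, -2, 0, 0, 0, -2, 0, 0, -2, 0, 0, 0, -2, -2],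
  [-2, 0, 0, 0, 0, 0, 0, 0, 0, 0, 0, 0, -2, 0, -2, 0, -2, -2, -2, 0, 0, 0, -2, -2],
  [-2, 0, 0, 0, 0, 0, -2, 0, 0, 0, 0, -2, -2, -2, 0, 0, 0, 0, 0, -2, 0, 0, -2, -2],
  [-2, -2, 0, 0, 0, 0, 0, 0, -2, -2, 0, 0, 0, 0, -2, 0, 0, 0, 0, -2, 0, 0, -2, -2],
  [-2, 0, -2, -2, 0, 0, 0, 0, 0, 0, -2, 0, 0, 0, 0, 0, 0, 0, -2, -2, 0, 0, -2, -2],
  [-2, 0, 0, 0, -2, 0, 0, 0, -2, 0, -2, 0, -2, 0, 0, 0, 0, 0, 0, 0, -2, 0, -2, -2],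
  [-2, 0, 0, -2, 0, 0, 0, 0, 0, -2, 0, 0, 0, -2, 0, 0, 0, -2, 0, 0, -2, 0, -2, -2],
  [-2, -2, 0, 0, 0, -2, -2, 0, 0, 0, 0, 0, 0, 0, 0, 0, 0, 0, -2, 0, -2, 0, -2, -2],
  [-2, 0, 0, 0, 0, 0, 0, -2, 0, 0, 0, 0, 0, 0, 0, -2, -2, 0, 0, -2, -2, 0, -2, -2],
  [-2, -2, 0, -2, 0, 0, 0, 0, 0, 0, 0, 0, -2, 0, 0, -2, 0, 0, 0, 0, 0, -2, -2, -2],
  [-2, 0, 0, 0, 0, 0, -2, 0, 0, -2, -2, 0, 0, 0, 0, 0, -2, 0, 0, 0, 0, -2, -2, -2],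
  [-2, 0, 0, 0, 0, 0, 0, -2, -2, 0, 0, 0, 0, -2, 0, 0, 0, 0, -2, 0, 0, -2, -2, -2],
  [-2, 0, 0, 0, -2, -2, 0, 0, 0, 0, 0, 0, 0, 0, 0, 0, 0, -2, 0, -2, 0, -2, -2, -2],
  [-2, 0, -2, 0, 0, 0, 0, 0, 0, 0, 0, -2, 0, 0, -2, 0, 0, 0, 0, 0, -2, -2, -2, -2],
  [-1, 3, -1, -1, -1, -1, -1, -1, -1, -1, -1, -1, -1, -1, -1, -1, -1, -1, -1, -1, -1, -1, -1, -1],
  [-1, -1, 3, -1, -1, -1, -1, -1, -1, -1, -1, -1, -1, -1, -1, -1, -1, -1, -1, -1, -1, -1, -1, -1],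
  [-1, -1, -1, 3, -1, -1, -1, -1, -1, -1, -1, -1, -1, -1, -1, -1, -1, -1, -1, -1, -1, -1, -1, -1],
  [-1, -1, -1, -1, 3, -1, -1, -1, -1, -1, -1, -1, -1, -1, -1, -1, -1, -1, -1, -1, -1, -1, -1, -1],
  [-1, -1, -1, -1, -1, 3, -1, -1, -1, -1, -1, -1, -1, -1, -1, -1, -1, -1, -1, -1, -1, -1, -1, -1],
  [-1, -1, -1, -1, -1, -1, 3, -1, -1, -1, -1, -1, -1, -1, -1, -1, -1, -1, -1, -1, -1, -1, -1, -1],
  [-1, -1, -1, -1, -1, -1, -1, 3, -1, -1, -1, -1, -1, -1, -1, -1, -1, -1, -1, -1, -1, -1, -1, -1],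
  [-1, -1, -1, -1, -1, -1, -1, -1, 3, -1, -1, -1, -1, -1, -1, -1, -1, -1, -1, -1, -1, -1, -1, -1],
  [-1, -1, -1, -1, -1, -1, -1, -1, -1, 3, -1, -1, -1, -1, -1, -1, -1, -1, -1, -1, -1, -1, -1, -1],
  [-1, -1, -1, -1, -1, -1, -1, -1, -1, -1, 3, -1, -1, -1, -1, -1, -1, -1, -1, -1, -1, -1, -1, -1],
  [-1, -1, -1, -1, -1, -1, -1, -1, -1, -1, -1, 3, -1, -1, -1, -1, -1, -1, -1, -1, -1, -1, -1, -1],
  [-1, -1, -1, -1, -1, -1, -1, -1, -1, -1, -1, -1, 3, -1, -1, -1, -1, -1, -1, -1, -1, -1, -1, -1],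
  [-1, -1, -1, -1, -1, -1, -1, -1, -1, -1, -1, -1, -1, 3, -1, -1, -1, -1, -1, -1, -1, -1, -1, -1],
  [-1, -1, -1, -1, -1, -1, -1, -1, -1, -1, -1, -1, -1, -1, 3, -1, -1, -1, -1, -1, -1, -1, -1, -1],
  [-1, -1, -1, -1, -1, -1, -1, -1, -1, -1, -1, -1, -1, -1, -1, 3, -1, -1, -1, -1, -1, -1, -1, -1],
  [-1, -1, -1, -1, -1, -1, -1, -1, -1, -1, -1, -1, -1, -1, -1, -1, 3, -1, -1, -1, -1, -1, -1, -1],
  [-1, -1, -1, -1, -1, -1, -1, -1, -1, -1, -1, -1, -1, -1, -1, -1, -1, 3, -1, -1, -1, -1, -1, -1],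
  [-1, -1, -1, -1, -1, -1, -1, -1, -1, -1, -1, -1, -1, -1, -1, -1, -1, -1, 3, -1, -1, -1, -1, -1],
  [-1, -1, -1, -1, -1, -1, -1, -1, -1, -1, -1, -1, -1, -1, -1, -1, -1, -1, -1, 3, -1, -1, -1, -1],
  [-1, -1, -1, -1, -1, -1, -1, -1, -1, -1, -1, -1, -1, -1, -1, -1, -1, -1, -1, -1, 3, -1, -1, -1],
  [-1, -1, -1, -1, -1, -1, -1, -1, -1, -1, -1, -1, -1, -1, -1, -1, -1, -1, -1, -1, -1, 3, -1, -1],
  [-1, -1, -1, -1, -1, -1, -1, -1, -1, -1, -1, -1, -1, -1, -1, -1, -1, -1, -1, -1, -1, -1, 3, -1]]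

/-! ### A fixed point free involution -/

/-- coordinates of `8 eᵢ` -/
def bigL (i : ℕ) : List ℤ := (List.range 24).map fun j => if j = i then 8 else 0

theorem lOf_bigE_eq : ∀ p : GolayPt,
    lOf ((CfsgLib.ThreeTransp.CoReduce.bigE p : leechLattice) : GolayPt → ℤ) = bigL (idx p) := by
  decide +kernel

/-- code of a coordinate list -/
def encL (l : List ℤ) : ℕ := packW (fun i => (l.getD i 0 + 128).toNat) 24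

theorem encV_eq_encL (x : GolayPt → ℤ) : encV x = encL (lOf x) :=
  packW_congr fun i hi => by rw [lOf_getD _ hi]

theorem encV_inj {x y : GolayPt → ℤ} (hx : Small x) (hy : Small y) (h : encV x = encV y) : x = y :=
  funext fun p => by
    have h1 := coordN_encV hx (idx_lt p)
    have h2 := coordN_encV hy (idx_lt p)
    rw [pt_idx] at h1 h2
    rw [h] at h1
    omega

theorem invo_sq : ∀ i < 24, runN hsInvo (runN hsInvo (encL (bigL i))) = encL (bigL i) := by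
  decide +kernel

theorem hsList_check : (hsList.all fun l => decide (l.length = 24) && inLeechB l &&
    decide (dotL l l = 32) && decide (dotL (lOf (bigV : GolayPt → ℤ)) l = 24) &&
    decide (dotL (lOf (bigW : GolayPt → ℤ)) l = -24) && !Nat.beq (runN hsInvo (encL l)) (encL l)) = true := by
  decide +kernel

theorem hsList_spec : ∀ l ∈ hsList, inLeechB (lOf (vOf l)) = true ∧ lOf (vOf l) = l ∧
    sqNorm (vOf l) = 32 ∧ dotInt (bigV : GolayPt → ℤ) (vOf l) = 24 ∧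
    dotInt (bigW : GolayPt → ℤ) (vOf l) = -24 ∧ runN hsInvo (encL l) ≠ encL l := by
  intro l hl
  have h := List.all_eq_true.1 hsList_check l hl
  simp only [Bool.and_eq_true, decide_eq_true_eq, Bool.not_eq_true'] at h
  obtain ⟨⟨⟨⟨⟨h0, h1⟩, h2⟩, h3⟩, h4⟩, h5⟩ := h
  have h5' : runN hsInvo (encL l) ≠ encL l := fun he => by
    rw [← Nat.beq_eq] at he; rw [he] at h5; exact Bool.noConfusion h5
  have e := lOf_vOf h0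
  refine ⟨by rw [e, h1], e, ?_, ?_, ?_, h5'⟩
  · rw [← dot_self, dotInt_eq_dotL, e, h2]
  · rw [dotInt_eq_dotL, e, h3]
  · rw [dotInt_eq_dotL, e, h4]

theorem hsList_nodup : hsList.Nodup := by decide +kernel

theorem hsList_length : hsList.length = 100 := by decide +kernel

theorem mem_hsList {x : leechLattice} (hx : x ∈ cfgSet [(bigV, 24), (bigW, -24)]) :
    lOf (x : GolayPt → ℤ) ∈ hsList := by
  classical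
  have hsub : (↑hsList.toFinset : Set (List ℤ)) ⊆
      (fun y : leechLattice => lOf (y : GolayPt → ℤ)) '' cfgSet [(bigV, 24), (bigW, -24)] := by
    intro l hl
    obtain ⟨h1, h2, h3, h4, h5, -⟩ := hsList_spec l (List.mem_toFinset.1 hl)
    exact ⟨⟨vOf l, mem_leech_of_inLeechB h1⟩, mem_cfgSet_two.2 ⟨h3, h4, h5⟩, h2⟩
  have hinj : Function.Injective fun y : leechLattice => lOf (y : GolayPt → ℤ) :=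
    fun a b h => Subtype.ext (lOf_inj h)
  have e := Set.eq_of_subset_of_ncard_le hsub (by
    rw [Set.ncard_image_of_injective _ hinj, ncard_100, Set.ncard_coe_finset,
      List.toFinset_card_of_nodup hsList_nodup, hsList_length]) ((cfgSet_finite _).image _)
  exact List.mem_toFinset.1 (Finset.mem_coe.1 (e ▸ ⟨x, hx, rfl⟩))

theorem invo_ok : hsInvo.all Stp.ok = true := by decide +kernel

theorem no_fixed_100 (g : Co0) (hg : ActsAs g (runP hsInvo)) :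
    ∀ x ∈ cfgSet [(bigV, 24), (bigW, -24)], g • x ≠ x := fun x hx h =>
  (hsList_spec _ (mem_hsList hx)).2.2.2.2.2 (by
    rw [← encV_eq_encL, runN_spec invo_ok hg (le_of_eq_of_le hx.1 (by norm_num)), h])

/-- An involution of the stabiliser without fixed points among the 100. -/
theorem exists_invo : ∃ g : Co0, g ∈ pairStab ∧ orderOf g = 2 ∧
    ∀ x ∈ cfgSet [(bigV, 24), (bigW, -24)], g • x ≠ x := by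
  obtain ⟨hok, g, hg, hfix⟩ := exists_gen_of_fixesB (gs := [hsInvo])
    (cfg := [lOf (bigV : GolayPt → ℤ), lOf (bigW : GolayPt → ℤ)]) (P := hsInvo)
    (by decide +kernel) (by simp)
  refine ⟨g, ⟨MulAction.mem_stabilizer_iff.2 (hfix bigV (by simp)),
    MulAction.mem_stabilizer_iff.2 (hfix bigW (by simp))⟩, ?_, ?_⟩
  · refine orderOf_eq_prime (co0_ext fun i => Subtype.ext ?_) ?_
    · have hn : ∀ k : Co0, sqNorm ((k • CfsgLib.ThreeTransp.CoReduce.bigE i : leechLattice) :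
          GolayPt → ℤ) ≤ 64 := fun k => le_of_eq ((coe_smul_sqNorm k _).trans (sqNorm_bigE i))
      refine encV_inj (small_of_sqNorm (hn _)) (small_of_sqNorm (hn _)) ?_
      rw [pow_two, mul_smul, one_smul, ← runN_spec invo_ok hg (hn g),
        ← runN_spec invo_ok hg (le_of_eq (sqNorm_bigE i)), encV_eq_encL, lOf_bigE_eq]
      exact invo_sq _ (idx_lt i)
    · rintro rfl
      have h := hg p100
      rw [one_smul] at h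
      exact (by decide +kernel :
        lOf (p100 : GolayPt → ℤ) ≠ runP hsInvo (lOf (p100 : GolayPt → ℤ))) h
  · exact no_fixed_100 g hg


end CfsgLib.Spor.HSConfig
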