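import Cfsg.Agent.Lib.Spor.Co0Main

/-!
Orbits of ordered pairs of short lattice vectors with inner products `0`, `-8` and `-16`.

An orthogonal pair adds up to a vector of norm 64, whose stabiliser is monomial; a pair with one of
the other two inner products has a short vector orthogonal to both.
-/

set_option autoImplicit false
set_option maxRecDepth 100000

namespace CfsgLib.Spor.ShortPairs

open Cfsg
open CfsgLib.Spor
open CfsgLib.ThreeTransp.CoReduce (bigE dot_preserved)
open scoped Pointwise symmDiff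

/-- `4 a` at `i` and `4 b` at `j` -/
def twoFours (i j : GolayPt) (a b : ℤ) : GolayPt → ℤ := Pi.single i (4 * a) + Pi.single j (4 * b)

theorem twoFours_mem (i j : GolayPt) {a b : ℤ} (h : (2 : ℤ) ∣ a + b) :
    twoFours i j a b ∈ leechLattice := by
  refine AddSubgroup.subset_closure (Cfsg.Spor.mem_leechSet_of_const_mod_four _ 0 0 (by decide)
    (fun p => ?_) ?_)
  · simp only [twoFours, Pi.add_apply, Pi.single_apply]
    obtain ⟨t, ht⟩ : (4 : ℤ) ∣ (if p = i then 4 * a else 0) + (if p = j then 4 * b else 0) := by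
      split <;> split <;> omega
    simp [Int.ModEq, ht]
  · simp only [twoFours, Pi.add_apply, Finset.sum_add_distrib, Finset.sum_pi_single',
      Finset.mem_univ, if_true, Int.ModEq]
    omega

theorem dotInt_comm (x y : GolayPt → ℤ) : dotInt x y = dotInt y x :=
  Finset.sum_congr rfl fun _ _ => mul_comm _ _

theorem dotInt_twoFours (i j : GolayPt) (a b : ℤ) (x : GolayPt → ℤ) :
    dotInt (twoFours i j a b) x = 4 * a * x i + 4 * b * x j := by
  simp [dotInt, twoFours, add_mul, Finset.sum_add_distrib, Pi.single_apply, Finset.sum_ite_eq']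

theorem dotInt_smul (g : Co0) (v w : leechLattice) :
    dotInt ((g • v : leechLattice) : GolayPt → ℤ) ((g • w : leechLattice) : GolayPt → ℤ) =
      dotInt (v : GolayPt → ℤ) (w : GolayPt → ℤ) :=
  dot_preserved g.2 v w

theorem sqNorm_add (x y : GolayPt → ℤ) :
    sqNorm (x + y) = sqNorm x + sqNorm y + 2 * dotInt x y := by
  simp only [sqNorm, dotInt, Finset.mul_sum, ← Finset.sum_add_distrib, Pi.add_apply]
  exact Finset.sum_congr rfl fun i _ => by ring

/-- `4` at the extra point and at the point `0` -/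
def v0 : leechLattice := ⟨twoFours none (pt 0) 1 1, twoFours_mem _ _ (by norm_num)⟩

/-- `4` at the extra point and `-4` at the point `0` -/
def x0 : leechLattice := ⟨twoFours none (pt 0) 1 (-1), twoFours_mem _ _ (by norm_num)⟩

theorem none_ne_pt : (none : GolayPt) ≠ pt 0 := by decide

theorem v0_add_x0 : v0 + x0 = eTop := by
  refine Subtype.ext (funext fun p => ?_)
  rw [AddSubgroup.coe_add, eTop_coe]
  simp only [v0, x0, twoFours, Pi.add_apply, Pi.single_apply]
  by_cases h : p = none
  · subst h; simp [none_ne_pt]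
  · simp [h]; split <;> norm_num

/-! ### Monomial maps fixing two points -/

/-- A monomial map with given points fixed and signs avoiding them fixes `v0` and `x0`. -/
theorem monoEl_fix {p : MonoIdx} (hi : (p.1 : Equiv.Perm GolayPt) none = none)
    (hj : (p.1 : Equiv.Perm GolayPt) (pt 0) = pt 0) (hic : none ∉ (p.2 : Finset GolayPt))
    (hjc : pt 0 ∉ (p.2 : Finset GolayPt)) (a b : ℤ) :
    signedPerm (p.1 : Equiv.Perm GolayPt) p.2 (twoFours none (pt 0) a b) =
      twoFours none (pt 0) a b := by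
  funext q
  simp only [signedPerm, twoFours, Pi.add_apply, Pi.single_apply, Equiv.symm_apply_eq, hi, hj]
  by_cases hq : q = none
  · subst hq; simp [hic]
  · by_cases hq' : q = pt 0
    · subst hq'; simp [hjc]
    · simp [hq, hq']

theorem monoEl_fix_v0 {p : MonoIdx} (hi : (p.1 : Equiv.Perm GolayPt) none = none)
    (hj : (p.1 : Equiv.Perm GolayPt) (pt 0) = pt 0) (hic : none ∉ (p.2 : Finset GolayPt))
    (hjc : pt 0 ∉ (p.2 : Finset GolayPt)) : monoEl p • v0 = v0 :=
  Subtype.ext (by rw [monoEl_smul]; exact monoEl_fix hi hj hic hjc 1 1)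

/-! ### Orthogonal pairs -/

theorem exists_orth_frame (v x : leechLattice) (hv : sqNorm (v : GolayPt → ℤ) = 32)
    (hx : sqNorm (x : GolayPt → ℤ) = 32)
    (hd : dotInt (v : GolayPt → ℤ) (x : GolayPt → ℤ) = 0) :
    ∃ g : Co0, g • v = v0 ∧ g • x = x0 := by
  classical
  obtain ⟨g, hg⟩ := exists_map (n := 64) (by norm_num) (v + x) eTop
    (by rw [AddSubgroup.coe_add, sqNorm_add, hv, hx, hd]; norm_num) (sqNorm_bigE none)
  set y : leechLattice := g • v with hy
  have hyn : sqNorm (y : GolayPt → ℤ) = 32 := (coe_smul_sqNorm g v).trans hv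
  have hydot : dotInt (y : GolayPt → ℤ) (Pi.single none 8) = 32 := by
    rw [← eTop_coe, ← hg, dotInt_smul, AddSubgroup.coe_add]
    have : dotInt (v : GolayPt → ℤ) ((v : GolayPt → ℤ) + (x : GolayPt → ℤ)) =
        sqNorm (v : GolayPt → ℤ) + dotInt (v : GolayPt → ℤ) (x : GolayPt → ℤ) := by
      simp only [dotInt, sqNorm, ← Finset.sum_add_distrib, Pi.add_apply]
      exact Finset.sum_congr rfl fun i _ => by ring
    rw [this, hv, hd]; norm_num
  have hytop : (y : GolayPt → ℤ) none = 4 := by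
    simp [dotInt, Pi.single_apply, Finset.sum_ite_eq'] at hydot
    omega
  obtain ⟨z, hz, hD, -⟩ := even_vec_iff.1 ⟨y.2, by rw [hytop]; norm_num⟩
  have hz0 : z none = 2 := by
    have := congrFun hz none
    simp only [Pi.smul_apply, nsmul_eq_mul, Nat.cast_ofNat, hytop] at this
    omega
  have hzn : ∑ p ∈ Finset.univ.erase none, z p ^ 2 = 4 := by
    have h := sqNorm_two_smul z
    rw [← hz, hyn] at h
    have h2 : sqNorm z = z none ^ 2 + ∑ p ∈ Finset.univ.erase none, z p ^ 2 :=
      (Finset.add_sum_erase _ (fun p => z p ^ 2) (Finset.mem_univ none)).symm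
    rw [hz0] at h2
    omega
  -- the odd half is empty
  have hD0 : oddSet z = ∅ := by
    have hsub : oddSet z ⊆ Finset.univ.erase none := fun p hp => by
      simp only [oddSet, Finset.mem_filter, Finset.mem_univ, true_and] at hp
      refine Finset.mem_erase.2 ⟨fun e => ?_, Finset.mem_univ _⟩
      rw [e, hz0] at hp
      norm_num at hp
    have hle : ((oddSet z).card : ℤ) ≤ 4 := by
      rw [← hzn]
      refine le_trans ?_ (Finset.sum_le_sum_of_subset_of_nonneg hsub fun p _ _ => sq_nonneg (z p))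
      rw [Finset.cast_card]
      refine Finset.sum_le_sum fun p hp => ?_
      simp only [oddSet, Finset.mem_filter, Finset.mem_univ, true_and] at hp
      have : z p ≠ 0 := fun e => by rw [e] at hp; norm_num at hp
      have := sq_pos_of_ne_zero this
      omega
    obtain ⟨c, hc, hcs⟩ := hD
    have hw := weight_cases hc
    rw [hammingNorm_eq_card_support₂, hcs] at hw
    exact Finset.card_eq_zero.1 (by omega)
  have hev : ∀ p, (2 : ℤ) ∣ z p := fun p => by
    have : p ∉ oddSet z := by simp [hD0]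
    simp [oddSet] at this
    omega
  obtain ⟨i, hi, hzi⟩ : ∃ i ∈ Finset.univ.erase (none : GolayPt), z i ^ 2 ≠ 0 :=
    Finset.exists_ne_zero_of_sum_ne_zero (by rw [hzn]; norm_num)
  have hin : i ≠ none := (Finset.mem_erase.1 hi).1
  have hz4 : z i ^ 2 = 4 := by
    have h1 : z i ^ 2 ≤ 4 := hzn ▸ Finset.single_le_sum
      (f := fun p => z p ^ 2) (fun p _ => sq_nonneg (z p)) hi
    obtain ⟨t, ht⟩ := hev i
    have : t ≠ 0 := fun e => hzi (by rw [ht, e]; norm_num)
    have := sq_pos_of_ne_zero this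
    rw [ht, mul_pow] at h1 ⊢
    omega
  have hrest : ∀ p, p ≠ none → p ≠ i → z p = 0 := by
    intro p hp hpi
    rw [← Finset.add_sum_erase _ _ hi, hz4] at hzn
    have h1 : z p ^ 2 ≤ ∑ q ∈ (Finset.univ.erase none).erase i, z q ^ 2 :=
      Finset.single_le_sum (f := fun q => z q ^ 2) (fun q _ => sq_nonneg (z q))
        (Finset.mem_erase.2 ⟨hpi, Finset.mem_erase.2 ⟨hp, Finset.mem_univ _⟩⟩)
    have h2 : z p ^ 2 = 0 := by linarith [sq_nonneg (z p)]
    exact pow_eq_zero_iff (two_ne_zero) |>.1 h2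
  have hzi2 : z i = 2 ∨ z i = -2 := by
    have h1 : (z i - 2) * (z i + 2) = 0 := by linear_combination hz4
    rcases mul_eq_zero.1 h1 with h | h
    · left; omega
    · right; omega
  obtain ⟨σ, hσ, hl⟩ := exists_list_map_M24 (l := [none, i]) (l' := [none, pt 0])
    (by simp [Ne.symm hin]) (by decide) rfl (by simp)
  simp only [List.map_cons, List.map_nil, List.cons.injEq, and_true] at hl
  -- the signs
  obtain ⟨c, hc, hc1, hc2⟩ : ∃ c ∈ supports (golayCode : Set (GolayPt → ZMod 2)),
      none ∉ c ∧ (pt 0 ∈ c ↔ z i = -2) := by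
    rcases hzi2 with e | e
    · exact ⟨∅, empty_supports, by simp, by simp [e]⟩
    · obtain ⟨c, hc, h1, h2⟩ := exists_separating (Ne.symm none_ne_pt)
      exact ⟨c, hc, h2, by simp [h1, e]⟩
  let p : MonoIdx := (⟨σ, hσ⟩, ⟨c, hc⟩)
  have hgv : (monoEl p * g) • v = v0 := by
    refine Subtype.ext ?_
    rw [mul_smul, monoEl_smul, ← hy, hz]
    funext q
    obtain ⟨r, rfl⟩ := σ.surjective q
    simp only [p, signedPerm, Equiv.symm_apply_apply, Pi.smul_apply, nsmul_eq_mul, v0, twoFours,
      Pi.add_apply, Pi.single_apply]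
    by_cases hr : r = none
    · subst hr
      rw [hl.1, hz0, if_neg hc1, if_pos rfl, if_neg none_ne_pt]
      norm_num
    · by_cases hri : r = i
      · subst hri
        rw [hl.2, if_neg (Ne.symm none_ne_pt), if_pos rfl]
        rcases hzi2 with e | e <;> simp [hc2, e]
      · have h1 : σ r ≠ none := fun e => hr (σ.injective (e.trans hl.1.symm))
        have h2 : σ r ≠ pt 0 := fun e => hri (σ.injective (e.trans hl.2.symm))
        rw [hrest r hr hri, if_neg h1, if_neg h2]
        simp
  refine ⟨monoEl p * g, hgv, ?_⟩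
  have hsum : (monoEl p * g) • (v + x) = eTop := by
    rw [mul_smul, hg]
    exact (signedPerm_top_iff p).2 ⟨hl.1, hc1⟩
  rw [coe_smul_add, hgv, ← v0_add_x0] at hsum
  exact add_left_cancel hsum

/-- Every short vector has a short vector orthogonal to it and to `v0`. -/
theorem exists_orth_both (w : leechLattice) (hw : sqNorm (w : GolayPt → ℤ) = 32) :
    ∃ x : leechLattice, sqNorm (x : GolayPt → ℤ) = 32 ∧
      dotInt (v0 : GolayPt → ℤ) (x : GolayPt → ℤ) = 0 ∧
      dotInt (x : GolayPt → ℤ) (w : GolayPt → ℤ) = 0 := by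
  classical
  have hle : ∀ p, ((w : GolayPt → ℤ) p).natAbs ∈ Finset.range 6 := fun p => by
    have h : (w : GolayPt → ℤ) p ^ 2 ≤ 32 := hw ▸ Finset.single_le_sum
      (f := fun q => (w : GolayPt → ℤ) q ^ 2) (fun q _ => sq_nonneg _) (Finset.mem_univ p)
    rw [Finset.mem_range]
    have h1 : (w : GolayPt → ℤ) p < 6 := by nlinarith only [h]
    have h2 : -6 < (w : GolayPt → ℤ) p := by nlinarith only [h]
    omega
  obtain ⟨i, hi, j, hj, hij, e⟩ := Finset.exists_ne_map_eq_of_card_lt_of_maps_to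
    (s := ((Finset.univ : Finset GolayPt).erase none).erase (pt 0)) (t := Finset.range 6)
    (by rw [Finset.card_range, Finset.card_erase_of_mem
      (Finset.mem_erase.2 ⟨Ne.symm none_ne_pt, Finset.mem_univ _⟩),
      Finset.card_erase_of_mem (Finset.mem_univ _), Finset.card_univ, card_golayPt]; norm_num)
    (fun p _ => hle p)
  simp only [Finset.mem_erase, Finset.mem_univ, and_true] at hi hj
  obtain ⟨b, hb, hbw⟩ : ∃ b : ℤ, (b = 1 ∨ b = -1) ∧
      (w : GolayPt → ℤ) i + b * (w : GolayPt → ℤ) j = 0 := by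
    rcases Int.natAbs_eq_natAbs_iff.1 e with h | h
    · exact ⟨-1, Or.inr rfl, by rw [h]; ring⟩
    · exact ⟨1, Or.inl rfl, by rw [h]; ring⟩
  refine ⟨⟨twoFours i j 1 b, twoFours_mem i j (by rcases hb with rfl | rfl <;> norm_num)⟩,
    ?_, ?_, ?_⟩
  · show sqNorm (twoFours i j 1 b) = 32
    rw [twoFours, sqNorm_add, sqNorm_single, sqNorm_single]
    rcases hb with rfl | rfl <;>
      simp [dotInt, Pi.single_apply, Finset.sum_ite_eq', hij.symm]
  · show dotInt (twoFours none (pt 0) 1 1) (twoFours i j 1 b) = 0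
    rw [dotInt_twoFours]
    simp [twoFours, Pi.single_apply, Ne.symm hi.1, Ne.symm hi.2, Ne.symm hj.1, Ne.symm hj.2]
  · show dotInt (twoFours i j 1 b) _ = 0
    rw [dotInt_twoFours]
    linear_combination 4 * hbw

/-- Move a pair of short vectors so that the first is `v0` and the second is orthogonal to `x0`. -/
theorem exists_pair_frame (v w : leechLattice) (hv : sqNorm (v : GolayPt → ℤ) = 32)
    (hw : sqNorm (w : GolayPt → ℤ) = 32) {d : ℤ}
    (hd : dotInt (v : GolayPt → ℤ) (w : GolayPt → ℤ) = 8 * d) :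
    ∃ g : Co0, g • v = v0 ∧ ((g • w : leechLattice) : GolayPt → ℤ) none = d ∧
      ((g • w : leechLattice) : GolayPt → ℤ) (pt 0) = d := by
  have h0 : sqNorm (v0 : GolayPt → ℤ) = 32 := by decide +kernel
  obtain ⟨g, hg⟩ := exists_map (n := 32) (by norm_num) v v0 hv h0
  obtain ⟨x, hx, hxv, hxw⟩ := exists_orth_both (g • w) ((coe_smul_sqNorm g w).trans hw)
  obtain ⟨k, hk1, hk2⟩ := exists_orth_frame v0 x h0 hx hxv
  refine ⟨k * g, by rw [mul_smul, hg, hk1], ?_⟩
  have e1 : dotInt (v0 : GolayPt → ℤ) (((k * g) • w : leechLattice) : GolayPt → ℤ) = 8 * d := by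
    conv_lhs => rw [← hk1, mul_smul]
    rw [dotInt_smul, ← hg, dotInt_smul, hd]
  have e2 : dotInt (x0 : GolayPt → ℤ) (((k * g) • w : leechLattice) : GolayPt → ℤ) = 0 := by
    conv_lhs => rw [← hk2, mul_smul]
    rw [dotInt_smul, hxw]
  simp only [v0, x0, dotInt_twoFours] at e1 e2
  omega

/-! ### Inner product `-16` -/

/-- the base octad through both distinguished points -/
def octMask : ℕ := 8391797

/-- the normal form for inner product `-16` -/
def canonSixteen : GolayPt → ℤ := fun p =>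
  if p = none ∨ p = pt 0 then -2 else if p ∈ toSet octMask then 2 else 0

theorem certSixteen : certOK octMask 2048
    [210955, 72588, 252432, 190626, 31554, 126216, 8555274] = true := by decide +kernel

theorem octMask_octad : toSet octMask ∈ octads := by
  rw [mem_octads_iff, mem_codeList_iff, mask_toSet (by decide : octMask < 2 ^ 24)]
  exact ⟨⟨by decide, by decide +kernel⟩, by decide +kernel⟩

theorem octMask_points : none ∈ toSet octMask ∧ pt 0 ∈ toSet octMask ∧ pt 2 ∈ toSet octMask ∧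
    pt 4 ∈ toSet octMask ∧ pt 5 ∈ toSet octMask ∧ pt 11 ∈ toSet octMask := by decide +kernel

theorem sum_canonSixteen : ∑ p, canonSixteen p = 8 := by decide +kernel

theorem exists_to_sixteen (w : leechLattice) (hw : sqNorm (w : GolayPt → ℤ) = 32)
    (h1 : (w : GolayPt → ℤ) none = -2) (h2 : (w : GolayPt → ℤ) (pt 0) = -2) :
    ∃ g : Co0, g • v0 = v0 ∧ ((g • w : leechLattice) : GolayPt → ℤ) = canonSixteen := by
  classical
  obtain ⟨z, hz, hD, -⟩ := even_vec_iff.1 ⟨w.2, by rw [h1]; norm_num⟩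
  have hzn : sqNorm z = 8 := by
    have := sqNorm_two_smul z
    rw [← hz, hw] at this
    omega
  have hzw : ∀ p, (w : GolayPt → ℤ) p = 2 * z p := fun p => by
    rw [hz]; simp
  have hzi : z none = -1 := by have := hzw none; omega
  have hzj : z (pt 0) = -1 := by have := hzw (pt 0); omega
  have hmem : ∀ p, p ∈ oddSet z ↔ z p % 2 = 1 := fun p => by simp [oddSet]
  have hcard : (oddSet z).card = 8 := by
    obtain ⟨c, hc, hcs⟩ := hD
    have hw' := weight_cases hc
    rw [hammingNorm_eq_card_support₂, hcs] at hw'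
    have h0 : 0 < (oddSet z).card := Finset.card_pos.2 ⟨none, (hmem _).2 (by rw [hzi]; rfl)⟩
    have hle : ((oddSet z).card : ℤ) ≤ 8 := by
      rw [← hzn, Finset.cast_card]
      refine le_trans (Finset.sum_le_sum fun p hp => ?_)
        (Finset.sum_le_sum_of_subset_of_nonneg (Finset.subset_univ _) fun p _ _ => sq_nonneg (z p))
      have : z p ≠ 0 := fun e => by have := (hmem p).1 hp; rw [e] at this; norm_num at this
      have := sq_pos_of_ne_zero this
      omega
    omega
  have hall : ∀ p, (p ∈ oddSet z → z p = 1 ∨ z p = -1) ∧ (p ∉ oddSet z → z p = 0) := by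
    intro p
    have hsplit : sqNorm z = ∑ q ∈ oddSet z, z q ^ 2 + ∑ q ∈ (oddSet z)ᶜ, z q ^ 2 :=
      (Finset.sum_add_sum_compl _ _).symm
    have hge : ∀ q ∈ oddSet z, 1 ≤ z q ^ 2 := fun q hq => by
      have : z q ≠ 0 := fun e => by have := (hmem q).1 hq; rw [e] at this; norm_num at this
      have := sq_pos_of_ne_zero this
      omega
    have hlb : (8 : ℤ) ≤ ∑ q ∈ oddSet z, z q ^ 2 := by
      have := Finset.sum_le_sum hge
      rwa [Finset.sum_const, hcard, nsmul_eq_mul, mul_one] at this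
    have hc0 : (0 : ℤ) ≤ ∑ q ∈ (oddSet z)ᶜ, z q ^ 2 := Finset.sum_nonneg fun q _ => sq_nonneg (z q)
    constructor
    · intro hp
      have hone : ∀ q ∈ oddSet z, (1 : ℤ) = z q ^ 2 := (Finset.sum_eq_sum_iff_of_le hge).1 (by
        rw [Finset.sum_const, hcard, nsmul_eq_mul, mul_one]; push_cast; omega)
      have h0 : (z p - 1) * (z p + 1) = 0 := by linear_combination (hone p hp).symm
      rcases mul_eq_zero.1 h0 with h | h
      · left; omega
      · right; omega
    · intro hp
      have h3 : ∑ q ∈ (oddSet z)ᶜ, z q ^ 2 = 0 := by omega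
      exact pow_eq_zero_iff two_ne_zero |>.1
        ((Finset.sum_eq_zero_iff_of_nonneg fun q _ => sq_nonneg (z q)).1 h3 p (by simpa using hp))
  have hi : none ∈ oddSet z := (hmem _).2 (by rw [hzi]; rfl)
  have hj : pt 0 ∈ oddSet z := (hmem _).2 (by rw [hzj]; rfl)
  obtain ⟨s, hs, hs3⟩ := Finset.exists_subset_card_eq
    (s := ((oddSet z).erase none).erase (pt 0)) (n := 3) (by
      rw [Finset.card_erase_of_mem (Finset.mem_erase.2 ⟨Ne.symm none_ne_pt, hj⟩),
        Finset.card_erase_of_mem hi, hcard]; norm_num)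
  obtain ⟨a, b, c, hab, hac, hbc, rfl⟩ := Finset.card_eq_three.1 hs3
  simp only [Finset.insert_subset_iff, Finset.singleton_subset_iff, Finset.mem_erase] at hs
  obtain ⟨⟨ha0, hai, ha⟩, ⟨hb0, hbi, hb⟩, hc0, hci, hc'⟩ := hs
  obtain ⟨σ, hσ, hl⟩ := exists_list_map_M24 (l := [none, pt 0, a, b, c])
    (l' := [none, pt 0, pt 2, pt 4, pt 5])
    (by simp [none_ne_pt, Ne.symm hai, Ne.symm hbi, Ne.symm hci, Ne.symm ha0, Ne.symm hb0,
      Ne.symm hc0, hab, hac, hbc]) (by decide) rfl (by simp)
  simp only [List.map_cons, List.map_nil, List.cons.injEq, and_true] at hl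
  obtain ⟨l1, l2, l3, l4, l5⟩ := hl
  have hoct : σ • oddSet z = toSet octMask := by
    refine octad_eq_of_five ⟨smul_supports hσ hD, by rw [Finset.card_smul_finset, hcard]⟩
      octMask_octad ?_
    have hsub : ([none, pt 0, pt 2, pt 4, pt 5] : List GolayPt).toFinset ⊆
        σ • oddSet z ∩ toSet octMask := by
      obtain ⟨o1, o2, o3, o4, o5, -⟩ := octMask_points
      have him : ∀ q ∈ oddSet z, σ q ∈ σ • oddSet z := fun q hq => by
        rw [mem_smul_iff, Equiv.symm_apply_apply]; exact hq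
      intro q hq
      simp only [List.mem_toFinset, List.mem_cons, List.not_mem_nil, or_false] at hq
      rw [Finset.mem_inter]
      rcases hq with rfl | rfl | rfl | rfl | rfl
      · exact ⟨l1 ▸ him _ hi, o1⟩
      · exact ⟨l2 ▸ him _ hj, o2⟩
      · exact ⟨l3 ▸ him _ ha, o3⟩
      · exact ⟨l4 ▸ him _ hb, o4⟩
      · exact ⟨l5 ▸ him _ hc', o5⟩
    have := Finset.card_le_card hsub
    rwa [show ([none, pt 0, pt 2, pt 4, pt 5] : List GolayPt).toFinset.card = 5 by decide] at this
  -- the image under the permutation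
  set u : GolayPt → ℤ := signedPerm σ ∅ w with hu
  have habs : ∀ p, u p = canonSixteen p ∨ u p = -canonSixteen p := by
    intro p
    obtain ⟨r, rfl⟩ := σ.surjective p
    have hiff : σ r ∈ toSet octMask ↔ r ∈ oddSet z := by
      rw [← hoct, mem_smul_iff, Equiv.symm_apply_apply]
    rw [hu, signedPerm_empty_apply, Equiv.symm_apply_apply, hzw, canonSixteen]
    by_cases hr : r ∈ oddSet z
    · rcases (hall r).1 hr with e | e <;> rw [e] <;> split_ifs <;> simp_all
    · have h' : σ r ∉ toSet octMask := fun h => hr (hiff.1 h)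
      have h'' : ¬ (σ r = none ∨ σ r = pt 0) := by
        rintro (e | e) <;> exact h' (e ▸ (by simp [octMask_points.1, octMask_points.2.1]))
      rw [(hall r).2 hr, if_neg h'', if_neg h']
      simp
  have hu1 : u none = canonSixteen none := by
    rw [hu, signedPerm_empty_apply, (Equiv.symm_apply_eq σ).2 l1.symm, h1]; simp [canonSixteen]
  have hu2 : u (pt 0) = canonSixteen (pt 0) := by
    rw [hu, signedPerm_empty_apply, (Equiv.symm_apply_eq σ).2 l2.symm, h2]; simp [canonSixteen]
  set S := Finset.univ.filter fun p => u p ≠ canonSixteen p with hS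
  obtain ⟨t, ht, hts⟩ := exists_code_flip certSixteen S
  have hJ : ∀ p, (2048 : ℕ).testBit (idx p) = true → p = pt 11 := by decide +kernel
  have hP : ∀ p, p ∈ toSet octMask → p ≠ pt 11 → (p ∈ t ↔ p ∈ S) := fun p hp hne => by
    by_contra hcon
    refine hne (hJ p (hts p (mem_toSet.1 hp) ?_))
    rw [Finset.mem_symmDiff]
    tauto
  have hne1 : (none : GolayPt) ≠ pt 11 ∧ pt 0 ≠ pt 11 := by decide
  have ht1 : none ∉ t := by
    rw [hP _ octMask_points.1 hne1.1]; simp [hS, hu1]
  have ht2 : pt 0 ∉ t := by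
    rw [hP _ octMask_points.2.1 hne1.2]; simp [hS, hu2]
  let p : MonoIdx := (⟨σ, hσ⟩, ⟨t, ht⟩)
  refine ⟨monoEl p, monoEl_fix_v0 l1 l2 ht1 ht2, ?_⟩
  rw [monoEl_smul]
  have hval : ∀ q, signedPerm σ t (w : GolayPt → ℤ) q = if q ∈ t then -u q else u q := fun q => by
    simp [hu, signedPerm]
  have hoff : ∀ q, q ≠ pt 11 → signedPerm σ t (w : GolayPt → ℤ) q = canonSixteen q := by
    intro q hq
    rw [hval]
    by_cases hqo : q ∈ toSet octMask
    · by_cases hqS : q ∈ S
      · rw [if_pos ((hP q hqo hq).2 hqS)]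
        have : u q ≠ canonSixteen q := by simpa [hS] using hqS
        rcases habs q with e | e
        · exact absurd e this
        · rw [e, neg_neg]
      · rw [if_neg (fun h => hqS ((hP q hqo hq).1 h))]
        simpa [hS] using hqS
    · have h0 : canonSixteen q = 0 := by
        rw [canonSixteen, if_neg ?_, if_neg hqo]
        rintro (e | e) <;> exact hqo (e ▸ (by simp [octMask_points.1, octMask_points.2.1]))
      have hu0 : u q = 0 := by rcases habs q with e | e <;> simp [e, h0]
      simp [hu0, h0]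
  funext q
  by_cases hq : q = pt 11
  · subst hq
    have h8 := eight_dvd_sum_of_even (signedPerm_mem hσ ht w.2) (by
      rw [hoff none hne1.1]; decide)
    have hc8 := sum_canonSixteen
    rw [← Finset.add_sum_erase _ _ (Finset.mem_univ (pt 11))] at h8 hc8
    rw [Finset.sum_congr rfl fun r hr => hoff r (Finset.mem_erase.1 hr).1] at h8
    have h11 : canonSixteen (pt 11) = 2 := by decide +kernel
    show signedPerm σ t (w : GolayPt → ℤ) (pt 11) = _
    rw [hval] at h8 ⊢
    rw [h11] at hc8 ⊢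
    obtain ⟨T, hT⟩ : ∃ T, (Finset.univ.erase (pt 11)).sum canonSixteen = T := ⟨_, rfl⟩
    rw [hT] at h8
    replace hc8 : 2 + T = 8 := hT ▸ hc8
    have e : u (pt 11) = 2 ∨ u (pt 11) = -2 := h11 ▸ habs (pt 11)
    split_ifs at h8 ⊢ <;> rcases e with e | e <;> rw [e] at h8 ⊢ <;> omega
  · exact hoff q hq

/-! ### Inner product `-8` -/

/-- the normal form for inner product `-8` -/
def canonEight : GolayPt → ℤ := fun p => if p = pt 1 then 3 else -1

theorem exists_to_eight (w : leechLattice) (hw : sqNorm (w : GolayPt → ℤ) = 32)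
    (h1 : (w : GolayPt → ℤ) none = -1) (h2 : (w : GolayPt → ℤ) (pt 0) = -1) :
    ∃ g : Co0, g • v0 = v0 ∧ ((g • w : leechLattice) : GolayPt → ℤ) = canonEight := by
  classical
  obtain ⟨c, hc, y, hwy, -⟩ := exists_oddVec w.2 (by rw [h1]; norm_num)
  have hsum : ∑ i, oddWt (y i) = 1 := by
    have h := sqNorm_oddVec c y
    rw [← hwy, hw] at h
    omega
  obtain ⟨j, -, hj⟩ := Finset.exists_ne_zero_of_sum_ne_zero (by rw [hsum]; norm_num :
    ∑ i, oddWt (y i) ≠ 0)
  have hyj : y j = -1 := by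
    have h1 : oddWt (y j) ≤ 1 := hsum ▸ Finset.single_le_sum
      (f := fun i => oddWt (y i)) (fun i _ => Nat.zero_le _) (Finset.mem_univ j)
    rcases oddWt_small (by omega : oddWt (y j) ≤ 5) with e | e | e
    · exact absurd (by rw [e]; rfl) hj
    · rw [e, show oddWt 1 = 3 from rfl] at h1; omega
    · exact e
  have hy0 : ∀ i, i ≠ j → y i = 0 := by
    intro i hi
    have hjw : oddWt (y j) = 1 := by rw [hyj]; rfl
    rw [← Finset.add_sum_erase _ _ (Finset.mem_univ j), hjw] at hsum
    have h0 : oddWt (y i) = 0 := by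
      have := Finset.single_le_sum (f := fun i => oddWt (y i)) (fun i _ => Nat.zero_le _)
        (Finset.mem_erase.2 ⟨hi, Finset.mem_univ i⟩)
      omega
    rcases oddWt_small (by omega : oddWt (y i) ≤ 5) with e | e | e
    · exact e
    · rw [e, show oddWt 1 = 3 from rfl] at h0; omega
    · rw [e, show oddWt (-1) = 1 from rfl] at h0; omega
  have hwv : ∀ i, (w : GolayPt → ℤ) i =
      if i ∈ support₂ c then -(if i = j then -3 else 1) else (if i = j then -3 else 1) := fun i => by
    rw [hwy, oddVec]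
    by_cases hij : i = j
    · subst hij; rw [hyj, if_pos rfl]; norm_num
    · rw [hy0 i hij, if_neg hij]; norm_num
  have hne : none ≠ j ∧ pt 0 ≠ j ∧ none ∈ support₂ c ∧ pt 0 ∈ support₂ c := by
    have e1 := hwv none
    have e2 := hwv (pt 0)
    rw [h1] at e1; rw [h2] at e2
    split_ifs at e1 e2 <;> first | omega | exact ⟨by assumption, by assumption, by assumption, by assumption⟩
  obtain ⟨σ, hσ, hl⟩ := exists_list_map_M24 (l := [none, pt 0, j])
    (l' := [none, pt 0, pt 1]) (by simp [none_ne_pt, hne.1, hne.2.1]) (by decide) rfl (by simp)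
  simp only [List.map_cons, List.map_nil, List.cons.injEq, and_true] at hl
  obtain ⟨l1, l2, l3⟩ := hl
  let p : MonoIdx := (⟨σ, hσ⟩,
    ⟨σ • (support₂ c)ᶜ, smul_supports hσ (compl_mem_supports (mem_supports_of_code hc))⟩)
  refine ⟨monoEl p, monoEl_fix_v0 l1 l2 ?_ ?_, ?_⟩
  · show none ∉ σ • (support₂ c)ᶜ
    rw [mem_smul_iff, (Equiv.symm_apply_eq σ).2 l1.symm]; simp [hne.2.2.1]
  · show pt 0 ∉ σ • (support₂ c)ᶜ
    rw [mem_smul_iff, (Equiv.symm_apply_eq σ).2 l2.symm]; simp [hne.2.2.2]
  · rw [monoEl_smul]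
    funext q
    obtain ⟨r, rfl⟩ := σ.surjective q
    show signedPerm σ (σ • (support₂ c)ᶜ) (w : GolayPt → ℤ) (σ r) = _
    simp only [signedPerm, Equiv.symm_apply_apply, mem_smul_iff, Finset.mem_compl, canonEight,
      ← l3, σ.injective.eq_iff, hwv r]
    split_ifs <;> simp

/-! ### Transitivity -/

/-- The stabiliser of a short vector is transitive on each of the classes of inner product. -/
theorem exists_pair_map {v v' w w' : leechLattice} {d : ℤ} (hdd : d = 0 ∨ d = -8 ∨ d = -16)
    (hv : sqNorm (v : GolayPt → ℤ) = 32) (hv' : sqNorm (v' : GolayPt → ℤ) = 32)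
    (hw : sqNorm (w : GolayPt → ℤ) = 32) (hw' : sqNorm (w' : GolayPt → ℤ) = 32)
    (hd : dotInt (v : GolayPt → ℤ) (w : GolayPt → ℤ) = d)
    (hd' : dotInt (v' : GolayPt → ℤ) (w' : GolayPt → ℤ) = d) :
    ∃ g : Co0, g • v = v' ∧ g • w = w' := by
  suffices key : ∃ b : GolayPt → ℤ, ∀ a u : leechLattice, sqNorm (a : GolayPt → ℤ) = 32 →
      sqNorm (u : GolayPt → ℤ) = 32 → dotInt (a : GolayPt → ℤ) (u : GolayPt → ℤ) = d →
      ∃ g : Co0, g • a = v0 ∧ ((g • u : leechLattice) : GolayPt → ℤ) = b by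
    obtain ⟨b, hb⟩ := key
    obtain ⟨g, hg1, hg2⟩ := hb v w hv hw hd
    obtain ⟨k, hk1, hk2⟩ := hb v' w' hv' hw' hd'
    refine ⟨k⁻¹ * g, ?_, ?_⟩
    · rw [mul_smul, inv_smul_eq_iff, hg1, hk1]
    · rw [mul_smul, inv_smul_eq_iff]
      exact Subtype.ext (hg2.trans hk2.symm)
  rcases hdd with rfl | rfl | rfl
  · refine ⟨(x0 : GolayPt → ℤ), fun a u ha hu h => ?_⟩
    obtain ⟨g, hg1, hg2⟩ := exists_orth_frame a u ha hu h
    exact ⟨g, hg1, congrArg Subtype.val hg2⟩
  · refine ⟨canonEight, fun a u ha hu h => ?_⟩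
    obtain ⟨g, hg1, e1, e2⟩ := exists_pair_frame a u ha hu (d := -1) (by rw [h]; norm_num)
    obtain ⟨k, hk1, hk2⟩ := exists_to_eight (g • u) ((coe_smul_sqNorm g u).trans hu) e1 e2
    exact ⟨k * g, by rw [mul_smul, hg1, hk1], by rw [mul_smul]; exact hk2⟩
  · refine ⟨canonSixteen, fun a u ha hu h => ?_⟩
    obtain ⟨g, hg1, e1, e2⟩ := exists_pair_frame a u ha hu (d := -2) (by rw [h]; norm_num)
    obtain ⟨k, hk1, hk2⟩ := exists_to_sixteen (g • u) ((coe_smul_sqNorm g u).trans hu) e1 e2
    exact ⟨k * g, by rw [mul_smul, hg1, hk1], by rw [mul_smul]; exact hk2⟩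

/-- Splittings of a vector of norm 48 into two short vectors form one orbit of its stabiliser. -/
theorem exists_split_map {u v v' : leechLattice} (hu : sqNorm (u : GolayPt → ℤ) = 48)
    (hv : sqNorm (v : GolayPt → ℤ) = 32 ∧ sqNorm ((u - v) : GolayPt → ℤ) = 32)
    (hv' : sqNorm (v' : GolayPt → ℤ) = 32 ∧ sqNorm ((u - v') : GolayPt → ℤ) = 32) :
    ∃ g : Co0, g • u = u ∧ g • v = v' := by
  have key : ∀ a : leechLattice, sqNorm (a : GolayPt → ℤ) = 32 →
      sqNorm ((u - a) : GolayPt → ℤ) = 32 →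
      sqNorm ((u - a : leechLattice) : GolayPt → ℤ) = 32 ∧
      dotInt (a : GolayPt → ℤ) ((u - a : leechLattice) : GolayPt → ℤ) = -8 := by
    intro a h1 h2
    rw [AddSubgroup.coe_sub]
    have h3 := sqNorm_add (a : GolayPt → ℤ) ((u : GolayPt → ℤ) - (a : GolayPt → ℤ))
    rw [add_sub_cancel, hu, h1] at h3
    exact ⟨h2, by omega⟩
  obtain ⟨n1, d1⟩ := key v hv.1 hv.2
  obtain ⟨n2, d2⟩ := key v' hv'.1 hv'.2
  obtain ⟨g, hg1, hg2⟩ := exists_pair_map (Or.inr (Or.inl rfl)) hv.1 hv'.1 n1 n2 d1 d2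
  refine ⟨g, ?_, hg1⟩
  calc g • u = g • (v + (u - v)) := by rw [add_sub_cancel]
    _ = u := by rw [coe_smul_add, hg1, hg2, add_sub_cancel]

end CfsgLib.Spor.ShortPairs
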