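import Cfsg.Agent.Lib.Spor.Co0CensusParts
import Cfsg.Agent.Lib.Spor.Co0Config
import Cfsg.Agent.Lib.Spor.ShortPairs

/-!
The configurations of short vectors related to McLaughlin's group: for a pair `(v0, ce)` of short
vectors with inner product `-8`, the 275 vectors with inner products `(16, 8)` and the 2025 with
`(0, 16)`, with the orbits of their point stabilisers.
-/

set_option autoImplicit false
set_option Elab.async false
set_option maxRecDepth 100000
set_option maxHeartbeats 0

namespace CfsgLib.Spor.McLConfig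

open Cfsg
open CfsgLib.Spor
open CfsgLib.Spor.Config
open CfsgLib.Spor.ShortPairs (v0 exists_pair_map)

/-- generators -/
def mclGens : List (List Stp) := [
  [.mono 13284228260353994896917908793372727 0],
  [.mono 961312831586076313798377541907857440 0],
  [.mono 958530681883340749766425547400302624 0],
  [.mono 749180894534805379574263876637041832 16661449, .xi, .mono 650789147181046016775555173907087786 702724],
  [.mono 418928103648575202903216738375324075 6394733, .xi, .mono 790864513303711246027114340167072149 4877553],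
  [.mono 803640190049130897389188472425919538 11934562, .xi, .mono 769908203946481492772538864594734828 5499466]]

/-- start -/
def mclStart0 : List ℤ := [4, 4, 0, 0, 0, 0, 0, 0, 0, 0, 0, 0, 0, 0, 0, 0, 0, 0, 0, 0, 0, 0, 0, 0]

/-- walk with 275 points: base, length, digits -/
def mclWalk0 : ℕ × ℕ × ℕ := (7, 548, 0x9d5848c595246dec8735d9d2f63cc43ff46ca54ac5f5a542ced93d03e30e92d79a6648eec8520a97e59ca7c6ec176c114a8bfe1da8f9413602e8050bc7fec79fba1fe7e85742169d15e1402bb109f3be9fb7eea7e7e89c60a5f7c28fe81e8ebad1a4d18b5e072371115f10f6c75d4d0edbe3e4e9b340169eba30cc69cb712d493a3807572e793d84038e128dac3fc37be2f34878388c6e595225be223a980fdcfe91dd0bf908dfb98330cb9003f9feaadbae961ba0d3ab5581c85f708230)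

/-- start -/
def mclStart1 : List ℤ := [0, 4, -4, 0, 0, 0, 0, 0, 0, 0, 0, 0, 0, 0, 0, 0, 0, 0, 0, 0, 0, 0, 0, 0]

/-- walk with 2025 points: base, length, digits -/
def mclWalk1 : ℕ × ℕ × ℕ := (7, 4048, 0x4b068b2ffcfb2678ed2ceb4adf9a8e999967dc0dcf696f5a3e834c9d9f7ff1bc52504c61f48f2e53e12d908bc411921f5685ed0a4b1c8ed2d577ce109d0e245bbd558d83873f70f6c783834130d36df3236e873020c0c441cd1eb3a429e1d0542138902e192241ca9a20fd0f264370b902baabc6de31deba42cb76fce947e378dfc29ecb523bfb6199290fde6548cfe2e91a723f4431c8c88e588b3fcc956ba2869ed0e957b61b902b9f2a538a132838f0b7980b70896197c8fc1069db3290f0d20c8f008d67874cb9839f4b9ff100de9379ff4fa415633bb01ed12cc889b3d77d4a7670ac64c5ba30fec7202b2d98006be77415aee565eb4236e0ec0658a400569a7034e9db31e29d8814a033efa91e2a861ca1e9f85b29aaa8ae3b9a426414742f247a8dfcc825b7df4e9864ae022bdf6c86a64429d4109647209ac8245d3c5f33ea34366c659361950da1b00e80538ce1e7444969af47e5bb3c3e04acb6db78eab6723807e9ba0425ba33646d20823d4eacce1159d26cbcae6131ef9c7c1321495dcfaefcd4b2e2d839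1c67f620f2878e26ab53c473a12dbde1645ca4620a615284cec67422ba661a4552b33d0483f8b93a9adeb9f64dfdb4fc96af10c7ef175ad122514858f801eaf2ae68eabb462b093c7c790aeec78bf1ae0b2a08712c1ab74382eebd46f878c5a3203fae8b584b2cf179bfee98b5ba284e5cf7accbeb97c69d0d4e4d65f0bb9b3627cb5db8d7622c756adda4596a01ba615035e93b30c394772f4e4c36b5b057aa64d349fe6e79cb3579254101321dd5d1e179a49d82a46b7e240d13d74ad10b73c4f0a63be8732fcc929917c9b08371d7f82a4f953866bb6cff318b3d46c173bc91a7d917fdb6faf24d1446282ff86d08964b1247473d8f6575cf2400a9655da9cf36f220854292e33a1fbae24d4c5e58528b37309d5d2929b9b943470cdf9fa7ea724a8f8436a7f962885a3c94ebb687cc333b74dd799d17d8696985b2f997f8bdad70a374152b547a9d861cfb837cd737e916707bce6d10f4c029accb9a5171fad5f67c4a9e083f86c14317595ebf25376d9f4e23cf5f6018009c45f37ebc4fbe9302c95ae196476da86ab51503ccef16191145b3600c9879204be40aaa7bd6faea1f0e8a423713165712d39e62fab0fbef81e731ce537e2c48807437a315192a0bb1378769252666487da104fa2f47cf512da8d4372493f7b4097e209f9494399173c09c899f3456b6a1e2b6cad786b3fc2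03835bb4557ad7074adc21bf66b93679164f5e4937b7b4884d3cdf9f285b23fc6d8d50fd238d43cd3293144c402a470d053f7032d835ba18cc1d0c883f45260e42e5a877ff59192b8bdf796fb98d8812c9c2b215f1345ed9b9bf04a67fa3bf3ca81b0fe38001e856238b206da94f2e93dcf4abcd50a3992e65b9a43805ca5fcb754fe5138bee096dbeba220410112528f6b768ced8ff20de5eeb976d14d0218fa2adef937f03b0a286aabb32a8624bf644ab514a5bfe3cb7e8e300b395e6f8e0967d14a2b1cf299dece8db6a98d1721b9519d151b71ac00e14649cec012469ca4cc6952b38006081b3a008a4e31465c9b66223e857678b8565b578239b60b45677a997ea7071e0660653a91742379675e4d3780bf1b6cfb75690a91cd86bd3a35dee98e202e4713c0d8db44939be6ecd1ed7d6e1ad0a03e8cfbb03fea3475b53c3795b257434561137ece4638a92a5575ecf6d4d4e5ce2e2c0a3201a622431a2d82a905b65e22030fbaf21ba31ac53bba755f0fafd75ea30afa7837765e7073e65ac8f9dfc0366bee6397de052805e0616606a9c3eebec9ccb5c880a5b16d6fc26b0270d4c3f2cd98e5ce667f420b722644c23927ef71ca44424c49513e0eeae31e817e5aea6592b7b320d318a377262f3795c177d68f28b7f6dfe8b4463168cfa30086e9fcdcb06dffa38bfbc9c53abbb62dde4653711fc95df8ea110356f6f1318b9e3c91b840a336fd893f)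

/-- generators -/
def mclPtGens : List (List Stp) := [
  [.mono 969197980436334465089285585966806048 0],
  [.mono 961312831586076313798377541907857440 0],
  [.mono 958530681883340749766425547400302624 0],
  [.mono 332406377274239664538926815743936196 10188531, .xi, .mono 962509758781938975256122187400676354 1245726, .xi, .mono 124790668281818587290019884313531113 2546566],
  [.mono 256103582884788210099916827017662867 12744641, .xi, .mono 914142910261830966764972409630539917 4656648, .xi, .mono 720764954747170587281421918206104001 16259491],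
  [.mono 854932973734529929195415907995391407 8873967, .xi, .mono 802913967089633184842778162067151093 8340461, .xi, .mono 941255390490037298349832625526675589 1100945],
  [.mono 922094952286414874792364311692107277 8699391, .xi, .mono 350052218703518737795965536598018598 15588300, .xi, .mono 194236439887512816406975943214072129 15962645, .xi, .mono 802517479295893370768061640853258977 15268876]]

/-- start -/
def mclPtStart0 : List ℤ := [0, 4, 0, 0, 0, 0, 0, 0, 0, 0, 0, 0, 0, 0, 0, 0, 0, 0, 0, 0, 0, 0, 0, 4]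

/-- walk with 162 points: base, length, digits -/
def mclPtWalk0 : ℕ × ℕ × ℕ := (8, 322, 0x2c201840960301848060245000305008b0004d22c001b00361200260325800205008b01248000205004b00049808148000b0996000c24c00c14012806034500002816024002cb001601401289e000cb0180c140308a0180c14096000580182d30180130902900034020112c061000b0812800980c244f)

/-- start -/
def mclPtStart1 : List ℤ := [2, 0, -2, 0, -2, -2, -2, 0, 0, 0, -2, -2, 0, 0, 0, 0, 0, 0, 0, 0, 0, 0, 0, 2]

/-- walk with 112 points: base, length, digits -/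
def mclPtWalk1 : ℕ × ℕ × ℕ := (8, 222, 0x34012c00580900812800816030900c96000816012814000580c24032c00126120006c16004806513c001b01845808061140204b0006c02806014002c940300a0192800102c00984806580026124000982c9)

/-- generators -/
def mclPoint2025Gens : List (List Stp) := [
  [.mono 15789278349129387500400020053887031 0],
  [.mono 984559288045672395699075860841728032 0],
  [.mono 974047838953398371220996715143464992 0],
  [.mono 895798584784891153779941252062949611 9925828, .xi, .mono 435609380268350390530004215447829033 11139408],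
  [.mono 797833981473782190893683826646593192 8762092, .xi, .mono 127467898797766448402996744987877041 8517090]]

/-- start -/
def mclPoint2025Start0 : List ℤ := [0, 4, 0, -4, 0, 0, 0, 0, 0, 0, 0, 0, 0, 0, 0, 0, 0, 0, 0, 0, 0, 0, 0, 0]

/-- walk with 462 points: base, length, digits -/
def mclPoint2025Walk0 : ℕ × ℕ × ℕ := (6, 922, 0xfc51ba659469e0ad2581f0186bd9b148155a64756b33346cd246035c5ac15bd443889b75edfce7768024973414bd35768b8527e0483f6968558c04bd7ccbd6ebf37112145a1057e0902e87dd409b2e2ab571a1cf816d7422fb0fa7b8647830d986c6d8c0f08c80d7064977401ca9559e049c6ead66e6bce385623d79090c448be4306aa32315957bf4fc1e3f8d6db82c8074baa21a4e77de758e755e5d23b0a7c0efa9a7e78a6717d60e409bb7aac650020feeb2a7cbe549d065474676af1939fef182351ca6c414d47e3818cca68941209f13ad7aa0aa70dc7fcb31b0b287fda1f063e965f68db2d157ec67c8266983fe20d7e3fcbfca5b28665c49524feaab0564c06f78a07b540fefd5da00c94576cd5a4092adb0192c9aff63c32744ede45ab2245121eadbb)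

/-- start -/
def mclPoint2025Start1 : List ℤ := [0, 2, 2, -2, -2, -2, 0, 0, -2, 0, 0, -2, 0, -2, 0, 0, 0, 0, 0, 0, 0, 0, 0, 0]

/-- walk with 330 points: base, length, digits -/
def mclPoint2025Walk1 : ℕ × ℕ × ℕ := (6, 658, 0x80a3489727f77e080477af15cf85eb83976a787751d878bbd9c7c349d739ef20c1b2f29d06b54930feb195713a729f3cdb415cd63b59d90019d481947afef3274d0cd9f30b7659fe6d2441a463f02f3b0db3ca0ed1f6477fd0cdd6c4e5794a832a516bdf5bf01c6f99020de61abd6c8fd2ee4aa1f19c40c91cf200a56eeb7bba8c7253bb7d6321ce764bdff4ce5e89a3e38105d328f5a88da236586f712e6f427f9e3b27168b781019d9f492a143370260ccd4c3e3d37c0cd19f06db612e87200b7ea19beab60c43a36b286bd0754ee9b88df3)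

/-- start -/
def mclPoint2025Start2 : List ℤ := [0, 0, -2, -2, -2, -2, -2, 0, 0, -2, 0, 0, -2, 0, -2, 0, 0, 0, 0, 0, 0, 0, 0, 0]

/-- walk with 1232 points: base, length, digits -/
def mclPoint2025Walk2 : ℕ × ℕ × ℕ := (6, 2462, 0x22ae59e790bea41a60414039994162fef5b0976b5df543d2c38dc29b2a6a8d2398b0bb71163dd773e036d277d3b93d6a52afd1e51e067d6670c9d093a3e34ee6c4f596c8adc1dc2498a5f717258fe90cde4937264d58ed65760baf5fa8418e0ea979d19f69470a0a93ccac45230f760ce4c74aeeb4f20aa54a6147dbc53b6832f20c85e541272d5df28bf7f8b0d2cf85fea3732115dde4900d475804cbc47a3c4aad3ac3e58a4facfb20c1967ec4782ccc6b4b818e6df5981a91184af8420de63dce571ce96493ef8d5978c7639e3b0b9015b13184544049854c21ab6e6b95ead55d652c11d405a123ad846978ee124afa1b2e2217eb976662f58a32ac9be77032eddafcb3d52e9d20605d3c5640c65793ce6d0959064ab3a15e7aec4ad2b62df9059a1652aff47937ffd10ba8345b0a593a5499a14975521dc22eab966ccc6525ba9dd4da8c3482ce546ad250850782a5a1a01ac2db21f4fd0eee4ce771f362003e12ceaca70a44effdfa3c0b1a65d9ef908c9c383b530a4add9773121ac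a16f0880fecfdd5b25f53b51b355fd8489ce2d0d0c6a9278292a49d0b6166db133a3225e212df483f7825b5dfc883ae180e465a44fe630f21e96e97f235039038c8e69b1bd37fe60d402cedba377f55b70fc695c3ea7679d0809d2dee40c720b8d018339fd20ad65d9566d2f37f20058413e5ac72d20064c701cba70e4367af0edba6371ee021afbc67af387e16eba1be20b498f4071d21b27670617e1a05147433215b82eb53d904d357c808fc0908ff19c37025467c77af19bb7283ca0daccf3b92d65fe23755dbb6ab31054ba2402dad56bbde5a34ffcbe3ab639fbc3ffac99933580791694c435f210dc316a2b9af48a3dddec202b681ca7ac8f6c5dd0fb6c1878b1ff59325acf67c3aa01069b5d32db0e4ea106d229798eea9df6ac3f6e5943784b3ff85e08109097252184c30925b6fcc66fc93f5ad2e079cc51c5ac32e4be81fdb64dfa257f01d756164caf38ab3ff137aab14974dbfa098bc954a8f67a2f6760e13fb27b8ed9a280df42c9cdbb553fbbcbbdef82e7980f6f96b0d879509ad4d9c530fa1b3f627ff16c369989fccbd6bfe905084edee637)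

/-- a lattice vector given by its coordinate list -/
def mkV (l : List ℤ) (h : inLeechB (lOf (vOf l)) = true) : leechLattice :=
  ⟨vOf l, mem_leech_of_inLeechB h⟩

/-- `3` at the point `1` and `-1` elsewhere -/
def ce : leechLattice :=
  mkV [-1, 3, -1, -1, -1, -1, -1, -1, -1, -1, -1, -1, -1, -1, -1, -1, -1, -1, -1, -1, -1, -1, -1, -1]
    (by decide +kernel)

theorem norm_v0 : sqNorm (v0 : GolayPt → ℤ) = 32 := by decide +kernel

theorem norm_ce : sqNorm (ce : GolayPt → ℤ) = 32 := by decide +kernel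

theorem dot_v0_ce : dotInt (v0 : GolayPt → ℤ) (ce : GolayPt → ℤ) = -8 := by decide +kernel

/-- Pairs of short vectors with inner product `-8` all look like `(v0, ce)`. -/
theorem exists_std {v w : leechLattice} (hv : sqNorm (v : GolayPt → ℤ) = 32)
    (hw : sqNorm (w : GolayPt → ℤ) = 32)
    (hd : dotInt (v : GolayPt → ℤ) (w : GolayPt → ℤ) = -8) :
    ∃ g : Co0, g • v = v0 ∧ g • w = ce :=
  exists_pair_map (Or.inr (Or.inl rfl)) hv norm_v0 hw norm_ce hd dot_v0_ce

/-- class of `v0` -/
def cV0 : Census.Cls := [(4, 8388609)]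

/-- class of `ce` -/
def cCE : Census.Cls := [(-1, 16777213), (3, 2)]

theorem ncard_275 : (cfgSet [(v0, 16), (ce, 8)]).ncard = 275 := by
  rw [cfgSet_eq_censusSet (C := [(cV0, 16), (cCE, 8)]) (by decide +kernel), Census.ncard_censusSet]
  rw [Census.count_of_parts (a := 2) (B := [0, 0, 0, 0, 0, 57, 57, 47])
    (D := [2, 6, 6, 18, 6, 18, 18, 38]) (by decide +kernel) ?_ ?_]
  · rfl
  · refine ⟨?_, ?_, ?_, ?_, ?_, ?_, ?_, ?_, Census.Parts.nil ?_⟩ <;>
      decide +kernel
  · refine ⟨?_, ?_, ?_, ?_, ?_, ?_, ?_, ?_, Census.Parts.nil ?_⟩ <;>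
      decide +kernel

theorem ncard_2025 : (cfgSet [(v0, 0), (ce, 16)]).ncard = 2025 := by
  rw [cfgSet_eq_censusSet (C := [(cV0, 0), (cCE, 16)]) (by decide +kernel), Census.ncard_censusSet]
  rw [Census.count_of_parts (a := 21) (B := [206, 204, 197, 201, 199, 59, 14, 12])
    (D := [18, 54, 54, 146, 54, 146, 146, 294]) (by decide +kernel) ?_ ?_]
  · rfl
  · refine ⟨?_, ?_, ?_, ?_, ?_, ?_, ?_, ?_, Census.Parts.nil ?_⟩ <;>
      decide +kernel
  · refine ⟨?_, ?_, ?_, ?_, ?_, ?_, ?_, ?_, Census.Parts.nil ?_⟩ <;>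
      decide +kernel

/-- the stabiliser of the pair -/
abbrev pairStab : Subgroup Co0 := MulAction.stabilizer Co0 v0 ⊓ MulAction.stabilizer Co0 ce

/-- a point of the 275 -/
def p275 : leechLattice := mkV mclStart0 (by decide +kernel)

/-- a point of the 2025 -/
def p2025 : leechLattice := mkV mclStart1 (by decide +kernel)

theorem gens_pair : Gens pairStab mclGens :=
  Gens.of_fixesB (cfg := [lOf (v0 : GolayPt → ℤ), lOf (ce : GolayPt → ℤ)]) (by decide +kernel)
    fun _ h => ⟨MulAction.mem_stabilizer_iff.2 (h v0 (by simp)),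
      MulAction.mem_stabilizer_iff.2 (h ce (by simp))⟩

theorem pairStab_fix (a b : ℤ) : ∀ g ∈ pairStab, ∀ q ∈ [(v0, a), (ce, b)], g • q.1 = q.1 := by
  rintro g ⟨h1, h2⟩ q hq
  simp only [List.mem_cons, List.not_mem_nil, or_false] at hq
  rcases hq with rfl | rfl <;> [exact h1; exact h2]

theorem p275_mem : p275 ∈ cfgSet [(v0, 16), (ce, 8)] :=
  mem_cfgSet_two.2 ⟨by decide +kernel, by decide +kernel, by decide +kernel⟩

theorem p2025_mem : p2025 ∈ cfgSet [(v0, 0), (ce, 16)] :=
  mem_cfgSet_two.2 ⟨by decide +kernel, by decide +kernel, by decide +kernel⟩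

theorem orbit_275 : MulAction.orbit pairStab p275 = cfgSet [(v0, 16), (ce, 8)] :=
  orbit_eq_cfgSet (pairStab_fix 16 8) p275_mem ncard_275
    (gens_pair.le_orbit (start := mclStart0) (w := mclWalk0) (by decide +kernel) (by decide +kernel)
      (by decide +kernel))

theorem orbit_2025 : MulAction.orbit pairStab p2025 = cfgSet [(v0, 0), (ce, 16)] :=
  orbit_eq_cfgSet (pairStab_fix 0 16) p2025_mem ncard_2025
    (gens_pair.le_orbit (start := mclStart1) (w := mclWalk1) (by decide +kernel) (by decide +kernel)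
      (by decide +kernel))

/-! ### Point stabilisers -/

/-- stabiliser of the pair and a point of the 275 -/
abbrev stab275 : Subgroup Co0 := pairStab ⊓ MulAction.stabilizer Co0 p275

/-- stabiliser of the pair and a point of the 2025 -/
abbrev stab2025 : Subgroup Co0 := pairStab ⊓ MulAction.stabilizer Co0 p2025

theorem gens_275 : Gens stab275 mclPtGens :=
  Gens.of_fixesB (cfg := [lOf (v0 : GolayPt → ℤ), lOf (ce : GolayPt → ℤ),
    lOf (p275 : GolayPt → ℤ)]) (by decide +kernel)
    fun _ h => ⟨⟨MulAction.mem_stabilizer_iff.2 (h v0 (by simp)),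
      MulAction.mem_stabilizer_iff.2 (h ce (by simp))⟩,
      MulAction.mem_stabilizer_iff.2 (h p275 (by simp))⟩

theorem gens_2025 : Gens stab2025 mclPoint2025Gens :=
  Gens.of_fixesB (cfg := [lOf (v0 : GolayPt → ℤ), lOf (ce : GolayPt → ℤ),
    lOf (p2025 : GolayPt → ℤ)]) (by decide +kernel)
    fun _ h => ⟨⟨MulAction.mem_stabilizer_iff.2 (h v0 (by simp)),
      MulAction.mem_stabilizer_iff.2 (h ce (by simp))⟩,
      MulAction.mem_stabilizer_iff.2 (h p2025 (by simp))⟩

/-- representatives in the 275 -/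
def q275 : Fin 2 → leechLattice :=
  ![mkV mclPtStart0 (by decide +kernel), mkV mclPtStart1 (by decide +kernel)]

/-- representatives in the 2025 -/
def q2025 : Fin 3 → leechLattice :=
  ![mkV mclPoint2025Start0 (by decide +kernel), mkV mclPoint2025Start1 (by decide +kernel),
    mkV mclPoint2025Start2 (by decide +kernel)]

/-- The suborbits of a point of the 275 are the two classes of inner product, 162 and 112. -/
theorem classes_275 :
    (∀ i, MulAction.orbit stab275 (q275 i) = cfgSet [(v0, 16), (ce, 8), (p275, ![16, 8] i)] ∧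
      (cfgSet [(v0, 16), (ce, 8), (p275, ![16, 8] i)]).ncard = ![162, 112] i) ∧
    ∀ z ∈ cfgSet [(v0, 16), (ce, 8)], z = p275 ∨
      ∃ i : Fin 2, dotInt (p275 : GolayPt → ℤ) (z : GolayPt → ℤ) = ![16, 8] i := by
  have h := classes_of_bounds (K := stab275) (x := p275)
    (fun g hg => pairStab_fix 16 8 g hg.1) (fun g hg => hg.2) p275_mem
    (![16, 8] : Fin 2 → ℤ) (by decide) (by decide) q275 ![162, 112]
    (by
      intro i
      rw [mem_cfgSet_two]
      fin_cases i <;>
        exact ⟨⟨by decide +kernel, by decide +kernel, by decide +kernel⟩, by decide +kernel⟩)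
    (by
      intro i
      fin_cases i
      · exact gens_275.le_orbit (start := mclPtStart0) (w := mclPtWalk0) (by decide +kernel)
          (by decide +kernel) (by decide +kernel)
      · exact gens_275.le_orbit (start := mclPtStart1) (w := mclPtWalk1) (by decide +kernel)
          (by decide +kernel) (by decide +kernel))
    (by rw [ncard_275, Fin.sum_univ_two]; rfl)
  refine ⟨fun i => ?_, h.2⟩
  have h1 := h.1 i
  rwa [classSet_eq, List.cons_append, List.cons_append, List.nil_append] at h1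

/-- The suborbits of a point of the 2025: 462, 330 and 1232. -/
theorem classes_2025 :
    (∀ i, MulAction.orbit stab2025 (q2025 i) = cfgSet [(v0, 0), (ce, 16), (p2025, ![16, 0, 8] i)] ∧
      (cfgSet [(v0, 0), (ce, 16), (p2025, ![16, 0, 8] i)]).ncard = ![462, 330, 1232] i) ∧
    ∀ z ∈ cfgSet [(v0, 0), (ce, 16)], z = p2025 ∨
      ∃ i : Fin 3, dotInt (p2025 : GolayPt → ℤ) (z : GolayPt → ℤ) = ![16, 0, 8] i := by
  have h := classes_of_bounds (K := stab2025) (x := p2025)
    (fun g hg => pairStab_fix 0 16 g hg.1) (fun g hg => hg.2) p2025_mem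
    (![16, 0, 8] : Fin 3 → ℤ) (by decide) (by decide) q2025 ![462, 330, 1232]
    (by
      intro i
      rw [mem_cfgSet_two]
      fin_cases i <;>
        exact ⟨⟨by decide +kernel, by decide +kernel, by decide +kernel⟩, by decide +kernel⟩)
    (by
      intro i
      fin_cases i
      · exact gens_2025.le_orbit (start := mclPoint2025Start0) (w := mclPoint2025Walk0)
          (by decide +kernel) (by decide +kernel) (by decide +kernel)
      · exact gens_2025.le_orbit (start := mclPoint2025Start1) (w := mclPoint2025Walk1)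
          (by decide +kernel) (by decide +kernel) (by decide +kernel)
      · exact gens_2025.le_orbit (start := mclPoint2025Start2) (w := mclPoint2025Walk2)
          (by decide +kernel) (by decide +kernel) (by decide +kernel))
    (by rw [ncard_2025, Fin.sum_univ_three]; rfl)
  refine ⟨fun i => ?_, h.2⟩
  have h1 := h.1 i
  rwa [classSet_eq, List.cons_append, List.cons_append, List.nil_append] at h1

/-! ### Transport -/

theorem exists_std_275 {v w x : leechLattice} (hv : sqNorm (v : GolayPt → ℤ) = 32)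
    (hw : sqNorm (w : GolayPt → ℤ) = 32) (hd : dotInt (v : GolayPt → ℤ) (w : GolayPt → ℤ) = -8)
    (hx : x ∈ cfgSet [(v, 16), (w, 8)]) :
    ∃ g : Co0, g • v = v0 ∧ g • w = ce ∧ g • x = p275 := by
  obtain ⟨g, h1, h2⟩ := exists_std hv hw hd
  have h3 := smul_mem_cfgSet (g := g) hx
  simp only [List.map_cons, List.map_nil, h1, h2, ← orbit_275] at h3
  obtain ⟨⟨k, hk1, hk2⟩, hk⟩ := h3
  change k • p275 = g • x at hk
  refine ⟨k⁻¹ * g, ?_, ?_, ?_⟩ <;>
    rw [mul_smul, inv_smul_eq_iff]
  · rw [h1]; exact hk1.symm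
  · rw [h2]; exact hk2.symm
  · exact hk.symm

theorem exists_std_2025 {v w x : leechLattice} (hv : sqNorm (v : GolayPt → ℤ) = 32)
    (hw : sqNorm (w : GolayPt → ℤ) = 32) (hd : dotInt (v : GolayPt → ℤ) (w : GolayPt → ℤ) = -8)
    (hx : x ∈ cfgSet [(v, 0), (w, 16)]) :
    ∃ g : Co0, g • v = v0 ∧ g • w = ce ∧ g • x = p2025 := by
  obtain ⟨g, h1, h2⟩ := exists_std hv hw hd
  have h3 := smul_mem_cfgSet (g := g) hx
  simp only [List.map_cons, List.map_nil, h1, h2, ← orbit_2025] at h3
  obtain ⟨⟨k, hk1, hk2⟩, hk⟩ := h3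
  change k • p2025 = g • x at hk
  refine ⟨k⁻¹ * g, ?_, ?_, ?_⟩ <;>
    rw [mul_smul, inv_smul_eq_iff]
  · rw [h1]; exact hk1.symm
  · rw [h2]; exact hk2.symm
  · exact hk.symm

end CfsgLib.Spor.McLConfig
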