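import Cfsg.Agent.Lib.Spor.Co0CensusParts
import Cfsg.Agent.Lib.Spor.McLConfig
import Cfsg.Agent.Lib.Spor.HSConfig
import Cfsg.Agent.Lib.Spor.CentralFree
import Cfsg.Agent.Lib.Spor.ConwaySpan
import Cfsg.Agent.Lib.Spor.ConwayArith
import Cfsg.Prelude.Def_Sporadic

/-!
The stabilisers of short and norm 48 vectors and of the two pairs are simple of the orders of
`Co₂`, `Co₃`, `McL` and `HS`.
-/

set_option autoImplicit false
set_option Elab.async false
set_option maxRecDepth 100000
set_option maxHeartbeats 0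

namespace CfsgLib.Spor.ConwaySimple

open Cfsg
open CfsgLib.Spor
open CfsgLib.Spor.Config
open CfsgLib.Spor.ConwayArith
open CfsgLib.Spor.CentralFree
open CfsgLib.Spor.ShortPairs (v0 x0)
open CfsgLib.Spor.McLConfig (ce)
open CfsgLib.Spor.HSConfig (bigV bigW)

/-! ### Orders -/

theorem natCard_stab {n : ℤ} (hn : n = 32 ∨ n = 48 ∨ n = 64) (v : leechLattice)
    (hv : sqNorm (v : GolayPt → ℤ) = n) {c : ℕ}
    (hc : {x : GolayPt → ℤ | x ∈ leechLattice ∧ sqNorm x = n}.ncard = c) :
    Nat.card (MulAction.stabilizer Co0 v) * c = 8315553613086720000 := by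
  have horb : MulAction.orbit Co0 v = normSet n := by
    ext w
    constructor
    · rintro ⟨g, rfl⟩; exact (coe_smul_sqNorm g v).trans hv
    · exact fun hw => exists_map hn v w hv hw
  rw [← natCard_Co0, ← Subgroup.card_mul_index (MulAction.stabilizer Co0 v),
    MulAction.index_stabilizer, horb, ncard_normSet hc]

theorem natCard_stab32 (v : leechLattice) (hv : sqNorm (v : GolayPt → ℤ) = 32) :
    Nat.card (MulAction.stabilizer Co0 v) = 42305421312000 := by
  have h := natCard_stab (Or.inl rfl) v hv ncard_norm_32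
  omega

theorem natCard_stab48 (v : leechLattice) (hv : sqNorm (v : GolayPt → ℤ) = 48) :
    Nat.card (MulAction.stabilizer Co0 v) = 495766656000 := by
  have h := natCard_stab (Or.inr (Or.inl rfl)) v hv ncard_norm_48
  omega

theorem ncard_47104 : (cfgSet [(v0, -8)]).ncard = 47104 := by
  rw [cfgSet_eq_censusSet (C := [(McLConfig.cV0, -8)]) (by decide +kernel), Census.ncard_censusSet]
  rw [Census.count_of_parts (a := 0) (B := [2560, 2304, 1984, 2112, 1856, 3328, 4288, 4096])
    (D := [3072, 3072, 3072, 3072, 3072, 3072, 3072, 3072]) (by decide +kernel) ?_ ?_]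
  · rfl
  · refine ⟨?_, ?_, ?_, ?_, ?_, ?_, ?_, ?_, Census.Parts.nil ?_⟩ <;>
      decide +kernel
  · refine ⟨?_, ?_, ?_, ?_, ?_, ?_, ?_, ?_, Census.Parts.nil ?_⟩ <;>
      decide +kernel

theorem ncard_93150 : (cfgSet [(v0, 0)]).ncard = 93150 := by
  rw [cfgSet_eq_censusSet (C := [(McLConfig.cV0, 0)]) (by decide +kernel), Census.ncard_censusSet]
  rw [Census.count_of_parts (a := 926) (B := [7168, 7680, 8320, 8064, 8576, 4032, 1856, 1472])
    (D := [5632, 5632, 5632, 5632, 5632, 5632, 5632, 5632]) (by decide +kernel) ?_ ?_]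
  · rfl
  · refine ⟨?_, ?_, ?_, ?_, ?_, ?_, ?_, ?_, Census.Parts.nil ?_⟩ <;>
      decide +kernel
  · refine ⟨?_, ?_, ?_, ?_, ?_, ?_, ?_, ?_, Census.Parts.nil ?_⟩ <;>
      decide +kernel

theorem orbit_pairs {d : ℤ} (hd : d = 0 ∨ d = -8 ∨ d = -16) {w : leechLattice}
    (hw : w ∈ cfgSet [(v0, d)]) :
    MulAction.orbit (MulAction.stabilizer Co0 v0) w = cfgSet [(v0, d)] := by
  ext z
  constructor
  · intro hz
    refine orbit_subset (fun g hg q hq => ?_) hw hz
    simp only [List.mem_cons, List.not_mem_nil, or_false] at hq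
    subst hq
    exact hg
  · intro hz
    rw [mem_cfgSet_one] at hz hw
    obtain ⟨g, h1, h2⟩ := ShortPairs.exists_pair_map hd McLConfig.norm_v0 McLConfig.norm_v0
      hw.1 hz.1 hw.2 hz.2
    exact ⟨⟨g, h1⟩, h2⟩

theorem natCard_mclStd : Nat.card McLConfig.pairStab = 898128000 := by
  have h := natCard_inf_stab (K := MulAction.stabilizer Co0 v0) ce
  rw [orbit_pairs (Or.inr (Or.inl rfl))
    (mem_cfgSet_one.2 ⟨McLConfig.norm_ce, McLConfig.dot_v0_ce⟩), ncard_47104,
    natCard_stab32 v0 McLConfig.norm_v0] at h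
  change Nat.card McLConfig.pairStab * 47104 = 42305421312000 at h
  omega

theorem stab_pair_eq : MulAction.stabilizer Co0 bigV ⊓ MulAction.stabilizer Co0 bigW =
    MulAction.stabilizer Co0 bigV ⊓ MulAction.stabilizer Co0 HSConfig.x0 := by
  ext g
  simp only [Subgroup.mem_inf, MulAction.mem_stabilizer_iff, HSConfig.W_eq, smul_neg_co0,
    coe_smul_add, neg_inj]
  constructor
  · rintro ⟨h1, h2⟩; rw [h1] at h2; exact ⟨h1, add_left_cancel h2⟩
  · rintro ⟨h1, h2⟩; rw [h1, h2]; exact ⟨rfl, rfl⟩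

theorem natCard_hsStd : Nat.card HSConfig.pairStab = 44352000 := by
  have h := natCard_inf_stab (K := MulAction.stabilizer Co0 bigV) HSConfig.x0
  rw [HSConfig.orbit_11178, HSConfig.ncard_11178, natCard_stab48 bigV HSConfig.norm_V,
    ← stab_pair_eq] at h
  change Nat.card HSConfig.pairStab * 11178 = 495766656000 at h
  omega

/-! ### Self-centralising elements -/

/-- `-3` at the extra point, `1` elsewhere -/
def u23 : leechLattice :=
  McLConfig.mkV [1, 1, 1, 1, 1, 1, 1, 1, 1, 1, 1, 1, 1, 1, 1, 1, 1, 1, 1, 1, 1, 1, 1, -3]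
    (by decide +kernel)

theorem norm_u23 : sqNorm (u23 : GolayPt → ℤ) = 32 := by decide +kernel

theorem z23_fix {v : leechLattice}
    (h : ∀ p, (v : GolayPt → ℤ) (gT.symm p) = (v : GolayPt → ℤ) p) : z23 • v = v :=
  Subtype.ext (funext fun p => (permEl_coe _ v p).trans (h p))

theorem z11_fix {v : leechLattice}
    (h : ∀ p, (v : GolayPt → ℤ) (g2.symm p) = (v : GolayPt → ℤ) p) : z11 • v = v :=
  Subtype.ext (funext fun p => (permEl_coe _ v p).trans (h p))

theorem u23_fix : ∀ p, (u23 : GolayPt → ℤ) (gT p) = (u23 : GolayPt → ℤ) p ∧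
    (u23 : GolayPt → ℤ) (g2 p) = (u23 : GolayPt → ℤ) p := by decide +kernel

theorem bigV_fix : ∀ p, (bigV : GolayPt → ℤ) (gT p) = (bigV : GolayPt → ℤ) p ∧
    (bigV : GolayPt → ℤ) (g2 p) = (bigV : GolayPt → ℤ) p := by decide +kernel

theorem bigW_fix : ∀ p, (bigW : GolayPt → ℤ) (g2 p) = (bigW : GolayPt → ℤ) p := by decide +kernel

theorem v0_fix : ∀ p, (v0 : GolayPt → ℤ) (g2 p) = (v0 : GolayPt → ℤ) p := by decide +kernel

theorem symm_fix {σ : Equiv.Perm GolayPt} {f : GolayPt → ℤ} (h : ∀ p, f (σ p) = f p) (p : GolayPt) :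
    f (σ.symm p) = f p := by
  conv_rhs => rw [← σ.apply_symm_apply p, h]

theorem free23 {v : leechLattice} (hfix : ∀ p, (v : GolayPt → ℤ) (gT p) = (v : GolayPt → ℤ) p)
    (h0 : (v : GolayPt → ℤ) none ≠ 0) {b : ℤ} (hb : b ≠ 0)
    (hv : ∀ x : ZMod 23, (v : GolayPt → ℤ) (some x) = b) :
    FreeElt (MulAction.stabilizer Co0 v) 23 :=
  FreeElt.of_co0 (z := z23) (z23_fix (symm_fix hfix)) orderOf_z23
    fun _ hg hc => central23 h0 hb hv hg hc

theorem free_co3 : FreeElt (MulAction.stabilizer Co0 bigV) 23 :=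
  free23 (fun p => (bigV_fix p).1) (by decide +kernel) (b := -1) (by norm_num) (by decide +kernel)

theorem free_co2 : FreeElt (MulAction.stabilizer Co0 v0) 23 := by
  obtain ⟨g, hg⟩ := exists_map (n := 32) (by norm_num) u23 v0 norm_u23 McLConfig.norm_v0
  refine FreeElt.of_equiv (confEquiv g (mem_stabilizer_conj hg)) ?_
  exact free23 (fun p => (u23_fix p).1) (by decide +kernel) (b := 1) (by norm_num) (by decide +kernel)

theorem dot_classes {u w : GolayPt → ℤ} (hu : ∀ p, u (g2.symm p) = u p) (a b : ℤ)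
    (hw : ∀ x : ZMod 23, x ≠ 0 → w (some x) = if x ^ 11 = 1 then a else b) :
    dotInt u w = u none * w none + u (some 0) * w (some 0) +
      11 * (u (some 1) * a) + 11 * (u (some 5) * b) := by
  rw [dotInt]
  refine sum_classes (fun p => u p * w p) _ _ fun x hx => ?_
  simp only [coords_fixed11 hu x hx, hw x hx]
  split <;> rfl

theorem norm_classes {u : GolayPt → ℤ} (hu : ∀ p, u (g2.symm p) = u p) :
    sqNorm u = u none ^ 2 + u (some 0) ^ 2 + 11 * u (some 1) ^ 2 + 11 * u (some 5) ^ 2 := by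
  rw [sqNorm]
  refine sum_classes (fun p => u p ^ 2) _ _ fun x hx => ?_
  simp only [coords_fixed11 hu x hx]
  split <;> rfl

theorem eq_eTop {u : GolayPt → ℤ} (hu : ∀ p, u (g2.symm p) = u p) (h : u none = 8)
    (h0 : u (some 0) = 0) (h1 : u (some 1) = 0) (h5 : u (some 5) = 0) :
    u = (eTop : GolayPt → ℤ) := by
  funext p
  rw [eTop_coe]
  cases p with
  | none => rw [Pi.single_eq_same, h]
  | some x =>
    rw [Pi.single_eq_of_ne (Option.some_ne_none x)]
    by_cases hx : x = 0
    · rw [hx, h0]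
    · rw [coords_fixed11 hu x hx, h1, h5, ite_self]

theorem small_sq {c A B d : ℤ} (h : A ^ 2 + B ^ 2 + 11 * c ^ 2 + 11 * d ^ 2 = 64) :
    -3 < c ∧ c < 3 ∧ -3 < d ∧ d < 3 := by
  refine ⟨?_, ?_, ?_, ?_⟩ <;> nlinarith [sq_nonneg A, sq_nonneg B, sq_nonneg c, sq_nonneg d]

theorem force_hs (u : GolayPt → ℤ) (hu : ∀ p, u (g2.symm p) = u p) (hn : sqNorm u = 64)
    (h1 : dotInt u (bigV : GolayPt → ℤ) = dotInt (eTop : GolayPt → ℤ) (bigV : GolayPt → ℤ))
    (h2 : dotInt u (bigW : GolayPt → ℤ) = dotInt (eTop : GolayPt → ℤ) (bigW : GolayPt → ℤ)) :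
    u = (eTop : GolayPt → ℤ) := by
  rw [dot_classes hu (-1) (-1) (by decide +kernel),
    show dotInt (eTop : GolayPt → ℤ) (bigV : GolayPt → ℤ) = -40 from by decide +kernel,
    show (bigV : GolayPt → ℤ) none = -5 from by decide +kernel,
    show (bigV : GolayPt → ℤ) (some 0) = -1 from by decide +kernel] at h1
  rw [dot_classes hu 1 1 (by decide +kernel),
    show dotInt (eTop : GolayPt → ℤ) (bigW : GolayPt → ℤ) = 8 from by decide +kernel,
    show (bigW : GolayPt → ℤ) none = 1 from by decide +kernel,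
    show (bigW : GolayPt → ℤ) (some 0) = 5 from by decide +kernel] at h2
  rw [norm_classes hu] at hn
  obtain ⟨c1, c2, d1, d2⟩ := small_sq hn
  have key : u none = 8 ∧ u (some 0) = 0 ∧ u (some 1) = 0 ∧ u (some 5) = 0 := by
    generalize u none = A at *
    generalize u (some 0) = B at *
    generalize u (some 1) = c at *
    generalize u (some 5) = d at *
    have hA : A = B + 8 := by omega
    subst hA
    obtain ⟨b1, b2⟩ : -9 < B ∧ B < 9 := ⟨by nlinarith, by nlinarith⟩
    interval_cases c <;> interval_cases d <;>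
      first
        | omega
        | (interval_cases B <;> omega)
  exact eq_eTop hu key.1 key.2.1 key.2.2.1 key.2.2.2

theorem force_mcl (u : GolayPt → ℤ) (hu : ∀ p, u (g2.symm p) = u p) (hn : sqNorm u = 64)
    (h1 : dotInt u (v0 : GolayPt → ℤ) = dotInt (eTop : GolayPt → ℤ) (v0 : GolayPt → ℤ))
    (h2 : dotInt u (u23 : GolayPt → ℤ) = dotInt (eTop : GolayPt → ℤ) (u23 : GolayPt → ℤ)) :
    u = (eTop : GolayPt → ℤ) := by
  rw [dot_classes hu 0 0 (by decide +kernel),
    show dotInt (eTop : GolayPt → ℤ) (v0 : GolayPt → ℤ) = 32 from by decide +kernel,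
    show (v0 : GolayPt → ℤ) none = 4 from by decide +kernel,
    show (v0 : GolayPt → ℤ) (some 0) = 4 from by decide +kernel] at h1
  rw [dot_classes hu 1 1 (by decide +kernel),
    show dotInt (eTop : GolayPt → ℤ) (u23 : GolayPt → ℤ) = -24 from by decide +kernel,
    show (u23 : GolayPt → ℤ) none = -3 from by decide +kernel,
    show (u23 : GolayPt → ℤ) (some 0) = 1 from by decide +kernel] at h2
  rw [norm_classes hu] at hn
  obtain ⟨c1, c2, d1, d2⟩ := small_sq hn
  have key : u none = 8 ∧ u (some 0) = 0 ∧ u (some 1) = 0 ∧ u (some 5) = 0 := by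
    generalize u none = A at *
    generalize u (some 0) = B at *
    generalize u (some 1) = c at *
    generalize u (some 5) = d at *
    obtain rfl : A = 8 - B := by omega
    obtain ⟨b1, b2⟩ : -9 < B ∧ B < 9 := ⟨by nlinarith, by nlinarith⟩
    interval_cases c <;> interval_cases d <;>
      first
        | omega
        | (interval_cases B <;> omega)
  exact eq_eTop hu key.1 key.2.1 key.2.2.1 key.2.2.2

theorem free_hs : FreeElt HSConfig.pairStab 11 := by
  refine FreeElt.of_co0 (z := z11) ⟨z11_fix (symm_fix fun p => (bigV_fix p).2),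
    z11_fix (symm_fix bigW_fix)⟩ orderOf_z11 ?_
  rintro g ⟨hg1, hg2⟩ hc
  refine central11 (v := bigW) (w := bigV) (by decide +kernel) (by decide +kernel)
    (fun u hu hn h1 h2 => force_hs u hu hn h2 h1) (fun σ hs h => ?_) hg2 hg1 hc
  have key : ∀ p, (bigW : GolayPt → ℤ) p = 5 → p = some 0 := by decide +kernel
  have e := key (σ.symm (some 0)) (by rw [h.1]; decide +kernel)
  rw [Equiv.symm_apply_eq] at e
  exact e.symm

theorem dot_v0_u23 : dotInt (v0 : GolayPt → ℤ) (u23 : GolayPt → ℤ) = -8 := by decide +kernel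

theorem free_mcl : FreeElt McLConfig.pairStab 11 := by
  obtain ⟨g, h1, h2⟩ := McLConfig.exists_std McLConfig.norm_v0 norm_u23 dot_v0_u23
  refine FreeElt.of_equiv (confEquiv (K := MulAction.stabilizer Co0 v0 ⊓
    MulAction.stabilizer Co0 u23) g fun k => ?_) ?_
  · simp only [Subgroup.mem_inf, mem_stabilizer_conj h1 k, mem_stabilizer_conj h2 k]
  refine FreeElt.of_co0 (z := z11) ⟨z11_fix (symm_fix v0_fix),
    z11_fix (symm_fix fun p => (u23_fix p).2)⟩ orderOf_z11 ?_
  rintro k ⟨hg1, hg2⟩ hc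
  refine central11 (v := v0) (w := u23) (by decide +kernel) (by decide +kernel)
    force_mcl (fun σ hs h => ?_) hg1 hg2 hc
  have key : ∀ p, (v0 : GolayPt → ℤ) p = 4 → p = none ∨ p = some 0 := by decide +kernel
  rcases key (σ.symm (some 0)) (by rw [h.1]; decide +kernel) with e | e
  · rw [Equiv.symm_apply_eq, hs] at e; simp at e
  · rw [Equiv.symm_apply_eq] at e; exact e.symm

/-! ### Simplicity -/

theorem isSimple_co3 : IsSimpleGroup (MulAction.stabilizer Co0 bigV) := by
  haveI : Fact (Nat.Prime 23) := ⟨by norm_num⟩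
  obtain ⟨z, hz, hC⟩ := free_co3
  have hG := natCard_stab48 bigV HSConfig.norm_V
  have hsq : ¬ 23 * 23 ∣ Nat.card (MulAction.stabilizer Co0 bigV) := by rw [hG]; norm_num
  refine FpfSimple.isSimpleGroup_of_cyclic_centralizer (q := 11) hz hG (by norm_num) hC
    (by norm_num) (by norm_num) (by decide +kernel) fun N hN hp => ?_
  have hd := hG ▸ Subgroup.card_subgroup_dvd_card N
  have nd := fun (r b : ℕ) (hr : r.Prime) hb ha =>
    FpfSimple.not_dvd_of_arith hz hsq hC hN hp (r := r) (b := b) hr hb ha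
  have h2 := nd 2 10 (by norm_num) (by rw [hG]; norm_num) (by decide +kernel)
  have h3 := nd 3 7 (by norm_num) (by rw [hG]; norm_num) (by decide +kernel)
  have h5 := nd 5 3 (by norm_num) (by rw [hG]; norm_num) (by decide +kernel)
  have h7 := nd 7 1 (by norm_num) (by rw [hG]; norm_num) (by decide +kernel)
  have h11 := nd 11 1 (by norm_num) (by rw [hG]; norm_num) (by decide +kernel)
  rw [show (495766656000 : ℕ) = 1 * 2 ^ 10 * 3 ^ 7 * 5 ^ 3 * 7 ^ 1 * 11 ^ 1 * 23 ^ 1 from by
    norm_num] at hd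
  have h := dvd_of_coprime_factor (by norm_num) (dvd_of_coprime_factor (by norm_num)
    (dvd_of_coprime_factor (by norm_num) (dvd_of_coprime_factor (by norm_num)
    (dvd_of_coprime_factor (by norm_num) (dvd_of_coprime_factor (by norm_num) hd hp) h11) h7)
    h5) h3) h2
  exact Subgroup.eq_bot_of_card_eq _ (Nat.dvd_one.1 h)

theorem isSimple_hs : IsSimpleGroup HSConfig.pairStab := by
  haveI : Fact (Nat.Prime 11) := ⟨by norm_num⟩
  obtain ⟨z, hz, hC⟩ := free_hs
  have hG := natCard_hsStd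
  have hsq : ¬ 11 * 11 ∣ Nat.card HSConfig.pairStab := by rw [hG]; norm_num
  refine FpfSimple.isSimpleGroup_of_cyclic_centralizer (q := 5) hz hG (by norm_num) hC
    (by norm_num) (by norm_num) (by decide +kernel) fun N hN hp => ?_
  have hd := hG ▸ Subgroup.card_subgroup_dvd_card N
  have nd := fun (r b : ℕ) (hr : r.Prime) hb ha =>
    FpfSimple.not_dvd_of_arith hz hsq hC hN hp (r := r) (b := b) hr hb ha
  have h2 := nd 2 9 (by norm_num) (by rw [hG]; norm_num) (by decide +kernel)
  have h3 := nd 3 2 (by norm_num) (by rw [hG]; norm_num) (by decide +kernel)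
  have h5 := nd 5 3 (by norm_num) (by rw [hG]; norm_num) (by decide +kernel)
  have h7 := nd 7 1 (by norm_num) (by rw [hG]; norm_num) (by decide +kernel)
  rw [show (44352000 : ℕ) = 1 * 2 ^ 9 * 3 ^ 2 * 5 ^ 3 * 7 ^ 1 * 11 ^ 1 from by norm_num] at hd
  have h := dvd_of_coprime_factor (by norm_num) (dvd_of_coprime_factor (by norm_num)
    (dvd_of_coprime_factor (by norm_num) (dvd_of_coprime_factor (by norm_num)
    (dvd_of_coprime_factor (by norm_num) hd hp) h7) h5) h3) h2
  exact Subgroup.eq_bot_of_card_eq _ (Nat.dvd_one.1 h)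

theorem isSimple_mcl : IsSimpleGroup McLConfig.pairStab := by
  haveI : Fact (Nat.Prime 11) := ⟨by norm_num⟩
  obtain ⟨z, hz, hC⟩ := free_mcl
  have hG := natCard_mclStd
  have hsq : ¬ 11 * 11 ∣ Nat.card McLConfig.pairStab := by rw [hG]; norm_num
  refine FpfSimple.isSimpleGroup_of_cyclic_centralizer (q := 5) hz hG (by norm_num) hC
    (by norm_num) (by norm_num) (by decide +kernel) fun N hN hp => ?_
  have hd := hG ▸ Subgroup.card_subgroup_dvd_card N
  have nd := fun (r b : ℕ) (hr : r.Prime) hb ha =>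
    FpfSimple.not_dvd_of_arith hz hsq hC hN hp (r := r) (b := b) hr hb ha
  have h2 := nd 2 7 (by norm_num) (by rw [hG]; norm_num) (by decide +kernel)
  have h5 := nd 5 3 (by norm_num) (by rw [hG]; norm_num) (by decide +kernel)
  have h7 := nd 7 1 (by norm_num) (by rw [hG]; norm_num) (by decide +kernel)
  rw [show (898128000 : ℕ) = 3 ^ 6 * 2 ^ 7 * 5 ^ 3 * 7 ^ 1 * 11 ^ 1 from by norm_num] at hd
  have h := dvd_of_coprime_factor (by norm_num) (dvd_of_coprime_factor (by norm_num)
    (dvd_of_coprime_factor (by norm_num) (dvd_of_coprime_factor (by norm_num) hd hp) h7) h5) h2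
  haveI : Fact (Nat.Prime 3) := ⟨by norm_num⟩
  -- a normal `3`-subgroup fixes all 275 points
  have hfix : ∀ n ∈ N, ∀ x ∈ cfgSet [(v0, 16), (ce, 8)], (n : Co0) • x = x := by
    intro n hn x hx
    have horb : MulAction.orbit McLConfig.pairStab x = cfgSet [(v0, 16), (ce, 8)] := by
      rw [← McLConfig.orbit_275] at hx ⊢
      exact MulAction.orbit_eq_iff.2 hx
    obtain ⟨h1, h2⟩ := ncard_orbit_normal hN x
    rw [horb, McLConfig.ncard_275] at h1
    obtain ⟨a, ha⟩ := Set.ncard_eq_one.1 (eq_one_of_dvd_pow (h2.trans h) h1 (by norm_num))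
    have e1 : (⟨n, hn⟩ : N) • x = a := Set.mem_singleton_iff.1 (ha ▸ ⟨⟨n, hn⟩, rfl⟩)
    have e2 : x = a := Set.mem_singleton_iff.1 (ha ▸ MulAction.mem_orbit_self x)
    exact e1.trans e2.symm
  refine (Subgroup.eq_bot_iff_forall N).2 fun n hn => Subtype.ext ?_
  refine ConwaySpan.eq_one_of_span ConwaySpan.mcl_ok fun x hx => ?_
  have key : ∀ l ∈ ConwaySpan.mclSpan, l = lOf (v0 : GolayPt → ℤ) ∨ l = lOf (ce : GolayPt → ℤ) ∨
      (sqNorm (vOf l) = 32 ∧ dotInt (v0 : GolayPt → ℤ) (vOf l) = 16 ∧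
        dotInt (ce : GolayPt → ℤ) (vOf l) = 8) := by decide +kernel
  rcases key _ hx with e | e | ⟨e1, e2, e3⟩
  · rw [Subtype.ext (lOf_inj e) (a1 := x) (a2 := v0)]; exact n.2.1
  · rw [Subtype.ext (lOf_inj e) (a1 := x) (a2 := ce)]; exact n.2.2
  · rw [vOf_lOf] at e1 e2 e3
    exact hfix n hn x (mem_cfgSet_two.2 ⟨e1, e2, e3⟩)

/-- a word through each point but the two of `v0` that avoids both of those -/
theorem avoid_word : ∀ i < 23, i ≠ 0 → ∃ m ∈ octadList,
    m.testBit i = true ∧ m.testBit 23 = false ∧ m.testBit 0 = false := by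
  decide +kernel

/-- Only `± x0` are fixed by everything fixing `v0` and `x0`. -/
theorem eq_pm_of_fixed {y : leechLattice} (hy : y ∈ cfgSet [(v0, 0)])
    (h : ∀ g : Co0, g • v0 = v0 → g • x0 = x0 → g • y = y) : y = x0 ∨ y = -x0 := by
  rw [mem_cfgSet_one] at hy
  have hzero : ∀ p : GolayPt, p ≠ none → p ≠ some 0 → (y : GolayPt → ℤ) p = 0 := by
    intro p hp hp0
    have hi : idx p < 23 ∧ idx p ≠ 0 := by
      revert p
      decide +kernel
    obtain ⟨m, hm, h1, h2, h3⟩ := avoid_word _ hi.1 hi.2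
    let c : MonoIdx := (1, ⟨toSet m, toSet_mem_supports (mem_octadList_iff.1 hm).1⟩)
    have hn : none ∉ toSet m ∧ pt 0 ∉ toSet m := by
      refine ⟨?_, ?_⟩ <;> rw [mem_toSet]
      · rw [show idx none = 23 from rfl, h2]; simp
      · rw [show idx (pt 0) = 0 from by decide, h3]; simp
    have hv := ShortPairs.monoEl_fix_v0 (p := c) rfl rfl hn.1 hn.2
    have hx : monoEl c • x0 = x0 := Subtype.ext (by
      rw [monoEl_smul]; exact ShortPairs.monoEl_fix (p := c) rfl rfl hn.1 hn.2 1 (-1))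
    have e := congrArg (fun z : leechLattice => (z : GolayPt → ℤ) p) (h _ hv hx)
    have hpm : p ∈ toSet m := by rw [mem_toSet, h1]
    simp only [c, monoEl_smul, signedPerm, if_pos hpm, OneMemClass.coe_one] at e
    change -(y : GolayPt → ℤ) p = _ at e
    omega
  have hsplit : ∀ F : GolayPt → ℤ, (∀ p, p ≠ none → p ≠ some 0 → F p = 0) →
      ∑ p, F p = F none + F (some 0) := fun F hF => by
    rw [Fintype.sum_option, Finset.sum_eq_single (0 : ZMod 23) (fun x _ hx =>
      hF _ (Option.some_ne_none x) (fun e => hx (Option.some.inj e))) (by simp)]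
  have e1 : dotInt (v0 : GolayPt → ℤ) (y : GolayPt → ℤ) =
      4 * (y : GolayPt → ℤ) none + 4 * (y : GolayPt → ℤ) (some 0) := by
    rw [dotInt, hsplit _ fun p a b => by rw [hzero p a b, mul_zero],
      show (v0 : GolayPt → ℤ) none = 4 from by decide +kernel,
      show (v0 : GolayPt → ℤ) (some 0) = 4 from by decide +kernel]
  have e2 : sqNorm (y : GolayPt → ℤ) =
      (y : GolayPt → ℤ) none ^ 2 + (y : GolayPt → ℤ) (some 0) ^ 2 := by
    rw [sqNorm, hsplit _ fun p a b => by rw [hzero p a b]; norm_num]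
  rw [hy.2] at e1
  rw [hy.1] at e2
  have hb : (y : GolayPt → ℤ) (some 0) = -(y : GolayPt → ℤ) none := by omega
  rw [hb] at e2
  have h4 : ((y : GolayPt → ℤ) none - 4) * ((y : GolayPt → ℤ) none + 4) = 0 := by linarith
  have hx0 : (x0 : GolayPt → ℤ) none = 4 ∧ (x0 : GolayPt → ℤ) (some 0) = -4 ∧
      ∀ p, p ≠ none → p ≠ some 0 → (x0 : GolayPt → ℤ) p = 0 := by
    refine ⟨?_, ?_, ?_⟩ <;> decide +kernel
  rcases mul_eq_zero.1 h4 with e | e
  · left
    refine Subtype.ext (funext fun p => ?_)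
    by_cases a : p = none
    · subst a; omega
    by_cases b : p = some 0
    · subst b; omega
    rw [hzero p a b, hx0.2.2 p a b]
  · right
    refine Subtype.ext (funext fun p => ?_)
    rw [AddSubgroup.coe_neg, Pi.neg_apply]
    by_cases a : p = none
    · subst a; omega
    by_cases b : p = some 0
    · subst b; omega
    rw [hzero p a b, hx0.2.2 p a b, neg_zero]

theorem x0_mem : x0 ∈ cfgSet [(v0, 0)] :=
  mem_cfgSet_one.2 ⟨by decide +kernel, by decide +kernel⟩

/-- A normal `2`-subgroup of `Co₂` acts on the 93150 orthogonal vectors by signs. -/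
theorem sign_of_two {N : Subgroup (MulAction.stabilizer Co0 v0)} (hN : N.Normal) {k : ℕ}
    (hk : Nat.card N ∣ 2 ^ k) {n : MulAction.stabilizer Co0 v0} (hn : n ∈ N) {x : leechLattice}
    (hx : x ∈ cfgSet [(v0, 0)]) : (n : Co0) • x = x ∨ (n : Co0) • x = -x := by
  classical
  obtain ⟨h1, h2⟩ := ncard_orbit_normal hN x
  rw [orbit_pairs (Or.inl rfl) hx, ncard_93150] at h1
  have hle : (MulAction.orbit N x).ncard ≤ 2 := by
    obtain ⟨e, -, he⟩ := (Nat.dvd_prime_pow Nat.prime_two).1 (h2.trans hk)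
    rw [he] at h1 ⊢
    have : e ≤ 1 := by
      by_contra hcon
      push Not at hcon
      exact absurd ((pow_dvd_pow 2 hcon).trans h1) (by norm_num)
    calc 2 ^ e ≤ 2 ^ 1 := Nat.pow_le_pow_right (by norm_num) this
      _ = 2 := by norm_num
  by_cases hne : (n : Co0) • x = x
  · exact Or.inl hne
  right
  obtain ⟨g, hgv, hgx⟩ := ShortPairs.exists_pair_map (Or.inl rfl) McLConfig.norm_v0
    McLConfig.norm_v0 (mem_cfgSet_one.1 hx).1 (mem_cfgSet_one.1 x0_mem).1
    (mem_cfgSet_one.1 hx).2 (mem_cfgSet_one.1 x0_mem).2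
  have hmem : g • ((n : Co0) • x) ∈ cfgSet [(v0, 0)] := by
    have h := smul_mem_cfgSet (g := g) (us := [(v0, 0)])
      (show (n : Co0) • x ∈ cfgSet [(v0, 0)] from
        (orbit_pairs (Or.inl rfl) hx).subset (MulAction.mem_orbit x n))
    simpa only [List.map_cons, List.map_nil, hgv] using h
  have hpm := eq_pm_of_fixed hmem fun k hk1 hk2 => by
    have hkv : (g⁻¹ * k * g) • v0 = v0 := by
      rw [mul_smul, mul_smul, hgv, hk1, inv_smul_eq_iff, hgv]
    have hkx : (g⁻¹ * k * g) • x = x := by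
      rw [mul_smul, mul_smul, hgx, hk2, inv_smul_eq_iff, hgx]
    have hin : (g⁻¹ * k * g) • ((n : Co0) • x) ∈ MulAction.orbit N x := by
      refine ⟨⟨⟨g⁻¹ * k * g, hkv⟩ * n * ⟨g⁻¹ * k * g, hkv⟩⁻¹, hN.conj_mem n hn _⟩, ?_⟩
      show ((g⁻¹ * k * g) * (n : Co0) * (g⁻¹ * k * g)⁻¹) • x = _
      rw [mul_smul, mul_smul, inv_smul_eq_iff.2 hkx.symm]
    have hsub : ({x, (n : Co0) • x} : Set leechLattice) ⊆ MulAction.orbit N x := by
      rintro y (rfl | rfl)
      · exact MulAction.mem_orbit_self _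
      · exact ⟨⟨n, hn⟩, rfl⟩
    have hfinN : (MulAction.orbit N x).Finite := Set.finite_range _
    have heq := Set.eq_of_subset_of_ncard_le hsub
      (hle.trans (Set.ncard_pair (Ne.symm hne)).ge) hfinN
    rw [← heq] at hin
    rcases hin with e | e
    · exfalso
      conv_rhs at e => rw [← hkx]
      exact hne (MulAction.injective _ e)
    · rw [Set.mem_singleton_iff, mul_smul, mul_smul, inv_smul_eq_iff] at e
      exact e
  rcases hpm with e | e
  · exact absurd (MulAction.injective g (e.trans hgx.symm)) hne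
  · exact MulAction.injective g (show g • _ = g • _ by rw [e, smul_neg_co0, hgx])

theorem isSimple_co2 : IsSimpleGroup (MulAction.stabilizer Co0 v0) := by
  haveI : Fact (Nat.Prime 23) := ⟨by norm_num⟩
  obtain ⟨z, hz, hC⟩ := free_co2
  have hG := natCard_stab32 v0 McLConfig.norm_v0
  have hsq : ¬ 23 * 23 ∣ Nat.card (MulAction.stabilizer Co0 v0) := by rw [hG]; norm_num
  refine FpfSimple.isSimpleGroup_of_cyclic_centralizer (q := 11) hz hG (by norm_num) hC
    (by norm_num) (by norm_num) (by decide +kernel) fun N hN hp => ?_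
  have hd := hG ▸ Subgroup.card_subgroup_dvd_card N
  have nd := fun (r b : ℕ) (hr : r.Prime) hb ha =>
    FpfSimple.not_dvd_of_arith hz hsq hC hN hp (r := r) (b := b) hr hb ha
  have h3 := nd 3 6 (by norm_num) (by rw [hG]; norm_num) (by decide +kernel)
  have h5 := nd 5 3 (by norm_num) (by rw [hG]; norm_num) (by decide +kernel)
  have h7 := nd 7 1 (by norm_num) (by rw [hG]; norm_num) (by decide +kernel)
  have h11 := nd 11 1 (by norm_num) (by rw [hG]; norm_num) (by decide +kernel)
  rw [show (42305421312000 : ℕ) = 2 ^ 18 * 3 ^ 6 * 5 ^ 3 * 7 ^ 1 * 11 ^ 1 * 23 ^ 1 from by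
    norm_num] at hd
  have h := dvd_of_coprime_factor (by norm_num) (dvd_of_coprime_factor (by norm_num)
    (dvd_of_coprime_factor (by norm_num) (dvd_of_coprime_factor (by norm_num)
    (dvd_of_coprime_factor (by norm_num) hd hp) h11) h7) h5) h3
  classical
  -- the sign on a reference vector determines an element
  have key : ∀ l ∈ ConwaySpan.co2Span, l = lOf (v0 : GolayPt → ℤ) ∨
      (sqNorm (vOf l) = 32 ∧ dotInt (v0 : GolayPt → ℤ) (vOf l) = 0 ∧
        dotInt (vOf (ConwaySpan.co2Span.getD 1 [])) (vOf l) ≠ 0) := by decide +kernel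
  let r : leechLattice := McLConfig.mkV (ConwaySpan.co2Span.getD 1 []) (by decide +kernel)
  have hr : r ∈ cfgSet [(v0, 0)] := mem_cfgSet_one.2 ⟨by decide +kernel, by decide +kernel⟩
  have hone : ∀ n ∈ N, (n : Co0) • r = r → n = 1 := by
    intro n hn hnr
    refine Subtype.ext (ConwaySpan.eq_one_of_span ConwaySpan.co2_ok fun x hx => ?_)
    rcases key _ hx with e | ⟨e1, e2, e3⟩
    · rw [Subtype.ext (lOf_inj e) (a1 := x) (a2 := v0)]; exact n.2
    · rw [vOf_lOf] at e1 e2 e3
      rcases sign_of_two hN h hn (mem_cfgSet_one.2 ⟨e1, e2⟩) with e | e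
      · exact e
      · exfalso
        have hd' := dot_smul (n : Co0) r x
        rw [hnr, e, AddSubgroup.coe_neg] at hd'
        have hneg : dotInt (r : GolayPt → ℤ) (-(x : GolayPt → ℤ)) =
            -dotInt (r : GolayPt → ℤ) (x : GolayPt → ℤ) := by simp [dotInt]
        rw [hneg] at hd'
        exact e3 (show dotInt (r : GolayPt → ℤ) (x : GolayPt → ℤ) = 0 by omega)
  have hle : Nat.card N ≤ 2 := by
    refine (Nat.card_le_card_of_injective
      (fun n : N => decide (((n : MulAction.stabilizer Co0 v0) : Co0) • r = r)) ?_).trans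
      (by simp)
    intro a b hab
    simp only [decide_eq_decide] at hab
    have hnr : ((((a⁻¹ * b : N) : MulAction.stabilizer Co0 v0)) : Co0) • r = r := by
      simp only [Subgroup.coe_mul, InvMemClass.coe_inv, mul_smul, inv_smul_eq_iff]
      rcases sign_of_two hN h a.2 hr with ea | ea <;> rcases sign_of_two hN h b.2 hr with eb | eb
      · rw [ea, eb]
      · rw [hab.1 ea, ea]
      · rw [hab.2 eb, eb]
      · rw [ea, eb]
    have := hone _ (a⁻¹ * b : N).2 hnr
    exact inv_mul_eq_one.1 (Subtype.ext this)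
  haveI : Fact (Nat.Prime 2) := ⟨Nat.prime_two⟩
  have hm := FpfSimple.sylow_mod_eq_one hz hsq hC hN hp 2
  obtain ⟨e, -, he⟩ := (Nat.dvd_prime_pow Nat.prime_two).1 h
  rw [he, Nat.Prime.factorization_pow Nat.prime_two, Finsupp.single_eq_same] at hm
  refine Subgroup.eq_bot_of_card_eq _ ?_
  rw [he] at hle ⊢
  have he1 : e ≤ 1 := by
    by_contra hcon
    push Not at hcon
    have := Nat.pow_le_pow_right (show 0 < 2 by norm_num) hcon
    omega
  interval_cases e
  · rfl
  · norm_num at hm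

/-! ### The four groups -/

theorem isCo2 (v : leechLattice) (hv : sqNorm (v : GolayPt → ℤ) = 32) :
    IsCo2 (MulAction.stabilizer Co0 v) := by
  refine ⟨?_, natCard_stab32 v hv⟩
  obtain ⟨g, hg⟩ := exists_map (n := 32) (by norm_num) v v0 hv McLConfig.norm_v0
  exact (confEquiv g (mem_stabilizer_conj hg)).isSimpleGroup_congr.2 isSimple_co2

theorem isCo3 (v : leechLattice) (hv : sqNorm (v : GolayPt → ℤ) = 48) :
    IsCo3 (MulAction.stabilizer Co0 v) := by
  refine ⟨?_, natCard_stab48 v hv⟩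
  obtain ⟨g, hg⟩ := exists_map (n := 48) (by norm_num) v bigV hv HSConfig.norm_V
  exact (confEquiv g (mem_stabilizer_conj hg)).isSimpleGroup_congr.2 isSimple_co3

theorem isMcL (v w : leechLattice) (hv : sqNorm (v : GolayPt → ℤ) = 32)
    (hw : sqNorm (w : GolayPt → ℤ) = 32)
    (hvw : dotInt (v : GolayPt → ℤ) (w : GolayPt → ℤ) = -8) :
    IsMcL ↥(MulAction.stabilizer Co0 v ⊓ MulAction.stabilizer Co0 w) := by
  obtain ⟨g, h1, h2⟩ := McLConfig.exists_std hv hw hvw
  have hKL : ∀ k, k ∈ MulAction.stabilizer Co0 v ⊓ MulAction.stabilizer Co0 w ↔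
      g * k * g⁻¹ ∈ McLConfig.pairStab := fun k => by
    simp only [Subgroup.mem_inf, mem_stabilizer_conj h1 k, mem_stabilizer_conj h2 k]
  exact ⟨(confEquiv g hKL).isSimpleGroup_congr.2 isSimple_mcl,
    (natCard_confEquiv g hKL).trans natCard_mclStd⟩

theorem isHS (v w : leechLattice) (hv : sqNorm (v : GolayPt → ℤ) = 48)
    (hw : sqNorm (w : GolayPt → ℤ) = 48)
    (hvw : dotInt (v : GolayPt → ℤ) (w : GolayPt → ℤ) = -32) :
    IsHS ↥(MulAction.stabilizer Co0 v ⊓ MulAction.stabilizer Co0 w) := by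
  obtain ⟨g, h1, h2⟩ := HSConfig.exists_std_pair hv hw hvw
  have hKL : ∀ k, k ∈ MulAction.stabilizer Co0 v ⊓ MulAction.stabilizer Co0 w ↔
      g * k * g⁻¹ ∈ HSConfig.pairStab := fun k => by
    simp only [Subgroup.mem_inf, mem_stabilizer_conj h1 k, mem_stabilizer_conj h2 k]
  exact ⟨(confEquiv g hKL).isSimpleGroup_congr.2 isSimple_hs,
    (natCard_confEquiv g hKL).trans natCard_hsStd⟩

end CfsgLib.Spor.ConwaySimple
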