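import Cfsg.Agent.Lib.Spor.HSConfig
import Cfsg.Prelude.Def_Spor_Conway

/-!
The standard Higman-Sims subgroup of `Co0` is the stabiliser of a pair of norm 48 vectors.
-/

set_option autoImplicit false
set_option maxRecDepth 100000

namespace CfsgLib.Spor.HSIso

open Cfsg CfsgLib.Spor CfsgLib.Spor.Config CfsgLib.Spor.HSConfig

theorem pairStab_equiv_hs : Nonempty (pairStab ≃* Spor.HS) := by
  set v : leechLattice := Spor.leechV with hvdef
  set u : leechLattice := Spor.leechU' with hudef
  set w : leechLattice := -(v + u) with hwdef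
  have hv : sqNorm (v : GolayPt → ℤ) = 48 := by rw [hvdef]; decide +kernel
  have hw : sqNorm (w : GolayPt → ℤ) = 48 := by rw [hwdef, hvdef, hudef]; decide +kernel
  have hvw : dotInt (v : GolayPt → ℤ) (w : GolayPt → ℤ) = -32 := by
    rw [hwdef, hvdef, hudef]; decide +kernel
  obtain ⟨g, h1, h2⟩ := exists_std_pair hv hw hvw
  have hle : Spor.HS ≤ Co0 := fun x hx => hx.1.1
  have he : Spor.HS.subgroupOf Co0 =
      MulAction.stabilizer Co0 v ⊓ MulAction.stabilizer Co0 w := by
    ext x
    simp only [Subgroup.mem_subgroupOf, Subgroup.mem_inf, MulAction.mem_stabilizer_iff]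
    constructor
    · intro hx
      have e1 : x • v = v := hx.1.2
      have e2 : x • u = u := hx.2
      exact ⟨e1, by rw [hwdef, smul_neg_co0, coe_smul_add, e1, e2]⟩
    · rintro ⟨e1, e2⟩
      rw [hwdef, smul_neg_co0, coe_smul_add, e1, neg_inj] at e2
      exact ⟨⟨x.2, e1⟩, add_left_cancel e2⟩
  have hmap : (Spor.HS.subgroupOf Co0).map (MulAut.conj g).toMonoidHom = pairStab := by
    rw [he, Subgroup.map_inf _ _ _ (MulAut.conj g).injective]
    show _ = MulAction.stabilizer Co0 bigV ⊓ MulAction.stabilizer Co0 bigW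
    rw [← h1, ← h2, MulAction.stabilizer_smul_eq_stabilizer_map_conj,
      MulAction.stabilizer_smul_eq_stabilizer_map_conj]
  exact ⟨(MulEquiv.subgroupCongr hmap.symm).trans
    (((Spor.HS.subgroupOf Co0).equivMapOfInjective _ (MulAut.conj g).injective).symm.trans
      (Subgroup.subgroupOfEquivOfLe hle))⟩

end CfsgLib.Spor.HSIso
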