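import Cfsg.Agent.Lib.Spor.GolayCode

/-!
Basic consequences: dimension, weights, counts of octads and dodecads, self-orthogonality and
the Steiner system S(5, 8, 24) of octads.
-/

set_option autoImplicit false

namespace CfsgLib.Spor

open Cfsg

theorem natCard_golayCode : Nat.card (golayCode : Submodule (ZMod 2) (GolayPt → ZMod 2)) = 4096 := by
  have h : Nat.card (supports (golayCode : Set (GolayPt → ZMod 2))) = 4096 := by
    rw [Nat.card_coe_set_eq,
      ncard_of_mask_list codeList codeList_nodup (fun s => mem_supports_iff)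
        (fun m hm => lt_of_mem_codeList hm), codeList_length]
  rw [← h, supports, Nat.card_image_of_injective support₂_injective]
  rfl

theorem finrank_golayCode : Module.finrank (ZMod 2) golayCode = 12 := by
  have h := Module.natCard_eq_pow_finrank (K := ZMod 2) (V := golayCode)
  rw [natCard_golayCode, Nat.card_zmod] at h
  exact (Nat.pow_right_injective (le_refl 2) (h.symm.trans (by norm_num : (4096 : ℕ) = 2 ^ 12)))

theorem weight_cases {w : GolayPt → ZMod 2} (hw : w ∈ golayCode) :
    hammingNorm w = 0 ∨ hammingNorm w = 8 ∨ hammingNorm w = 12 ∨ hammingNorm w = 16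
      ∨ hammingNorm w = 24 := by
  rw [hammingNorm_eq_card_support₂, ← pop_mask]
  exact pop_of_mem_codeList (mem_golayCode_iff.1 hw)

theorem eq_zero_of_weight_lt {w : GolayPt → ZMod 2} (hw : w ∈ golayCode) (h : hammingNorm w < 8) :
    w = 0 := by
  rcases weight_cases hw with h0 | h0 | h0 | h0 | h0
  · exact hammingNorm_eq_zero.1 h0
  all_goals omega

theorem orth {v w : GolayPt → ZMod 2} (hv : v ∈ golayCode) (hw : w ∈ golayCode) :
    ∑ p, v p * w p = 0 := by
  have key : ∀ a ∈ codeList, ∀ b ∈ codeList, ∑ p, word a p * word b p = 0 := by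
    intro a ha
    refine spanList_induction (P := fun b => ∑ p, word a p * word b p = 0) ?_ ?_ ?_
    · simp [word_zero]
    · exact fun b hb => inCode_iff.1 (inCode_of_mem_codeList ha) b (List.mem_reverse.1 hb)
    · intro x y hx hy
      simp only [word_xor, Pi.add_apply, mul_add, Finset.sum_add_distrib, hx, hy, add_zero]
  have := key _ (mem_golayCode_iff.1 hv) _ (mem_golayCode_iff.1 hw)
  rwa [word_mask_support₂, word_mask_support₂] at this

theorem ncard_octads : octads.ncard = 759 := by
  rw [ncard_of_mask_list octadList octadList_nodup (fun s => mem_octads)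
    (fun m hm => lt_of_mem_octadList hm), octadList_spec.2.2.2]

theorem ncard_dodecads : dodecads.ncard = 2576 := by
  rw [ncard_of_mask_list dodecadList dodecadList_nodup (fun s => mem_dodecads)
    (fun m hm => lt_of_mem_dodecadList hm), dodecadList_length]

theorem card_octad {o : Finset GolayPt} (ho : o ∈ octads) : o.card = 8 := ho.2

theorem card_dodecad {d : Finset GolayPt} (hd : d ∈ dodecads) : d.card = 12 := hd.2

theorem symmDiff_mem_supports {s t : Finset GolayPt}
    (hs : s ∈ supports (golayCode : Set (GolayPt → ZMod 2)))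
    (ht : t ∈ supports (golayCode : Set (GolayPt → ZMod 2))) :
    symmDiff s t ∈ supports (golayCode : Set (GolayPt → ZMod 2)) := by
  rw [mem_supports_iff_inCode] at *
  rw [← toSet_mask s, ← toSet_mask t, ← toSet_xor,
    mask_toSet (Nat.xor_lt_two_pow (mask_lt _) (mask_lt _))]
  exact inCode_xor hs ht

theorem card_symmDiff_cases {s t : Finset GolayPt}
    (hs : s ∈ supports (golayCode : Set (GolayPt → ZMod 2)))
    (ht : t ∈ supports (golayCode : Set (GolayPt → ZMod 2))) :
    (symmDiff s t).card = 0 ∨ (symmDiff s t).card = 8 ∨ (symmDiff s t).card = 12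
      ∨ (symmDiff s t).card = 16 ∨ (symmDiff s t).card = 24 := by
  rw [← pop_mask]
  exact pop_of_mem_codeList (mem_supports_iff.1 (symmDiff_mem_supports hs ht))

theorem card_symmDiff_add {α : Type*} [DecidableEq α] (s t : Finset α) :
    (symmDiff s t).card + 2 * (s ∩ t).card = s.card + t.card := by
  have h1 : symmDiff s t = (s \ t) ∪ (t \ s) := rfl
  have hd : Disjoint (s \ t) (t \ s) := disjoint_sdiff_sdiff
  rw [h1, Finset.card_union_of_disjoint hd]
  have := Finset.card_sdiff_add_card_inter s t
  have := Finset.card_sdiff_add_card_inter t s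
  rw [Finset.inter_comm t s] at this
  omega

theorem octad_eq_of_five {o o' : Finset GolayPt} (ho : o ∈ octads) (ho' : o' ∈ octads)
    (h : 5 ≤ (o ∩ o').card) : o = o' := by
  have h2 := card_symmDiff_add o o'
  rw [card_octad ho, card_octad ho'] at h2
  rcases card_symmDiff_cases ho.1 ho'.1 with h0 | h0 | h0 | h0 | h0
  · exact symmDiff_eq_bot.1 (Finset.card_eq_zero.1 h0)
  all_goals omega

theorem exists_octad {s : Finset GolayPt} (hs : s.card = 5) : ∃ o, o ∈ octads ∧ s ⊆ o := by
  classical
  have hfin : octads.Finite := Set.toFinite _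
  set O := hfin.toFinset with hO
  have hdisj : (O : Set (Finset GolayPt)).PairwiseDisjoint (Finset.powersetCard 5) := by
    intro o ho o' ho' hne
    simp only [Function.onFun, Finset.disjoint_left]
    intro u hu hu'
    rw [Finset.mem_powersetCard] at hu hu'
    simp only [hO, Finset.mem_coe, Set.Finite.mem_toFinset] at ho ho'
    refine hne (octad_eq_of_five ho ho' ?_)
    calc 5 = u.card := hu.2.symm
      _ ≤ _ := Finset.card_le_card (Finset.subset_inter hu.1 hu'.1)
  have hcard : (O.biUnion (Finset.powersetCard 5)).card = 42504 := by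
    rw [Finset.card_biUnion hdisj]
    have h56 : ∀ o ∈ O, (Finset.powersetCard 5 o).card = 56 := by
      intro o ho
      rw [Finset.card_powersetCard, card_octad ((Set.Finite.mem_toFinset _).1 ho)]
      decide +kernel
    rw [Finset.sum_congr rfl h56, Finset.sum_const, hO, ← Set.ncard_eq_toFinset_card _ hfin,
      ncard_octads]
    rfl
  have heq : O.biUnion (Finset.powersetCard 5) = Finset.powersetCard 5 Finset.univ := by
    refine Finset.eq_of_subset_of_card_le ?_ ?_
    · intro u hu
      obtain ⟨o, _, hu⟩ := Finset.mem_biUnion.1 hu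
      rw [Finset.mem_powersetCard] at hu ⊢
      exact ⟨Finset.subset_univ _, hu.2⟩
    · rw [hcard, Finset.card_powersetCard, Finset.card_univ, card_golayPt]
      decide +kernel
  have hm : s ∈ O.biUnion (Finset.powersetCard 5) := by
    rw [heq, Finset.mem_powersetCard]; exact ⟨Finset.subset_univ _, hs⟩
  obtain ⟨o, ho, hso⟩ := Finset.mem_biUnion.1 hm
  exact ⟨o, (Set.Finite.mem_toFinset _).1 ho, (Finset.mem_powersetCard.1 hso).1⟩

theorem isSteinerSystem_octads : IsSteinerSystem 5 8 octads := by
  refine ⟨fun b hb => card_octad hb, fun s hs => ?_⟩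
  obtain ⟨o, ho, hso⟩ := exists_octad hs
  refine ⟨o, ⟨ho, hso⟩, fun o' ho' => ?_⟩
  exact octad_eq_of_five ho'.1 ho (hs ▸ Finset.card_le_card (Finset.subset_inter ho'.2 hso))

end CfsgLib.Spor
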