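import Cfsg.Agent.Lib.Spor.Perm24

/-!
The three named generators of `Cfsg.M24` and the multiplications by squares.
-/

set_option autoImplicit false

namespace CfsgLib.Spor

open Cfsg

/-- translation by one on the residues modulo 23 -/
def gT : Equiv.Perm GolayPt := Equiv.optionCongr (Equiv.addRight (1 : ZMod 23))

/-- packed translation -/
def gTa : ℕ := 956302485175575353788796878166559809
/-- packed `x ↦ -1/x` -/
def gIa : ℕ := 1795248432537898728475572672376535
/-- packed cube twist -/
def gCa : ℕ := 974380510768821363662145534143076928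

theorem rep_gT : Rep gT gTa := by decide +kernel

theorem rep_projInv : Rep projInv gIa := by decide +kernel

theorem idx_cubeTwist : ∀ i < 24, getP gCa i = idx (cubeTwistFun (pt i)) := by decide +kernel

theorem rep_cubeTwist : Rep cubeTwist gCa := idx_cubeTwist

theorem gT_mem : gT ∈ M24 := rep_gT.mem_M24 (by decide +kernel)

theorem projInv_mem : projInv ∈ M24 := rep_projInv.mem_M24 (by decide +kernel)

theorem cubeTwist_mem : cubeTwist ∈ M24 := rep_cubeTwist.mem_M24 (by decide +kernel)

theorem mulSquare_mem (u : (ZMod 23)ˣ) (hu : IsSquare u) :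
    Equiv.optionCongr (Units.mulLeft u) ∈ M24 := by
  refine mem_M24_of_basis ?_
  obtain ⟨v, rfl⟩ := hu
  revert v
  decide +kernel

end CfsgLib.Spor
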