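import Cfsg.Agent.Lib.Spor.Chain
import Cfsg.Agent.Lib.Spor.GolayFacts

/-!
Certificates of transitivity: transversal levels for tuples of points, and depth-first spanning
trees for orbits on code words.
-/

set_option autoImplicit false

namespace CfsgLib.Spor

open Cfsg
open scoped Pointwise

/-- the packed number is a permutation of the 24 indices -/
def isPermP (a : ℕ) : Bool :=
  (List.range 24).all fun j => (List.range 24).any fun i => Nat.beq (getP a i) j

/-- the packed number is a permutation preserving the code -/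
def isM24P (a : ℕ) : Bool := isPermP a && golayBasis.all fun b => inCode (actP a b)

theorem exists_rep {a : ℕ} (h : isPermP a = true) : ∃ σ : Equiv.Perm GolayPt, Rep σ a := by
  simp only [isPermP, List.all_eq_true, List.any_eq_true, List.mem_range, Nat.beq_eq] at h
  let f : Fin 24 → Fin 24 := fun i =>
    if hi : getP a i < 24 then ⟨getP a i, hi⟩ else 0
  have hs : Function.Surjective f := by
    intro j
    obtain ⟨i, hi, hij⟩ := h j j.2
    refine ⟨⟨i, hi⟩, ?_⟩
    have hlt : getP a i < 24 := hij ▸ j.2
    simp only [f, dif_pos hlt]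
    exact Fin.ext hij
  have hb : Function.Bijective f := Finite.surjective_iff_bijective.1 hs
  have hlt : ∀ i : Fin 24, getP a i < 24 := by
    intro i
    by_contra hi
    -- two indices would have the same image 0
    obtain ⟨k, hk, hk0⟩ := h 0 (by norm_num)
    have : f ⟨k, hk⟩ = f i := by
      simp only [f, dif_neg hi]
      rw [dif_pos (show getP a (⟨k, hk⟩ : Fin 24) < 24 by simp [hk0])]
      exact Fin.ext hk0
    have := hb.1 this
    apply hi
    rw [← this]
    simp [hk0]
  let e : GolayPt ≃ Fin 24 :=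
    { toFun := fun p => ⟨idx p, idx_lt p⟩
      invFun := fun i => pt i
      left_inv := pt_idx
      right_inv := fun i => Fin.ext (idx_pt i.2) }
  refine ⟨(e.trans (Equiv.ofBijective f hb)).trans e.symm, fun i hi => ?_⟩
  simp only [Equiv.trans_apply, Equiv.ofBijective_apply]
  show getP a i = idx (pt (f (e (pt i)) : ℕ))
  have he : e (pt i) = ⟨i, hi⟩ := Fin.ext (idx_pt hi)
  rw [idx_pt (Fin.is_lt _), he]
  simp only [f, dif_pos (hlt ⟨i, hi⟩)]

theorem exists_rep_M24 {a : ℕ} (h : isM24P a = true) : ∃ σ ∈ M24, Rep σ a := by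
  simp only [isM24P, Bool.and_eq_true] at h
  obtain ⟨σ, hσ⟩ := exists_rep h.1
  exact ⟨σ, hσ.mem_M24 h.2, hσ⟩

theorem Rep.smul_toSet_eq {σ : Equiv.Perm GolayPt} {a : ℕ} (h : Rep σ a) {m n : ℕ}
    (hm : actP a m = n) : σ • toSet m = toSet n := by
  rw [← hm, h.toSet_actP]

/-- packed permutation in `M24` fixing the listed masks setwise and the listed points -/
def inStabP (masks prev : List ℕ) (a : ℕ) : Bool :=
  isM24P a && (masks.all fun m => Nat.beq (actP a m) m) && prev.all fun b => Nat.beq (getP a b) b

/-- the elements of `M24` fixing the listed masks setwise and the listed points -/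
def stabG (masks prev : List ℕ) : Subgroup (Equiv.Perm GolayPt) where
  carrier := {g | g ∈ M24 ∧ (∀ m ∈ masks, g • toSet m = toSet m) ∧ ∀ b ∈ prev, g (pt b) = pt b}
  one_mem' := ⟨Subgroup.one_mem _, fun m _ => one_smul _ _, fun b _ => rfl⟩
  mul_mem' := by
    rintro f g ⟨h1, h2, h3⟩ ⟨k1, k2, k3⟩
    refine ⟨Subgroup.mul_mem _ h1 k1, fun m hm => ?_, fun b hb => ?_⟩
    · rw [mul_smul, k2 m hm, h2 m hm]
    · rw [Equiv.Perm.mul_apply, k3 b hb, h3 b hb]
  inv_mem' := by
    rintro f ⟨h1, h2, h3⟩
    refine ⟨Subgroup.inv_mem _ h1, fun m hm => ?_, fun b hb => ?_⟩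
    · rw [inv_smul_eq_iff, h2 m hm]
    · rw [Equiv.Perm.inv_eq_iff_eq, h3 b hb]

theorem mem_stabG {masks prev : List ℕ} {g : Equiv.Perm GolayPt} :
    g ∈ stabG masks prev ↔
      g ∈ M24 ∧ (∀ m ∈ masks, g • toSet m = toSet m) ∧ ∀ b ∈ prev, g (pt b) = pt b :=
  Iff.rfl

theorem repIn_of_inStabP {masks prev : List ℕ} (hprev : ∀ b ∈ prev, b < 24) {a : ℕ}
    (h : inStabP masks prev a = true) : RepIn (stabG masks prev) a := by
  simp only [inStabP, Bool.and_eq_true, List.all_eq_true, Nat.beq_eq] at h
  obtain ⟨σ, hσ, hσa⟩ := exists_rep_M24 h.1.1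
  exact ⟨σ, mem_stabG.2 ⟨hσ, fun m hm => hσa.smul_toSet_eq (h.1.2 m hm),
    fun b hb => (hσa.fix_iff (hprev b hb)).2 (h.2 b hb)⟩, hσa⟩

/-! ### Transitivity on tuples -/

/-- levels `(b, T)`: every element of `T` is in the stabiliser of `masks` and of the earlier base
points, and the images of `b` cover the points of `S` that are not earlier base points -/
def levelsOK (masks : List ℕ) (S : ℕ) : List ℕ → List (ℕ × List ℕ) → Bool
  | _, [] => true
  | prev, (b, T) :: r =>
    Nat.blt b 24 && S.testBit b
      && (T.all fun t => inStabP masks prev t && Nat.beq (actP t S) S)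
      && ((List.range 24).all fun i =>
            !S.testBit i || prev.contains i || T.any fun t => Nat.beq (getP t b) i)
      && levelsOK masks S (prev ++ [b]) r

theorem exists_tuple_map {masks : List ℕ} {S : ℕ} :
    ∀ (L : List (ℕ × List ℕ)) (prev : List ℕ), levelsOK masks S prev L = true →
      (∀ b ∈ prev, b < 24) → ∀ xs : List GolayPt, xs.length = L.length →
      (prev.map pt ++ xs).Nodup → (∀ x ∈ xs, x ∈ toSet S) →
      ∃ g ∈ stabG masks prev, g • toSet S = toSet S ∧ xs = L.map fun l => g (pt l.1) := by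
  intro L
  induction L with
  | nil =>
    intro prev _ _ xs hlen _ _
    exact ⟨1, Subgroup.one_mem _, one_smul _ _, by simpa using hlen⟩
  | cons l r ih =>
    obtain ⟨b, T⟩ := l
    intro prev h hprev xs hlen hnd hS
    simp only [levelsOK, Bool.and_eq_true, Nat.blt_eq, List.all_eq_true, List.mem_range,
      Bool.or_eq_true, Bool.not_eq_true', List.contains_iff_mem, List.any_eq_true,
      Nat.beq_eq] at h
    obtain ⟨⟨⟨⟨hb, hSb⟩, hT⟩, hcov⟩, hr⟩ := h
    cases xs with
    | nil => simp at hlen
    | cons x xs =>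
      have hx : x ∈ toSet S := hS x List.mem_cons_self
      have hxprev : idx x ∉ prev := fun hm => by
        have := (List.nodup_append'.1 hnd).2.2
        exact this (List.mem_map.2 ⟨idx x, hm, pt_idx x⟩) List.mem_cons_self
      obtain ⟨t, ht, hti⟩ : ∃ t ∈ T, getP t b = idx x := by
        rcases hcov (idx x) (idx_lt x) with (h0 | h0) | h0
        · rw [mem_toSet.1 hx] at h0; exact absurd h0 (by decide)
        · exact absurd h0 hxprev
        · exact h0
      obtain ⟨σ, hσ, hσt⟩ := repIn_of_inStabP hprev (hT t ht).1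
      have hσS : σ • toSet S = toSet S := hσt.smul_toSet_eq (hT t ht).2
      have hσx : σ (pt b) = x := idx_injective (by rw [← hti, hσt b hb])
      have hprev' : ∀ c ∈ prev ++ [b], c < 24 := by
        simp only [List.mem_append, List.mem_singleton]
        rintro c (hc | rfl)
        · exact hprev c hc
        · exact hb
      have hfix : prev.map pt = (prev.map pt).map σ.symm := by
        rw [List.map_map]
        refine List.map_congr_left fun c hc => ?_
        simp only [Function.comp_apply]
        rw [Equiv.eq_symm_apply]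
        exact hσ.2.2 c hc
      have hnd' : ((prev ++ [b]).map pt ++ xs.map σ.symm).Nodup := by
        have hmap := hnd.map σ.symm.injective
        rw [List.map_append, List.map_cons, ← hfix, ← hσx, Equiv.symm_apply_apply] at hmap
        simpa [List.map_append] using hmap
      have hS' : ∀ y ∈ xs.map σ.symm, y ∈ toSet S := by
        intro y hy
        obtain ⟨z, hz, rfl⟩ := List.mem_map.1 hy
        have := hS z (List.mem_cons_of_mem _ hz)
        rw [← hσS, Finset.mem_smul_finset] at this
        obtain ⟨w, hw, rfl⟩ := this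
        simpa using hw
      obtain ⟨g, hg, hgS, hgx⟩ := ih _ hr hprev' (xs.map σ.symm) (by simpa using hlen) hnd' hS'
      refine ⟨σ * g, Subgroup.mul_mem _ hσ ⟨hg.1, hg.2.1, fun c hc => hg.2.2 c (by simp [hc])⟩,
        by rw [mul_smul, hgS, hσS], ?_⟩
      have hgb : g (pt b) = pt b := hg.2.2 b (by simp)
      simp only [List.map_cons, Equiv.Perm.mul_apply, hgb, hσx]
      congr 1
      have := congrArg (List.map σ) hgx
      simpa [List.map_map, Function.comp_def] using this

/-! ### Orbit trees on code words -/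

/-- depth-first check: entry `(m, g, k)` drops `k` stack entries, and then `m` is the image of
the top under the generator with index `g` -/
def checkTree (gens : List ℕ) : List (ℕ × ℕ × ℕ) → List ℕ → Bool
  | [], _ => true
  | (m, g, k) :: r, st =>
    match st.drop k with
    | [] => false
    | top :: rest =>
      Nat.blt g gens.length && Nat.beq m (actP (gens.getD g 0) top)
        && checkTree gens r (m :: top :: rest)

theorem orbit_of_checkTree {K : Subgroup (Equiv.Perm GolayPt)} {gens : List ℕ}
    (hgens : ∀ a ∈ gens, RepIn K a) {s0 : Finset GolayPt} :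
    ∀ (r : List (ℕ × ℕ × ℕ)) (st : List ℕ), checkTree gens r st = true →
      (∀ m ∈ st, ∃ g ∈ K, g • s0 = toSet m) → ∀ e ∈ r, ∃ g ∈ K, g • s0 = toSet e.1 := by
  intro r
  induction r with
  | nil => simp
  | cons x r ih =>
    obtain ⟨m, gi, k⟩ := x
    intro st hc hst
    simp only [checkTree] at hc
    cases hd : st.drop k with
    | nil => rw [hd] at hc; simp at hc
    | cons top rest =>
      rw [hd] at hc
      simp only [Bool.and_eq_true, Nat.blt_eq, Nat.beq_eq] at hc
      obtain ⟨⟨hgi, hm⟩, hr⟩ := hc
      have hmem : ∀ y ∈ top :: rest, ∃ g ∈ K, g • s0 = toSet y := fun y hy =>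
        hst y (List.mem_of_mem_drop (hd ▸ hy))
      obtain ⟨σ, hσ, hσa⟩ := hgens (gens.getD gi 0)
        (by rw [List.getD_eq_getElem _ _ hgi]; exact List.getElem_mem hgi)
      obtain ⟨g, hg, hgt⟩ := hmem top List.mem_cons_self
      have hnew : ∃ g ∈ K, g • s0 = toSet m :=
        ⟨σ * g, K.mul_mem hσ hg, by rw [mul_smul, hgt, hm, hσa.toSet_actP]⟩
      intro e he
      rcases List.mem_cons.1 he with rfl | he
      · exact hnew
      · exact ih _ hr (fun y hy => by
          rcases List.mem_cons.1 hy with rfl | hy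
          · exact hnew
          · exact hmem y hy) e he

/-- the set of low-12-bit keys of a list of code words, as a bit set -/
def keySet : List ℕ → ℕ
  | [] => 0
  | m :: r => (1 <<< (m % 4096)) ||| keySet r

theorem testBit_keySet {l : List ℕ} {i : ℕ} :
    (keySet l).testBit i = true ↔ ∃ m ∈ l, m % 4096 = i := by
  induction l with
  | nil => simp [keySet]
  | cons a r ih =>
    rw [keySet, Nat.testBit_or, Bool.or_eq_true, ih, Nat.one_shiftLeft, Nat.testBit_two_pow]
    simp

theorem eq_of_low {v w : ℕ} (hv : v ∈ codeList) (hw : w ∈ codeList) (h : v % 4096 = w % 4096) :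
    v = w := by
  have hn : (codeList.map fun m => m % 4096).Nodup := codeList_low ▸ List.nodup_range
  exact List.inj_on_of_nodup_map hn hv hw h

/-- the tree starting at `m0` reaches every code word of the list `target` -/
def orbitOK (gens : List ℕ) (m0 : ℕ) (r : List (ℕ × ℕ × ℕ)) (target : List ℕ) : Bool :=
  inCode m0 && Nat.blt m0 16777216
    && (r.all fun e => inCode e.1 && Nat.blt e.1 16777216)
    && checkTree gens r [m0]
    && Nat.beq (keySet (m0 :: r.map Prod.fst) &&& keySet target) (keySet target)

theorem exists_smul_of_orbitOK {K : Subgroup (Equiv.Perm GolayPt)} {gens : List ℕ} {m0 : ℕ}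
    {r : List (ℕ × ℕ × ℕ)} {target : List ℕ} (hgens : ∀ a ∈ gens, RepIn K a)
    (h : orbitOK gens m0 r target = true) {m : ℕ} (hm : m ∈ target) (hmc : m ∈ codeList) :
    ∃ g ∈ K, g • toSet m0 = toSet m := by
  simp only [orbitOK, Bool.and_eq_true, Nat.blt_eq, List.all_eq_true, Nat.beq_eq] at h
  obtain ⟨⟨⟨⟨h1, h2⟩, h3⟩, h4⟩, h5⟩ := h
  have hall := orbit_of_checkTree (K := K) hgens (s0 := toSet m0) r [m0] h4
    (by simpa using ⟨1, K.one_mem, one_smul _ _⟩)
  have hbit : (keySet (m0 :: r.map Prod.fst) &&& keySet target).testBit (m % 4096) = true := by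
    rw [h5]; exact testBit_keySet.2 ⟨m, hm, rfl⟩
  rw [Nat.testBit_and, Bool.and_eq_true] at hbit
  obtain ⟨v, hv, hvm⟩ := testBit_keySet.1 hbit.1
  rcases List.mem_cons.1 hv with rfl | hv
  · exact ⟨1, K.one_mem, by
      rw [one_smul, eq_of_low (mem_codeList_iff.2 ⟨by simpa using h2, h1⟩) hmc hvm]⟩
  · obtain ⟨e, he, rfl⟩ := List.mem_map.1 hv
    have := h3 e he
    rw [← eq_of_low (mem_codeList_iff.2 ⟨by simpa using this.2, this.1⟩) hmc hvm]
    exact hall e he

end CfsgLib.Spor
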