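import Cfsg.Agent.Lib.Spor.Co0Reduce

/-!
Transitivity of `Cfsg.Co0` on short vectors, its generation, order and centre, the stabiliser of
the standard cross and its maximality.
-/

set_option autoImplicit false
set_option maxRecDepth 100000

namespace CfsgLib.Spor

open Cfsg
open CfsgLib.ThreeTransp.CoReduce (bigE eight_smul)
open scoped Pointwise symmDiff

/-! ### The programs -/

/-- every program is valid and ends at the base vector -/
def chainsOK (l : List (List ℤ × List Stp)) (b : List ℤ) : Bool :=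
  l.all fun rp => rp.2.all Stp.ok && decide (runP rp.2 rp.1 = b)

theorem chains_ok : chainsOK repChains32 base32 = true ∧ chainsOK repChains48 base48 = true ∧
    chainsOK repChains64 base64 = true := by decide +kernel

/-- the base vector of a norm -/
def baseOf (n : ℤ) : List ℤ := if n = 32 then base32 else if n = 48 then base48 else base64

theorem exists_prog_of_rep {n : ℤ} (hn : n = 32 ∨ n = 48 ∨ n = 64) {r : List ℤ}
    (hr : r ∈ repsOf n) :
    ∃ g ∈ genSub, ∃ P : List Stp, ActsAs g (runP P) ∧ runP P r = baseOf n := by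
  have key : ∀ {l : List (List ℤ × List Stp)} {b : List ℤ}, chainsOK l b = true →
      r ∈ l.map Prod.fst → ∃ g ∈ genSub, ∃ P : List Stp, ActsAs g (runP P) ∧ runP P r = b := by
    intro l b h hr
    obtain ⟨rp, hrp, rfl⟩ := List.mem_map.1 hr
    have h' := List.all_eq_true.1 h rp hrp
    simp only [Bool.and_eq_true, decide_eq_true_eq] at h'
    obtain ⟨g, hg, hga⟩ := exists_prog h'.1
    exact ⟨g, hg, rp.2, hga, h'.2⟩
  obtain ⟨h1, h2, h3⟩ := chains_ok
  rcases hn with rfl | rfl | rfl
  · exact key h1 hr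
  · exact key h2 hr
  · exact key h3 hr

theorem monoEl_mem_genSub (p : MonoIdx) : monoEl p ∈ genSub :=
  Subgroup.subset_closure (Or.inl ⟨p, rfl⟩)

theorem rep_lengths : (∀ r ∈ repsOf 32, r.length = 24) ∧ (∀ r ∈ repsOf 48, r.length = 24) ∧
    ∀ r ∈ repsOf 64, r.length = 24 := by decide +kernel

theorem lOf_vOf {r : List ℤ} (h : r.length = 24) : lOf (vOf r) = r := by
  refine List.ext_getElem (by simp [lOf, h]) fun i hi hi' => ?_
  have hi'' : i < 24 := h ▸ hi'
  simp [lOf, vOf, idx_pt hi'', hi']

theorem exists_to_base {n : ℤ} (hn : n = 32 ∨ n = 48 ∨ n = 64) (v : leechLattice)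
    (hv : sqNorm (v : GolayPt → ℤ) = n) :
    ∃ g ∈ genSub, lOf ((g • v : leechLattice) : GolayPt → ℤ) = baseOf n := by
  obtain ⟨r, hr, p, hp⟩ := exists_rep_mono v.2 hv hn
  obtain ⟨g, hg, P, hga, hP⟩ := exists_prog_of_rep hn hr
  refine ⟨g * monoEl p, mul_mem hg (monoEl_mem_genSub p), ?_⟩
  have hlen : r.length = 24 := by
    obtain ⟨a, b, c⟩ := rep_lengths
    rcases hn with rfl | rfl | rfl
    exacts [a r hr, b r hr, c r hr]
  rw [mul_smul, hga, monoEl_smul, hp, lOf_vOf hlen, hP]

theorem exists_gen_map {n : ℤ} (hn : n = 32 ∨ n = 48 ∨ n = 64) (v w : leechLattice)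
    (hv : sqNorm (v : GolayPt → ℤ) = n) (hw : sqNorm (w : GolayPt → ℤ) = n) :
    ∃ g ∈ genSub, g • v = w := by
  obtain ⟨g, hg, hgv⟩ := exists_to_base hn v hv
  obtain ⟨h, hh, hhw⟩ := exists_to_base hn w hw
  refine ⟨h⁻¹ * g, mul_mem (inv_mem hh) hg, ?_⟩
  rw [mul_smul, inv_smul_eq_iff]
  exact Subtype.ext (lOf_inj (hgv.trans hhw.symm))

/-- `8` at the extra point -/
def eTop : leechLattice := bigE none

theorem eTop_coe : ((eTop : leechLattice) : GolayPt → ℤ) = Pi.single none 8 := rfl

theorem lOf_eTop : lOf ((eTop : leechLattice) : GolayPt → ℤ) = base64 := by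
  rw [eTop_coe]; decide +kernel

theorem sqNorm_bigE (i : GolayPt) : sqNorm ((bigE i : leechLattice) : GolayPt → ℤ) = 64 := by
  rw [bigE_coe, sqNorm_single]; norm_num

/-! ### The standard cross -/

theorem smul_neg_co0 (g : Co0) (v : leechLattice) : g • (-v) = -(g • v) := map_neg (co0Hom g) v

theorem congr_smul (g : Co0) {v w : leechLattice}
    (h : ∃ z ∈ leechLattice, (v : GolayPt → ℤ) - (w : GolayPt → ℤ) = 2 • z) :
    ∃ z ∈ leechLattice,
      ((g • v : leechLattice) : GolayPt → ℤ) - ((g • w : leechLattice) : GolayPt → ℤ) = 2 • z := by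
  obtain ⟨z, hz, h⟩ := h
  refine ⟨((g • (⟨z, hz⟩ : leechLattice) : leechLattice) : GolayPt → ℤ), SetLike.coe_mem _, ?_⟩
  rw [← AddSubgroup.coe_sub, ← AddSubgroup.coe_nsmul]
  congr 1
  show co0Hom g v - co0Hom g w = 2 • co0Hom g ⟨z, hz⟩
  rw [← map_sub, ← map_nsmul]
  congr 1
  exact Subtype.ext h

/-- half the difference of a vector of the standard cross and `8` at the extra point -/
def crossHalf (i : GolayPt) (s : ℤ) : GolayPt → ℤ :=
  fun p => ((Pi.single none 8 : GolayPt → ℤ) p - (Pi.single i s : GolayPt → ℤ) p) / 2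

theorem ncard_stdCross : stdCross.ncard = 48 := by
  have e : stdCross = Set.range fun q : GolayPt × Bool =>
      (Pi.single q.1 (if q.2 then 8 else -8) : GolayPt → ℤ) := by
    ext y
    constructor
    · rintro ⟨i, s, rfl | rfl, rfl⟩
      · exact ⟨(i, true), rfl⟩
      · exact ⟨(i, false), rfl⟩
    · rintro ⟨⟨i, b⟩, rfl⟩
      exact ⟨i, _, by cases b <;> simp, rfl⟩
  rw [e, Set.ncard_range_of_injective, Nat.card_prod, Nat.card_eq_fintype_card, card_golayPt,
    Nat.card_eq_fintype_card, Fintype.card_bool]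
  rintro ⟨i, b⟩ ⟨j, b'⟩ h
  have h1 := congrFun h i
  by_cases hij : i = j
  · subst hij
    cases b <;> cases b' <;> simp at h1 ⊢
  · simp [hij] at h1
    cases b <;> simp at h1

theorem cross_top : cross ((eTop : leechLattice) : GolayPt → ℤ) = stdCross := by
  have hc := cross_card eTop.2 (sqNorm_bigE none)
  refine (Set.eq_of_subset_of_ncard_le ?_ (le_of_eq (hc.trans ncard_stdCross.symm))
    (Set.finite_of_ncard_ne_zero (by rw [hc]; norm_num))).symm
  rintro y ⟨i, s, hs, rfl⟩
  have hs' : s ∈ ([8, -8] : List ℤ) := by rcases hs with rfl | rfl <;> simp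
  have h : ∀ i : GolayPt, ∀ s ∈ ([8, -8] : List ℤ),
      inLeechB (lOf (Pi.single i s : GolayPt → ℤ)) = true ∧
      inLeechB (lOf (crossHalf i s)) = true ∧
      lOf ((Pi.single none 8 : GolayPt → ℤ) - Pi.single i s) = lOf (2 • crossHalf i s) := by
    decide +kernel
  obtain ⟨h1, h2, h3⟩ := h i s hs'
  refine ⟨mem_leech_of_inLeechB h1, ?_, _, mem_leech_of_inLeechB h2, lOf_inj h3⟩
  rw [sqNorm_single, eTop_coe, sqNorm_single]
  rcases hs with rfl | rfl <;> norm_num

theorem mem_stdCross_iff {y : GolayPt → ℤ} : y ∈ stdCross ↔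
    y ∈ leechLattice ∧ sqNorm y = 64 ∧
      ∃ z ∈ leechLattice, (Pi.single none 8 : GolayPt → ℤ) - y = 2 • z := by
  rw [← cross_top, cross, eTop_coe]
  simp only [Set.mem_ofPred_eq, sqNorm_single]
  norm_num

theorem bigE_mem_stdCross (i : GolayPt) : ((bigE i : leechLattice) : GolayPt → ℤ) ∈ stdCross :=
  ⟨i, 8, Or.inl rfl, rfl⟩

/-- `g` maps the standard cross to itself -/
def StdPres (g : Co0) : Prop :=
  ∀ v : leechLattice, (v : GolayPt → ℤ) ∈ stdCross →
    ((g • v : leechLattice) : GolayPt → ℤ) ∈ stdCross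

theorem stdPres_of_top {g : Co0} (h : ((g • eTop : leechLattice) : GolayPt → ℤ) ∈ stdCross) :
    StdPres g := by
  intro v hv
  obtain ⟨-, hn, hz⟩ := mem_stdCross_iff.1 hv
  obtain ⟨-, -, z', hz', e'⟩ := mem_stdCross_iff.1 h
  obtain ⟨z, hz1, e⟩ := congr_smul g (v := eTop) (w := v) hz
  refine mem_stdCross_iff.2 ⟨SetLike.coe_mem _, (coe_smul_sqNorm g v).trans hn,
    z' + z, AddSubgroup.add_mem _ hz' hz1, ?_⟩
  rw [smul_add, ← e', ← e]
  abel

theorem signedPerm_single (σ : Equiv.Perm GolayPt) (c : Finset GolayPt) (i : GolayPt) (a : ℤ) :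
    signedPerm σ c (Pi.single i a) =
      Pi.single (σ i) (if σ i ∈ c then -a else a) := by
  funext j
  rcases eq_or_ne j (σ i) with rfl | hne
  · simp [signedPerm]
  · have : σ.symm j ≠ i := fun e => hne (by rw [← e, Equiv.apply_symm_apply])
    simp [signedPerm, hne, this]

theorem stdPres_monoEl (p : MonoIdx) : StdPres (monoEl p) := by
  rintro v ⟨i, s, hs, hv⟩
  rw [monoEl_smul, hv, signedPerm_single]
  exact ⟨_, _, by rcases hs with rfl | rfl <;> split <;> simp, rfl⟩

theorem lattice_eight (g : Co0) (v : leechLattice) (j : GolayPt) :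
    8 * ((g • v : leechLattice) : GolayPt → ℤ) j =
      ∑ i, (v : GolayPt → ℤ) i * ((g • bigE i : leechLattice) : GolayPt → ℤ) j := by
  have h := congrArg (fun x => ((co0Hom g x : leechLattice) : GolayPt → ℤ) j) (eight_smul v)
  simp only [map_sum, map_zsmul, AddSubgroup.val_finsetSum, AddSubgroup.coe_zsmul,
    Finset.sum_apply, Pi.smul_apply, smul_eq_mul] at h
  exact h

theorem exists_monoEl {g : Co0} (h : ((g • eTop : leechLattice) : GolayPt → ℤ) ∈ stdCross) :
    ∃ p : MonoIdx, monoEl p = g := by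
  classical
  have hst := stdPres_of_top h
  choose π s hs hπ using fun i => hst (bigE i) (bigE_mem_stdCross i)
  have hinj : Function.Injective π := by
    intro i j hij
    by_contra hne
    have e : g • bigE i = g • bigE j ∨ g • bigE i = -(g • bigE j) := by
      rcases hs i with a | a <;> rcases hs j with b | b
      · exact Or.inl (Subtype.ext (by rw [hπ i, hπ j, a, b, hij]))
      · exact Or.inr (Subtype.ext (by
          rw [AddSubgroup.coe_neg, hπ i, hπ j, a, b, hij, ← Pi.single_neg]; rfl))
      · exact Or.inr (Subtype.ext (by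
          rw [AddSubgroup.coe_neg, hπ i, hπ j, a, b, hij, ← Pi.single_neg]))
      · exact Or.inl (Subtype.ext (by rw [hπ i, hπ j, a, b, hij]))
    rw [← smul_neg_co0, smul_left_cancel_iff, smul_left_cancel_iff] at e
    rcases e with e | e <;>
      · have := congrFun (congrArg Subtype.val e) i
        simp [bigE_coe, hne] at this
  obtain ⟨σ, hσ⟩ : ∃ σ : Equiv.Perm GolayPt, ∀ i, σ i = π i :=
    ⟨Equiv.ofBijective π (Finite.injective_iff_bijective.1 hinj), fun _ => rfl⟩
  obtain ⟨c, hcdef⟩ : ∃ c : Finset GolayPt, c = Finset.univ.filter fun j => s (σ.symm j) = -8 :=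
    ⟨_, rfl⟩
  have himg : ∀ v : leechLattice,
      ((g • v : leechLattice) : GolayPt → ℤ) = signedPerm σ c (v : GolayPt → ℤ) := by
    intro v
    funext j
    have hsum : ∑ i, (v : GolayPt → ℤ) i * ((g • bigE i : leechLattice) : GolayPt → ℤ) j =
        (v : GolayPt → ℤ) (σ.symm j) * s (σ.symm j) := by
      rw [Finset.sum_eq_single (σ.symm j)]
      · rw [hπ, ← hσ, Equiv.apply_symm_apply, Pi.single_eq_same]
      · intro i _ hi
        rw [hπ, ← hσ, Pi.single_eq_of_ne, mul_zero]
        exact fun e => hi (by rw [e, Equiv.symm_apply_apply])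
      · exact fun h => absurd (Finset.mem_univ _) h
    have h8 := lattice_eight g v j
    rw [hsum] at h8
    simp only [signedPerm, hcdef, Finset.mem_filter, Finset.mem_univ, true_and]
    rcases hs (σ.symm j) with e | e <;> rw [e] at h8 ⊢ <;> norm_num <;> linarith
  have hM : σ ∈ M24 := by
    rw [mem_M24_iff]
    intro t ht
    rw [← mem_supports_iff] at ht ⊢
    obtain ⟨w, hw, hws⟩ := ht
    have hx : lvec 0 w 0 ∈ leechLattice := mem_leechLattice.2 ⟨0, w, 0, hw, rfl, by simp⟩
    have hy := himg ⟨_, hx⟩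
    have h2 : (2 : ℤ) ∣ ((g • (⟨_, hx⟩ : leechLattice) : leechLattice) : GolayPt → ℤ) none := by
      rw [hy]
      simp only [signedPerm, lvec, Pi.zero_apply]
      split <;> omega
    obtain ⟨z, hz, hD, -⟩ := even_vec_iff.1 ⟨SetLike.coe_mem _, h2⟩
    convert hD using 1
    ext j
    have hj := congrFun (hy.symm.trans hz) j
    simp only [signedPerm, lvec, Pi.zero_apply, Pi.smul_apply, nsmul_eq_mul, Nat.cast_ofNat] at hj
    rw [mem_smul_iff, ← hws]
    rcases bitZ_cases (w (σ.symm j)) with ⟨a, a'⟩ | ⟨a, a'⟩ <;> rw [a'] at hj <;>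
      simp [oddSet, support₂, a] <;> split at hj <;> omega
  have hu : lvec 1 0 (fun i => if i = none then -1 else 0) ∈ leechLattice :=
    mem_leechLattice.2 ⟨1, 0, _, Submodule.zero_mem _, rfl, by simp⟩
  have hy := himg ⟨_, hu⟩
  have h2 : ¬ (2 : ℤ) ∣ ((g • (⟨_, hu⟩ : leechLattice) : leechLattice) : GolayPt → ℤ) none := by
    rw [hy]
    simp only [signedPerm, lvec, Pi.zero_apply, bitZ_zero]
    split <;> omega
  obtain ⟨d, hd, y, hyd, -⟩ := exists_oddVec (SetLike.coe_mem _) h2
  have hc : c ∈ supports (golayCode : Set (GolayPt → ZMod 2)) := by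
    convert mem_supports_of_code hd using 1
    ext j
    have hj := congrFun (hy.symm.trans hyd) j
    simp only [signedPerm, lvec, oddVec, Pi.zero_apply, bitZ_zero] at hj
    by_cases h1 : j ∈ c <;> by_cases h3 : j ∈ support₂ d <;>
      simp only [h1, h3, if_true, if_false] at hj ⊢ <;> omega
  exact ⟨(⟨σ, hM⟩, ⟨c, hc⟩), co0_ext fun i => Subtype.ext (by rw [monoEl_smul, himg])⟩

theorem monoEl_injective : Function.Injective monoEl := by
  rintro ⟨⟨σ, hσ⟩, ⟨c, hc⟩⟩ ⟨⟨τ, hτ⟩, ⟨d, hd⟩⟩ h
  have key : ∀ i, (Pi.single (σ i) (if σ i ∈ c then -8 else 8) : GolayPt → ℤ) =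
      Pi.single (τ i) (if τ i ∈ d then -8 else 8) := fun i => by
    have := congrArg (fun g : Co0 => ((g • bigE i : leechLattice) : GolayPt → ℤ)) h
    simpa only [monoEl_smul, bigE_coe, signedPerm_single] using this
  have hστ : σ = τ := Equiv.ext fun i => by
    by_contra hne
    have := congrFun (key i) (σ i)
    simp [hne] at this
    split at this <;> simp at this
  subst hστ
  have hcd : c = d := Finset.ext fun j => by
    have := congrFun (key (σ.symm j)) j
    simp only [Equiv.apply_symm_apply, Pi.single_eq_same] at this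
    by_cases h1 : j ∈ c <;> by_cases h2 : j ∈ d <;> simp [h1, h2] at this ⊢
  subst hcd
  rfl

theorem range_monoEl : Set.range monoEl = {g | StdPres g} := by
  ext g
  exact ⟨fun ⟨p, hp⟩ => hp ▸ stdPres_monoEl p,
    fun h => exists_monoEl (h eTop (bigE_mem_stdCross none))⟩

/-- the stabiliser of the standard cross -/
def crossStab : Subgroup Co0 :=
  (MulAction.stabilizer Co0 {v : leechLattice | (v : GolayPt → ℤ) ∈ stdCross})

theorem finite_stdSet : {v : leechLattice | (v : GolayPt → ℤ) ∈ stdCross}.Finite := by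
  refine Set.Finite.of_finite_image ?_ Subtype.val_injective.injOn
  exact (Set.finite_of_ncard_ne_zero (by rw [ncard_stdCross]; norm_num)).subset
    (Set.image_subset_iff.2 fun v hv => hv)

theorem mem_crossStab {g : Co0} : g ∈ crossStab ↔ StdPres g := by
  rw [crossStab, MulAction.mem_stabilizer_set_iff_smul_set_subset finite_stdSet]
  constructor
  · exact fun h v hv => h (Set.smul_mem_smul_set hv)
  · rintro h _ ⟨v, hv, rfl⟩; exact h v hv

theorem monoEl_mem_crossStab (p : MonoIdx) : monoEl p ∈ crossStab :=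
  mem_crossStab.2 (stdPres_monoEl p)

theorem exists_monoEl_of_mem {g : Co0} (h : g ∈ crossStab) : ∃ p, monoEl p = g :=
  exists_monoEl (mem_crossStab.1 h eTop (bigE_mem_stdCross none))

theorem mem_crossStab_of_top {g : Co0}
    (h : ((g • eTop : leechLattice) : GolayPt → ℤ) ∈ stdCross) : g ∈ crossStab :=
  mem_crossStab.2 (stdPres_of_top h)

theorem genSub_eq_top : genSub = ⊤ := by
  rw [eq_top_iff]
  intro g _
  obtain ⟨k, hk, hke⟩ := exists_gen_map (n := 64) (by norm_num) (g • eTop) eTop
    ((coe_smul_sqNorm g eTop).trans (sqNorm_bigE none)) (sqNorm_bigE none)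
  obtain ⟨p, hp⟩ := exists_monoEl (g := k * g) (by
    rw [mul_smul, hke]; exact bigE_mem_stdCross none)
  have := mul_mem (inv_mem hk) (monoEl_mem_genSub p)
  rwa [hp, inv_mul_cancel_left] at this

theorem exists_map {n : ℤ} (hn : n = 32 ∨ n = 48 ∨ n = 64) (v w : leechLattice)
    (hv : sqNorm (v : GolayPt → ℤ) = n) (hw : sqNorm (w : GolayPt → ℤ) = n) :
    ∃ g : Co0, g • v = w :=
  (exists_gen_map hn v w hv hw).imp fun _ h => h.2

/-! ### Orders -/

theorem natCard_supports : Nat.card ↥(supports (golayCode : Set (GolayPt → ZMod 2))) = 4096 := by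
  rw [Nat.card_coe_set_eq, supports, Set.ncard_image_of_injective _ support₂_injective,
    ← Nat.card_coe_set_eq]
  exact natCard_golayCode

theorem natCard_monoIdx : Nat.card MonoIdx = 4096 * 244823040 := by
  rw [Nat.card_prod, natCard_supports, natCard_M24, Nat.mul_comm]

theorem natCard_crossStab : Nat.card crossStab = 4096 * 244823040 := by
  rw [← natCard_monoIdx]
  refine (Nat.card_eq_of_bijective (fun p => ⟨monoEl p, monoEl_mem_crossStab p⟩)
    ⟨fun p q h => monoEl_injective (Subtype.ext_iff.1 h), fun g => ?_⟩).symm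
  obtain ⟨p, hp⟩ := exists_monoEl_of_mem g.2
  exact ⟨p, Subtype.ext hp⟩

theorem signedPerm_top_iff (p : MonoIdx) :
    monoEl p • eTop = eTop ↔
      (p.1 : Equiv.Perm GolayPt) none = none ∧ none ∉ (p.2 : Finset GolayPt) := by
  rw [Subtype.ext_iff, monoEl_smul, eTop_coe, signedPerm_single]
  constructor
  · intro h
    have h' := congrFun h none
    rcases eq_or_ne ((p.1 : Equiv.Perm GolayPt) none) none with e | e
    · refine ⟨e, fun hc => ?_⟩
      rw [e] at h'
      simp [hc] at h'
    · simp [Pi.single_eq_of_ne (Ne.symm e)] at h'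
  · rintro ⟨e, hc⟩
    rw [e, if_neg hc]

theorem codeList_half : (codeList.filter fun m => !m.testBit 23).length = 2048 := by decide +kernel

theorem natCard_supports_avoid :
    Nat.card {c : ↥(supports (golayCode : Set (GolayPt → ZMod 2))) //
      none ∉ (c : Finset GolayPt)} = 2048 := by
  classical
  rw [← codeList_half, ← List.toFinset_card_of_nodup (codeList_nodup.filter _),
    ← Nat.card_eq_finsetCard]
  refine Nat.card_eq_of_bijective (fun c => ⟨mask c.1.1, ?_⟩) ⟨fun a b h => ?_, fun m => ?_⟩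
  · rw [List.mem_toFinset, List.mem_filter]
    refine ⟨mem_supports_iff.1 c.1.2, ?_⟩
    have := testBit_mask c.1.1 none
    rw [decide_eq_false c.2] at this
    simpa [idx] using this
  · exact Subtype.ext (Subtype.ext (mask_injective (Subtype.ext_iff.1 h)))
  · obtain ⟨m, hm⟩ := m
    rw [List.mem_toFinset, List.mem_filter] at hm
    refine ⟨⟨⟨toSet m, toSet_mem_supports hm.1⟩, ?_⟩, Subtype.ext (mask_toSet (lt_of_mem_codeList hm.1))⟩
    show none ∉ toSet m
    simpa [idx] using hm.2

theorem natCard_stab_top : Nat.card (MulAction.stabilizer Co0 eTop) = 10200960 * 2048 := by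
  let S := {q : ↥M24 // (q : Equiv.Perm GolayPt) none = none} ×
    {c : ↥(supports (golayCode : Set (GolayPt → ZMod 2))) // none ∉ (c : Finset GolayPt)}
  have hS : Nat.card S = 10200960 * 2048 := by
    rw [Nat.card_prod, natCard_supports_avoid, ← natCard_stab_point none]
    congr 1
  rw [← hS]
  refine (Nat.card_eq_of_bijective
    (fun q : S => ⟨monoEl (q.1.1, q.2.1), (signedPerm_top_iff _).2 ⟨q.1.2, q.2.2⟩⟩)
    ⟨fun a b h => ?_, fun g => ?_⟩).symm
  · have := monoEl_injective (Subtype.ext_iff.1 h)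
    exact Prod.ext (Subtype.ext (congrArg Prod.fst this)) (Subtype.ext (congrArg Prod.snd this))
  · obtain ⟨p, hp⟩ := exists_monoEl (g := g.1) (by
      rw [MulAction.mem_stabilizer_iff.1 g.2]; exact bigE_mem_stdCross none)
    have h := (signedPerm_top_iff p).1 (by rw [hp]; exact g.2)
    exact ⟨(⟨p.1, h.1⟩, ⟨p.2, h.2⟩), Subtype.ext hp⟩

theorem orbit_top : MulAction.orbit Co0 eTop = normSet 64 := by
  ext v
  constructor
  · rintro ⟨g, rfl⟩; exact (coe_smul_sqNorm g eTop).trans (sqNorm_bigE none)
  · exact fun h => exists_map (by norm_num) eTop v (sqNorm_bigE none) h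

theorem natCard_Co0 : Nat.card Co0 = 8315553613086720000 := by
  rw [← Subgroup.card_mul_index (MulAction.stabilizer Co0 eTop), natCard_stab_top,
    MulAction.index_stabilizer, orbit_top, ncard_normSet ncard_norm_64]

instance finite_Co0 : Finite Co0 := Nat.finite_of_card_ne_zero (by rw [natCard_Co0]; norm_num)

/-! ### The centre -/

/-- negation -/
def negEl : Co0 := monoEl (1, ⟨Finset.univ, univ_supports⟩)

theorem negEl_smul (v : leechLattice) : negEl • v = -v :=
  Subtype.ext (funext fun i => by simp [negEl, monoEl_smul, signedPerm]; rfl)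

theorem exists_separating {i j : GolayPt} (h : i ≠ j) :
    ∃ c ∈ supports (golayCode : Set (GolayPt → ZMod 2)), i ∈ c ∧ j ∉ c := by
  obtain ⟨g, hg, hl⟩ := exists_list_map_M24 (l := [pt 0, none]) (l' := [i, j]) (by decide)
    (by simp [h]) rfl (by simp)
  simp only [List.map_cons, List.map_nil, List.cons.injEq, and_true] at hl
  refine ⟨g • toSet baseOctad, smul_supports hg baseOctad_mem.1, ?_, ?_⟩
  · rw [mem_smul_iff, ← hl.1, Equiv.symm_apply_apply, mem_toSet]; decide +kernel
  · rw [mem_smul_iff, ← hl.2, Equiv.symm_apply_apply, mem_toSet]; decide +kernel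

theorem eq_of_central {g : Co0} (hg : g ∈ Subgroup.center Co0) : g = 1 ∨ g = negEl := by
  classical
  rw [Subgroup.mem_center_iff] at hg
  have hsup : ∀ i p, p ≠ i → ((g • bigE i : leechLattice) : GolayPt → ℤ) p = 0 := by
    intro i p hp
    obtain ⟨c, hc, hpc, hic⟩ := exists_separating hp
    have e1 := congrArg (fun x : Co0 => ((x • bigE i : leechLattice) : GolayPt → ℤ) p)
      (hg (monoEl (1, ⟨c, hc⟩)))
    have e2 : monoEl (1, ⟨c, hc⟩) • bigE i = bigE i := Subtype.ext (by
      rw [monoEl_smul, bigE_coe, signedPerm_single]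
      show (Pi.single i (if i ∈ c then -8 else 8) : GolayPt → ℤ) = _
      rw [if_neg hic])
    simp only [mul_smul, e2, monoEl_smul] at e1
    simp [signedPerm, hpc] at e1
    rw [show ((1 : Equiv.Perm GolayPt).symm p) = p from rfl] at e1
    omega
  have hval : ∀ i, ((g • bigE i : leechLattice) : GolayPt → ℤ) i = 8 ∨
      ((g • bigE i : leechLattice) : GolayPt → ℤ) i = -8 := fun i => by
    have h := (coe_smul_sqNorm g (bigE i)).trans (sqNorm_bigE i)
    rw [sqNorm, Finset.sum_eq_single i (fun p _ hp => by rw [hsup i p hp]; norm_num)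
      (fun h => absurd (Finset.mem_univ i) h)] at h
    have : (((g • bigE i : leechLattice) : GolayPt → ℤ) i - 8) *
        (((g • bigE i : leechLattice) : GolayPt → ℤ) i + 8) = 0 := by linear_combination h
    rcases mul_eq_zero.1 this with e | e
    · left; linarith
    · right; linarith
  have hconst : ∀ i, ((g • bigE i : leechLattice) : GolayPt → ℤ) i =
      ((g • eTop : leechLattice) : GolayPt → ℤ) none := by
    intro i
    obtain ⟨σ, hσ, hl⟩ := exists_list_map_M24 (l := [(none : GolayPt)]) (l' := [i]) (by simp)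
      (by simp) rfl (by simp)
    simp only [List.map_cons, List.map_nil, List.cons.injEq, and_true] at hl
    have e1 := congrArg (fun x : Co0 => ((x • eTop : leechLattice) : GolayPt → ℤ) i)
      (hg (monoEl (⟨σ, hσ⟩, ⟨∅, empty_supports⟩)))
    have e2 : monoEl (⟨σ, hσ⟩, ⟨∅, empty_supports⟩) • eTop = bigE i := Subtype.ext (by
      rw [monoEl_smul, eTop_coe, signedPerm_single, hl, if_neg (Finset.notMem_empty _)]; rfl)
    simp only [mul_smul, e2, monoEl_smul, signedPerm_empty_apply] at e1
    rw [← e1, ← hl, Equiv.symm_apply_apply]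
  have hsingle : ∀ i, ((g • bigE i : leechLattice) : GolayPt → ℤ) =
      Pi.single i (((g • eTop : leechLattice) : GolayPt → ℤ) none) := fun i => by
    funext p
    rcases eq_or_ne p i with rfl | hp
    · rw [Pi.single_eq_same, hconst p]
    · rw [Pi.single_eq_of_ne hp, hsup i p hp]
  rcases hval none with h8 | h8 <;> rw [show bigE none = eTop from rfl] at h8
  · left
    exact co0_ext fun i => Subtype.ext (by rw [hsingle i, h8, one_smul, bigE_coe])
  · right
    exact co0_ext fun i => Subtype.ext (by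
      rw [hsingle i, h8, negEl_smul, AddSubgroup.coe_neg, bigE_coe, ← Pi.single_neg])

theorem negEl_central : negEl ∈ Subgroup.center Co0 := Subgroup.mem_center_iff.2 fun g =>
  co0_ext fun i => by rw [mul_smul, mul_smul, negEl_smul, negEl_smul, smul_neg_co0]

theorem negEl_ne_one : negEl ≠ 1 := fun h => by
  have := congrFun (congrArg Subtype.val (congrArg (fun g : Co0 => g • eTop) h)) none
  rw [negEl_smul, one_smul] at this
  simp [eTop_coe] at this

theorem center_eq : (Subgroup.center Co0 : Set Co0) = {1, negEl} := by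
  ext g
  simp only [SetLike.mem_coe, Set.mem_insert_iff, Set.mem_singleton_iff]
  exact ⟨eq_of_central, fun h => by rcases h with rfl | rfl; exacts [one_mem _, negEl_central]⟩

theorem natCard_center : Nat.card (Subgroup.center Co0) = 2 := by
  have : Nat.card (Subgroup.center Co0) = (Subgroup.center Co0 : Set Co0).ncard :=
    Nat.card_coe_set_eq _
  rw [this, center_eq, Set.ncard_pair (Ne.symm negEl_ne_one)]

/-! ### Maximality -/

/-- a block list is valid and takes the base vector to its image under the involution -/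
def closureOK : List ((List ℤ × List Stp) × List (Option Stp)) → Bool := fun l => l.all fun x =>
  decide (x.1.1 = base64) || (
    (x.2.all fun b => match b with
      | none => true
      | some (.mono a s) => (Stp.mono a s).ok
      | some .xi => false) &&
    decide (x.2.foldl (fun v b => match b with
      | none => runP x.1.2 v
      | some st => st.run v) base64 = baseXi))

theorem closure_ok : closureOK (repChains64.zip closureCert) = true ∧
    (repChains64.zip closureCert).map (fun x => x.1.1) = repsOf 64 ∧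
    lOf (xiFun (Pi.single none 8)) = baseXi ∧ baseXi.getD 23 0 = -4 := by decide +kernel

theorem xiEl_not_mem : xiEl ∉ crossStab := fun h => by
  obtain ⟨i, s, hs, e⟩ := mem_crossStab.1 h eTop (bigE_mem_stdCross none)
  rw [xiEl_smul, eTop_coe] at e
  obtain ⟨-, -, h1, h2⟩ := closure_ok
  rw [e] at h1
  rw [← h1, lOf_getD _ (by norm_num), show pt 23 = none from rfl] at h2
  rcases eq_or_ne none i with rfl | hne
  · rw [Pi.single_eq_same] at h2; rcases hs with rfl | rfl <;> norm_num at h2
  · simp [hne] at h2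

theorem exists_blocks {K : Subgroup Co0} (hN : crossStab ≤ K) {g : Co0} (hg : g ∈ K)
    {P : List Stp} (hga : ActsAs g (runP P)) : ∀ (l : List (Option Stp)),
    (l.all fun b => match b with
      | none => true
      | some (.mono a s) => (Stp.mono a s).ok
      | some .xi => false) = true →
    ∃ k ∈ K, ActsAs k fun v => l.foldl (fun v b => match b with
      | none => runP P v
      | some st => st.run v) v := by
  intro l
  induction l with
  | nil => exact fun _ => ⟨1, one_mem _, fun v => by rw [one_smul]; rfl⟩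
  | cons b r ih =>
    intro h
    simp only [List.all_cons, Bool.and_eq_true] at h
    obtain ⟨k, hk, hka⟩ := ih h.2
    match b, h.1 with
    | none, _ => exact ⟨k * g, mul_mem hk hg, hka.mul hga⟩
    | some (.mono a s), h1 =>
      obtain ⟨p, hp⟩ := exists_mono_of_ok h1
      exact ⟨k * monoEl p, mul_mem hk (hN (monoEl_mem_crossStab p)), hka.mul hp⟩
    | some .xi, h1 => exact absurd h1 (by simp)

theorem isCoatom_crossStab : IsCoatom crossStab := by
  refine ⟨fun h => xiEl_not_mem (h ▸ Subgroup.mem_top _), fun K hK => ?_⟩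
  obtain ⟨g, hgK, hgN⟩ := SetLike.exists_of_lt hK
  obtain ⟨r, hr, p, hp⟩ := exists_rep_mono (n := 64)
    (SetLike.coe_mem (g • eTop : leechLattice))
    ((coe_smul_sqNorm g eTop).trans (sqNorm_bigE none)) (by norm_num)
  have hh : monoEl p * g ∈ K := mul_mem (hK.le (monoEl_mem_crossStab p)) hgK
  have hlen := rep_lengths.2.2 r hr
  have hhe : lOf (((monoEl p * g) • eTop : leechLattice) : GolayPt → ℤ) = r := by
    rw [mul_smul, monoEl_smul, hp, lOf_vOf hlen]
  obtain ⟨hok, hfst, hxi, -⟩ := closure_ok
  rw [← hfst, List.mem_map] at hr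
  obtain ⟨⟨⟨r', P⟩, cl⟩, hx, rfl⟩ := hr
  have hc := List.all_eq_true.1 hok _ hx
  simp only [Bool.or_eq_true, Bool.and_eq_true, decide_eq_true_eq] at hc
  rcases hc with hc | ⟨hc1, hc2⟩
  · exfalso
    refine hgN ?_
    have he : (monoEl p * g) • eTop = eTop :=
      Subtype.ext (lOf_inj (hhe.trans (hc.trans lOf_eTop.symm)))
    have := mul_mem (inv_mem (monoEl_mem_crossStab p))
      (mem_crossStab_of_top (g := monoEl p * g) (by rw [he]; exact bigE_mem_stdCross none))
    rwa [inv_mul_cancel_left] at this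
  · have hmem := (List.of_mem_zip hx).1
    have hP := List.all_eq_true.1 chains_ok.2.2 _ hmem
    simp only [Bool.and_eq_true, decide_eq_true_eq] at hP
    obtain ⟨q, -, hqa⟩ := exists_prog hP.1
    have hqK : q ∈ K := by
      have he : (q * (monoEl p * g)) • eTop = eTop := Subtype.ext (lOf_inj (by
        rw [mul_smul, hqa, hhe, hP.2, lOf_eTop]))
      have := hK.le (mem_crossStab_of_top (g := q * (monoEl p * g))
        (by rw [he]; exact bigE_mem_stdCross none))
      simpa only [mul_inv_cancel_right] using mul_mem this (inv_mem hh)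
    obtain ⟨k, hkK, hka⟩ := exists_blocks hK.le hqK hqa cl hc1
    have hkxi : k • eTop = xiEl • eTop := Subtype.ext (lOf_inj (by
      rw [hka, xiEl_smul, lOf_eTop, eTop_coe, hxi]; exact hc2))
    have hxiK : xiEl ∈ K := by
      have := mul_mem hkK (hK.le (mem_crossStab_of_top (g := k⁻¹ * xiEl) (by
        rw [mul_smul, ← hkxi, inv_smul_smul]; exact bigE_mem_stdCross none)))
      rwa [mul_inv_cancel_left] at this
    rw [eq_top_iff, ← genSub_eq_top, genSub, Subgroup.closure_le]
    rintro x (⟨p', rfl⟩ | rfl)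
    · exact hK.le (monoEl_mem_crossStab p')
    · exact hxiK

end CfsgLib.Spor
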