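import Mathlib

/-!
Counting integer functions on a finite set with prescribed total weight and residue, by dynamic
programming over the coordinates.
-/

set_option autoImplicit false

namespace CfsgLib.Spor

/-- number of functions with values in `L`, total weight `N` and sum `r` modulo four -/
def countFn {n : ℕ} (L : Fin n → Finset ℤ) (wt : ℤ → ℕ) (N : ℕ) (r : ZMod 4) : ℕ :=
  ((Fintype.piFinset L).filter fun z => ∑ i, wt (z i) = N ∧ ∑ i, (z i : ZMod 4) = r).card

theorem countFn_zero (L : Fin 0 → Finset ℤ) (wt : ℤ → ℕ) (N : ℕ) (r : ZMod 4) :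
    countFn L wt N r = if N = 0 ∧ r = 0 then 1 else 0 := by
  rw [countFn]
  by_cases h : N = 0 ∧ r = 0
  · rw [if_pos h]; obtain ⟨rfl, rfl⟩ := h; simp
  · rw [if_neg h, Finset.card_eq_zero, Finset.filter_eq_empty_iff]
    intro z _ hz
    simp at hz
    exact h ⟨hz.1.symm, hz.2.symm⟩

theorem countFn_succ {n : ℕ} (L : Fin (n + 1) → Finset ℤ) (wt : ℤ → ℕ) (N : ℕ) (r : ZMod 4) :
    countFn L wt N r = ∑ v ∈ L 0,
      if wt v ≤ N then countFn (Fin.tail L) wt (N - wt v) (r - (v : ZMod 4)) else 0 := by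
  have hfib : ∀ v ∈ L 0,
      (if wt v ≤ N then countFn (Fin.tail L) wt (N - wt v) (r - (v : ZMod 4)) else 0) =
      ((Fintype.piFinset L).filter fun z => (∑ i, wt (z i) = N ∧ ∑ i, (z i : ZMod 4) = r) ∧
        z 0 = v).card := by
    intro v hv
    by_cases hle : wt v ≤ N
    · rw [if_pos hle, countFn]
      refine Finset.card_bij (fun z _ => Fin.cons v z) (fun z hz => ?_)
        (fun a _ b _ h => by simpa using congrArg Fin.tail h) (fun z hz => ?_)
      · simp only [Finset.mem_filter, Fintype.mem_piFinset] at hz ⊢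
        refine ⟨fun i => ?_, ⟨?_, ?_⟩, by simp⟩
        · refine Fin.cases ?_ (fun j => ?_) i
          · simpa using hv
          · rw [Fin.cons_succ]; exact hz.1 j
        · rw [Fin.sum_univ_succ]; simp only [Fin.cons_zero, Fin.cons_succ]; omega
        · rw [Fin.sum_univ_succ]; simp only [Fin.cons_zero, Fin.cons_succ]
          rw [hz.2.2, add_sub_cancel]
      · simp only [Finset.mem_filter, Fintype.mem_piFinset] at hz
        obtain ⟨hzL, ⟨hw, hr⟩, rfl⟩ := hz
        rw [Fin.sum_univ_succ] at hw hr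
        refine ⟨Fin.tail z, ?_, Fin.cons_self_tail z⟩
        simp only [Finset.mem_filter, Fintype.mem_piFinset, Fin.tail]
        exact ⟨fun j => hzL j.succ, by omega, eq_sub_of_add_eq' hr⟩
    · rw [if_neg hle, eq_comm, Finset.card_eq_zero, Finset.filter_eq_empty_iff]
      rintro z - ⟨⟨hw, -⟩, rfl⟩
      rw [Fin.sum_univ_succ] at hw
      omega
  rw [Finset.sum_congr rfl hfib, countFn,
    Finset.card_eq_sum_card_fiberwise (f := fun z => z 0) (t := L 0)
      (fun z hz => Fintype.mem_piFinset.1 (Finset.mem_filter.1 hz).1 0)]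
  exact Finset.sum_congr rfl fun v _ => by rw [Finset.filter_filter]

/-- one step of the table recursion -/
def dpStep (wt : ℤ → ℕ) (Nmax : ℕ) (vals : List ℤ) (prev : List (List ℕ)) : List (List ℕ) :=
  (List.range (Nmax + 1)).map fun (N : ℕ) => (List.range 4).map fun (r : ℕ) =>
    (vals.map fun v => if wt v ≤ N then
      (prev.getD (N - wt v) []).getD (((r : ZMod 4) - (v : ZMod 4)).val) 0 else 0).sum

/-- the table of counts for a list of value lists -/
def dpTab (wt : ℤ → ℕ) (Nmax : ℕ) : List (List ℤ) → List (List ℕ)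
  | [] => (List.range (Nmax + 1)).map fun (N : ℕ) => (List.range 4).map fun (r : ℕ) =>
      if N = 0 ∧ r = 0 then 1 else 0
  | v :: l => dpStep wt Nmax v (dpTab wt Nmax l)

/-- a table entry -/
def dpVal (t : List (List ℕ)) (N : ℕ) (r : ZMod 4) : ℕ := (t.getD N []).getD r.val 0

theorem countFn_dp (wt : ℤ → ℕ) (Nmax : ℕ) : ∀ (Ls : List (List ℤ)), (∀ l ∈ Ls, l.Nodup) →
    ∀ N ≤ Nmax, ∀ r, countFn (fun i : Fin Ls.length => (Ls.get i).toFinset) wt N r =
      dpVal (dpTab wt Nmax Ls) N r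
  | [], _, N, hN, r => by
    rw [countFn_zero, dpVal, dpTab]
    have hr : (r.val = 0) ↔ r = 0 := ZMod.val_eq_zero r
    simp [hN, ZMod.val_lt r, hr]
  | v :: l, hnd, N, hN, r => by
    have ih := countFn_dp wt Nmax l (fun l' h => hnd l' (List.mem_cons_of_mem _ h))
    rw [dpVal, dpTab, dpStep]
    rw [List.getD_eq_getElem?_getD, List.getD_eq_getElem?_getD (l := List.map _ (List.range (Nmax + 1))),
      List.getElem?_map, List.getElem?_range (Nat.lt_succ_of_le hN), Option.map_some,
      Option.getD_some, List.getElem?_map, List.getElem?_range (ZMod.val_lt r), Option.map_some,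
      Option.getD_some, ZMod.natCast_rightInverse r,
      ← List.sum_toFinset _ (hnd v List.mem_cons_self)]
    refine (countFn_succ (fun i : Fin (l.length + 1) => ((v :: l).get i).toFinset) wt N r).trans ?_
    refine Finset.sum_congr rfl fun x _ => ?_
    by_cases hx : wt x ≤ N
    · rw [if_pos hx, if_pos hx, ← dpVal, ← ih (N - wt x) (by omega)]
      rfl
    · rw [if_neg hx, if_neg hx]

theorem countFn_eq_dp {n : ℕ} (L : Fin n → Finset ℤ) (wt : ℤ → ℕ) {Nmax N : ℕ} (hN : N ≤ Nmax)
    (r : ZMod 4) {Ls : List (List ℤ)} (hlen : Ls.length = n) (hnd : ∀ l ∈ Ls, l.Nodup)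
    (hL : ∀ i : Fin n, L i = (Ls.get (i.cast hlen.symm)).toFinset) :
    countFn L wt N r = dpVal (dpTab wt Nmax Ls) N r := by
  subst hlen
  rw [show L = fun i : Fin Ls.length => (Ls.get i).toFinset from funext hL]
  exact countFn_dp wt Nmax Ls hnd N hN r

theorem ncard_eq_countFn {ι : Type*} [Fintype ι] [DecidableEq ι] {n : ℕ} (e : Fin n ≃ ι)
    (L : ι → Finset ℤ) (wt : ℤ → ℕ) (N : ℕ) (r : ZMod 4) :
    {z : ι → ℤ | (∀ i, z i ∈ L i) ∧ ∑ i, wt (z i) = N ∧ ∑ i, (z i : ZMod 4) = r}.ncard =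
      countFn (fun k => L (e k)) wt N r := by
  rw [show {z : ι → ℤ | (∀ i, z i ∈ L i) ∧ ∑ i, wt (z i) = N ∧ ∑ i, (z i : ZMod 4) = r} =
      ↑((Fintype.piFinset L).filter fun z => ∑ i, wt (z i) = N ∧ ∑ i, (z i : ZMod 4) = r) by
    ext z; simp [Fintype.mem_piFinset], Set.ncard_coe_finset, countFn]
  refine Finset.card_equiv (Equiv.arrowCongr e.symm (Equiv.refl ℤ)) fun z => ?_
  simp only [Finset.mem_filter, Fintype.mem_piFinset, Equiv.arrowCongr_apply, Equiv.coe_refl,
    Equiv.symm_symm, Function.comp_apply, id_eq]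
  rw [Equiv.sum_comp e (fun i => wt (z i)), Equiv.sum_comp e (fun i => (z i : ZMod 4))]
  exact and_congr_left fun _ => ⟨fun h k => h (e k), fun h i => e.apply_symm_apply i ▸ h (e.symm i)⟩

theorem exists_ordering {ι : Type*} [Fintype ι] [DecidableEq ι] (D : Finset ι) {n : ℕ}
    (hn : Fintype.card ι = n) : ∃ e : Fin n ≃ ι, ∀ k, e k ∈ D ↔ (k : ℕ) < D.card := by
  let e1 : Fin n ≃ ι :=
    (finCongr (by rw [← hn, ← Finset.card_add_card_compl D])).trans
      (finSumFinEquiv.symm.trans ((Equiv.sumCongr (D.equivFin.symm)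
        (Dᶜ.equivFin.symm)).trans ((Equiv.sumCongr (Equiv.refl _)
          (Equiv.subtypeEquivRight fun x => Finset.mem_compl)).trans
            (Equiv.sumCompl fun x => x ∈ D))))
  refine ⟨e1, fun k => ?_⟩
  have key : ∀ s : Fin D.card ⊕ Fin Dᶜ.card,
      (((Equiv.sumCongr (D.equivFin.symm) (Dᶜ.equivFin.symm)).trans ((Equiv.sumCongr (Equiv.refl _)
          (Equiv.subtypeEquivRight fun x => Finset.mem_compl)).trans
            (Equiv.sumCompl fun x => x ∈ D))) s ∈ D) ↔ (finSumFinEquiv s : ℕ) < D.card := by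
    rintro (a | a)
    · simp
    · simp [Finset.mem_compl.1 (Dᶜ.equivFin.symm a).2]
  have := key (finSumFinEquiv.symm (finCongr (by rw [← hn, ← Finset.card_add_card_compl D]) k))
  rw [Equiv.apply_symm_apply] at this
  exact this

end CfsgLib.Spor
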