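import Cfsg.Agent.Lib.Spor.LeechBasic
import Cfsg.Agent.Lib.Spor.CountFn

/-!
The numbers of Leech lattice vectors of norms 4, 6 and 8.
-/

set_option autoImplicit false

namespace CfsgLib.Spor

open Cfsg

/-! ### Even vectors -/

/-- the positions with odd entry -/
def oddSet (z : GolayPt → ℤ) : Finset GolayPt := Finset.univ.filter fun i => z i % 2 = 1

theorem even_vec_iff {x : GolayPt → ℤ} :
    (x ∈ leechLattice ∧ (2 : ℤ) ∣ x none) ↔
      ∃ z : GolayPt → ℤ, x = 2 • z ∧ oddSet z ∈ supports (golayCode : Set (GolayPt → ZMod 2)) ∧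
        (4 : ℤ) ∣ ∑ i, z i := by
  constructor
  · rintro ⟨hx, h2⟩
    obtain ⟨m, c, y, hc, rfl, hpar⟩ := mem_leechLattice.1 hx
    obtain ⟨t, rfl⟩ : (2 : ℤ) ∣ m := by simp only [lvec] at h2; omega
    refine ⟨fun i => t + bitZ (c i) + 2 * y i, funext fun i => by simp [lvec]; ring, ?_, ?_⟩
    · rcases Int.even_or_odd t with ⟨u, hu⟩ | ⟨u, hu⟩
      · convert mem_supports_of_code hc using 1
        ext i
        rcases bitZ_cases (c i) with ⟨h, h'⟩ | ⟨h, h'⟩ <;> simp [oddSet, support₂, h] <;> omega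
      · convert mem_supports_of_code (Submodule.add_mem _ hc one_mem_golayCode) using 1
        ext i
        rcases bitZ_cases (c i) with ⟨h, h'⟩ | ⟨h, h'⟩ <;>
          simp [oddSet, support₂, h, CharTwo.add_self_eq_zero] <;> omega
    · rw [Finset.sum_add_distrib, Finset.sum_add_distrib, Finset.sum_const, Finset.card_univ,
        card_golayPt, ← Finset.mul_sum, nsmul_eq_mul]
      have h4 := four_dvd_sum_bitZ hc
      push_cast
      omega
  · rintro ⟨z, rfl, ⟨c, hc, hcs⟩, hsum⟩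
    have key : ∀ i, z i = bitZ (c i) + 2 * ((z i - bitZ (c i)) / 2) := fun i => by
      rcases bitZ_cases (c i) with ⟨h, h'⟩ | ⟨h, h'⟩
      · have : i ∉ oddSet z := by rw [← hcs]; simp [support₂, h]
        simp [oddSet] at this
        rw [h']; omega
      · have : i ∈ oddSet z := by rw [← hcs]; simp [support₂, h]
        simp [oddSet] at this
        rw [h']; omega
    refine ⟨mem_leechLattice.2 ⟨0, c, fun i => (z i - bitZ (c i)) / 2, hc, funext fun i => ?_, ?_⟩,
      by simp⟩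
    · have := key i
      simp [lvec]
      linear_combination 2 * this
    · rw [Finset.sum_congr rfl fun i _ => key i, Finset.sum_add_distrib, ← Finset.mul_sum] at hsum
      have h4 := four_dvd_sum_bitZ hc
      beta_reduce
      omega

/-- the even lattice vectors of given norm whose odd half has weight accepted by `W` -/
def evenVecs (n : ℤ) (W : ℕ → Bool) : Set (GolayPt → ℤ) :=
  {x | x ∈ leechLattice ∧ sqNorm x = n ∧ ∃ z, x = 2 • z ∧ W (oddSet z).card = true}

/-- value lists for the halves of even vectors -/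
def zLs (w : ℕ) : List (List ℤ) :=
  List.replicate w [1, -1, 3, -3] ++ List.replicate (24 - w) [0, 2, -2, 4, -4]

/-- the fibre count -/
def zCount (N w : ℕ) : ℕ := dpVal (dpTab (fun v => v.natAbs ^ 2) 16 (zLs w)) N 0

theorem cast_natAbs_sq (a : ℤ) : ((a.natAbs ^ 2 : ℕ) : ℤ) = a ^ 2 := by
  push_cast; exact sq_abs a

theorem sum_natAbs_sq (z : GolayPt → ℤ) :
    ((∑ i, (z i).natAbs ^ 2 : ℕ) : ℤ) = ∑ i, z i ^ 2 := by
  rw [Nat.cast_sum]; exact Finset.sum_congr rfl fun i _ => cast_natAbs_sq _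

theorem four_dvd_iff_cast (z : GolayPt → ℤ) :
    (4 : ℤ) ∣ ∑ i, z i ↔ ∑ i, (z i : ZMod 4) = 0 := by
  rw [← Int.cast_sum, ZMod.intCast_zmod_eq_zero_iff_dvd]; rfl

/-- the halves with given odd set -/
def zFibre (N : ℕ) (D : Finset GolayPt) : Set (GolayPt → ℤ) :=
  {z | oddSet z = D ∧ ∑ i, (z i).natAbs ^ 2 = N ∧ ∑ i, (z i : ZMod 4) = 0}

theorem zFibre_eq (N : ℕ) (hN : N ≤ 16) (D : Finset GolayPt) :
    zFibre N D = {z : GolayPt → ℤ | (∀ i, z i ∈ if i ∈ D then ([1, -1, 3, -3] : List ℤ).toFinset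
      else ([0, 2, -2, 4, -4] : List ℤ).toFinset) ∧ ∑ i, (z i).natAbs ^ 2 = N ∧
        ∑ i, (z i : ZMod 4) = 0} := by
  ext z
  simp only [zFibre, Set.mem_ofPred_eq]
  refine and_congr_left fun h => ?_
  constructor
  · intro hD i
    have hle : (z i).natAbs ≤ 4 := by
      have : (z i).natAbs ^ 2 ≤ N :=
        h.1 ▸ Finset.single_le_sum (fun j _ => Nat.zero_le ((z j).natAbs ^ 2)) (Finset.mem_univ i)
      nlinarith
    have hodd : i ∈ D ↔ z i % 2 = 1 := by rw [← hD]; simp [oddSet]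
    split
    · next hi => have := hodd.1 hi; simp; omega
    · next hi => have := mt hodd.2 hi; simp; omega
  · intro hall
    ext i
    have := hall i
    simp only [oddSet, Finset.mem_filter, Finset.mem_univ, true_and]
    by_cases hi : i ∈ D
    · rw [if_pos hi] at this; simp at this; simp only [hi, iff_true]; omega
    · rw [if_neg hi] at this; simp at this; simp only [hi, iff_false]; omega

theorem ncard_zFibre (N : ℕ) (hN : N ≤ 16) (D : Finset GolayPt) :
    (zFibre N D).ncard = zCount N D.card := by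
  obtain ⟨e, he⟩ := exists_ordering D card_golayPt
  rw [zFibre_eq N hN D, ncard_eq_countFn e _ (fun v => v.natAbs ^ 2) N 0, zCount]
  have hw : D.card ≤ 24 := (Finset.card_le_univ D).trans_eq card_golayPt
  have hlen : (zLs D.card).length = 24 := by simp [zLs]; omega
  refine countFn_eq_dp _ _ hN 0 hlen ?_ fun k => ?_
  · intro l hl
    simp only [zLs, List.mem_append, List.mem_replicate] at hl
    rcases hl with ⟨-, rfl⟩ | ⟨-, rfl⟩ <;> decide
  · simp only [zLs, List.get_eq_getElem, List.getElem_append, List.length_replicate,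
      List.getElem_replicate, he k]
    have hk : ((k.cast hlen.symm : Fin (zLs D.card).length) : ℕ) = (k : ℕ) := rfl
    by_cases h : (k : ℕ) < D.card
    · rw [if_pos h]
      split
      · rfl
      · next h' => exact absurd h h'
    · rw [if_neg h]
      split
      · next h' => exact absurd h' h
      · rfl

theorem ncard_biUnion_disjoint {ι α : Type*} (s : Finset ι) (f : ι → Set α)
    (hfin : ∀ i ∈ s, (f i).Finite) (hd : ∀ i ∈ s, ∀ j ∈ s, ∀ a, a ∈ f i → a ∈ f j → i = j) :
    (⋃ i ∈ s, f i).ncard = ∑ i ∈ s, (f i).ncard := by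
  classical
  induction s using Finset.induction_on with
  | empty => simp
  | insert a s ha ih =>
    have hrest : (⋃ i ∈ s, f i).Finite :=
      Set.Finite.biUnion s.finite_toSet fun i hi => hfin i (Finset.mem_insert_of_mem hi)
    rw [Finset.sum_insert ha, Finset.set_biUnion_insert,
      Set.ncard_union_eq ?_ (hfin a (Finset.mem_insert_self a s)) hrest,
      ih (fun i hi => hfin i (Finset.mem_insert_of_mem hi))
        (fun i hi j hj => hd i (Finset.mem_insert_of_mem hi) j (Finset.mem_insert_of_mem hj))]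
    rw [Set.disjoint_left]
    intro x hx hx'
    simp only [Set.mem_iUnion] at hx'
    obtain ⟨i, hi, hxi⟩ := hx'
    exact ha (hd a (Finset.mem_insert_self a s) i (Finset.mem_insert_of_mem hi) x hx hxi ▸ hi)

theorem zFibre_finite {N : ℕ} (hN : N ≤ 16) (D : Finset GolayPt) : (zFibre N D).Finite := by
  rw [zFibre_eq N hN D]
  exact (Finset.finite_toSet (Fintype.piFinset fun i =>
    if i ∈ D then ([1, -1, 3, -3] : List ℤ).toFinset else ([0, 2, -2, 4, -4] : List ℤ).toFinset)).subset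
    fun z hz => by simpa [Fintype.mem_piFinset] using hz.1

theorem two_smul_injective : Function.Injective fun z : GolayPt → ℤ => 2 • z := fun a b h =>
  funext fun i => by have := congrFun h i; simp at this; exact this

theorem ncard_evenVecs (N : ℕ) (hN : N ≤ 16) (W : ℕ → Bool) :
    (evenVecs (4 * N : ℕ) W).ncard =
      (codeList.map fun m => if W (pop m) then zCount N (pop m) else 0).sum := by
  have hS : evenVecs (4 * N : ℕ) W =
      (fun z : GolayPt → ℤ => 2 • z) '' ⋃ m ∈ codeList.toFinset,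
        if W (pop m) then zFibre N (toSet m) else ∅ := by
    ext x
    simp only [Set.mem_image, Set.mem_iUnion, List.mem_toFinset]
    constructor
    · rintro ⟨hx, hn, z, rfl, hW⟩
      obtain ⟨z', he, hs, h4⟩ := even_vec_iff.1 ⟨hx, by simp⟩
      obtain rfl : z = z' := two_smul_injective he
      refine ⟨z, ⟨mask (oddSet z), mem_supports_iff.1 hs, ?_⟩, rfl⟩
      rw [pop_mask, if_pos hW, toSet_mask]
      refine ⟨rfl, ?_, (four_dvd_iff_cast z).1 h4⟩
      rw [sqNorm_two_smul] at hn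
      have := sum_natAbs_sq z
      simp only [sqNorm] at hn
      omega
    · rintro ⟨z, ⟨m, hm, hz⟩, rfl⟩
      by_cases hW : W (pop m) = true
      · rw [if_pos hW] at hz
        obtain ⟨hD, hN', h4⟩ := hz
        refine ⟨(even_vec_iff.2 ⟨z, rfl, hD ▸ toSet_mem_supports hm, (four_dvd_iff_cast z).2 h4⟩).1,
          ?_, z, rfl, ?_⟩
        · rw [sqNorm_two_smul, sqNorm, ← sum_natAbs_sq, hN']; push_cast; ring
        · rw [hD, card_toSet]; exact hW
      · rw [if_neg hW] at hz; exact absurd hz (Set.notMem_empty z)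
  rw [hS, Set.ncard_image_of_injective _ two_smul_injective, ncard_biUnion_disjoint]
  · rw [List.sum_toFinset _ codeList_nodup]
    refine congrArg List.sum (List.map_congr_left fun m _ => ?_)
    split <;> simp [ncard_zFibre N hN, card_toSet]
  · intro m _; split
    · exact zFibre_finite hN _
    · exact Set.finite_empty
  · intro m hm m' hm' z hz hz'
    by_cases hW : W (pop m) = true
    · by_cases hW' : W (pop m') = true
      · rw [if_pos hW] at hz; rw [if_pos hW'] at hz'
        exact toSet_injOn (lt_of_mem_codeList (List.mem_toFinset.1 hm))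
          (lt_of_mem_codeList (List.mem_toFinset.1 hm')) (hz.1.symm.trans hz'.1)
      · rw [if_neg hW'] at hz'; exact absurd hz' (Set.notMem_empty z)
    · rw [if_neg hW] at hz; exact absurd hz (Set.notMem_empty z)

/-! ### Odd vectors -/

/-- the weight of a coordinate `1 + 4 y` -/
def oddWt (y : ℤ) : ℕ := (y + 2 * y ^ 2).toNat

theorem cast_oddWt (y : ℤ) : (oddWt y : ℤ) = y + 2 * y ^ 2 := by
  rw [oddWt, Int.toNat_of_nonneg]
  rcases le_or_gt 0 y with h | h <;> nlinarith

theorem oddWt_small {y : ℤ} (h : oddWt y ≤ 5) : y = 0 ∨ y = 1 ∨ y = -1 := by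
  have hc := cast_oddWt y
  have : (oddWt y : ℤ) ≤ 5 := by exact_mod_cast h
  have h1 : y ≤ 1 := by nlinarith
  have h2 : -1 ≤ y := by nlinarith
  omega

/-- the vector with signs `c` and quarters `y` -/
def oddVec (c : GolayPt → ZMod 2) (y : GolayPt → ℤ) : GolayPt → ℤ :=
  fun i => if i ∈ support₂ c then -(1 + 4 * y i) else 1 + 4 * y i

theorem sum_oddWt (y : GolayPt → ℤ) :
    ((∑ i, oddWt (y i) : ℕ) : ℤ) = ∑ i, y i + 2 * ∑ i, y i ^ 2 := by
  rw [Nat.cast_sum, Finset.mul_sum, ← Finset.sum_add_distrib]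
  exact Finset.sum_congr rfl fun i _ => cast_oddWt _

theorem sqNorm_oddVec (c : GolayPt → ZMod 2) (y : GolayPt → ℤ) :
    sqNorm (oddVec c y) = 24 + 8 * ((∑ i, oddWt (y i) : ℕ) : ℤ) := by
  have key : ∀ i, oddVec c y i ^ 2 = 1 + 8 * ((oddWt (y i) : ℕ) : ℤ) := fun i => by
    rw [cast_oddWt, oddVec]; split <;> ring
  simp only [sqNorm, key, Finset.sum_add_distrib, ← Finset.mul_sum, Finset.sum_const,
    Finset.card_univ, card_golayPt]
  push_cast; ring

theorem oddVec_mem {c : GolayPt → ZMod 2} (hc : c ∈ golayCode) {y : GolayPt → ℤ}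
    (hy : (2 : ℤ) ∣ ∑ i, y i - 1) : oddVec c y ∈ leechLattice := by
  have h := sign_mem_leech (mem_supports_of_code hc)
    (mem_leechLattice.2 ⟨1, 0, y, Submodule.zero_mem _, rfl, hy⟩ : lvec 1 0 y ∈ leechLattice)
  convert h using 1
  funext i
  simp [oddVec, lvec]

theorem exists_oddVec {x : GolayPt → ℤ} (hx : x ∈ leechLattice) (h : ¬ (2 : ℤ) ∣ x none) :
    ∃ c ∈ golayCode, ∃ y, x = oddVec c y ∧ (2 : ℤ) ∣ ∑ i, y i - 1 := by
  obtain ⟨m, c, y, hc, rfl, hpar⟩ := mem_leechLattice.1 hx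
  obtain ⟨t, rfl⟩ : ∃ t, m = 2 * t + 1 := ⟨m / 2, by simp only [lvec] at h; omega⟩
  obtain ⟨d, hd, hdspec⟩ : ∃ d ∈ golayCode, ∀ i, lvec (2 * t + 1) c y i % 4 = if d i = 0 then 1 else 3 := by
    rcases Int.even_or_odd t with ⟨u, hu⟩ | ⟨u, hu⟩
    · refine ⟨c, hc, fun i => ?_⟩
      rcases bitZ_cases (c i) with ⟨h, h'⟩ | ⟨h, h'⟩ <;> simp [lvec, h] <;> omega
    · refine ⟨c + 1, Submodule.add_mem _ hc one_mem_golayCode, fun i => ?_⟩
      rcases bitZ_cases (c i) with ⟨h, h'⟩ | ⟨h, h'⟩ <;>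
        simp [lvec, h, CharTwo.add_self_eq_zero] <;> omega
  let s : GolayPt → ℤ := fun i =>
    if i ∈ support₂ d then -lvec (2 * t + 1) c y i else lvec (2 * t + 1) c y i
  have hs4 : ∀ i, s i = 1 + 4 * ((s i - 1) / 4) := fun i => by
    have := hdspec i
    simp only [s]
    by_cases hi : i ∈ support₂ d
    · rw [if_pos hi]; simp [support₂] at hi; rw [if_neg hi] at this; omega
    · rw [if_neg hi]; simp [support₂] at hi; rw [if_pos hi] at this; omega
  refine ⟨d, hd, fun i => (s i - 1) / 4, funext fun i => ?_, ?_⟩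
  · simp only [oddVec, ← hs4 i, s]
    by_cases hi : i ∈ support₂ d <;> simp [hi]
  · have hsmem : s ∈ leechLattice := sign_mem_leech (mem_supports_of_code hd) hx
    obtain ⟨m', c', y', hc', he, hpar'⟩ := mem_leechLattice.1 hsmem
    have h1 := sum_lvec m' c' y'
    rw [← he, Finset.sum_congr rfl fun i _ => hs4 i, Finset.sum_add_distrib, ← Finset.mul_sum,
      Finset.sum_const, Finset.card_univ, card_golayPt] at h1
    have h4 := four_dvd_sum_bitZ hc'
    have h0 := congrFun he none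
    have hs0 := hs4 none
    simp only [lvec] at h0
    simp only [nsmul_eq_mul] at h1
    push_cast at h1
    beta_reduce
    omega

/-- the odd lattice vectors of given norm with quarters in a list -/
def oddVecs (n : ℤ) (V : List ℤ) : Set (GolayPt → ℤ) :=
  {x | x ∈ leechLattice ∧ sqNorm x = n ∧ ∃ c ∈ golayCode, ∃ y, x = oddVec c y ∧ ∀ i, y i ∈ V}

/-- the count of quarter vectors -/
def yCount (V : List ℤ) (N : ℕ) : ℕ :=
  ∑ r : ZMod 4, dpVal (dpTab oddWt 5 (List.replicate 24 V)) N r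

theorem oddVec_injective {c c' : GolayPt → ZMod 2} {y y' : GolayPt → ℤ}
    (h : oddVec c y = oddVec c' y') : c = c' ∧ y = y' := by
  have hc : c = c' := support₂_injective (Finset.ext fun i => by
    have := congrFun h i
    simp only [oddVec] at this
    by_cases a : i ∈ support₂ c <;> by_cases b : i ∈ support₂ c' <;>
      simp only [a, b, if_true, if_false] at this ⊢ <;> omega)
  subst hc
  refine ⟨rfl, funext fun i => ?_⟩
  have := congrFun h i
  simp only [oddVec] at this
  split at this <;> omega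

theorem ncard_oddVecs (N : ℕ) (hN : N ≤ 5) (hodd : N % 2 = 1) (V : List ℤ) (hV : V.Nodup) :
    (oddVecs (24 + 8 * N : ℕ) V).ncard = 4096 * yCount V N := by
  let Y : Set (GolayPt → ℤ) := {y | (∀ i, y i ∈ V.toFinset) ∧ ∑ i, oddWt (y i) = N}
  have hS : oddVecs (24 + 8 * N : ℕ) V =
      (fun p : (GolayPt → ZMod 2) × (GolayPt → ℤ) => oddVec p.1 p.2) ''
        ((golayCode : Set (GolayPt → ZMod 2)) ×ˢ Y) := by
    ext x
    constructor
    · rintro ⟨-, hn, c, hc, y, rfl, hy⟩
      refine ⟨(c, y), ⟨hc, fun i => List.mem_toFinset.2 (hy i), ?_⟩, rfl⟩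
      rw [sqNorm_oddVec, Nat.cast_add, Nat.cast_mul] at hn
      show ∑ i, oddWt (y i) = N
      omega
    · rintro ⟨⟨c, y⟩, ⟨hc, hy, hN'⟩, rfl⟩
      dsimp only at hN' hy ⊢
      refine ⟨oddVec_mem hc ?_, ?_, c, hc, y, rfl, fun i => List.mem_toFinset.1 (hy i)⟩
      · have h1 := sum_oddWt y
        rw [hN'] at h1
        omega
      · show sqNorm (oddVec c y) = _
        rw [sqNorm_oddVec, hN']; push_cast; ring
  rw [hS, Set.ncard_image_of_injective _ (fun p q h => Prod.ext (oddVec_injective h).1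
    (oddVec_injective h).2), Set.ncard_prod]
  congr 1
  · rw [← Nat.card_coe_set_eq]; exact natCard_golayCode
  have hY : Y = ⋃ r ∈ (Finset.univ : Finset (ZMod 4)), {y : GolayPt → ℤ |
      (∀ i, y i ∈ V.toFinset) ∧ ∑ i, oddWt (y i) = N ∧ ∑ i, (y i : ZMod 4) = r} := by
    ext y; simp [Y]
  have e : Fin 24 ≃ GolayPt := (Fintype.equivFinOfCardEq card_golayPt).symm
  rw [hY, ncard_biUnion_disjoint _ _ (fun r _ => (Finset.finite_toSet
      (Fintype.piFinset fun _ : GolayPt => V.toFinset)).subset fun y hy => by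
        simpa [Fintype.mem_piFinset] using hy.1)
    (fun r _ r' _ y h h' => h.2.2.symm.trans h'.2.2)]
  refine Finset.sum_congr rfl fun r _ => ?_
  rw [ncard_eq_countFn e (fun _ => V.toFinset) oddWt N r]
  refine countFn_eq_dp _ _ hN r (List.length_replicate ..) ?_ fun k => ?_
  · intro l hl; rw [(List.mem_replicate.1 hl).2]; exact hV
  · rw [List.get_eq_getElem, List.getElem_replicate]

theorem norm_split (n : ℤ) (M : ℕ) (hM : n = (24 + 8 * M : ℕ)) (hM5 : M ≤ 5) :
    {x : GolayPt → ℤ | x ∈ leechLattice ∧ sqNorm x = n} =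
      evenVecs n (fun _ => true) ∪ oddVecs n [0, 1, -1] := by
  ext x
  constructor
  · rintro ⟨hx, hxn⟩
    by_cases h : (2 : ℤ) ∣ x none
    · obtain ⟨z, hz, -, -⟩ := even_vec_iff.1 ⟨hx, h⟩
      exact Or.inl ⟨hx, hxn, z, hz, rfl⟩
    · obtain ⟨c, hc, y, rfl, -⟩ := exists_oddVec hx h
      refine Or.inr ⟨hx, hxn, c, hc, y, rfl, fun i => ?_⟩
      rw [sqNorm_oddVec, hM] at hxn
      have hsum : ∑ i, oddWt (y i) = M := by rw [Nat.cast_add, Nat.cast_mul] at hxn; omega
      have : oddWt (y i) ≤ M := hsum ▸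
        Finset.single_le_sum (fun j _ => Nat.zero_le (oddWt (y j))) (Finset.mem_univ i)
      rcases oddWt_small (this.trans hM5) with h | h | h <;> simp [h]
  · rintro (⟨hx, hxn, -⟩ | ⟨hx, hxn, -⟩) <;> exact ⟨hx, hxn⟩

theorem disjoint_even_odd (n : ℤ) (W : ℕ → Bool) (V : List ℤ) :
    Disjoint (evenVecs n W) (oddVecs n V) := by
  rw [Set.disjoint_left]
  rintro x ⟨-, -, z, hz, -⟩ ⟨-, -, c, -, y, hy, -⟩
  have := congrFun (hz.symm.trans hy) none
  simp [oddVec] at this
  split at this <;> omega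

/-- the code words counted by weight -/
theorem sum_by_weight (f : ℕ → ℕ) :
    (codeList.map fun m => f (pop m)).sum = f 0 + 759 * f 8 + 2576 * f 12 + 759 * f 16 + f 24 := by
  have h : ∀ l : List ℕ, (∀ m ∈ l, pop m = 0 ∨ pop m = 8 ∨ pop m = 12 ∨ pop m = 16 ∨ pop m = 24) →
      (l.map fun m => f (pop m)).sum =
        l.countP (fun m => Nat.beq (pop m) 0) * f 0 + l.countP (fun m => Nat.beq (pop m) 8) * f 8 +
        l.countP (fun m => Nat.beq (pop m) 12) * f 12 + l.countP (fun m => Nat.beq (pop m) 16) * f 16 +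
        l.countP (fun m => Nat.beq (pop m) 24) * f 24 := by
    intro l
    induction l with
    | nil => simp
    | cons a l ih =>
      intro h
      rw [List.map_cons, List.sum_cons, ih fun m hm => h m (List.mem_cons_of_mem _ hm)]
      rcases h a List.mem_cons_self with h' | h' | h' | h' | h' <;>
        simp [h'] <;> ring
  have hc : codeList.countP (fun m => Nat.beq (pop m) 0) = 1 ∧
      codeList.countP (fun m => Nat.beq (pop m) 8) = 759 ∧
      codeList.countP (fun m => Nat.beq (pop m) 12) = 2576 ∧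
      codeList.countP (fun m => Nat.beq (pop m) 16) = 759 ∧
      codeList.countP (fun m => Nat.beq (pop m) 24) = 1 := by decide +kernel
  obtain ⟨h0, h8, h12, h16, h24⟩ := hc
  rw [h _ fun m hm => pop_of_mem_codeList hm, h0, h8, h12, h16, h24, one_mul, one_mul]

theorem zCount_tables :
    (zCount 8 0 = 1104 ∧ zCount 8 8 = 128 ∧ zCount 8 12 = 0 ∧ zCount 8 16 = 0 ∧ zCount 8 24 = 0) ∧
    (zCount 12 0 = 0 ∧ zCount 12 8 = 4096 ∧ zCount 12 12 = 2048 ∧ zCount 12 16 = 0 ∧
      zCount 12 24 = 0) ∧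
    (zCount 16 0 = 170064 ∧ zCount 16 8 = 62464 ∧ zCount 16 12 = 49152 ∧ zCount 16 16 = 32768 ∧
      zCount 16 24 = 0) := by
  decide +kernel

theorem yCount_tables : yCount [0, 1, -1] 1 = 24 ∧ yCount [0, 1, -1] 3 = 2048 ∧
    yCount [0, 1, -1] 5 = 48576 ∧ yCount [0, -1] 3 = 2024 := by
  decide +kernel

theorem ncard_norm (n : ℤ) (N M : ℕ) (hM : n = (24 + 8 * M : ℕ)) (hn : n = (4 * N : ℕ))
    (hM5 : M ≤ 5) (hN16 : N ≤ 16) (hodd : M % 2 = 1) {a b : ℕ}
    (ha : (codeList.map fun m => zCount N (pop m)).sum = a) (hb : yCount [0, 1, -1] M = b)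
    (hfin : a ≠ 0 ∧ b ≠ 0) :
    {x : GolayPt → ℤ | x ∈ leechLattice ∧ sqNorm x = n}.ncard = a + 4096 * b := by
  have he : (evenVecs n fun _ => true).ncard = a := by
    rw [hn, ncard_evenVecs N hN16]; simpa using ha
  have ho : (oddVecs n [0, 1, -1]).ncard = 4096 * b := by
    rw [hM, ncard_oddVecs M hM5 hodd _ (by decide), hb]
  rw [norm_split n M hM hM5, Set.ncard_union_eq (disjoint_even_odd _ _ _)
    (Set.finite_of_ncard_ne_zero (by rw [he]; exact hfin.1))
    (Set.finite_of_ncard_ne_zero (by rw [ho]; simpa using hfin.2)), he, ho]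

theorem ncard_norm_32 : {x : GolayPt → ℤ | x ∈ leechLattice ∧ sqNorm x = 32}.ncard = 196560 := by
  obtain ⟨⟨e0, e8, e12, e16, e24⟩, -, -⟩ := zCount_tables
  rw [ncard_norm 32 8 1 (by norm_num) (by norm_num) (by norm_num) (by norm_num) rfl
    (a := 98256) (b := 24) (by rw [sum_by_weight (zCount 8), e0, e8, e12, e16, e24])
    yCount_tables.1 (by norm_num)]

theorem ncard_norm_48 :
    {x : GolayPt → ℤ | x ∈ leechLattice ∧ sqNorm x = 48}.ncard = 16773120 := by
  obtain ⟨-, ⟨e0, e8, e12, e16, e24⟩, -⟩ := zCount_tables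
  rw [ncard_norm 48 12 3 (by norm_num) (by norm_num) (by norm_num) (by norm_num) rfl
    (a := 8384512) (b := 2048) (by rw [sum_by_weight (zCount 12), e0, e8, e12, e16, e24])
    yCount_tables.2.1 (by norm_num)]

theorem ncard_norm_64 :
    {x : GolayPt → ℤ | x ∈ leechLattice ∧ sqNorm x = 64}.ncard = 398034000 := by
  obtain ⟨-, -, ⟨e0, e8, e12, e16, e24⟩⟩ := zCount_tables
  rw [ncard_norm 64 16 5 (by norm_num) (by norm_num) (by norm_num) (by norm_num) rfl
    (a := 199066704) (b := 48576) (by rw [sum_by_weight (zCount 16), e0, e8, e12, e16, e24])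
    yCount_tables.2.2.1 (by norm_num)]

theorem even_weight_48 {x : GolayPt → ℤ} (hx : x ∈ leechLattice) (hn : sqNorm x = 48)
    (h : (2 : ℤ) ∣ x none) : ∃ z, x = 2 • z ∧ ∑ i, (z i).natAbs ^ 2 = 12 ∧
      ((oddSet z).card = 8 ∨ (oddSet z).card = 12) := by
  obtain ⟨z, rfl, hs, h4⟩ := even_vec_iff.1 ⟨hx, h⟩
  have hsum : ∑ i, (z i).natAbs ^ 2 = 12 := by
    have := sum_natAbs_sq z
    rw [sqNorm_two_smul] at hn
    simp only [sqNorm] at hn
    omega
  refine ⟨z, rfl, hsum, ?_⟩
  have hmem : z ∈ zFibre 12 (oddSet z) := ⟨rfl, hsum, (four_dvd_iff_cast z).1 h4⟩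
  have hne : (zFibre 12 (oddSet z)).ncard ≠ 0 := fun h0 =>
    Set.notMem_empty z ((Set.ncard_eq_zero (zFibre_finite (by norm_num) _)).1 h0 ▸ hmem)
  rw [ncard_zFibre 12 (by norm_num)] at hne
  obtain ⟨-, ⟨e0, e8, e12, e16, e24⟩, -⟩ := zCount_tables
  rcases pop_of_mem_codeList (mem_supports_iff.1 hs) with h' | h' | h' | h' | h' <;>
    rw [pop_mask] at h' <;> rw [h'] at hne <;> omega

theorem natAbs_of_weight_twelve {z : GolayPt → ℤ} (hsum : ∑ i, (z i).natAbs ^ 2 = 12)
    (hD : (oddSet z).card = 12) : ∀ i, (z i).natAbs ≤ 1 := by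
  have hsplit := Finset.sum_add_sum_compl (oddSet z) fun i => (z i).natAbs ^ 2
  have h1 : ∀ i ∈ oddSet z, 1 ≤ (z i).natAbs ^ 2 := fun i hi => by
    simp [oddSet] at hi
    exact Nat.one_le_pow _ _ (by omega)
  have hge : 12 ≤ ∑ i ∈ oddSet z, (z i).natAbs ^ 2 := by
    calc 12 = ∑ _i ∈ oddSet z, 1 := by rw [Finset.sum_const, hD, smul_eq_mul, mul_one]
      _ ≤ _ := Finset.sum_le_sum h1
  intro i
  by_cases hi : i ∈ oddSet z
  · have heq : ∀ j ∈ oddSet z, 1 = (z j).natAbs ^ 2 := (Finset.sum_eq_sum_iff_of_le h1).1 (by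
      rw [Finset.sum_const, hD, smul_eq_mul, mul_one]; omega)
    have := heq i hi
    nlinarith
  · have h0 : ∑ j ∈ (oddSet z)ᶜ, (z j).natAbs ^ 2 = 0 := by omega
    have := Finset.sum_eq_zero_iff.1 h0 i (Finset.mem_compl.2 hi)
    simp at this
    simp [this]

theorem exists_two_of_weight_eight {z : GolayPt → ℤ} (hsum : ∑ i, (z i).natAbs ^ 2 = 12)
    (hD : (oddSet z).card = 8) : ∃ i, (z i).natAbs = 2 := by
  by_contra h
  push Not at h
  have hsmall : ∀ i, (z i).natAbs ≤ 3 := fun i => by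
    have := Finset.single_le_sum (fun j _ => Nat.zero_le ((z j).natAbs ^ 2)) (Finset.mem_univ i)
    nlinarith
  have hsplit := Finset.sum_add_sum_compl (oddSet z) fun i => (z i).natAbs ^ 2
  have h0 : ∑ j ∈ (oddSet z)ᶜ, (z j).natAbs ^ 2 = 0 := Finset.sum_eq_zero fun j hj => by
    have := h j; have := hsmall j
    simp [oddSet] at hj
    have : (z j).natAbs = 0 := by omega
    rw [this]; rfl
  have h1 : ∀ i ∈ oddSet z, (z i).natAbs ^ 2 = 1 ∨ (z i).natAbs ^ 2 = 9 := fun i hi => by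
    simp [oddSet] at hi
    have := hsmall i; have := h i
    rcases (show (z i).natAbs = 1 ∨ (z i).natAbs = 3 by omega) with e | e <;> simp [e]
  by_cases h9 : ∃ i ∈ oddSet z, (z i).natAbs ^ 2 = 9
  · obtain ⟨i, hi, h9⟩ := h9
    have hge : 7 ≤ ∑ j ∈ (oddSet z).erase i, (z j).natAbs ^ 2 := by
      calc 7 = ∑ _j ∈ (oddSet z).erase i, 1 := by
            rw [Finset.sum_const, Finset.card_erase_of_mem hi, hD]; rfl
        _ ≤ _ := Finset.sum_le_sum fun j hj => by
            rcases h1 j (Finset.mem_of_mem_erase hj) with e | e <;> rw [e]; norm_num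
    rw [← Finset.add_sum_erase _ _ hi, h9] at hsplit
    omega
  · push Not at h9
    rw [Finset.sum_congr rfl fun i hi => (h1 i hi).resolve_right (h9 i hi), Finset.sum_const, hD,
      h0, hsum, smul_eq_mul] at hsplit
    omega

theorem shape_counts :
    {x : GolayPt → ℤ | x ∈ leechLattice ∧ sqNorm x = 48 ∧
      ∀ i, x i = 0 ∨ x i = 2 ∨ x i = -2}.ncard = 5275648 ∧
    {x : GolayPt → ℤ | x ∈ leechLattice ∧ sqNorm x = 48 ∧ ∃ i j k, i ≠ j ∧ j ≠ k ∧ i ≠ k ∧
      |x i| = 3 ∧ |x j| = 3 ∧ |x k| = 3}.ncard = 8290304 ∧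
    {x : GolayPt → ℤ | x ∈ leechLattice ∧ sqNorm x = 48 ∧ ∃ i, |x i| = 4}.ncard = 3108864 ∧
    {x : GolayPt → ℤ | x ∈ leechLattice ∧ sqNorm x = 48 ∧ ∃ i, |x i| = 5}.ncard = 98304 := by
  obtain ⟨-, ⟨e0, e8, e12, e16, e24⟩, -⟩ := zCount_tables
  have habs : ∀ (z : GolayPt → ℤ) i, |(2 • z) i| = 2 * ((z i).natAbs : ℤ) := fun z i => by
    rw [Pi.smul_apply, nsmul_eq_mul, abs_mul, Int.natCast_natAbs]; rfl
  have hoddAbs : ∀ c y i, |oddVec c y i| = |1 + 4 * y i| := fun c y i => by
    simp only [oddVec]; split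
    · exact abs_neg _
    · rfl
  have hoddcases : ∀ x : GolayPt → ℤ, x ∈ leechLattice → sqNorm x = 48 → ¬ (2 : ℤ) ∣ x none →
      ∃ c ∈ golayCode, ∃ y : GolayPt → ℤ, x = oddVec c y ∧ ∑ i, oddWt (y i) = 3 ∧
        ∀ i, y i = 0 ∨ y i = 1 ∨ y i = -1 := by
    intro x hx hn h
    obtain ⟨c, hc, y, rfl, -⟩ := exists_oddVec hx h
    rw [sqNorm_oddVec] at hn
    have hsum : ∑ i, oddWt (y i) = 3 := by omega
    exact ⟨c, hc, y, rfl, hsum, fun i => oddWt_small ((Finset.single_le_sum
      (fun j _ => Nat.zero_le (oddWt (y j))) (Finset.mem_univ i)).trans (by omega))⟩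
  have A : {x : GolayPt → ℤ | x ∈ leechLattice ∧ sqNorm x = 48 ∧
      ∀ i, x i = 0 ∨ x i = 2 ∨ x i = -2} = evenVecs 48 fun w => Nat.beq w 12 := by
    ext x
    constructor
    · rintro ⟨hx, hn, hall⟩
      obtain ⟨z, rfl, hsum, hD | hD⟩ := even_weight_48 hx hn (by rcases hall none with h | h | h <;> omega)
      · obtain ⟨i, hi⟩ := exists_two_of_weight_eight hsum hD
        have := hall i
        simp at this
        omega
      · exact ⟨hx, hn, z, rfl, by rw [hD]; rfl⟩
    · rintro ⟨hx, hn, z, rfl, hD⟩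
      refine ⟨hx, hn, fun i => ?_⟩
      obtain ⟨z', he, hsum, -⟩ := even_weight_48 hx hn (by simp)
      obtain rfl : z = z' := two_smul_injective he
      have := natAbs_of_weight_twelve hsum (Nat.eq_of_beq_eq_true hD) i
      simp
      omega
  have C : {x : GolayPt → ℤ | x ∈ leechLattice ∧ sqNorm x = 48 ∧ ∃ i, |x i| = 4} =
      evenVecs 48 fun w => Nat.beq w 8 := by
    ext x
    constructor
    · rintro ⟨hx, hn, i, hi⟩
      by_cases h : (2 : ℤ) ∣ x none
      · obtain ⟨z, rfl, hsum, hD | hD⟩ := even_weight_48 hx hn h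
        · exact ⟨hx, hn, z, rfl, by rw [hD]; rfl⟩
        · have := natAbs_of_weight_twelve hsum hD i
          rw [habs] at hi; omega
      · obtain ⟨c, -, y, rfl, -, hy⟩ := hoddcases x hx hn h
        rw [hoddAbs] at hi
        rcases hy i with e | e | e <;> rw [e] at hi <;> norm_num at hi
    · rintro ⟨hx, hn, z, rfl, hD⟩
      obtain ⟨z', he, hsum, -⟩ := even_weight_48 hx hn (by simp)
      obtain rfl : z = z' := two_smul_injective he
      obtain ⟨i, hi⟩ := exists_two_of_weight_eight hsum (Nat.eq_of_beq_eq_true hD)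
      exact ⟨hx, hn, i, by rw [habs, hi]; rfl⟩
  have B : {x : GolayPt → ℤ | x ∈ leechLattice ∧ sqNorm x = 48 ∧ ∃ i j k, i ≠ j ∧ j ≠ k ∧ i ≠ k ∧
      |x i| = 3 ∧ |x j| = 3 ∧ |x k| = 3} = oddVecs 48 [0, -1] := by
    ext x
    constructor
    · rintro ⟨hx, hn, i, j, k, hij, hjk, hik, hi, hj, hk⟩
      by_cases h : (2 : ℤ) ∣ x none
      · obtain ⟨z, rfl, -⟩ := even_weight_48 hx hn h
        rw [habs] at hi; omega
      obtain ⟨c, hc, y, rfl, hsum, hy⟩ := hoddcases x hx hn h
      refine ⟨hx, hn, c, hc, y, rfl, fun l => ?_⟩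
      have hneg : ∀ u, |oddVec c y u| = 3 → oddWt (y u) = 1 := fun u hu => by
        rw [hoddAbs] at hu
        rcases hy u with e | e | e <;> rw [e] at hu ⊢ <;> simp_all [oddWt]
      rcases hy l with e | e | e
      · simp [e]
      · exfalso
        have hle : l ≠ i ∧ l ≠ j ∧ l ≠ k := by
          refine ⟨?_, ?_, ?_⟩ <;> rintro rfl
          · rw [hoddAbs, e] at hi; norm_num at hi
          · rw [hoddAbs, e] at hj; norm_num at hj
          · rw [hoddAbs, e] at hk; norm_num at hk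
        have := Finset.sum_le_univ_sum_of_nonneg (f := fun u => oddWt (y u))
          (s := {l, i, j, k}) (fun _ => Nat.zero_le _)
        rw [Finset.sum_insert (by simp [hle.1, hle.2.1, hle.2.2]),
          Finset.sum_insert (by simp [hij, hik]), Finset.sum_pair hjk, e, hneg i hi, hneg j hj,
          hneg k hk, hsum] at this
        simp [oddWt] at this
      · simp [e]
    · rintro ⟨hx, hn, c, hc, y, rfl, hy⟩
      rw [sqNorm_oddVec] at hn
      have hy' : ∀ u, oddWt (y u) = if y u = -1 then 1 else 0 := fun u => by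
        rcases List.mem_pair.1 (hy u) with e | e <;> simp [e, oddWt]
      have hc3 : (Finset.univ.filter fun u => y u = -1).card = 3 := by
        have hsum : ∑ u, oddWt (y u) = 3 := by omega
        rw [← hsum, Finset.card_filter]; exact Finset.sum_congr rfl fun u _ => (hy' u).symm
      obtain ⟨i, j, k, hij, hik, hjk, he⟩ := Finset.card_eq_three.1 hc3
      have hm : ∀ u, u = i ∨ u = j ∨ u = k → |oddVec c y u| = 3 := fun u hu => by
        have : u ∈ Finset.univ.filter fun u => y u = -1 := by rw [he]; simpa using hu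
        rw [hoddAbs, (Finset.mem_filter.1 this).2]; rfl
      exact ⟨hx, by rw [sqNorm_oddVec]; exact hn, i, j, k, hij, hjk, hik, hm i (Or.inl rfl),
        hm j (Or.inr (Or.inl rfl)), hm k (Or.inr (Or.inr rfl))⟩
  have D : {x : GolayPt → ℤ | x ∈ leechLattice ∧ sqNorm x = 48 ∧ ∃ i, |x i| = 5} =
      oddVecs 48 [0, 1, -1] \ oddVecs 48 [0, -1] := by
    ext x
    constructor
    · rintro ⟨hx, hn, i, hi⟩
      by_cases h : (2 : ℤ) ∣ x none
      · obtain ⟨z, rfl, -⟩ := even_weight_48 hx hn h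
        rw [habs] at hi; omega
      obtain ⟨c, hc, y, rfl, -, hy⟩ := hoddcases x hx hn h
      refine ⟨⟨hx, hn, c, hc, y, rfl, fun u => by rcases hy u with e | e | e <;> simp [e]⟩, ?_⟩
      rintro ⟨-, -, c', -, y', he, hy'⟩
      obtain ⟨rfl, rfl⟩ := oddVec_injective he
      rw [hoddAbs] at hi
      rcases List.mem_pair.1 (hy' i) with e | e <;> rw [e] at hi <;> norm_num at hi
    · rintro ⟨⟨hx, hn, c, hc, y, rfl, hy⟩, hnot⟩
      refine ⟨hx, hn, ?_⟩
      by_contra h
      refine hnot ⟨hx, hn, c, hc, y, rfl, fun u => ?_⟩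
      have := hy u
      simp at this
      rcases this with e | e | e
      · simp [e]
      · exact absurd ⟨u, by rw [hoddAbs, e]; rfl⟩ h
      · simp [e]
  have hW : ∀ W : ℕ → Bool, (evenVecs 48 W).ncard =
      (codeList.map fun m => if W (pop m) then zCount 12 (pop m) else 0).sum :=
    fun W => ncard_evenVecs 12 (by norm_num) W
  have hV : ∀ V : List ℤ, V.Nodup → (oddVecs 48 V).ncard = 4096 * yCount V 3 :=
    fun V hV => ncard_oddVecs 3 (by norm_num) rfl V hV
  refine ⟨?_, ?_, ?_, ?_⟩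
  · rw [A, hW, sum_by_weight (fun w => if Nat.beq w 12 then zCount 12 w else 0)]
    simp [e12]
  · rw [B, hV _ (by decide), yCount_tables.2.2.2]
  · rw [C, hW, sum_by_weight (fun w => if Nat.beq w 8 then zCount 12 w else 0)]
    simp [e8]
  · have hsub : oddVecs 48 [0, -1] ⊆ oddVecs 48 [0, 1, -1] := by
      rintro x ⟨hx, hn, c, hc, y, rfl, hy⟩
      exact ⟨hx, hn, c, hc, y, rfl, fun i => by
        rcases List.mem_pair.1 (hy i) with e | e <;> simp [e]⟩
    have hsmall := hV [0, -1] (by decide)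
    rw [yCount_tables.2.2.2] at hsmall
    rw [D, Set.ncard_sdiff hsub (Set.finite_of_ncard_ne_zero (by rw [hsmall]; norm_num)), hsmall,
      hV [0, 1, -1] (by decide), yCount_tables.2.1]

end CfsgLib.Spor
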