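import Cfsg.Agent.Lib.Spor.Co0Main
import Cfsg.Agent.Lib.Spor.M24Gens
import Cfsg.Prelude.Def_Sporadic

/-!
Simplicity of `Co₀` modulo its centre, and the action on the lattice modulo twice itself.
-/

set_option autoImplicit false
set_option maxRecDepth 100000

namespace CfsgLib.Spor

open Cfsg
open CfsgLib.ThreeTransp.CoReduce (bigE)
open scoped Pointwise symmDiff

theorem monoEl_mul (p q : MonoIdx) :
    monoEl p * monoEl q = monoEl (p.1 * q.1, ⟨_, symmDiff_mem_supports p.2.2
      (smul_supports p.1.2 q.2.2)⟩) :=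
  co0_ext fun i => Subtype.ext (by
    rw [mul_smul, monoEl_smul, monoEl_smul, monoEl_smul, signedPerm_comp]
    rfl)

theorem monoEl_one : monoEl (1, ⟨∅, empty_supports⟩) = 1 :=
  co0_ext fun i => Subtype.ext (funext fun j => by
    simp [monoEl_smul, signedPerm]
    rfl)

/-- sign change on a code word -/
def epsEl (c : ↥(supports (golayCode : Set (GolayPt → ZMod 2)))) : Co0 := monoEl (1, c)

/-- coordinate permutation -/
def permEl (σ : ↥M24) : Co0 := monoEl (σ, ⟨∅, empty_supports⟩)

theorem permEl_mul (σ τ : ↥M24) : permEl (σ * τ) = permEl σ * permEl τ := by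
  rw [permEl, permEl, permEl, monoEl_mul]
  congr 1

theorem permEl_one : permEl 1 = 1 := monoEl_one

theorem permEl_inv (σ : ↥M24) : permEl σ⁻¹ = (permEl σ)⁻¹ :=
  eq_inv_of_mul_eq_one_left (by rw [← permEl_mul, inv_mul_cancel, permEl_one])

theorem permEl_pow (σ : ↥M24) (n : ℕ) : permEl (σ ^ n) = permEl σ ^ n := by
  induction n with
  | zero => simpa using permEl_one
  | succ n ih => rw [pow_succ, pow_succ, permEl_mul, ih]

/-- permutation parts of the monomial elements of a subgroup -/
def permPart (K : Subgroup Co0) : Subgroup ↥M24 where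
  carrier := {σ | ∃ c, monoEl (σ, c) ∈ K}
  one_mem' := ⟨⟨∅, empty_supports⟩, monoEl_one ▸ one_mem K⟩
  mul_mem' := by
    rintro σ τ ⟨c, hc⟩ ⟨d, hd⟩
    exact ⟨_, monoEl_mul (σ, c) (τ, d) ▸ mul_mem hc hd⟩
  inv_mem' := by
    rintro σ ⟨c, hc⟩
    obtain ⟨p, hp⟩ := exists_monoEl_of_mem (inv_mem (monoEl_mem_crossStab (σ, c)))
    have h := congrArg (· * monoEl (σ, c)) hp
    simp only [inv_mul_cancel, monoEl_mul] at h
    have h1 := congrArg Prod.fst (monoEl_injective (h.trans monoEl_one.symm))
    refine ⟨p.2, ?_⟩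
    rw [show (σ⁻¹, p.2) = p from Prod.ext (eq_inv_of_mul_eq_one_left h1).symm rfl, hp]
    exact inv_mem hc

/-- the code words whose sign change is in a subgroup -/
def SignPart (K : Subgroup Co0) (c : Finset GolayPt) : Prop :=
  ∃ h : c ∈ supports (golayCode : Set (GolayPt → ZMod 2)), epsEl ⟨c, h⟩ ∈ K

theorem SignPart.symmDiff {K : Subgroup Co0} {c d : Finset GolayPt} (h : SignPart K c)
    (h' : SignPart K d) : SignPart K (c ∆ d) := by
  obtain ⟨hc, hck⟩ := h
  obtain ⟨hd, hdk⟩ := h'
  refine ⟨symmDiff_mem_supports hc hd, ?_⟩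
  convert mul_mem hck hdk using 1
  rw [epsEl, epsEl, epsEl, monoEl_mul]
  congr 1
  exact Prod.ext (one_mul _).symm (Subtype.ext (by simp))

theorem SignPart.smul {K : Subgroup Co0} (hK : K.Normal) {c : Finset GolayPt} (h : SignPart K c)
    (σ : ↥M24) : SignPart K ((σ : Equiv.Perm GolayPt) • c) := by
  obtain ⟨hc, hck⟩ := h
  refine ⟨smul_supports σ.2 hc, ?_⟩
  convert hK.conj_mem _ hck (permEl σ) using 1
  rw [← permEl_inv, epsEl, epsEl, permEl, permEl, monoEl_mul, monoEl_mul]
  congr 1
  refine Prod.ext (by simp) (Subtype.ext ?_)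
  simp [Finset.smul_finset_empty]

theorem basis_octads : ∀ b ∈ golayBasis, pop b = 8 ∧ b < 16777216 ∧ inCode b = true := by
  decide +kernel

theorem dodec_pair : inCode 11472927 = true ∧ pop 11472927 = 12 ∧
    pop (dodec0 ^^^ 11472927) = 8 := by decide +kernel

theorem signPart_full {K : Subgroup Co0} (hK : K.Normal) (huniv : SignPart K Finset.univ)
    {c : Finset GolayPt} (h : SignPart K c) (h0 : c ≠ ∅) (h1 : c ≠ Finset.univ)
    {d : Finset GolayPt} (hd : d ∈ supports (golayCode : Set (GolayPt → ZMod 2))) :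
    SignPart K d := by
  obtain ⟨w, hw, hwc⟩ := h.1
  have hcard : c.card = hammingNorm w := by rw [hammingNorm_eq_card_support₂, hwc]
  obtain ⟨o, ho, hoK⟩ : ∃ o ∈ octads, SignPart K o := by
    rcases weight_cases hw with e | e | e | e | e <;> rw [e] at hcard
    · exact absurd (Finset.card_eq_zero.1 hcard) h0
    · exact ⟨c, ⟨h.1, hcard⟩, h⟩
    · obtain ⟨hi, hp, hx⟩ := dodec_pair
      have hdd : toSet 11472927 ∈ dodecads :=
        ⟨toSet_supports_of_inCode hi (by norm_num), by rw [card_toSet, hp]⟩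
      obtain ⟨g, hg, hge⟩ := exists_smul_dodecad (d := c) ⟨h.1, hcard⟩ dodec0_mem
      obtain ⟨g', hg', hge'⟩ := exists_smul_dodecad (d := c) ⟨h.1, hcard⟩ hdd
      have h2 := (h.smul hK ⟨g, hg⟩).symmDiff (h.smul hK ⟨g', hg'⟩)
      rw [show ((⟨g, hg⟩ : ↥M24) : Equiv.Perm GolayPt) • c = toSet dodec0 from hge,
        show ((⟨g', hg'⟩ : ↥M24) : Equiv.Perm GolayPt) • c = toSet 11472927 from hge',
        ← toSet_xor] at h2
      exact ⟨_, ⟨h2.1, by rw [card_toSet, hx]⟩, h2⟩
    · have h2 := h.symmDiff huniv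
      refine ⟨_, ⟨h2.1, ?_⟩, h2⟩
      rw [show c ∆ Finset.univ = cᶜ from symmDiff_top c, Finset.card_compl, card_golayPt, hcard]
    · exact absurd (Finset.eq_univ_of_card c (hcard.trans card_golayPt.symm)) h1
  rw [← toSet_mask d]
  refine spanList_induction (P := fun m => SignPart K (toSet m)) ?_ ?_ ?_ _ (mem_supports_iff.1 hd)
  · have h2 := hoK.symmDiff hoK
    rw [symmDiff_self] at h2
    rw [toSet_zero]
    exact h2
  · intro b hb
    obtain ⟨h8, hlt, hin⟩ := basis_octads b (List.mem_reverse.1 hb)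
    obtain ⟨g, hg, hge⟩ := exists_smul_octad ho (toSet_mem_octads hin h8 hlt)
    exact hge ▸ hoK.smul hK ⟨g, hg⟩
  · intro a b ha hb
    rw [toSet_xor]; exact ha.symmDiff hb

/-- code word whose conjugate sign change fixes the standard cross -/
def wordA : ℕ := 13062145

/-- code word whose conjugate sign change moves the standard cross -/
def wordB : ℕ := 4845570

theorem word_checks : inCode wordA = true ∧ inCode wordB = true ∧
    wordA < 16777216 ∧ wordB < 16777216 ∧
    lOf (xiFun (signedPerm 1 (toSet wordA) (xiFun (Pi.single (pt 0) 8)))) =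
      lOf (Pi.single none 8 : GolayPt → ℤ) ∧
    lOf (xiFun (signedPerm 1 (toSet wordA) (xiFun (Pi.single none 8)))) =
      lOf (Pi.single (pt 0) 8 : GolayPt → ℤ) ∧
    (lOf (xiFun (signedPerm 1 (toSet wordB) (xiFun (Pi.single none 8))))).getD 23 0 = 4 := by
  decide +kernel

theorem xiEl_inv : xiEl⁻¹ = xiEl := inv_eq_of_mul_eq_one_right xiEl_mul_self

theorem conj_eps_coe (c : ↥(supports (golayCode : Set (GolayPt → ZMod 2)))) (v : leechLattice) :
    (((xiEl * epsEl c * xiEl) • v : leechLattice) : GolayPt → ℤ) =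
      xiFun (signedPerm 1 c (xiFun v)) := rfl

theorem orderOf_gT : orderOf (⟨gT, gT_mem⟩ : ↥M24) = 23 := by
  have : Fact (Nat.Prime 23) := ⟨by norm_num⟩
  refine orderOf_eq_prime ?_ ?_
  · apply Subtype.ext
    have key : ∀ n : ℕ, ∀ p, (gT ^ n) p = p.map (· + (n : ZMod 23)) := by
      intro n
      induction n with
      | zero => intro p; cases p <;> simp
      | succ n ih =>
        intro p
        rw [pow_succ, Equiv.Perm.mul_apply, ih]
        cases p <;> simp [gT, add_assoc, add_comm (1 : ZMod 23)]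
    rw [SubgroupClass.coe_pow]
    ext1 p
    rw [key 23 p]
    cases p <;> simp [show (23 : ZMod 23) = 0 from rfl]
  · intro h
    have := congrArg (fun g : ↥M24 => (g : Equiv.Perm GolayPt) (some 0)) h
    simp [gT] at this

theorem mem_center_of_fixed_by_translation {K : Subgroup Co0}
    (hint : K ⊓ crossStab = Subgroup.center Co0) {k : Co0} (hk : k ∈ K)
    (hcomm : permEl ⟨gT, gT_mem⟩ * k = k * permEl ⟨gT, gT_mem⟩) :
    k ∈ Subgroup.center Co0 := by
  rw [← hint]
  refine ⟨hk, mem_crossStab_of_top ?_⟩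
  set v : GolayPt → ℤ := ((k • eTop : leechLattice) : GolayPt → ℤ) with hv
  have hfix : permEl ⟨gT, gT_mem⟩ • eTop = eTop := Subtype.ext (by
    rw [permEl, monoEl_smul, eTop_coe, signedPerm_single, if_neg (Finset.notMem_empty _)]
    rfl)
  have hinv : ∀ p, v (gT.symm p) = v p := fun p => by
    have h := congrArg (fun x : Co0 => ((x • eTop : leechLattice) : GolayPt → ℤ) p) hcomm
    simp only [mul_smul, hfix] at h
    rw [permEl, monoEl_smul, signedPerm_empty_apply] at h
    exact h
  have hconst : ∀ n : ℕ, v (some (n : ZMod 23)) = v (some 0) := by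
    intro n
    induction n with
    | zero => simp
    | succ n ih =>
      have e : gT.symm (some ((n + 1 : ℕ) : ZMod 23)) = some (n : ZMod 23) := by
        rw [Equiv.symm_apply_eq]; simp [gT]
      rw [← hinv, e, ih]
  have hall : ∀ z : ZMod 23, v (some z) = v (some 0) := fun z => by
    rw [← ZMod.natCast_zmod_val z]; exact hconst _
  have hn := (coe_smul_sqNorm k eTop).trans (sqNorm_bigE none)
  rw [← hv, sqNorm, Fintype.sum_option] at hn
  simp only [hall, Finset.sum_const, Finset.card_univ, ZMod.card, nsmul_eq_mul] at hn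
  push_cast at hn
  have hb : v (some 0) = 0 := by
    by_contra hne
    have hb1 : v (some 0) ^ 2 = 1 := by
      have h1 : -2 < v (some 0) := by nlinarith [sq_nonneg (v none)]
      have h2 : v (some 0) < 2 := by nlinarith [sq_nonneg (v none)]
      generalize v (some 0) = b at hne h1 h2
      interval_cases b <;> simp at hne ⊢
    have h41 : v none ^ 2 = 41 := by linarith
    have hlo : -7 < v none := by nlinarith
    have hhi : v none < 7 := by nlinarith
    generalize v none = a at h41 hlo hhi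
    interval_cases a <;> norm_num at h41
  rw [hb] at hn
  have h8 : v none = 8 ∨ v none = -8 := by
    have : (v none - 8) * (v none + 8) = 0 := by linear_combination hn
    rcases mul_eq_zero.1 this with e | e
    · left; linarith
    · right; linarith
  refine ⟨none, v none, h8, funext fun p => ?_⟩
  cases p with
  | none => simp [hv]
  | some z => rw [Pi.single_eq_of_ne (Option.some_ne_none z), hall, hb]

theorem zmod13_pow : ∀ a : ZMod 13, a ^ 23 = 1 → a = 1 := by decide +kernel

theorem inter_crossStab_ne {K : Subgroup Co0} (hK : K.Normal) (hsup : K ⊔ crossStab = ⊤) :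
    K ⊓ crossStab ≠ Subgroup.center Co0 := by
  intro hint
  have hsub : Nat.card (K.subgroupOf crossStab) = 2 := by
    rw [← Subgroup.inf_subgroupOf_right, hint,
      Nat.card_congr (Subgroup.subgroupOfEquivOfLe (hint ▸ inf_le_right)).toEquiv, natCard_center]
  have hidx : K.index = 2048 * 244823040 := by
    have h1 := Subgroup.relIndex_sup_left crossStab K
    rw [hsup, Subgroup.relIndex_top_right] at h1
    have h2 := Subgroup.card_mul_index (K.subgroupOf crossStab)
    rw [hsub, natCard_crossStab] at h2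
    rw [h1]
    show (K.subgroupOf crossStab).index = _
    omega
  have hcard : Nat.card K = 16584750 := by
    have h := Subgroup.card_mul_index K
    rw [hidx, natCard_Co0] at h
    omega
  haveI : Fact (Nat.Prime 13) := ⟨by norm_num⟩
  haveI : Fact (Nat.Prime 23) := ⟨by norm_num⟩
  let t : ↥M24 := ⟨gT, gT_mem⟩
  let φ : MulAut K := MulAut.conjNormal (permEl t)
  have hφ : φ ^ 23 = 1 := by
    rw [← map_pow, ← permEl_pow, show t ^ 23 = 1 from orderOf_gT ▸ pow_orderOf_eq_one t,
      permEl_one, map_one]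
  have hp : IsPGroup 23 (Subgroup.zpowers φ) := fun g => by
    obtain ⟨m, hm⟩ := Subgroup.mem_zpowers_iff.1 g.2
    refine ⟨1, Subtype.ext ?_⟩
    rw [SubgroupClass.coe_pow, ← hm, pow_one, ← zpow_natCast, ← zpow_mul, mul_comm, zpow_mul,
      zpow_natCast, hφ, one_zpow]
    rfl
  have hP : ∀ P : Sylow 13 K, Nat.card P = 13 := fun P => by
    rw [P.card_eq_multiplicity, hcard]
    have hm : multiplicity 13 16584750 = 1 := multiplicity_eq_of_dvd_of_not_dvd (by norm_num) (by norm_num)
    first
      | rw [hm, pow_one]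
      | norm_num [Nat.factorization_def, padicValNat_def, hm]
  have hn : ¬ 23 ∣ Nat.card (Sylow 13 K) := fun h => by
    obtain ⟨P⟩ : Nonempty (Sylow 13 K) := inferInstance
    have h2 := h.trans P.card_dvd_index
    have h3 := Subgroup.card_mul_index (P : Subgroup K)
    rw [hcard, hP P] at h3
    omega
  obtain ⟨P, hfix⟩ := hp.nonempty_fixed_point_of_prime_not_dvd_card (Sylow 13 K) hn
  have hPfix : ∀ x ∈ (P : Subgroup K), φ x ∈ (P : Subgroup K) := fun x hx => by
    have h := congrArg (fun Q : Sylow 13 K => (Q : Subgroup K))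
      (hfix ⟨φ, Subgroup.mem_zpowers φ⟩)
    change φ • (P : Subgroup K) = (P : Subgroup K) at h
    rw [← h]
    exact Subgroup.smul_mem_pointwise_smul x φ _ hx
  obtain ⟨k, hk⟩ : ∃ k : (P : Subgroup K), orderOf k = 13 :=
    exists_prime_orderOf_dvd_card' 13 (by rw [hP P])
  obtain ⟨j, hj⟩ : ∃ j : ℕ, φ (k : K) = (k : K) ^ j := by
    have htop : Subgroup.zpowers k = ⊤ :=
      Subgroup.eq_top_of_card_eq _ (by rw [Nat.card_zpowers, hk, hP P])
    have hm : (⟨φ k, hPfix _ k.2⟩ : (P : Subgroup K)) ∈ Subgroup.zpowers k := htop ▸ Subgroup.mem_top _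
    obtain ⟨j, hj⟩ := (mem_powers_iff_mem_zpowers).2 hm
    exact ⟨j, by simpa using congrArg Subtype.val hj.symm⟩
  have hiter : ∀ n : ℕ, (φ ^ n) (k : K) = (k : K) ^ j ^ n := by
    intro n
    induction n with
    | zero => simp
    | succ n ih =>
      rw [pow_succ, MulAut.mul_apply, hj, map_pow, ih, ← pow_mul, pow_succ]
  have hk' : orderOf (k : K) = 13 := by rwa [Subgroup.orderOf_coe]
  have hj1 : (j : ZMod 13) = 1 := by
    have h := hiter 23
    rw [hφ, MulAut.one_apply] at h
    nth_rw 1 [← pow_one (k : K)] at h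
    rw [pow_eq_pow_iff_modEq, hk', ← ZMod.natCast_eq_natCast_iff] at h
    push_cast at h
    exact zmod13_pow _ h.symm
  have hfixk : φ (k : K) = (k : K) := by
    rw [hj]
    nth_rw 2 [← pow_one (k : K)]
    rw [pow_eq_pow_iff_modEq, hk', ← ZMod.natCast_eq_natCast_iff]
    simpa using hj1
  have hcomm : permEl t * ((k : K) : Co0) = ((k : K) : Co0) * permEl t := by
    have h := congrArg Subtype.val hfixk
    rw [MulAut.conjNormal_apply] at h
    exact mul_inv_eq_iff_eq_mul.1 h
  have hc := mem_center_of_fixed_by_translation hint (k : K).2 hcomm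
  have h2 : ((k : K) : Co0) ^ 2 = 1 := by
    rcases eq_of_central hc with e | e <;> rw [e]
    · exact one_pow 2
    · rw [pow_two]; exact co0_ext fun i => by rw [mul_smul, negEl_smul, negEl_smul, neg_neg, one_smul]
  have h13 : orderOf ((k : K) : Co0) = 13 := by rw [Subgroup.orderOf_coe, hk']
  have := orderOf_dvd_of_pow_eq_one h2
  rw [h13] at this
  norm_num at this

theorem eq_center_or_top {K : Subgroup Co0} (hK : K.Normal)
    (hZ : Subgroup.center Co0 ≤ K) : K = Subgroup.center Co0 ∨ K = ⊤ := by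
  have hS : (permPart K).Normal := ⟨fun σ ⟨c, hc⟩ τ => ⟨⟨(τ : Equiv.Perm GolayPt) • c.1,
    smul_supports τ.2 c.2⟩, by
      convert hK.conj_mem _ hc (permEl τ) using 1
      rw [← permEl_inv, permEl, permEl, monoEl_mul, monoEl_mul]
      congr 1
      exact Prod.ext rfl (Subtype.ext (by simp [Finset.smul_finset_empty]))⟩⟩
  obtain ⟨hA, hB, hAlt, hBlt, hA0, hA1, hB1⟩ := word_checks
  have huniv : SignPart K Finset.univ := ⟨univ_supports, hZ negEl_central⟩
  haveI := isSimpleGroup_M24
  have hconj : ∀ c, epsEl c ∈ K → xiEl * epsEl c * xiEl ∈ K := fun c hc => by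
    have := hK.conj_mem _ hc xiEl
    rwa [xiEl_inv] at this
  rcases IsSimpleGroup.eq_bot_or_eq_top_of_normal (permPart K) hS with hbot | htop
  · have hσ : ∀ p : MonoIdx, monoEl p ∈ K → p.1 = 1 := fun p hp => by
      rw [← Subgroup.mem_bot, ← hbot]; exact ⟨p.2, hp⟩
    by_cases hex : ∃ c, SignPart K c ∧ c ≠ ∅ ∧ c ≠ Finset.univ
    · obtain ⟨c, hc, h0, h1⟩ := hex
      obtain ⟨hAs, hAK⟩ := signPart_full hK huniv hc h0 h1 (toSet_supports_of_inCode hA hAlt)
      exfalso
      obtain ⟨p, hp⟩ := exists_monoEl (g := xiEl * epsEl ⟨_, hAs⟩ * xiEl) ⟨pt 0, 8, Or.inl rfl, by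
        rw [conj_eps_coe, eTop_coe]; exact lOf_inj hA1⟩
      have h1' := hσ p (hp ▸ hconj _ hAK)
      have h2 := congrArg (fun g : Co0 => ((g • bigE (pt 0) : leechLattice) : GolayPt → ℤ)) hp
      simp only [monoEl_smul, conj_eps_coe, bigE_coe, signedPerm_single, lOf_inj hA0, h1',
        OneMemClass.coe_one, Equiv.Perm.coe_one, id_eq] at h2
      have h3 := congrFun h2 none
      rw [Pi.single_eq_same, Pi.single_eq_of_ne (by decide)] at h3
      norm_num at h3
    · push Not at hex
      have hint : K ⊓ crossStab = Subgroup.center Co0 := by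
        refine le_antisymm ?_ (le_inf hZ fun g hg => ?_)
        · rintro g ⟨hgK, hgN⟩
          obtain ⟨⟨σ, c⟩, rfl⟩ := exists_monoEl_of_mem hgN
          obtain rfl := hσ _ hgK
          by_cases h0 : (c : Finset GolayPt) = ∅
          · rw [show c = ⟨∅, empty_supports⟩ from Subtype.ext h0, monoEl_one]; exact one_mem _
          · rw [show c = ⟨Finset.univ, univ_supports⟩ from
              Subtype.ext (hex c.1 ⟨c.2, hgK⟩ (Finset.nonempty_iff_ne_empty.2 h0))]
            exact negEl_central
        · rcases eq_of_central hg with rfl | rfl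
          exacts [one_mem _, monoEl_mem_crossStab _]
      rcases isCoatom_crossStab.le_iff.1 (le_sup_right : crossStab ≤ K ⊔ crossStab) with h | h
      · exact absurd hint (inter_crossStab_ne hK h)
      · left
        rw [← hint, inf_eq_left.2 (h ▸ le_sup_left)]
  · have hT : ∀ d ∈ supports (golayCode : Set (GolayPt → ZMod 2)), SignPart K d := by
      obtain ⟨c, hc⟩ : (⟨gT, gT_mem⟩ : ↥M24) ∈ permPart K := htop ▸ Subgroup.mem_top _
      let o : ↥(supports (golayCode : Set (GolayPt → ZMod 2))) := ⟨_, baseOctad_mem.1⟩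
      have h1 := mul_mem hc (hK.conj_mem _ (inv_mem hc) (epsEl o))
      have hne : (gT • toSet baseOctad) ∆ toSet baseOctad ≠ ∅ ∧
          (gT • toSet baseOctad) ∆ toSet baseOctad ≠ Finset.univ := by
        rw [rep_gT.smul_toSet_eq (n := actP gTa baseOctad) rfl, ← toSet_xor]
        constructor <;> intro h
        · have := congrArg Finset.card h
          rw [card_toSet] at this
          exact absurd this (by decide +kernel)
        · have := congrArg Finset.card h
          rw [card_toSet, Finset.card_univ, card_golayPt] at this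
          exact absurd this (by decide +kernel)
      have hsp : SignPart K ((gT • toSet baseOctad) ∆ toSet baseOctad) := by
        refine ⟨symmDiff_mem_supports (smul_supports gT_mem baseOctad_mem.1) baseOctad_mem.1, ?_⟩
        convert h1 using 1
        have e : (monoEl (⟨gT, gT_mem⟩, c)) * epsEl o =
            epsEl ⟨_, symmDiff_mem_supports (smul_supports gT_mem baseOctad_mem.1) baseOctad_mem.1⟩ *
              (epsEl o * monoEl (⟨gT, gT_mem⟩, c)) := by
          simp only [epsEl, monoEl_mul]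
          congr 1
          refine Prod.ext (by simp) (Subtype.ext ?_)
          show (c : Finset GolayPt) ∆ (gT • toSet baseOctad) =
            ((gT • toSet baseOctad) ∆ toSet baseOctad) ∆
              ((1 : Equiv.Perm GolayPt) • (toSet baseOctad ∆ ((1 : Equiv.Perm GolayPt) • (c : Finset GolayPt))))
          rw [one_smul, one_smul, symmDiff_assoc, ← symmDiff_assoc (toSet baseOctad),
            symmDiff_self, bot_symmDiff, symmDiff_comm]
        rw [eq_mul_inv_of_mul_eq e.symm]
        group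
      exact fun d hd => signPart_full hK huniv hsp hne.1 hne.2 hd
    have hN : crossStab ≤ K := fun g hg => by
      obtain ⟨⟨σ, c⟩, rfl⟩ := exists_monoEl_of_mem hg
      obtain ⟨d, hd⟩ : σ ∈ permPart K := htop ▸ Subgroup.mem_top _
      obtain ⟨hs, hk⟩ := hT _ (symmDiff_mem_supports c.2 d.2)
      convert mul_mem hk hd using 1
      rw [epsEl, monoEl_mul]
      congr 1
      refine Prod.ext (one_mul _).symm (Subtype.ext ?_)
      show (c : Finset GolayPt) = ((c : Finset GolayPt) ∆ d) ∆ ((1 : Equiv.Perm GolayPt) • (d : Finset GolayPt))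
      rw [one_smul, symmDiff_symmDiff_cancel_right]
    rcases isCoatom_crossStab.le_iff.1 hN with h | h
    · exact Or.inr h
    · exfalso
      obtain ⟨hBs, hBK⟩ := hT _ (toSet_supports_of_inCode hB hBlt)
      have hmem : xiEl * epsEl ⟨_, hBs⟩ * xiEl ∈ crossStab := h ▸ hconj _ hBK
      obtain ⟨i, s, hs, e⟩ := mem_crossStab.1 hmem eTop (bigE_mem_stdCross none)
      rw [conj_eps_coe, eTop_coe] at e
      rw [e, lOf_getD _ (by norm_num), show pt 23 = none from rfl] at hB1
      rcases eq_or_ne none i with rfl | hne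
      · rw [Pi.single_eq_same] at hB1; rcases hs with rfl | rfl <;> norm_num at hB1
      · simp [hne] at hB1

theorem natCard_co1 : Nat.card (Co0 ⧸ Subgroup.center Co0) = 4157776806543360000 := by
  have h := Subgroup.card_eq_card_quotient_mul_card_subgroup (Subgroup.center Co0)
  rw [natCard_Co0, natCard_center] at h
  omega

theorem isSimpleGroup_co1 : IsSimpleGroup (Co0 ⧸ Subgroup.center Co0) := by
  haveI : Finite (Co0 ⧸ Subgroup.center Co0) :=
    Nat.finite_of_card_ne_zero (by rw [natCard_co1]; norm_num)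
  haveI : Nontrivial (Co0 ⧸ Subgroup.center Co0) :=
    Finite.one_lt_card_iff_nontrivial.1 (by rw [natCard_co1]; norm_num)
  refine ⟨fun H hH => ?_⟩
  have hle : Subgroup.center Co0 ≤ H.comap (QuotientGroup.mk' (Subgroup.center Co0)) := fun x hx => by
    rw [Subgroup.mem_comap, QuotientGroup.mk'_apply, (QuotientGroup.eq_one_iff x).2 hx]
    exact one_mem H
  have hmap := Subgroup.map_comap_eq_self_of_surjective
    (QuotientGroup.mk'_surjective (Subgroup.center Co0)) H
  rcases eq_center_or_top (hH.comap _) hle with h | h <;> rw [h] at hmap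
  · left; rw [← hmap]; exact QuotientGroup.map_mk'_self _
  · right; rw [← hmap, ← MonoidHom.range_eq_map, QuotientGroup.range_mk']

theorem isCo1 : IsCo1 (Co0 ⧸ Subgroup.center Co0) := ⟨isSimpleGroup_co1, natCard_co1⟩

/-! ### The lattice modulo twice itself -/

/-- the automorphisms acting trivially modulo twice the lattice -/
def modTwoKer : Subgroup Co0 where
  carrier := {g | ∀ v, (QuotientAddGroup.mk (g • v) : ModTwo) = QuotientAddGroup.mk v}
  one_mem' := fun v => by rw [one_smul]
  mul_mem' := fun {g h} hg hh v => by rw [mul_smul, hg, hh]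
  inv_mem' := fun {g} hg v => by rw [← hg (g⁻¹ • v), smul_inv_smul]

theorem modTwoKer_normal : modTwoKer.Normal := ⟨fun g hg h v => by
  have h1 := congr_smul h (mk_eq_iff.1 (hg (h⁻¹ • v)))
  rw [mk_eq_iff, mul_smul, mul_smul]
  rwa [smul_inv_smul] at h1⟩

theorem modTwoKer_eq : modTwoKer = Subgroup.center Co0 := by
  refine (eq_center_or_top modTwoKer_normal fun g hg v => ?_).resolve_right fun h => ?_
  · rcases eq_of_central hg with rfl | rfl
    · rw [one_smul]
    · rw [negEl_smul, mk_eq_iff]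
      refine ⟨-(v : GolayPt → ℤ), AddSubgroup.neg_mem _ v.2, ?_⟩
      rw [AddSubgroup.coe_neg, two_smul, sub_eq_add_neg]
  · refine xiEl_not_mem (mem_crossStab_of_top ?_)
    have hx : xiEl ∈ modTwoKer := h ▸ Subgroup.mem_top _
    obtain ⟨z, hz, e⟩ := mk_eq_iff.1 (hx eTop)
    refine mem_stdCross_iff.2 ⟨SetLike.coe_mem _, (coe_smul_sqNorm _ _).trans (sqNorm_bigE none),
      -z, AddSubgroup.neg_mem _ hz, ?_⟩
    rw [smul_neg, ← e, eTop_coe]
    abel

/-- a norm-48 vector differing from the base vector by a minimal vector -/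
def pair48 : List ℤ :=
  [-1, -1, 1, -1, 1, 1, 1, 1, 1, 1, 1, 1, 3, 1, 1, -1, 1, 1, 1, 1, 1, 3, -1, 3]

/-- a norm-64 vector differing from a coordinate vector by a minimal vector -/
def pair64 : List ℤ :=
  [6, 2, 2, 2, 2, 0, 0, 2, 0, 0, 2, 0, -2, 0, 0, 0, 0, 0, 0, 0, 0, 0, 0, 0]

theorem pair_checks :
    inLeechB (lOf (vOf base48)) = true ∧ inLeechB (lOf (vOf pair48)) = true ∧
    inLeechB (lOf (vOf pair64)) = true ∧
    sqNorm (vOf base48) = 48 ∧ sqNorm (vOf pair48) = 48 ∧ sqNorm (vOf pair64) = 64 ∧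
    sqNorm (vOf base48 - vOf pair48) = 32 ∧
    sqNorm ((Pi.single (pt 0) 8 : GolayPt → ℤ) - vOf pair64) = 32 := by decide +kernel

theorem modTwo_irreducible (M : AddSubgroup (GolayPt → ℤ))
    (h2 : ∀ v ∈ leechLattice, (2 : ℤ) • v ∈ M) (hle : M ≤ leechLattice)
    (hinv : ∀ g : Co0, ∀ v : leechLattice, (v : GolayPt → ℤ) ∈ M →
      ((g • v : leechLattice) : GolayPt → ℤ) ∈ M) :
    (∀ x ∈ M, ∃ w ∈ leechLattice, x = (2 : ℤ) • w) ∨ M = leechLattice := by
  refine or_iff_not_imp_left.2 fun h => ?_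
  push Not at h
  obtain ⟨x, hxM, hx⟩ := h
  obtain ⟨y, hy, hy64, z, hz, hxy⟩ := modTwo_rep (hle hxM)
  have hyM : y ∈ M := by
    have := h2 z hz
    rw [show y = x - (2 : ℤ) • z from by rw [two_zsmul, ← two_nsmul, ← hxy]; abel]
    exact AddSubgroup.sub_mem _ hxM this
  have hy0 : y ≠ 0 := fun h0 => hx z hz (by
    rw [two_zsmul, ← two_nsmul, ← hxy, h0, sub_zero])
  obtain ⟨n, hn, hyn⟩ : ∃ n : ℤ, (n = 32 ∨ n = 48 ∨ n = 64) ∧ sqNorm y = n := by
    refine ⟨_, ?_, rfl⟩
    have := min_norm hy hy0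
    have := sixteen_dvd_sqNorm hy
    omega
  have hall : ∀ u ∈ leechLattice, sqNorm u = n → u ∈ M := fun u hu hun => by
    obtain ⟨g, hg⟩ := exists_map hn ⟨y, hy⟩ ⟨u, hu⟩ hyn hun
    have := hinv g ⟨y, hy⟩ hyM
    rwa [hg] at this
  obtain ⟨u, huM, huL, hu32⟩ : ∃ u ∈ M, u ∈ leechLattice ∧ sqNorm u = 32 := by
    obtain ⟨a, b, c, a', b', c', d, e⟩ := pair_checks
    have ha := mem_leech_of_inLeechB a
    have hb := mem_leech_of_inLeechB b
    have hc := mem_leech_of_inLeechB c
    rcases hn with rfl | rfl | rfl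
    · exact ⟨y, hyM, hy, hyn⟩
    · exact ⟨_, AddSubgroup.sub_mem _ (hall _ ha a') (hall _ hb b'),
        AddSubgroup.sub_mem _ ha hb, d⟩
    · exact ⟨_, AddSubgroup.sub_mem _ (hall _ (bigE (pt 0)).2 (sqNorm_bigE _)) (hall _ hc c'),
        AddSubgroup.sub_mem _ (bigE (pt 0)).2 hc, e⟩
  refine le_antisymm hle ?_
  rw [← closure_minVecs, AddSubgroup.closure_le]
  rintro w ⟨hw, hw32⟩
  obtain ⟨g, hg⟩ := exists_map (n := 32) (by norm_num) ⟨u, huL⟩ ⟨w, hw⟩ hu32 hw32
  have := hinv g ⟨u, huL⟩ huM
  rwa [hg] at this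

end CfsgLib.Spor
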