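import Cfsg.Agent.Lib.Spor.GolayCode

/-!
Permutations of the 24 points encoded as numbers (5 bits per image), their action on masks,
and a membership criterion for `Cfsg.M24`.
-/

set_option autoImplicit false

namespace CfsgLib.Spor

open Cfsg
open scoped Pointwise symmDiff

/-- `i`-th image stored in a packed permutation -/
def getP (a i : ℕ) : ℕ := (a >>> (5 * i)) &&& 31

/-- pack a list of images, 5 bits each -/
def packL : List ℕ → ℕ
  | [] => 0
  | x :: xs => x % 32 + 32 * packL xs

/-- composition `a ∘ b` of packed permutations -/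
def compP (a b : ℕ) : ℕ := packL ((List.range 24).map fun i => getP a (getP b i))

/-- image of a mask under a packed permutation (first `n` bits) -/
def actAux (a m : ℕ) : ℕ → ℕ
  | 0 => 0
  | i + 1 => actAux a m i ||| (((m >>> i) &&& 1) <<< getP a i)

/-- image of a mask under a packed permutation -/
def actP (a m : ℕ) : ℕ := actAux a m 24

/-- `a` encodes the permutation `σ` -/
def Rep (σ : Equiv.Perm GolayPt) (a : ℕ) : Prop := ∀ i < 24, getP a i = idx (σ (pt i))

instance instDecidableRep (σ : Equiv.Perm GolayPt) (a : ℕ) : Decidable (Rep σ a) :=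
  inferInstanceAs (Decidable (∀ i < 24, getP a i = idx (σ (pt i))))

theorem Rep.get {σ : Equiv.Perm GolayPt} {a : ℕ} (h : Rep σ a) (p : GolayPt) :
    getP a (idx p) = idx (σ p) := by
  rw [h _ (idx_lt p), pt_idx]

theorem getP_zero_right (x r : ℕ) : getP (x % 32 + 32 * r) 0 = x % 32 := by
  rw [getP, show (31 : ℕ) = 2 ^ 5 - 1 by norm_num, Nat.and_two_pow_sub_one_eq_mod]
  simp

theorem getP_succ (x r i : ℕ) : getP (x % 32 + 32 * r) (i + 1) = getP r i := by
  simp only [getP, Nat.shiftRight_eq_div_pow]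
  congr 1
  rw [show 5 * (i + 1) = 5 + 5 * i by ring, pow_add, ← Nat.div_div_eq_div_mul,
    show (2:ℕ) ^ 5 = 32 by norm_num, Nat.add_mul_div_left _ _ (by norm_num),
    Nat.div_eq_of_lt (Nat.mod_lt _ (by norm_num)), Nat.zero_add]

theorem getP_packL (l : List ℕ) (i : ℕ) (hi : i < l.length) : getP (packL l) i = l[i] % 32 := by
  induction l generalizing i with
  | nil => simp at hi
  | cons x xs ih =>
    cases i with
    | zero => simp [packL, getP_zero_right]
    | succ i =>
      rw [packL, getP_succ, ih i (by simpa using hi)]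
      simp

theorem Rep.mul {σ τ : Equiv.Perm GolayPt} {a b : ℕ} (h : Rep σ a) (h' : Rep τ b) :
    Rep (σ * τ) (compP a b) := by
  intro i hi
  rw [compP, getP_packL _ _ (by simpa using hi)]
  simp only [List.getElem_map, List.getElem_range, Equiv.Perm.mul_apply]
  rw [h' i hi, h.get, Nat.mod_eq_of_lt (lt_trans (idx_lt _) (by norm_num))]

theorem rep_one : Rep 1 (packL (List.range 24)) := by decide +kernel

theorem Rep.inj {σ τ : Equiv.Perm GolayPt} {a : ℕ} (h : Rep σ a) (h' : Rep τ a) : σ = τ :=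
  Equiv.ext fun p => idx_injective (by rw [← h.get, h'.get])

theorem testBit_shiftLeft_bit (m i k j : ℕ) :
    ((((m >>> i) &&& 1) <<< k).testBit j = true) ↔ (k = j ∧ m.testBit i = true) := by
  have h : (m >>> i) &&& 1 = (m.testBit i).toNat := by
    rw [Nat.and_one_is_mod, Nat.shiftRight_eq_div_pow, Nat.toNat_testBit]
  rw [h]
  cases m.testBit i <;> simp [Nat.one_shiftLeft, Nat.testBit_two_pow]

theorem testBit_actAux (a m n j : ℕ) :
    (actAux a m n).testBit j = true ↔ ∃ i < n, m.testBit i = true ∧ getP a i = j := by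
  induction n with
  | zero => simp [actAux]
  | succ n ih =>
    simp only [actAux, Nat.testBit_or, Bool.or_eq_true, ih, testBit_shiftLeft_bit]
    constructor
    · rintro (⟨i, hi, h⟩ | ⟨h1, h2⟩)
      · exact ⟨i, by omega, h⟩
      · exact ⟨n, by omega, h2, h1⟩
    · rintro ⟨i, hi, h⟩
      rcases Nat.lt_succ_iff_lt_or_eq.1 hi with hi | rfl
      · exact Or.inl ⟨i, hi, h⟩
      · exact Or.inr ⟨h.2, h.1⟩

theorem Rep.actP_lt {σ : Equiv.Perm GolayPt} {a : ℕ} (h : Rep σ a) (m : ℕ) :
    actP a m < 2 ^ 24 := by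
  apply Nat.lt_pow_two_of_testBit
  intro j hj
  by_contra hc
  rw [Bool.not_eq_false, actP, testBit_actAux] at hc
  obtain ⟨i, hi, -, h2⟩ := hc
  have := idx_lt (σ (pt i))
  rw [h i hi] at h2
  omega

theorem Rep.toSet_actP {σ : Equiv.Perm GolayPt} {a : ℕ} (h : Rep σ a) (m : ℕ) :
    toSet (actP a m) = σ • toSet m := by
  ext p
  rw [mem_toSet, actP, testBit_actAux, Finset.mem_smul_finset]
  constructor
  · rintro ⟨i, hi, h1, h2⟩
    refine ⟨pt i, by simp [idx_pt hi, h1], ?_⟩
    rw [Equiv.Perm.smul_def]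
    exact idx_injective (by rw [← h i hi, h2])
  · rintro ⟨q, hq, rfl⟩
    exact ⟨idx q, idx_lt q, mem_toSet.1 hq, by rw [h.get, Equiv.Perm.smul_def]⟩

theorem Rep.mask_smul {σ : Equiv.Perm GolayPt} {a : ℕ} (h : Rep σ a) (s : Finset GolayPt) :
    mask (σ • s) = actP a (mask s) := by
  rw [← mask_toSet (h.actP_lt (mask s)), h.toSet_actP, toSet_mask]

theorem smul_toSet_xor (σ : Equiv.Perm GolayPt) (a b : ℕ) :
    mask (σ • toSet (a ^^^ b)) = mask (σ • toSet a) ^^^ mask (σ • toSet b) := by
  have key : σ • toSet (a ^^^ b) = (σ • toSet a) ∆ (σ • toSet b) := by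
    rw [toSet_xor]
    ext p
    simp only [← Finset.inv_smul_mem_iff, Finset.mem_symmDiff]
  rw [key, ← toSet_mask (σ • toSet a), ← toSet_mask (σ • toSet b), ← toSet_xor,
    mask_toSet (Nat.xor_lt_two_pow (mask_lt _) (mask_lt _)), toSet_mask, toSet_mask]

theorem mem_M24_iff {σ : Equiv.Perm GolayPt} :
    σ ∈ M24 ↔ ∀ s, mask s ∈ codeList → mask (σ • s) ∈ codeList := by
  rw [MulAction.mem_stabilizer_set_iff_smul_set_subset (Set.toFinite _)]
  constructor
  · intro h s hs
    rw [← mem_supports_iff] at hs ⊢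
    exact h (Set.smul_mem_smul_set hs)
  · rintro h _ ⟨s, hs, rfl⟩
    rw [mem_supports_iff] at hs ⊢
    exact h s hs

theorem mem_M24_of_basis {σ : Equiv.Perm GolayPt}
    (h : ∀ b ∈ golayBasis, inCode (mask (σ • toSet b)) = true) : σ ∈ M24 := by
  rw [mem_M24_iff]
  intro s hs
  have key : ∀ m ∈ codeList, inCode (mask (σ • toSet m)) = true := by
    refine spanList_induction (P := fun m => inCode (mask (σ • toSet m)) = true) ?_ ?_ ?_
    · rw [toSet_zero, Finset.smul_finset_empty, mask_empty]; decide +kernel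
    · exact fun b hb => h b (List.mem_reverse.1 hb)
    · intro a b ha hb; rw [smul_toSet_xor]; exact inCode_xor ha hb
  rw [mem_codeList_iff]
  exact ⟨mask_lt _, by simpa using key _ hs⟩

theorem Rep.mem_M24 {σ : Equiv.Perm GolayPt} {a : ℕ} (h : Rep σ a)
    (hc : (golayBasis.all fun b => inCode (actP a b)) = true) : σ ∈ M24 := by
  refine mem_M24_of_basis fun b hb => ?_
  have hlt : b < 2 ^ 24 := lt_of_mem_codeList <| by
    rw [mem_codeList_iff]
    revert b; decide +kernel
  rw [h.mask_smul, mask_toSet hlt]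
  exact List.all_eq_true.1 hc b hb

end CfsgLib.Spor
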