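import Cfsg.Agent.Lib.Spor.SteinerSmall
import Cfsg.Prelude.Def_Sporadic_a
import Mathlib.Combinatorics.SimpleGraph.StronglyRegular

/-!
The block graph and the hundred-point graph of a Steiner system S(3, 6, 22).
-/

set_option autoImplicit false
set_option linter.unusedSectionVars false

namespace CfsgLib.Spor

open Cfsg

variable {α : Type*} [Fintype α] [DecidableEq α] {B : Set (Finset α)}

/-- the blocks disjoint from two given ones -/
noncomputable def bothDisjoint (B : Set (Finset α)) (b c : Finset α) : Finset (Finset α) :=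
  (blocksThrough B ∅).filter fun x => (b ∩ x).card = 0 ∧ (c ∩ x).card = 0

theorem s3622_card_two (hα : Fintype.card α = 22) (hB : IsSteinerSystem 3 6 B) (p q : α) :
    ((blocksThrough B {p, q}).card : ℤ) = if p = q then 21 else 5 := by
  by_cases h : p = q
  · subst h
    rw [if_pos rfl, Finset.pair_eq_singleton, card_blocksThrough_eq hB {p} (L := 21)
      (Finset.card_singleton p) (by norm_num) (by decide +kernel) (by rw [hα]; decide +kernel)]
    rfl
  · rw [if_neg h, card_blocksThrough_eq hB {p, q} (L := 5) (Finset.card_pair h) (by norm_num)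
      (by decide +kernel) (by rw [hα]; decide +kernel)]
    rfl

theorem s3622_card_all (hα : Fintype.card α = 22) (hB : IsSteinerSystem 3 6 B) :
    (blocksThrough B ∅).card = 77 :=
  card_blocksThrough_eq hB ∅ (L := 77) Finset.card_empty (by norm_num) (by decide +kernel)
    (by rw [hα]; decide +kernel)

theorem mem_all_iff {x : Finset α} : x ∈ blocksThrough B ∅ ↔ x ∈ B := by
  simp [mem_blocksThrough]

theorem sum_inter_card (b : Finset α) (S : Finset (Finset α)) :
    ∑ x ∈ S, ((b ∩ x).card : ℤ) = ∑ p ∈ b, ((S.filter fun x => p ∈ x).card : ℤ) := by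
  have : ∀ x ∈ S, ((b ∩ x).card : ℤ) = ∑ p ∈ b, if p ∈ x then (1 : ℤ) else 0 := by
    intro x _
    rw [Finset.sum_boole, Finset.filter_mem_eq_inter]
  rw [Finset.sum_congr rfl this, Finset.sum_comm]
  exact Finset.sum_congr rfl fun p _ => by rw [Finset.sum_boole]

theorem s3622_sum_inter (hα : Fintype.card α = 22) (hB : IsSteinerSystem 3 6 B) {b : Finset α}
    (hb : b ∈ B) : ∑ x ∈ blocksThrough B ∅, ((b ∩ x).card : ℤ) = 126 := by
  have key : ∀ p ∈ b, (((blocksThrough B ∅).filter fun x => p ∈ x).card : ℤ) = 21 := fun p _ => by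
    have h := s3622_card_two hα hB p p
    rw [if_pos rfl, Finset.pair_eq_singleton] at h
    rw [← h]
    congr 2
    ext x
    simp [mem_blocksThrough]
  rw [sum_inter_card, Finset.sum_congr rfl key, Finset.sum_const, hB.1 b hb]
  rfl

theorem s3622_sum_inter_mul (hα : Fintype.card α = 22) (hB : IsSteinerSystem 3 6 B)
    {b c : Finset α} (hb : b ∈ B) (hc : c ∈ B) :
    ∑ x ∈ blocksThrough B ∅, ((b ∩ x).card : ℤ) * (c ∩ x).card = 180 + 16 * (b ∩ c).card := by
  have h1 : ∀ x ∈ blocksThrough B ∅, ((b ∩ x).card : ℤ) * (c ∩ x).card =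
      ∑ p ∈ b, ∑ q ∈ c, if p ∈ x ∧ q ∈ x then (1 : ℤ) else 0 := by
    intro x _
    rw [← Finset.filter_mem_eq_inter, ← Finset.filter_mem_eq_inter, ← Finset.sum_boole,
      ← Finset.sum_boole, Finset.sum_mul_sum]
    refine Finset.sum_congr rfl fun p _ => Finset.sum_congr rfl fun q _ => ?_
    by_cases hp : p ∈ x <;> by_cases hq : q ∈ x <;> simp [hp, hq]
  rw [Finset.sum_congr rfl h1, Finset.sum_comm]
  have h2 : ∀ p ∈ b, (∑ x ∈ blocksThrough B ∅, ∑ q ∈ c,
      if p ∈ x ∧ q ∈ x then (1 : ℤ) else 0) = 30 + if p ∈ c then 16 else 0 := by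
    intro p _
    rw [Finset.sum_comm]
    have h3 : ∀ q ∈ c, (∑ x ∈ blocksThrough B ∅, if p ∈ x ∧ q ∈ x then (1 : ℤ) else 0) =
        5 + if p = q then 16 else 0 := by
      intro q _
      rw [Finset.sum_boole]
      have e : ((blocksThrough B ∅).filter fun x => p ∈ x ∧ q ∈ x) = blocksThrough B {p, q} := by
        ext x
        simp [mem_blocksThrough, Finset.insert_subset_iff]
      rw [e, s3622_card_two hα hB]
      split_ifs <;> norm_num
    rw [Finset.sum_congr rfl h3, Finset.sum_add_distrib, Finset.sum_const, hB.1 c hc,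
      Finset.sum_ite_eq]
    simp
  rw [Finset.sum_congr rfl h2, Finset.sum_add_distrib, Finset.sum_const, hB.1 b hb,
    Finset.sum_ite, Finset.sum_const_zero, add_zero, Finset.sum_const, Finset.filter_mem_eq_inter]
  simp [mul_comm]

theorem s3622_meet (hα : Fintype.card α = 22) (hB : IsSteinerSystem 3 6 B) {b x : Finset α}
    (hb : b ∈ B) (hx : x ∈ B) :
    (b ∩ x).card = 0 ∨ (b ∩ x).card = 2 ∨ b = x ∧ (b ∩ x).card = 6 := by
  by_cases h : b = x
  · subst h
    exact Or.inr (Or.inr ⟨rfl, by rw [Finset.inter_self, hB.1 b hb]⟩)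
  · rcases s3622_inter_card hα hB hb hx h with h' | h'
    exacts [Or.inl h', Or.inr (Or.inl h')]

/-- disjoint blocks have no common disjoint block, meeting blocks have four -/
theorem s3622_card_bothDisjoint (hα : Fintype.card α = 22) (hB : IsSteinerSystem 3 6 B)
    {b c : Finset α} (hb : b ∈ B) (hc : c ∈ B) (hbc : b ≠ c) :
    (bothDisjoint B b c).card = 2 * (b ∩ c).card := by
  have hb' : b ∈ blocksThrough B ∅ := mem_all_iff.2 hb
  have hc' : c ∈ blocksThrough B ∅ := mem_all_iff.2 hc
  have hpt : ∀ x ∈ blocksThrough B ∅, (2 - ((b ∩ x).card : ℤ)) * (2 - (c ∩ x).card) =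
      (if (b ∩ x).card = 0 ∧ (c ∩ x).card = 0 then 4 else 0)
        + ((if x = b then (-4 * (2 - ((b ∩ c).card : ℤ))) else 0)
          + if x = c then (-4 * (2 - ((b ∩ c).card : ℤ))) else 0) := by
    intro x hx
    have hxB := mem_all_iff.1 hx
    by_cases h1 : x = b
    · subst h1
      rw [if_pos rfl, if_neg hbc, Finset.inter_self, hB.1 x hxB, if_neg (by omega),
        Finset.inter_comm c x]
      ring
    by_cases h2 : x = c
    · subst h2
      rw [if_neg h1, if_pos rfl, Finset.inter_self, hB.1 x hxB, if_neg (by omega)]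
      ring
    rw [if_neg h1, if_neg h2]
    rcases s3622_meet hα hB hb hxB with hi | hi | ⟨hi, -⟩
    · rcases s3622_meet hα hB hc hxB with hj | hj | ⟨hj, -⟩
      · rw [if_pos ⟨hi, hj⟩, hi, hj]; norm_num
      · rw [if_neg (by omega), hj]; norm_num
      · exact absurd hj.symm h2
    · rw [if_neg (by omega), hi]; norm_num
    · exact absurd hi.symm h1
  have hsum := Finset.sum_congr rfl hpt
  have hlhs : ∀ x ∈ blocksThrough B ∅, (2 - ((b ∩ x).card : ℤ)) * (2 - (c ∩ x).card) =
      4 - 2 * (b ∩ x).card - 2 * (c ∩ x).card + (b ∩ x).card * (c ∩ x).card := fun x _ => by ring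
  rw [Finset.sum_congr rfl hlhs, Finset.sum_add_distrib, Finset.sum_sub_distrib,
    Finset.sum_sub_distrib, ← Finset.mul_sum, ← Finset.mul_sum, s3622_sum_inter hα hB hb,
    s3622_sum_inter hα hB hc, s3622_sum_inter_mul hα hB hb hc, Finset.sum_const,
    s3622_card_all hα hB, Finset.sum_add_distrib, Finset.sum_add_distrib, Finset.sum_ite_eq',
    Finset.sum_ite_eq', if_pos hb', if_pos hc', Finset.sum_ite, Finset.sum_const,
    Finset.sum_const_zero, add_zero] at hsum
  simp only [nsmul_eq_mul] at hsum
  push_cast at hsum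
  have : ((bothDisjoint B b c).card : ℤ) = 2 * (b ∩ c).card := by
    simp only [bothDisjoint]
    linarith
  exact_mod_cast this

theorem s3622_point_outside (hα : Fintype.card α = 22) (hB : IsSteinerSystem 3 6 B) {b : Finset α}
    (hb : b ∈ B) {p : α} (hp : p ∉ b) :
    ((blocksThrough B ∅).filter fun x => p ∈ x ∧ (b ∩ x).card = 0).card = 6 := by
  set S := (blocksThrough B ∅).filter fun x => p ∈ x
  have hS : (S.card : ℤ) = 21 := by
    have h := s3622_card_two hα hB p p
    rw [if_pos rfl, Finset.pair_eq_singleton] at h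
    rw [← h]
    congr 2
    ext x
    simp [S, mem_blocksThrough]
  have hsum : ∑ x ∈ S, ((b ∩ x).card : ℤ) = 30 := by
    have key : ∀ q ∈ b, ((S.filter fun x => q ∈ x).card : ℤ) = 5 := fun q hq => by
      have h := s3622_card_two hα hB p q
      rw [if_neg (fun e : p = q => hp (e ▸ hq))] at h
      rw [← h]
      congr 2
      ext x
      simp [S, mem_blocksThrough, Finset.insert_subset_iff, and_assoc]
    rw [sum_inter_card, Finset.sum_congr rfl key, Finset.sum_const, hB.1 b hb]
    rfl
  have hpt : ∀ x ∈ S, ((b ∩ x).card : ℤ) = 2 - if (b ∩ x).card = 0 then 2 else 0 := by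
    intro x hx
    obtain ⟨hxB, hpx⟩ := Finset.mem_filter.1 hx
    rcases s3622_meet hα hB hb (mem_all_iff.1 hxB) with hi | hi | ⟨hi, -⟩
    · rw [if_pos hi, hi]; norm_num
    · rw [if_neg (by omega), hi]; norm_num
    · exact absurd (hi ▸ hpx) hp
  rw [Finset.sum_congr rfl hpt, Finset.sum_sub_distrib, Finset.sum_const, Finset.sum_ite,
    Finset.sum_const, Finset.sum_const_zero, add_zero] at hsum
  simp only [nsmul_eq_mul] at hsum
  rw [hS] at hsum
  rw [show ((blocksThrough B ∅).filter fun x => p ∈ x ∧ (b ∩ x).card = 0)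
    = S.filter fun x => (b ∩ x).card = 0 from (Finset.filter_filter _ _ _).symm]
  omega

/-! ### Counting in the graphs -/

theorem natCard_block_subtype (P : Finset α → Prop) [DecidablePred P] :
    Nat.card {x : ↥B // P x} = ((blocksThrough B ∅).filter P).card := by
  rw [← Nat.card_eq_finsetCard]
  exact Nat.card_congr
    ⟨fun x => ⟨x.1, Finset.mem_filter.2 ⟨mem_all_iff.2 x.1.2, x.2⟩⟩,
      fun y => ⟨⟨y.1, mem_all_iff.1 (Finset.mem_filter.1 y.2).1⟩, (Finset.mem_filter.1 y.2).2⟩,
      fun _ => rfl, fun _ => rfl⟩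

theorem blockGraph_adj {b c : ↥B} (h6 : ∀ x ∈ B, x.card = 6) :
    (blockGraph B).Adj b c ↔ ((b : Finset α) ∩ c).card = 0 := by
  rw [blockGraph, SimpleGraph.fromRel_adj, disjoint_comm (a := (c : Finset α)), or_self,
    Finset.disjoint_iff_inter_eq_empty, Finset.card_eq_zero]
  refine ⟨fun h => h.2, fun h => ⟨fun e => ?_, h⟩⟩
  subst e
  have := h6 _ b.2
  rw [Finset.inter_self] at h
  simp [h] at this

theorem blockGraph_srg (hα : Fintype.card α = 22) (hB : IsSteinerSystem 3 6 B) [Fintype ↥B]
    [DecidableRel (blockGraph B).Adj] : (blockGraph B).IsSRGWith 77 16 0 4 := by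
  classical
  have hadj : ∀ b c : ↥B, (blockGraph B).Adj b c ↔ ((b : Finset α) ∩ c).card = 0 :=
    fun b c => blockGraph_adj fun x hx => hB.1 x hx
  have hcommon : ∀ b c : ↥B, b ≠ c →
      Fintype.card ((blockGraph B).commonNeighbors b c) = 2 * ((b : Finset α) ∩ c).card := by
    intro b c hbc
    rw [← s3622_card_bothDisjoint hα hB b.2 c.2 fun e => hbc (Subtype.ext e), bothDisjoint,
      ← natCard_block_subtype, ← Nat.card_eq_fintype_card]
    exact Nat.card_congr (Equiv.subtypeEquivRight fun x => by
      simp only [SimpleGraph.mem_commonNeighbors, hadj])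
  refine ⟨?_, fun v => ?_, fun v w h => ?_, fun v w hne h => ?_⟩
  · rw [← s3622_card_all hα hB, ← Nat.card_eq_fintype_card,
      ← Nat.card_congr (Equiv.subtypeUnivEquiv (α := ↥B) (p := fun _ => True) fun _ => trivial),
      natCard_block_subtype (fun _ => True), Finset.filter_true]
  · rw [← SimpleGraph.card_neighborSet_eq_degree, ← Nat.card_eq_fintype_card,
      ← (s3622_interNum hα hB v.2).1, interNum, ← natCard_block_subtype]
    exact Nat.card_congr (Equiv.subtypeEquivRight fun x => by
      simp only [SimpleGraph.mem_neighborSet, hadj])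
  · rw [hcommon v w h.ne, (hadj v w).1 h]
  · rw [hcommon v w hne]
    rcases s3622_inter_card hα hB v.2 w.2 fun e => hne (Subtype.ext e) with h' | h'
    · exact absurd ((hadj v w).2 h') h
    · rw [h']

theorem pointBlockGraph_adj (u v : Option (α ⊕ ↥B)) (h6 : ∀ x ∈ B, x.card = 6) :
    (pointBlockGraph B).Adj u v ↔ match u, v with
      | none, some (Sum.inl _) => True
      | some (Sum.inl _), none => True
      | some (Sum.inl a), some (Sum.inr b) => a ∈ (b : Finset α)
      | some (Sum.inr b), some (Sum.inl a) => a ∈ (b : Finset α)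
      | some (Sum.inr b), some (Sum.inr c) => ((b : Finset α) ∩ c).card = 0
      | _, _ => False := by
  rw [pointBlockGraph, SimpleGraph.fromRel_adj]
  rcases u with _ | (a | b) <;> rcases v with _ | (a' | c) <;> simp [pointBlockRel]
  rw [disjoint_comm (a := (c : Finset α)), or_self, Finset.disjoint_iff_inter_eq_empty]
  refine ⟨fun h => h.2, fun h => ⟨fun e => ?_, h⟩⟩
  subst e
  rw [Finset.inter_self] at h
  simpa [h] using h6 _ b.2

/-- vertices of the hundred-point graph split by kind -/
theorem natCard_vertices (P : Option (α ⊕ ↥B) → Prop) [DecidablePred P] :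
    Nat.card {u // P u} = (if P none then 1 else 0)
      + (Finset.univ.filter fun a : α => P (some (Sum.inl a))).card
      + Nat.card {x : ↥B // P (some (Sum.inr x))} := by
  classical
  have : Fintype ↥B := Fintype.ofFinite _
  rw [Nat.card_eq_fintype_card, Fintype.card_subtype, Nat.card_eq_fintype_card, Fintype.card_subtype,
    Finset.card_filter, Finset.card_filter, Finset.card_filter, Fintype.sum_option,
    Fintype.sum_sum_type]
  ring

theorem pointBlockGraph_srg (hα : Fintype.card α = 22) (hB : IsSteinerSystem 3 6 B) [Fintype ↥B]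
    [DecidableRel (pointBlockGraph B).Adj] : (pointBlockGraph B).IsSRGWith 100 22 0 6 := by
  classical
  have h6 : ∀ x ∈ B, x.card = 6 := fun x hx => hB.1 x hx
  have h21 : ∀ a : α, ((blocksThrough B ∅).filter fun x => a ∈ x).card = 21 := fun a => by
    have h := s3622_card_two hα hB a a
    rw [if_pos rfl, Finset.pair_eq_singleton] at h
    have e : ((blocksThrough B ∅).filter fun x => a ∈ x) = blocksThrough B {a} := by
      ext x
      simp [mem_blocksThrough]
    rw [e]
    exact_mod_cast h
  refine ⟨?_, fun v => ?_, fun v w h => ?_, fun v w hne h => ?_⟩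
  · rw [← Nat.card_eq_fintype_card, ← Nat.card_congr (Equiv.subtypeUnivEquiv
      (α := Option (α ⊕ ↥B)) (p := fun _ => True) fun _ => trivial), natCard_vertices,
      natCard_block_subtype (fun _ => True), Finset.filter_true, Finset.filter_true,
      Finset.card_univ, hα, s3622_card_all hα hB]
    rfl
  · rw [← SimpleGraph.card_neighborSet_eq_degree, ← Nat.card_eq_fintype_card,
      natCard_vertices (fun u => u ∈ (pointBlockGraph B).neighborSet v)]
    simp only [SimpleGraph.mem_neighborSet, pointBlockGraph_adj _ _ h6]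
    rcases v with _ | (a | b)
    · simp [hα]
    · rw [natCard_block_subtype (fun x => a ∈ x), h21]
      simp
    · rw [natCard_block_subtype (fun x => ((b : Finset α) ∩ x).card = 0)]
      rw [show ((blocksThrough B ∅).filter fun x => ((b : Finset α) ∩ x).card = 0).card = 16
          from (s3622_interNum hα hB b.2).1]
      simp [h6 _ b.2]
  all_goals
    rw [← Nat.card_eq_fintype_card,
      natCard_vertices (fun u => u ∈ (pointBlockGraph B).commonNeighbors v w)]
    rw [pointBlockGraph_adj _ _ h6] at h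
    simp only [SimpleGraph.mem_commonNeighbors, pointBlockGraph_adj _ _ h6]
    rcases v with _ | (a | b) <;> rcases w with _ | (a' | c) <;> simp_all
  all_goals clear h21
  · rw [← Nat.card_eq_fintype_card, natCard_block_subtype (fun x => a ∈ x ∧ (c : Finset α) ∩ x = ∅),
      Finset.card_eq_zero, Finset.filter_eq_empty_iff]
    intro x _ hx
    have : a ∈ (c : Finset α) ∩ x := Finset.mem_inter.2 ⟨h, hx.1⟩
    simp [hx.2] at this
  · rw [← Nat.card_eq_fintype_card, natCard_block_subtype (fun x => (b : Finset α) ∩ x = ∅ ∧ a' ∈ x),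
      Finset.card_eq_zero, Finset.filter_eq_empty_iff]
    intro x _ hx
    have : a' ∈ (b : Finset α) ∩ x := Finset.mem_inter.2 ⟨h, hx.2⟩
    simp [hx.1] at this
  · refine ⟨fun x hxb hxc => ?_, ?_⟩
    · have : x ∈ (b : Finset α) ∩ c := Finset.mem_inter.2 ⟨hxb, hxc⟩
      simp [h] at this
    · have hbc : (b : Finset α) ≠ c := fun e => by
        have := h6 _ b.2
        rw [← e, Finset.inter_self] at h
        simp [h] at this
      rw [← Nat.card_eq_fintype_card,
        natCard_block_subtype (fun x => (b : Finset α) ∩ x = ∅ ∧ (c : Finset α) ∩ x = ∅)]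
      have := s3622_card_bothDisjoint hα hB b.2 c.2 hbc
      simp only [bothDisjoint, Finset.card_eq_zero] at this
      rw [this, h]
      rfl
  · rw [← Nat.card_eq_fintype_card, natCard_block_subtype (fun x => a ∈ x ∧ a' ∈ x)]
    have h5 := s3622_card_two hα hB a a'
    rw [if_neg hne] at h5
    have e : ((blocksThrough B ∅).filter fun x => a ∈ x ∧ a' ∈ x) = blocksThrough B {a, a'} := by
      ext x
      simp [mem_blocksThrough, Finset.insert_subset_iff]
    rw [e]
    omega
  · rw [← Nat.card_eq_fintype_card, natCard_block_subtype (fun x => a ∈ x ∧ (c : Finset α) ∩ x = ∅)]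
    simpa [Finset.card_eq_zero] using s3622_point_outside hα hB c.2 h
  · rw [← Nat.card_eq_fintype_card, natCard_block_subtype (fun x => (b : Finset α) ∩ x = ∅ ∧ a' ∈ x)]
    simpa [Finset.card_eq_zero, and_comm] using s3622_point_outside hα hB b.2 h
  · have hne' : (b : Finset α) ≠ c := fun e => hne (Subtype.ext e)
    rw [← Nat.card_eq_fintype_card,
      natCard_block_subtype (fun x => (b : Finset α) ∩ x = ∅ ∧ (c : Finset α) ∩ x = ∅)]
    have h4 := s3622_card_bothDisjoint hα hB b.2 c.2 hne'
    simp only [bothDisjoint, Finset.card_eq_zero] at h4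
    rw [h4]
    rcases s3622_inter_card hα hB b.2 c.2 hne' with h0 | h2
    · exact absurd (Finset.card_eq_zero.1 h0) h
    · have e : (Finset.univ.filter fun x : α => x ∈ (b : Finset α) ∧ x ∈ (c : Finset α))
          = (b : Finset α) ∩ c := by ext x; simp
      rw [e, h2]

end CfsgLib.Spor
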