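import Cfsg.Agent.Lib.KnownA.SteinerUnique.Systems
import Cfsg.Agent.Lib.Spor.SteinerGraph22
import Cfsg.Prelude.Def_Sporadic_a
import Mathlib.Combinatorics.SimpleGraph.StronglyRegular

/-!
A strongly regular graph with parameters (77, 16, 0, 4) is the block graph of a Steiner system
S(3, 6, 22), so there is only one up to isomorphism.

The points of the system are recovered as the cocliques of 21 vertices.  For a vertex `x` the
sixty vertices away from `x` fall into fifteen classes of four, two vertices being in one class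
when they have the same projection to the part of the eigenspace of -6 orthogonal to the
neighbours of `x`; the classes form a graph with parameters (15, 6, 1, 3), each vertex of which
is in exactly two cocliques of five vertices, and this says that two non-adjacent vertices lie
in exactly two cocliques of 21 vertices.
-/

set_option autoImplicit false
set_option linter.unusedSectionVars false

namespace CfsgLib.M22Unique

open Cfsg Finset

variable {V : Type*} [Fintype V] [DecidableEq V] {G : SimpleGraph V} [DecidableRel G.Adj]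

section srg

variable {n k l μ : ℕ}

theorem card_nbr (hG : G.IsSRGWith n k l μ) (x : V) : (G.neighborFinset x).card = k := by
  rw [SimpleGraph.card_neighborFinset_eq_degree, hG.regular x]

theorem card_common (hG : G.IsSRGWith n k l μ) {x y : V} (hne : x ≠ y) :
    ((G.neighborFinset x).filter fun z => G.Adj y z).card = if G.Adj x y then l else μ := by
  have e : ((G.neighborFinset x).filter fun z => G.Adj y z).card
      = Fintype.card (G.commonNeighbors x y) := by
    rw [← Fintype.card_coe]
    exact Fintype.card_congr (Equiv.subtypeEquivRight fun z => by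
      simp [SimpleGraph.mem_commonNeighbors])
  rw [e]
  split_ifs with h
  · exact hG.of_adj x y h
  · exact hG.of_not_adj hne h

theorem card_away (hG : G.IsSRGWith n k l μ) (x : V) :
    ((insert x (G.neighborFinset x))ᶜ).card = n - (k + 1) := by
  rw [Finset.card_compl, Finset.card_insert_of_notMem (by simp), card_nbr hG, hG.card]

end srg

/-! ### The graph with parameters (15, 6, 1, 3) -/

/-- in the graph with parameters (15, 6, 1, 3) a vertex is in exactly two cocliques of size 5 -/
theorem two_five_cocliques {Q : Type*} [Fintype Q] [DecidableEq Q] {H : SimpleGraph Q}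
    [DecidableRel H.Adj] (hH : H.IsSRGWith 15 6 1 3) (a : Q) :
    ∃ A B : Finset Q, A ≠ B ∧ ∀ S : Finset Q,
      (S.card = 5 ∧ a ∈ S ∧ ∀ u ∈ S, ∀ v ∈ S, ¬ H.Adj u v) ↔ S = A ∨ S = B := by
  classical
  set N := H.neighborFinset a with hN
  set W := (insert a N)ᶜ with hWdef
  have hW8 : W.card = 8 := by rw [hWdef, hN, card_away hH]
  have hNcard : N.card = 6 := card_nbr hH a
  have memW : ∀ w, w ∈ W ↔ a ≠ w ∧ ¬ H.Adj a w := fun w => by
    simp [hWdef, hN, eq_comm]
  -- two neighbours of `a` have no common neighbour next to `a`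
  have hNN : ∀ p ∈ N, ∀ q ∈ N, p ≠ q → ∀ z ∈ N, H.Adj p z → H.Adj q z → False := by
    intro p hp q hq hne z hz h1 h2
    rw [hN, SimpleGraph.mem_neighborFinset] at hp hq hz
    have h := card_common hH hz.ne
    rw [if_pos hz] at h
    have : ({p, q} : Finset Q) ⊆ (H.neighborFinset a).filter fun t => H.Adj z t := by
      simp [Finset.insert_subset_iff, hp, hq, h1.symm, h2.symm]
    have := Finset.card_le_card this
    rw [Finset.card_pair hne] at this
    omega
  have hsplit : ∀ (P : Q → Prop) [DecidablePred P], ¬ P a →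
      (Finset.univ.filter P).card = (N.filter P).card + (W.filter P).card := by
    intro P _ ha
    rw [← Finset.card_union_of_disjoint]
    · congr 1
      ext z
      by_cases hza : z = a
      · subst hza; simp [ha, memW, hN]
      · simp [memW, hN, Ne.symm hza]; tauto
    · exact Finset.disjoint_filter_filter (Finset.disjoint_left.2 fun z hz hz' => by
        rw [hN, SimpleGraph.mem_neighborFinset] at hz
        exact ((memW z).1 hz').2 hz)
  have hpW : ∀ p ∈ N, (W.filter fun z => H.Adj p z).card = 4 := by
    intro p hp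
    rw [hN, SimpleGraph.mem_neighborFinset] at hp
    have h1 := card_common hH hp.ne
    rw [if_pos hp] at h1
    have h2 := card_nbr hH p
    have : (H.neighborFinset p).erase a
        = (N.filter fun z => H.Adj p z) ∪ W.filter fun z => H.Adj p z := by
      ext z
      by_cases hza : z = a
      · subst hza; simp [memW, hN]
      · simp [memW, hN, hza, Ne.symm hza]; tauto
    have hc := congrArg Finset.card this
    rw [Finset.card_erase_of_mem (by simpa using hp.symm), h2, Finset.card_union_of_disjoint] at hc
    · rw [hN] at hc; omega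
    · exact Finset.disjoint_filter_filter (Finset.disjoint_left.2 fun z hz hz' => by
        rw [hN, SimpleGraph.mem_neighborFinset] at hz
        exact ((memW z).1 hz').2 hz)
  set T : Q → Finset Q := fun w => N.filter fun p => H.Adj w p with hT
  have hT3 : ∀ w ∈ W, (T w).card = 3 := by
    intro w hw
    obtain ⟨h1, h2⟩ := (memW w).1 hw
    have := card_common hH h1
    rwa [if_neg h2] at this
  have hTT : ∀ w ∈ W, ∀ p ∈ T w, ∀ q ∈ T w, p ≠ q →
      (W.filter fun z => H.Adj p z ∧ H.Adj q z).card = 2 := by
    intro w hw p hp q hq hne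
    obtain ⟨hp, hwp⟩ := Finset.mem_filter.1 hp
    obtain ⟨hq, hwq⟩ := Finset.mem_filter.1 hq
    have hpq : ¬ H.Adj p q := by
      intro h
      have hc := card_common hH hne
      rw [if_pos h] at hc
      have : ({a, w} : Finset Q) ⊆ (H.neighborFinset p).filter fun t => H.Adj q t := by
        simp only [hN, SimpleGraph.mem_neighborFinset] at hp hq
        simp [Finset.insert_subset_iff, hp.symm, hq.symm, hwp.symm, hwq.symm]
      have := Finset.card_le_card this
      rw [Finset.card_pair ((memW w).1 hw).1] at this
      omega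
    have hc := card_common hH hne
    rw [if_neg hpq] at hc
    have e : (H.neighborFinset p).filter (fun t => H.Adj q t)
        = insert a (W.filter fun z => H.Adj p z ∧ H.Adj q z) := by
      ext z
      by_cases hza : z = a
      · subst hza
        simp only [hN, SimpleGraph.mem_neighborFinset] at hp hq
        simp [hp.symm, hq.symm]
      · simp only [Finset.mem_filter, SimpleGraph.mem_neighborFinset, Finset.mem_insert, hza,
          false_or, memW]
        refine ⟨fun h => ⟨⟨Ne.symm hza, fun hz => ?_⟩, h⟩, fun h => h.2⟩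
        exact hNN p hp q hq hne z (by simpa [hN] using hz) h.1 h.2
    rw [e, Finset.card_insert_of_notMem (by simp [memW])] at hc
    omega
  -- common neighbours in `W`
  have hkc : ∀ w ∈ W, ∀ z ∈ W, w ≠ z → (T w ∩ T z).card
      + (W.filter fun t => H.Adj w t ∧ H.Adj z t).card = if H.Adj w z then 1 else 3 := by
    intro w hw z hz hne
    rw [← card_common hH hne]
    have e : (H.neighborFinset w).filter (fun t => H.Adj z t)
        = Finset.univ.filter fun t => H.Adj w t ∧ H.Adj z t := by
      ext t; simp
    rw [e, hsplit _ (fun h => ((memW w).1 hw).2 h.1.symm)]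
    congr 2
    ext t
    simp [hT]
    tauto
  have hbi : ∀ w ∈ W, ∀ z ∈ W, (T w ∩ T z).card = 0 →
      ∀ u ∈ W, (T u ∩ T w).card + (T u ∩ T z).card = 3 := by
    intro w hw z hz h0 u hu
    have hd : Disjoint (T w) (T z) :=
      Finset.disjoint_iff_inter_eq_empty.2 (Finset.card_eq_zero.1 h0)
    have hun : T w ∪ T z = N :=
      Finset.eq_of_subset_of_card_le
        (Finset.union_subset (Finset.filter_subset _ _) (Finset.filter_subset _ _))
        (by rw [Finset.card_union_of_disjoint hd, hT3 w hw, hT3 z hz, hNcard])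
    rw [← Finset.card_union_of_disjoint (hd.mono Finset.inter_subset_right Finset.inter_subset_right),
      ← Finset.inter_union_distrib_left, hun, Finset.inter_eq_left.2 (Finset.filter_subset _ _),
      hT3 u hu]
  have hne0 : ∀ w ∈ W, ∀ z ∈ W, w ≠ z → (T w ∩ T z).card ≠ 0 := by
    intro w hw z hz hne h0
    have h := hkc w hw z hz hne
    obtain ⟨u, hu⟩ := Finset.card_pos.1 (show
      0 < (W.filter fun t => H.Adj w t ∧ H.Adj z t).card by rw [h0] at h; split_ifs at h <;> omega)
    obtain ⟨huW, hwu, hzu⟩ := Finset.mem_filter.1 hu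
    have h1 := hkc u huW w hw hwu.ne'
    have h2 := hkc u huW z hz hzu.ne'
    rw [if_pos hwu.symm] at h1
    rw [if_pos hzu.symm] at h2
    have := hbi w hw z hz h0 u huW
    omega
  -- the twin
  have htwin : ∀ w ∈ W, ∃ t ∈ W, t ≠ w ∧ (T w ∩ T t).card = 3 ∧
      ∀ z ∈ W, z ≠ w → z ≠ t → (T w ∩ T z).card = 1 := by
    intro w hw
    have hi : ∀ z, (T w ∩ T z).card = ∑ p ∈ T w, if H.Adj p z then 1 else 0 := fun z => by
      rw [Finset.sum_boole]
      refine congrArg Finset.card ?_
      ext p
      simp [hT, H.adj_comm p z]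
      tauto
    have s1 : ∑ z ∈ W, (T w ∩ T z).card = 12 := by
      rw [Finset.sum_congr rfl fun z _ => hi z, Finset.sum_comm,
        Finset.sum_congr rfl (g := fun _ => 4) fun p hp => ?_, Finset.sum_const, hT3 w hw]
      · rfl
      · rw [Finset.sum_boole]
        exact hpW p (Finset.mem_filter.1 hp).1
    have s2 : ∑ z ∈ W, (T w ∩ T z).card * (T w ∩ T z).card = 24 := by
      simp only [hi, Finset.sum_mul_sum]
      rw [Finset.sum_comm]
      have : ∀ p ∈ T w, (∑ z ∈ W, ∑ q ∈ T w,
          (if H.Adj p z then 1 else 0) * if H.Adj q z then 1 else 0) = 8 := by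
        intro p hp
        rw [Finset.sum_comm, ← Finset.add_sum_erase _ _ hp]
        have e : ∀ q z, ((if H.Adj p z then 1 else 0) * if H.Adj q z then 1 else 0 : ℕ)
            = if H.Adj p z ∧ H.Adj q z then 1 else 0 := fun q z => by
          by_cases H.Adj p z <;> simp [*]
        simp only [e, Finset.sum_boole, and_self, Nat.cast_id]
        rw [hpW p (Finset.mem_filter.1 hp).1, Finset.sum_congr rfl fun q hq =>
          hTT w hw p hp q (Finset.mem_of_mem_erase hq) (Finset.ne_of_mem_erase hq).symm,
          Finset.sum_const, Finset.card_erase_of_mem hp, hT3 w hw]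
        rfl
      rw [Finset.sum_congr rfl this, Finset.sum_const, hT3 w hw]
      rfl
    have hself : (T w ∩ T w).card = 3 := by rw [Finset.inter_self, hT3 w hw]
    rw [← Finset.add_sum_erase _ _ hw, hself] at s1 s2
    have h7 : (W.erase w).card = 7 := by rw [Finset.card_erase_of_mem hw, hW8]
    have hge : ∀ z ∈ W.erase w, 1 ≤ (T w ∩ T z).card := fun z hz =>
      Nat.one_le_iff_ne_zero.2 (hne0 w hw z (Finset.mem_of_mem_erase hz)
        (Finset.ne_of_mem_erase hz).symm)
    set g : Q → ℕ := fun z => (T w ∩ T z).card - 1 with hg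
    have g1 : ∑ z ∈ W.erase w, g z = 2 := by
      have : ∀ z ∈ W.erase w, (T w ∩ T z).card = g z + 1 := fun z hz => by
        have := hge z hz; simp only [hg]; omega
      rw [Finset.sum_congr rfl this, Finset.sum_add_distrib, Finset.sum_const, h7] at s1
      simp at s1 ⊢
      omega
    have g2 : ∑ z ∈ W.erase w, g z * g z = 4 := by
      have : ∀ z ∈ W.erase w, (T w ∩ T z).card * (T w ∩ T z).card
          = g z * g z + 2 * g z + 1 := fun z hz => by
        have := hge z hz
        rw [show (T w ∩ T z).card = g z + 1 by simp only [hg]; omega]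
        ring
      rw [Finset.sum_congr rfl this, Finset.sum_add_distrib, Finset.sum_add_distrib,
        Finset.sum_const, ← Finset.mul_sum, g1, h7] at s2
      simp at s2 ⊢
      omega
    obtain ⟨t, ht, ht2⟩ : ∃ t ∈ W.erase w, g t = 2 := by
      by_contra hc
      push Not at hc
      have : ∀ z ∈ W.erase w, g z * g z = g z := by
        intro z hz
        have h1 : g z ≤ ∑ y ∈ W.erase w, g y := Finset.single_le_sum (fun _ _ => Nat.zero_le _) hz
        have h2 := hc z hz
        rw [g1] at h1
        interval_cases g z <;> simp_all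
      rw [Finset.sum_congr rfl this, g1] at g2
      omega
    refine ⟨t, Finset.mem_of_mem_erase ht, Finset.ne_of_mem_erase ht,
      by simp only [hg] at ht2; omega, fun z hz hzw hzt => ?_⟩
    have hz' : z ∈ W.erase w := Finset.mem_erase.2 ⟨hzw, hz⟩
    rw [← Finset.add_sum_erase _ _ ht, ht2] at g1
    have h1 : g z ≤ ∑ y ∈ (W.erase w).erase t, g y :=
      Finset.single_le_sum (fun _ _ => Nat.zero_le _) (Finset.mem_erase.2 ⟨hzt, hz'⟩)
    have := hge z hz'
    simp only [hg] at h1 g1
    omega
  -- no triangle in `W`
  have htri : ∀ u ∈ W, ∀ v ∈ W, ∀ z ∈ W, H.Adj u v → H.Adj u z → H.Adj v z → False := by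
    intro u hu v hv z hz h1 h2 h3
    obtain ⟨t, -, -, ht3, ht1⟩ := htwin u hu
    have h := hkc u hu v hv h1.ne
    rw [if_pos h1] at h
    have hpos : 0 < (W.filter fun s => H.Adj u s ∧ H.Adj v s).card :=
      Finset.card_pos.2 ⟨z, by simp [hz, h2, h3]⟩
    have := hne0 u hu v hv h1.ne
    omega
  obtain ⟨w, hw⟩ := Finset.card_pos.1 (show 0 < W.card by omega)
  obtain ⟨t, ht, htw, ht3, -⟩ := htwin w hw
  have hnadj : ¬ H.Adj w t := fun h => by
    have := hkc w hw t ht htw.symm
    rw [if_pos h] at this
    omega
  have hno : ∀ z ∈ W, H.Adj w z → H.Adj t z → False := fun z hz h1 h2 => by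
    have h := hkc w hw t ht htw.symm
    rw [if_neg hnadj] at h
    have : 0 < (W.filter fun s => H.Adj w s ∧ H.Adj t s).card :=
      Finset.card_pos.2 ⟨z, by simp [hz, h1, h2]⟩
    omega
  have hdeg : ∀ u ∈ W, (W.filter fun z => H.Adj u z).card = 3 := by
    intro u hu
    have e := hsplit (fun z => H.Adj u z) (fun h => ((memW u).1 hu).2 h.symm)
    rw [← SimpleGraph.neighborFinset_eq_filter, card_nbr hH u] at e
    have := hT3 u hu
    simp only [hT] at this
    omega
  set A := insert t (W.filter fun z => H.Adj w z) with hA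
  set B := insert w (W.filter fun z => H.Adj t z) with hB
  have side : ∀ p q : Q, p ∈ W → q ∈ W → (∀ z ∈ W, H.Adj p z → H.Adj q z → False) →
      ∀ u ∈ insert q (W.filter fun z => H.Adj p z), ∀ v ∈ insert q (W.filter fun z => H.Adj p z),
        ¬ H.Adj u v := by
    intro p q hp hq hpq u hu v hv h
    rw [Finset.mem_insert, Finset.mem_filter] at hu hv
    rcases hu with rfl | ⟨hu, hpu⟩ <;> rcases hv with rfl | ⟨hv, hpv⟩
    · exact h.ne rfl
    · exact hpq v hv hpv h
    · exact hpq u hu hpu h.symm
    · exact htri p hp u hu v hv hpu hpv h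
  have hAi := side w t hw ht hno
  have hBi := side t w ht hw fun z hz h1 h2 => hno z hz h2 h1
  have hAc : A.card = 4 := by
    rw [hA, Finset.card_insert_of_notMem (by simp [hnadj]), hdeg w hw]
  have hBc : B.card = 4 := by
    rw [hB, Finset.card_insert_of_notMem (by simp [H.adj_comm t w, hnadj]), hdeg t ht]
  have hAW : A ⊆ W := Finset.insert_subset ht (Finset.filter_subset _ _)
  have hBW : B ⊆ W := Finset.insert_subset hw (Finset.filter_subset _ _)
  have hAB : Disjoint A B := by
    rw [Finset.disjoint_left]
    intro z hzA hzB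
    rw [hA, Finset.mem_insert, Finset.mem_filter] at hzA
    rw [hB, Finset.mem_insert, Finset.mem_filter] at hzB
    rcases hzA with rfl | ⟨hz, hwz⟩ <;> rcases hzB with h | ⟨hz', htz⟩
    · exact htw h
    · exact htz.ne rfl
    · exact hwz.ne h.symm
    · exact hno z hz hwz htz
  have hun : A ∪ B = W := Finset.eq_of_subset_of_card_le (Finset.union_subset hAW hBW)
    (by rw [Finset.card_union_of_disjoint hAB, hAc, hBc, hW8])
  have one : ∀ X Y : Finset Q, X ∪ Y = W → Y.card = 4 → (∀ u ∈ X, ∀ v ∈ X, ¬ H.Adj u v) →
      ∀ S : Finset Q, (∀ u ∈ S, ∀ v ∈ S, ¬ H.Adj u v) → ∀ x ∈ S, x ∈ X →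
        (S ∩ Y).card ≤ 1 := by
    intro X Y hXY hY hX S hS x hxS hxX
    have hxW : x ∈ W := hXY ▸ Finset.mem_union_left _ hxX
    have hsub : (W.filter fun z => H.Adj x z) ⊆ Y := fun z hz => by
      obtain ⟨hz, hxz⟩ := Finset.mem_filter.1 hz
      rcases Finset.mem_union.1 (hXY.symm ▸ hz) with h | h
      · exact absurd hxz (hX x hxX z h)
      · exact h
    have hsub' : S ∩ Y ⊆ Y \ W.filter fun z => H.Adj x z := fun z hz => by
      simp only [Finset.mem_inter] at hz
      exact Finset.mem_sdiff.2 ⟨hz.2, fun h => hS x hxS z hz.1 (Finset.mem_filter.1 h).2⟩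
    refine (Finset.card_le_card hsub').trans ?_
    rw [Finset.card_sdiff_of_subset hsub, hdeg x hxW, hY]
  have haW : a ∉ W := fun h => ((memW a).1 h).1 rfl
  refine ⟨insert a A, insert a B, fun h => ?_, fun S => ⟨?_, ?_⟩⟩
  · have h' := congrArg (fun s => Finset.erase s a) h
    simp only [Finset.erase_insert (fun h => haW (hAW h)),
      Finset.erase_insert (fun h => haW (hBW h))] at h'
    rw [h'] at hAB
    rw [disjoint_self] at hAB
    simp [hAB] at hBc
  · rintro ⟨h5, haS, hS⟩
    set S' := S.erase a with hS'
    have h4 : S'.card = 4 := by rw [hS', Finset.card_erase_of_mem haS, h5]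
    have hS'i : ∀ u ∈ S', ∀ v ∈ S', ¬ H.Adj u v := fun u hu v hv =>
      hS u (Finset.mem_of_mem_erase hu) v (Finset.mem_of_mem_erase hv)
    have hS'W : S' ⊆ W := fun z hz =>
      (memW z).2 ⟨(Finset.ne_of_mem_erase hz).symm, hS a haS z (Finset.mem_of_mem_erase hz)⟩
    have hor : S' ⊆ A ∨ S' ⊆ B := by
      by_contra hc
      push Not at hc
      obtain ⟨⟨x, hx, hxA⟩, ⟨y, hy, hyB⟩⟩ := And.intro (Finset.not_subset.1 hc.1)
        (Finset.not_subset.1 hc.2)
      have hxB : x ∈ B := ((Finset.mem_union.1 (hun.symm ▸ hS'W hx)).resolve_left hxA)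
      have hyA : y ∈ A := ((Finset.mem_union.1 (hun.symm ▸ hS'W hy)).resolve_right hyB)
      have h1 := one A B hun hBc hAi S' hS'i y hy hyA
      have h2 := one B A (by rw [Finset.union_comm, hun]) hAc hBi S' hS'i x hx hxB
      have h3 := Finset.card_le_card (show S' ⊆ S' ∩ A ∪ S' ∩ B by
        rw [← Finset.inter_union_distrib_left, hun]; exact Finset.subset_inter (Finset.Subset.refl _) hS'W)
      have h4' := Finset.card_union_le (S' ∩ A) (S' ∩ B)
      omega
    rw [← Finset.insert_erase haS]
    rcases hor with h | h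
    · exact Or.inl (by rw [← Finset.eq_of_subset_of_card_le h (by omega)])
    · exact Or.inr (by rw [← Finset.eq_of_subset_of_card_le h (by omega)])
  · have ok : ∀ X : Finset Q, X.card = 4 → X ⊆ W → (∀ u ∈ X, ∀ v ∈ X, ¬ H.Adj u v) →
        (insert a X).card = 5 ∧ a ∈ insert a X ∧
          ∀ u ∈ insert a X, ∀ v ∈ insert a X, ¬ H.Adj u v := by
      intro X hX hXW hXi
      refine ⟨by rw [Finset.card_insert_of_notMem fun h => haW (hXW h), hX],
        Finset.mem_insert_self _ _, fun u hu v hv h => ?_⟩
      rcases Finset.mem_insert.1 hu with e | hu'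
      · subst e
        rcases Finset.mem_insert.1 hv with e' | hv'
        · exact h.ne e'.symm
        · exact ((memW v).1 (hXW hv')).2 h
      · rcases Finset.mem_insert.1 hv with e' | hv'
        · subst e'
          exact ((memW u).1 (hXW hu')).2 h.symm
        · exact hXi u hu' v hv' h
    rintro (rfl | rfl)
    exacts [ok A hAc hAW hAi, ok B hBc hBW hBi]

/-! ### The two quadratic forms -/

/-- eighty-eight times the projection onto the eigenspace of eigenvalue -6 -/
def gramS (G : SimpleGraph V) [DecidableRel G.Adj] (x y : V) : ℤ :=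
  22 * (if x = y then 1 else 0) - 11 * (if G.Adj x y then 1 else 0) + 2

/-- fifty-six times the projection onto the eigenspace of eigenvalue 2 -/
def gramR (G : SimpleGraph V) [DecidableRel G.Adj] (x y : V) : ℤ :=
  42 * (if x = y then 1 else 0) + 7 * (if G.Adj x y then 1 else 0) - 2

theorem gramS_comm (x y : V) : gramS G x y = gramS G y x := by
  simp only [gramS, eq_comm (a := x) (b := y), G.adj_comm x y]

theorem gramR_comm (x y : V) : gramR G x y = gramR G y x := by
  simp only [gramR, eq_comm (a := x) (b := y), G.adj_comm x y]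

theorem form_mul (hG : G.IsSRGWith 77 16 0 4) (p q c : ℤ) (x y : V) :
    ∑ z, (p * (if x = z then 1 else 0) + q * (if G.Adj x z then 1 else 0) + c) *
        (p * (if z = y then 1 else 0) + q * (if G.Adj z y then 1 else 0) + c) =
      (p * p + 12 * (q * q)) * (if x = y then 1 else 0)
        + (2 * (p * q) - 4 * (q * q)) * (if G.Adj x y then 1 else 0)
        + (2 * (p * c) + 4 * (q * q) + 32 * (q * c) + 77 * (c * c)) := by
  have he : ∀ z, (p * (if x = z then 1 else 0) + q * (if G.Adj x z then 1 else 0) + c) *
        (p * (if z = y then 1 else 0) + q * (if G.Adj z y then 1 else 0) + c) =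
      (p * p) * ((if x = z then 1 else 0) * (if z = y then 1 else 0))
        + (p * q) * ((if x = z then 1 else 0) * (if G.Adj z y then 1 else 0))
        + (p * q) * ((if G.Adj x z then 1 else 0) * (if z = y then 1 else 0))
        + (q * q) * ((if G.Adj x z then 1 else 0) * (if G.Adj z y then 1 else 0))
        + (p * c) * (if x = z then 1 else 0) + (p * c) * (if z = y then 1 else 0)
        + (q * c) * (if G.Adj x z then 1 else 0) + (q * c) * (if G.Adj z y then 1 else 0)
        + c * c := fun z => by ring
  have h0 : ∀ v, ∑ z, (if G.Adj v z then (1 : ℤ) else 0) = 16 := fun v => by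
    rw [Finset.sum_boole, ← SimpleGraph.neighborFinset_eq_filter, card_nbr hG v]
    rfl
  have h1 : ∑ z, (if G.Adj z y then (1 : ℤ) else 0) = 16 := by
    rw [← h0 y]
    simp only [G.adj_comm y]
  have h2 : ∑ z, (if x = z then (1 : ℤ) else 0) * (if z = y then 1 else 0)
      = if x = y then 1 else 0 := by simp
  have h3 : ∑ z, (if x = z then (1 : ℤ) else 0) * (if G.Adj z y then 1 else 0)
      = if G.Adj x y then 1 else 0 := by
    rw [Finset.sum_eq_single x (fun z _ hz => by simp [Ne.symm hz]) (by simp)]
    simp
  have h4 : ∑ z, (if G.Adj x z then (1 : ℤ) else 0) * (if z = y then 1 else 0)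
      = if G.Adj x y then 1 else 0 := by
    rw [Finset.sum_eq_single y (fun z _ hz => by simp [hz]) (by simp)]
    simp
  have h5 : ∑ z, (if G.Adj x z then (1 : ℤ) else 0) * (if G.Adj z y then 1 else 0)
      = 4 + 12 * (if x = y then 1 else 0) - 4 * (if G.Adj x y then 1 else 0) := by
    have hz : ∀ z, (if G.Adj x z then (1 : ℤ) else 0) * (if G.Adj z y then 1 else 0)
        = if G.Adj x z ∧ G.Adj y z then 1 else 0 := fun z => by
      by_cases h : G.Adj x z <;> simp [h, G.adj_comm y z]
    rw [Finset.sum_congr rfl fun z _ => hz z, Finset.sum_boole, ← Finset.filter_filter,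
      ← SimpleGraph.neighborFinset_eq_filter]
    by_cases hxy : x = y
    · subst hxy
      rw [Finset.filter_true_of_mem fun z hz => (SimpleGraph.mem_neighborFinset _ _ _).1 hz,
        card_nbr hG x]
      simp
    · rw [card_common hG hxy]
      by_cases ha : G.Adj x y <;> simp [hxy, ha]
  rw [Finset.sum_congr rfl fun z _ => he z]
  simp only [Finset.sum_add_distrib, ← Finset.mul_sum, h0, h1, h2, h3, h4, h5, Finset.sum_ite_eq,
    Finset.sum_ite_eq', Finset.mem_univ, if_true, Finset.sum_const, Finset.card_univ, hG.card]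
  ring

theorem gramS_mul (hG : G.IsSRGWith 77 16 0 4) (x y : V) :
    ∑ z, gramS G x z * gramS G z y = 88 * gramS G x y := by
  have h := form_mul hG 22 (-11) 2 x y
  simp only [gramS, sub_eq_add_neg, ← neg_mul]
  rw [h]
  ring

theorem gramR_mul (hG : G.IsSRGWith 77 16 0 4) (x y : V) :
    ∑ z, gramR G x z * gramR G z y = 56 * gramR G x y := by
  have h := form_mul hG 42 7 (-2) x y
  simp only [gramR, sub_eq_add_neg]
  rw [h]
  ring

theorem sum_gramS (S : Finset V) (z : V) :
    ∑ v ∈ S, gramS G v z =
      22 * (if z ∈ S then 1 else 0) - 11 * ((S.filter fun v => G.Adj v z).card : ℤ)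
        + 2 * S.card := by
  simp only [gramS, Finset.sum_add_distrib, Finset.sum_sub_distrib, ← Finset.mul_sum,
    Finset.sum_ite_eq', Finset.sum_boole, Finset.sum_const, nsmul_eq_mul]
  ring

theorem sum_gramS_univ (hG : G.IsSRGWith 77 16 0 4) (z : V) : ∑ v, gramS G v z = 0 := by
  have e : (Finset.univ.filter fun v => G.Adj v z) = G.neighborFinset z := by
    ext v; simp [G.adj_comm v z]
  rw [sum_gramS, e, card_nbr hG, Finset.card_univ, hG.card]
  simp

/-- a coclique of 21 vertices meets the neighbourhood of each other vertex in six -/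
theorem coclique_six (hG : G.IsSRGWith 77 16 0 4) {C : Finset V} (h21 : C.card = 21)
    (hC : ∀ u ∈ C, ∀ v ∈ C, ¬ G.Adj u v) {z : V} (hz : z ∉ C) :
    (C.filter fun v => G.Adj v z).card = 6 := by
  set g : V → ℤ := fun y => ∑ c ∈ C, gramR G c y with hg
  have hgy : ∀ y, g y = 42 * (if y ∈ C then 1 else 0)
      + 7 * ((C.filter fun v => G.Adj v y).card : ℤ) - 2 * C.card := fun y => by
    simp only [hg, gramR, Finset.sum_add_distrib, Finset.sum_sub_distrib, ← Finset.mul_sum,
      Finset.sum_ite_eq', Finset.sum_boole, Finset.sum_const, nsmul_eq_mul]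
    ring
  have hin : ∀ c ∈ C, g c = 0 := fun c hc => by
    rw [hgy, if_pos hc, Finset.filter_false_of_mem fun v hv => hC v hv c hc, h21]
    norm_num
  have hsq : ∑ y, g y * g y = 0 := by
    calc ∑ y, g y * g y = ∑ c ∈ C, ∑ d ∈ C, ∑ y, gramR G c y * gramR G y d := by
          simp only [hg, Finset.sum_mul_sum]
          rw [Finset.sum_comm]
          refine Finset.sum_congr rfl fun c _ => ?_
          rw [Finset.sum_comm]
          exact Finset.sum_congr rfl fun d _ => Finset.sum_congr rfl fun y _ => by
            rw [gramR_comm d y]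
      _ = ∑ c ∈ C, 56 * g c := by
          refine Finset.sum_congr rfl fun c _ => ?_
          simp only [gramR_mul hG, hg, Finset.mul_sum]
          exact Finset.sum_congr rfl fun d _ => by rw [gramR_comm c d]
      _ = 0 := Finset.sum_eq_zero fun c hc => by rw [hin c hc, mul_zero]
  have h0 := mul_self_eq_zero.1
    ((Finset.sum_eq_zero_iff_of_nonneg fun i _ => mul_self_nonneg (g i)).1 hsq z
      (Finset.mem_univ z))
  rw [hgy, if_neg hz, h21] at h0
  omega

/-! ### Residues at a vertex -/

variable (G) in
/-- the neighbours of `x` adjacent to `y` -/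
def trace (x y : V) : Finset V := (G.neighborFinset x).filter fun n => G.Adj y n

variable (G) in
/-- eighteen times the product of `y` and `z` orthogonal to the neighbours of `x` -/
def res (x y z : V) : ℤ :=
  18 * gramS G y z - 2 * (∑ n ∈ G.neighborFinset x, gramS G n z)
    + 9 * ∑ n ∈ trace G x y, gramS G n z

variable (G) in
/-- the vertices away from `x` -/
def away (x : V) : Finset V := (insert x (G.neighborFinset x))ᶜ

theorem mem_away {x y : V} : y ∈ away G x ↔ x ≠ y ∧ ¬ G.Adj x y := by
  simp [away, eq_comm]

theorem trace_card (hG : G.IsSRGWith 77 16 0 4) {x y : V} (hy : y ∈ away G x) :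
    (trace G x y).card = 4 := by
  obtain ⟨h1, h2⟩ := mem_away.1 hy
  have := card_common hG h1
  rwa [if_neg h2] at this

theorem nbr_indep (hG : G.IsSRGWith 77 16 0 4) {x u v : V} (hu : G.Adj x u) (hv : G.Adj x v) :
    ¬ G.Adj u v := by
  intro h
  have h1 := card_common hG hu.ne
  rw [if_pos hu, Finset.card_eq_zero] at h1
  have : v ∈ (G.neighborFinset x).filter fun z => G.Adj u z := by simp [hv, h]
  rw [h1] at this
  simp at this

theorem res_eq_zero (hG : G.IsSRGWith 77 16 0 4) {x y : V} (hy : y ∈ away G x) {z : V}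
    (hz : z ∉ away G x) : res G x y z = 0 := by
  obtain ⟨h1, h2⟩ := mem_away.1 hy
  rw [res, sum_gramS, sum_gramS, card_nbr hG, trace_card hG hy]
  by_cases hxz : x = z
  · subst hxz
    have e : ∀ S ⊆ G.neighborFinset x, (S.filter fun v => G.Adj v x) = S := fun S hS =>
      Finset.filter_true_of_mem fun v hv =>
        ((SimpleGraph.mem_neighborFinset _ _ _).1 (hS hv)).symm
    rw [e _ (Finset.Subset.refl _), e (trace G x y) (Finset.filter_subset _ _),
      card_nbr hG, trace_card hG hy]
    simp [gramS, trace, Ne.symm h1, G.adj_comm y x, h2]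
  · have hxz' : G.Adj x z := by
      by_contra h
      exact hz (mem_away.2 ⟨hxz, h⟩)
    have e : ∀ S ⊆ G.neighborFinset x, (S.filter fun v => G.Adj v z) = ∅ := fun S hS =>
      Finset.filter_false_of_mem fun v hv =>
        nbr_indep hG ((SimpleGraph.mem_neighborFinset _ _ _).1 (hS hv)) hxz'
    rw [e _ (Finset.Subset.refl _), e (trace G x y) (Finset.filter_subset _ _)]
    have hyz : y ≠ z := fun h => h2 (h ▸ hxz')
    by_cases ha : G.Adj y z <;> simp [gramS, trace, hxz', hyz, ha]

theorem res_eq (hG : G.IsSRGWith 77 16 0 4) {x y z : V} (hy : y ∈ away G x)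
    (hz : z ∈ away G x) :
    res G x y z = 18 * gramS G y z + 96 - 99 * ((trace G x y ∩ trace G x z).card : ℤ) := by
  obtain ⟨h1, h2⟩ := mem_away.1 hz
  have e1 : (G.neighborFinset x).filter (fun v => G.Adj v z) = trace G x z :=
    Finset.filter_congr fun v _ => G.adj_comm v z
  have e2 : (trace G x y).filter (fun v => G.Adj v z) = trace G x y ∩ trace G x z := by
    ext v
    simp [trace, G.adj_comm v z]
    tauto
  rw [res, sum_gramS, sum_gramS, e1, e2, card_nbr hG, trace_card hG hy, trace_card hG hz,
    if_neg (by simp [h2]), if_neg (by simp [trace, h2])]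
  push_cast
  ring

theorem res_comm (hG : G.IsSRGWith 77 16 0 4) {x y z : V} (hy : y ∈ away G x)
    (hz : z ∈ away G x) : res G x y z = res G x z y := by
  rw [res_eq hG hy hz, res_eq hG hz hy, gramS_comm, Finset.inter_comm]

theorem res_self (hG : G.IsSRGWith 77 16 0 4) {x y : V} (hy : y ∈ away G x) :
    res G x y y = 132 := by
  rw [res_eq hG hy hy, Finset.inter_self, trace_card hG hy]
  simp [gramS]

theorem sum_gramS_res (hG : G.IsSRGWith 77 16 0 4) (x y v : V) :
    ∑ z, gramS G v z * res G x y z = 88 * res G x y v := by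
  have key : ∀ u, ∑ z, gramS G v z * gramS G u z = 88 * gramS G u v := fun u => by
    rw [gramS_comm u v, ← gramS_mul hG v u]
    exact Finset.sum_congr rfl fun z _ => by rw [gramS_comm u z]
  have hS : ∀ S : Finset V, ∑ z, gramS G v z * ∑ n ∈ S, gramS G n z
      = 88 * ∑ n ∈ S, gramS G n v := fun S => by
    simp only [Finset.mul_sum]
    rw [Finset.sum_comm]
    refine Finset.sum_congr rfl fun n _ => ?_
    rw [key n]
  have : ∀ z, gramS G v z * res G x y z = 18 * (gramS G v z * gramS G y z)
      - 2 * (gramS G v z * ∑ n ∈ G.neighborFinset x, gramS G n z)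
      + 9 * (gramS G v z * ∑ n ∈ trace G x y, gramS G n z) := fun z => by rw [res]; ring
  rw [Finset.sum_congr rfl fun z _ => this z, Finset.sum_add_distrib, Finset.sum_sub_distrib,
    ← Finset.mul_sum, ← Finset.mul_sum, ← Finset.mul_sum, key, hS, hS, res]
  ring

theorem sum_res_res (hG : G.IsSRGWith 77 16 0 4) {x y w : V} (hy : y ∈ away G x)
    (hw : w ∈ away G x) :
    ∑ z ∈ away G x, res G x y z * res G x w z = 1584 * res G x y w := by
  have h0 : ∀ n ∈ G.neighborFinset x, res G x y n = 0 := fun n hn =>
    res_eq_zero hG hy fun h => (mem_away.1 h).2 ((SimpleGraph.mem_neighborFinset _ _ _).1 hn)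
  rw [Finset.sum_subset (Finset.subset_univ _) fun z _ hz => by rw [res_eq_zero hG hy hz, zero_mul]]
  have hS : ∀ S : Finset V, (∀ n ∈ S, res G x y n = 0) →
      ∑ z, res G x y z * ∑ n ∈ S, gramS G n z = 0 := fun S hS => by
    simp only [Finset.mul_sum]
    rw [Finset.sum_comm]
    refine Finset.sum_eq_zero fun n hn => ?_
    simp only [mul_comm (res G x y _)]
    rw [sum_gramS_res hG, hS n hn, mul_zero]
  have : ∀ z, res G x y z * res G x w z = 18 * (gramS G w z * res G x y z)
      - 2 * (res G x y z * ∑ n ∈ G.neighborFinset x, gramS G n z)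
      + 9 * (res G x y z * ∑ n ∈ trace G x w, gramS G n z) := fun z => by
    conv_lhs => arg 2; rw [res]
    ring
  rw [Finset.sum_congr rfl fun z _ => this z, Finset.sum_add_distrib, Finset.sum_sub_distrib,
    ← Finset.mul_sum, ← Finset.mul_sum, ← Finset.mul_sum, sum_gramS_res hG, hS _ h0,
    hS (trace G x w) fun n hn => h0 n (Finset.mem_filter.1 hn).1]
  ring

theorem sum_res (hG : G.IsSRGWith 77 16 0 4) {x y : V} (hy : y ∈ away G x) :
    ∑ z ∈ away G x, res G x y z = 0 := by
  rw [Finset.sum_subset (Finset.subset_univ _) fun z _ hz => res_eq_zero hG hy hz]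
  have h : ∀ n, ∑ z, gramS G n z = 0 := fun n => by
    rw [← sum_gramS_univ hG n]
    exact Finset.sum_congr rfl fun z _ => gramS_comm n z
  have hS : ∀ S : Finset V, ∑ z, ∑ n ∈ S, gramS G n z = 0 := fun S => by
    rw [Finset.sum_comm]
    exact Finset.sum_eq_zero fun n _ => h n
  simp only [res, Finset.sum_add_distrib, Finset.sum_sub_distrib, ← Finset.mul_sum, h, hS]
  ring

theorem res_eq_row (hG : G.IsSRGWith 77 16 0 4) {x y w : V} (hy : y ∈ away G x)
    (hw : w ∈ away G x) : res G x y w = 132 ↔ res G x y = res G x w := by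
  refine ⟨fun h => ?_, fun h => by rw [h, res_self hG hw]⟩
  have hs : ∑ z ∈ away G x, (res G x y z - res G x w z) * (res G x y z - res G x w z) = 0 := by
    have : ∀ z, (res G x y z - res G x w z) * (res G x y z - res G x w z) =
        res G x y z * res G x y z - 2 * (res G x y z * res G x w z)
          + res G x w z * res G x w z := fun z => by ring
    rw [Finset.sum_congr rfl fun z _ => this z, Finset.sum_add_distrib, Finset.sum_sub_distrib,
      ← Finset.mul_sum, sum_res_res hG hy hy, sum_res_res hG hy hw, sum_res_res hG hw hw,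
      res_self hG hy, res_self hG hw, h]
    norm_num
  funext z
  by_cases hz : z ∈ away G x
  · exact sub_eq_zero.1 (mul_self_eq_zero.1
      ((Finset.sum_eq_zero_iff_of_nonneg fun i _ => mul_self_nonneg _).1 hs z hz))
  · rw [res_eq_zero hG hy hz, res_eq_zero hG hw hz]

theorem res_ge (hG : G.IsSRGWith 77 16 0 4) {x y w : V} (hy : y ∈ away G x)
    (hw : w ∈ away G x) : -132 ≤ res G x y w := by
  have h0 : (0 : ℤ) ≤ ∑ z ∈ away G x, (res G x y z + res G x w z) * (res G x y z + res G x w z) :=
    Finset.sum_nonneg fun z _ => mul_self_nonneg _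
  have : ∀ z, (res G x y z + res G x w z) * (res G x y z + res G x w z) =
      res G x y z * res G x y z + 2 * (res G x y z * res G x w z)
        + res G x w z * res G x w z := fun z => by ring
  rw [Finset.sum_congr rfl fun z _ => this z, Finset.sum_add_distrib, Finset.sum_add_distrib,
    ← Finset.mul_sum, sum_res_res hG hy hy, sum_res_res hG hy hw, sum_res_res hG hw hw,
    res_self hG hy, res_self hG hw] at h0
  linarith

theorem res_cases (hG : G.IsSRGWith 77 16 0 4) {x y w : V} (hy : y ∈ away G x)
    (hw : w ∈ away G x) :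
    res G x y w = 132 ∧ ((y = w) ∨ (¬ G.Adj y w ∧ (trace G x y ∩ trace G x w).card = 0)) ∨
    res G x y w = 33 ∧ ¬ G.Adj y w ∨
    res G x y w = -66 ∧ (G.Adj y w ∧ (trace G x y ∩ trace G x w).card = 0 ∨
      (trace G x y ∩ trace G x w).card = 2) := by
  by_cases he : y = w
  · subst he
    exact Or.inl ⟨res_self hG hy, Or.inl rfl⟩
  have h4 : (trace G x y ∩ trace G x w).card ≤ 4 :=
    (Finset.card_le_card Finset.inter_subset_left).trans_eq (trace_card hG hy)
  have hge := res_ge hG hy hw
  have heq := res_eq hG hy hw
  by_cases ha : G.Adj y w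
  · have h0 : (trace G x y ∩ trace G x w).card = 0 := by
      rw [Finset.card_eq_zero, Finset.eq_empty_iff_forall_notMem]
      intro v hv
      simp only [trace, Finset.mem_inter, Finset.mem_filter] at hv
      exact nbr_indep hG ha hv.1.2 hv.2.2
    right; right
    simp only [gramS, if_neg he, if_pos ha, h0] at heq
    exact ⟨by omega, Or.inl ⟨ha, h0⟩⟩
  · simp only [gramS, if_neg he, if_neg ha] at heq
    interval_cases hi : (trace G x y ∩ trace G x w).card
    · exact Or.inl ⟨by omega, Or.inr ⟨ha, rfl⟩⟩
    · exact Or.inr (Or.inl ⟨by omega, ha⟩)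
    · exact Or.inr (Or.inr ⟨by omega, Or.inr rfl⟩)
    · omega
    · omega

/-! ### Cocliques through two vertices -/

variable (G) in
/-- the cocliques of 21 vertices -/
def cocliques : Finset (Finset V) :=
  ((Finset.univ : Finset V).powersetCard 21).filter fun C => ∀ u ∈ C, ∀ v ∈ C, ¬ G.Adj u v

theorem mem_cocliques {C : Finset V} :
    C ∈ cocliques G ↔ C.card = 21 ∧ ∀ u ∈ C, ∀ v ∈ C, ¬ G.Adj u v := by
  simp [cocliques]

theorem class_counts (hG : G.IsSRGWith 77 16 0 4) {x y : V} (hy : y ∈ away G x) :
    ((away G x).filter fun z => res G x y z = 132).card = 4 ∧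
      ((away G x).filter fun z => res G x y z = -66).card = 24 := by
  set M := away G x
  have h60 : M.card = 60 := card_away hG x
  have hv : ∀ z ∈ M, res G x y z = 33 + 99 * (if res G x y z = 132 then 1 else 0)
      - 99 * (if res G x y z = -66 then 1 else 0) := fun z hz => by
    rcases res_cases hG hy hz with ⟨h, -⟩ | ⟨h, -⟩ | ⟨h, -⟩ <;> simp [h]
  have hv2 : ∀ z ∈ M, res G x y z * res G x y z = 1089
      + 16335 * (if res G x y z = 132 then 1 else 0)
      + 3267 * (if res G x y z = -66 then 1 else 0) := fun z hz => by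
    rcases res_cases hG hy hz with ⟨h, -⟩ | ⟨h, -⟩ | ⟨h, -⟩ <;> simp [h]
  have s1 := sum_res hG hy
  have s2 := sum_res_res hG hy hy
  rw [Finset.sum_congr rfl hv] at s1
  rw [Finset.sum_congr rfl hv2, res_self hG hy] at s2
  simp only [Finset.sum_add_distrib, Finset.sum_sub_distrib, ← Finset.mul_sum, Finset.sum_boole,
    Finset.sum_const, nsmul_eq_mul] at s1 s2
  rw [show (away G x).card = 60 from h60] at s1 s2
  push_cast at s1 s2
  constructor <;> omega

theorem two_cocliques (hG : G.IsSRGWith 77 16 0 4) {x y : V} (hy : y ∈ away G x) :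
    ((cocliques G).filter fun C => x ∈ C ∧ y ∈ C).card = 2 := by
  classical
  set M := away G x with hM
  set row : V → V → ℤ := fun v => res G x v with hrow
  let Q := ↥(M.image row)
  let cls : Q → Finset V := fun q => M.filter fun z => row z = q.1
  have hrep : ∀ q : Q, ∃ v ∈ M, row v = q.1 := fun q => Finset.mem_image.1 q.2
  choose rep hrepM hrep' using hrep
  have hcls : ∀ q : Q, cls q = M.filter fun z => res G x (rep q) z = 132 := fun q => by
    refine Finset.filter_congr fun z hz => ?_
    rw [res_eq_row hG (hrepM q) hz, ← hrep' q]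
    exact ⟨Eq.symm, Eq.symm⟩
  have hcls4 : ∀ q : Q, (cls q).card = 4 := fun q => by
    rw [hcls]; exact (class_counts hG (hrepM q)).1
  let pr : ∀ v ∈ M, Q := fun v hv => ⟨row v, Finset.mem_image_of_mem _ hv⟩
  have hpr : ∀ v (hv : v ∈ M), res G x (rep (pr v hv)) = res G x v := fun v hv => hrep' _
  have hresQ : ∀ q, ∀ v (hv : v ∈ M),
      res G x (rep q) v = res G x (rep q) (rep (pr v hv)) := fun q v hv => by
    rw [res_comm hG (hrepM q) hv, res_comm hG (hrepM q) (hrepM _), hpr v hv]
  have hrep_inj : ∀ q q' : Q, res G x (rep q) (rep q') = 132 ↔ q = q' := fun q q' => by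
    rw [res_eq_row hG (hrepM q) (hrepM q'), show res G x (rep q) = q.1 from hrep' q,
      show res G x (rep q') = q'.1 from hrep' q', Subtype.coe_inj]
  let Hq : SimpleGraph Q :=
    { Adj := fun q q' => res G x (rep q) (rep q') = -66
      symm := ⟨fun q q' h => by rw [res_comm hG (hrepM q') (hrepM q)]; exact h⟩
      loopless := ⟨fun q h => by rw [res_self hG (hrepM q)] at h; omega⟩ }
  have hsum : ∀ f : V → ℤ, (∀ v (hv : v ∈ M), f v = f (rep (pr v hv))) →
      ∑ v ∈ M, f v = 4 * ∑ q : Q, f (rep q) := by
    intro f hf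
    rw [← Finset.sum_fiberwise_of_maps_to (g := row) (t := M.image row)
      (fun v hv => Finset.mem_image_of_mem _ hv), Finset.mul_sum,
      ← Finset.sum_coe_sort (M.image row)]
    refine Finset.sum_congr rfl fun q _ => ?_
    rw [Finset.sum_congr rfl (g := fun _ => f (rep q)), Finset.sum_const]
    · rw [show (M.filter fun i => row i = q.1).card = 4 from hcls4 q]
      simp
    · intro v hv
      obtain ⟨hv, hvq⟩ := Finset.mem_filter.1 hv
      rw [hf v hv, show pr v hv = q from Subtype.ext hvq]
  have hQ : Fintype.card Q = 15 := by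
    have := hsum (fun _ => 1) fun _ _ => rfl
    have h60 : M.card = 60 := card_away hG x
    simp only [Finset.sum_const, Finset.card_univ, smul_eq_mul, mul_one] at this
    simp [h60] at this
    first | omega | (simp only [Q, Fintype.card_coe] at this ⊢; omega)
  have instQ : DecidableRel Hq.Adj := Classical.decRel _
  have hdegQ : ∀ q, ((Finset.univ.filter fun q' => Hq.Adj q q').card : ℤ) = 6 := by
    intro q
    have h := hsum (fun v => if res G x (rep q) v = -66 then 1 else 0) fun v hv => by
      rw [← hresQ q v hv]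
    simp only [Finset.sum_boole] at h
    rw [(class_counts hG (hrepM q)).2] at h
    have e : (Finset.univ.filter fun q' => Hq.Adj q q')
        = Finset.univ.filter fun q' => res G x (rep q) (rep q') = -66 := by
      ext q'
      simp [Hq]
    rw [e]
    push_cast at h
    have key : ∀ a : ℤ, 24 = 4 * a → a = 6 := fun a => by omega
    refine Eq.trans ?_ (key _ h)
    norm_cast
  have hSRG : Hq.IsSRGWith 15 6 1 3 := by
    have hcom : ∀ q q', q ≠ q' → (Nat.card (Hq.commonNeighbors q q') : ℤ)
        = if Hq.Adj q q' then 1 else 3 := by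
      intro q q' hne
      have hval : ∀ a b : Q, res G x (rep a) (rep b) = 33 + 99 * (if a = b then 1 else 0)
          - 99 * (if Hq.Adj a b then 1 else 0) := fun a b => by
        have hA : Hq.Adj a b ↔ res G x (rep a) (rep b) = -66 := Iff.rfl
        have := hrep_inj a b
        rcases res_cases hG (hrepM a) (hrepM b) with ⟨h, -⟩ | ⟨h, -⟩ | ⟨h, -⟩ <;>
          rw [h] at this hA ⊢ <;> norm_num at this hA ⊢ <;> simp [this, hA]
      have h := hsum (fun v => res G x (rep q) v * res G x (rep q') v) fun v hv => by
        rw [← hresQ q v hv, ← hresQ q' v hv]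
      rw [sum_res_res hG (hrepM q) (hrepM q')] at h
      have he : ∀ z, res G x (rep q) (rep z) * res G x (rep q') (rep z) =
          1089 + 3267 * (if q = z then 1 else 0) + 3267 * (if q' = z then 1 else 0)
            - 3267 * (if Hq.Adj q z then 1 else 0) - 3267 * (if Hq.Adj q' z then 1 else 0)
            + 9801 * ((if q = z then 1 else 0) * (if q' = z then 1 else 0))
            - 9801 * ((if q = z then 1 else 0) * (if Hq.Adj q' z then 1 else 0))
            - 9801 * ((if Hq.Adj q z then 1 else 0) * (if q' = z then 1 else 0))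
            + 9801 * ((if Hq.Adj q z then 1 else 0) * (if Hq.Adj q' z then 1 else 0)) :=
        fun z => by rw [hval, hval]; ring
      have c1 : ∀ p : Q, ∑ z, (if p = z then (1 : ℤ) else 0) = 1 := fun p => by
        rw [Finset.sum_eq_single p (fun z _ hz => if_neg (Ne.symm hz))
          (fun hp => absurd (Finset.mem_univ p) hp), if_pos rfl]
      have c2 : ∑ z, (if q = z then (1 : ℤ) else 0) * (if q' = z then 1 else 0) = 0 :=
        Finset.sum_eq_zero fun z _ => by
          by_cases h1 : q = z
          · subst h1; simp [hne.symm]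
          · simp [h1]
      have c3 : ∑ z, (if q = z then (1 : ℤ) else 0) * (if Hq.Adj q' z then 1 else 0)
          = if Hq.Adj q q' then 1 else 0 := by
        rw [Finset.sum_eq_single q (fun z _ hz => by simp [Ne.symm hz]) (by simp)]
        simp [Hq.adj_comm q' q]
      have c4 : ∑ z, (if Hq.Adj q z then (1 : ℤ) else 0) * (if q' = z then 1 else 0)
          = if Hq.Adj q q' then 1 else 0 := by
        rw [Finset.sum_eq_single q' (fun z _ hz => by simp [Ne.symm hz]) (by simp)]
        simp
      have c5 : ∑ z, (if Hq.Adj q z then (1 : ℤ) else 0) * (if Hq.Adj q' z then 1 else 0)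
          = Nat.card (Hq.commonNeighbors q q') := by
        rw [Finset.sum_congr rfl (g := fun z => if z ∈ Hq.commonNeighbors q q' then (1 : ℤ) else 0)
          fun z _ => by
            simp only [SimpleGraph.mem_commonNeighbors]
            by_cases h1 : Hq.Adj q z <;> simp [h1]]
        rw [Finset.sum_boole, ← Fintype.card_subtype, ← Nat.card_eq_fintype_card]
      rw [Finset.sum_congr rfl fun z _ => he z] at h
      simp only [Finset.sum_add_distrib, Finset.sum_sub_distrib, ← Finset.mul_sum, c1, c2, c3, c4, c5,
        Finset.sum_boole, hdegQ, Finset.sum_const, Finset.card_univ, hQ, Finset.filter_eq,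
        Finset.mem_univ, if_true, Finset.card_singleton] at h
      rw [hval] at h
      simp only [if_neg hne] at h
      by_cases ha : Hq.Adj q q' <;> simp [ha] at h ⊢ <;> omega
    refine ⟨hQ, fun q => ?_, fun q q' h => ?_, fun q q' hne h => ?_⟩
    · rw [← SimpleGraph.card_neighborFinset_eq_degree, SimpleGraph.neighborFinset_eq_filter]
      exact_mod_cast hdegQ q
    · have := hcom q q' h.ne
      rw [if_pos h, Nat.card_eq_fintype_card] at this
      exact_mod_cast this
    · have := hcom q q' hne
      rw [if_neg h, Nat.card_eq_fintype_card] at this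
      exact_mod_cast this
  obtain ⟨A, B, hAB, hS⟩ := two_five_cocliques hSRG (pr y hy)
  let lift : Finset Q → Finset V := fun S => insert x (S.biUnion cls)
  have hclsM : ∀ q : Q, cls q ⊆ M := fun q => Finset.filter_subset _ _
  have hxM : x ∉ M := fun h => (mem_away.1 h).1 rfl
  have hmem : ∀ v (hv : v ∈ M) (S : Finset Q), v ∈ S.biUnion cls ↔ pr v hv ∈ S := by
    intro v hv S
    simp only [Finset.mem_biUnion, cls, Finset.mem_filter]
    refine ⟨fun ⟨q, hq, _, hvq⟩ => ?_, fun h => ⟨_, h, hv, rfl⟩⟩
    rwa [show pr v hv = q from Subtype.ext hvq]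
  have hlift_inj : Function.Injective lift := by
    intro S S' h
    ext q
    have e : ∀ T : Finset Q, rep q ∈ lift T ↔ q ∈ T := fun T => by
      have hqx : rep q ≠ x := fun e => hxM (e ▸ hrepM q)
      simp only [lift, Finset.mem_insert, hqx, false_or, hmem _ (hrepM q)]
      rw [show pr (rep q) (hrepM q) = q from Subtype.ext (hrep' q)]
    rw [← e S, ← e S', h]
  have hliftcard : ∀ S : Finset Q, (lift S).card = 4 * S.card + 1 := by
    intro S
    simp only [lift]
    rw [Finset.card_insert_of_notMem, Finset.card_biUnion]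
    · rw [Finset.sum_congr rfl fun q _ => hcls4 q, Finset.sum_const, smul_eq_mul, mul_comm]
    · intro q _ q' _ hne
      refine Finset.disjoint_left.2 fun v h1 h2 => hne (Subtype.ext ?_)
      simp only [cls, Finset.mem_filter] at h1 h2
      rw [← h1.2, ← h2.2]
    · simp only [Finset.mem_biUnion]
      exact fun ⟨q, _, h⟩ => hxM (hclsM q h)
  have hset : ((cocliques G).filter fun C => x ∈ C ∧ y ∈ C) = {lift A, lift B} := by
    ext C
    simp only [Finset.mem_filter, mem_cocliques, Finset.mem_insert, Finset.mem_singleton]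
    constructor
    · rintro ⟨⟨h21, hC⟩, hxC, hyC⟩
      have hCM : C.erase x ⊆ M := fun v hv => mem_away.2
        ⟨(Finset.ne_of_mem_erase hv).symm, hC x hxC v (Finset.mem_of_mem_erase hv)⟩
      have h20 : (C.erase x).card = 20 := by rw [Finset.card_erase_of_mem hxC, h21]
      have htot : ∀ v ∈ M, ∑ c ∈ C.erase x, res G x v c = if v ∈ C then 1056 else -528 := by
        intro v hv
        have hi : ∑ c ∈ C.erase x, ((trace G x v ∩ trace G x c).card : ℤ) = 20 := by
          have e : ∀ c, ((trace G x v ∩ trace G x c).card : ℤ)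
              = ∑ n ∈ trace G x v, if G.Adj c n then 1 else 0 := fun c => by
            rw [Finset.sum_boole]
            congr 2
            ext n
            simp [trace]
            tauto
          rw [Finset.sum_congr rfl fun c _ => e c, Finset.sum_comm,
            Finset.sum_congr rfl (g := fun _ => (5 : ℤ)) fun n hn => ?_, Finset.sum_const,
            trace_card hG hv]
          · rfl
          · have hxn : G.Adj x n :=
              (SimpleGraph.mem_neighborFinset _ _ _).1 (Finset.mem_filter.1 hn).1
            have h6 := coclique_six hG h21 hC (z := n) fun h => hC x hxC n h hxn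
            rw [Finset.sum_boole, Finset.filter_erase,
              Finset.card_erase_of_mem (Finset.mem_filter.2 ⟨hxC, hxn⟩), h6]
            rfl
        have hm : ∑ c ∈ C.erase x, gramS G v c = if v ∈ C then 62 else -26 := by
          simp only [gramS_comm v]
          rw [sum_gramS, h20]
          have hvx : v ≠ x := fun e => hxM (e ▸ hv)
          by_cases hvC : v ∈ C
          · rw [if_pos (Finset.mem_erase.2 ⟨hvx, hvC⟩), if_pos hvC, Finset.filter_false_of_mem
              fun c hc => hC c (Finset.mem_of_mem_erase hc) v hvC]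
            norm_num
          · rw [if_neg fun h => hvC (Finset.mem_of_mem_erase h), if_neg hvC, Finset.filter_erase,
              Finset.erase_eq_of_notMem, coclique_six hG h21 hC hvC]
            · norm_num
            · simp [(mem_away.1 hv).2]
        rw [Finset.sum_congr rfl fun c hc => res_eq hG hv (hCM hc), Finset.sum_sub_distrib,
          Finset.sum_add_distrib, ← Finset.mul_sum, ← Finset.mul_sum, hi, hm, Finset.sum_const, h20]
        split_ifs <;> norm_num
      set S : Finset Q := Finset.univ.filter fun q => rep q ∈ C with hSdef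
      have hClift : C = lift S := by
        ext v
        by_cases hvx : v = x
        · simp [lift, hvx, hxC]
        by_cases hv : v ∈ M
        · simp only [lift, Finset.mem_insert, hvx, false_or, hmem v hv, hSdef,
            Finset.mem_filter, Finset.mem_univ, true_and]
          have h1 := htot v hv
          have h2 := htot _ (hrepM (pr v hv))
          rw [hpr v hv] at h2
          rw [h1] at h2
          by_cases hvC : v ∈ C <;> by_cases hrC : rep (pr v hv) ∈ C <;>
            simp [hvC, hrC] at h2 ⊢
        · refine iff_of_false (fun h => hv (hCM (Finset.mem_erase.2 ⟨hvx, h⟩))) fun h => ?_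
          simp only [lift, Finset.mem_insert, hvx, false_or, Finset.mem_biUnion] at h
          obtain ⟨q, -, hq⟩ := h
          exact hv (hclsM q hq)
      have hS5 : S.card = 5 := by
        have := hliftcard S
        rw [← hClift, h21] at this
        omega
      have hyS : pr y hy ∈ S := by
        rw [← hmem y hy]
        have hyx : y ≠ x := fun e => hxM (e ▸ hy)
        have : y ∈ lift S := hClift ▸ hyC
        simpa [lift, hyx] using this
      have hSi : ∀ q ∈ S, ∀ q' ∈ S, ¬ Hq.Adj q q' := by
        intro q hq q' hq' (h : res G x (rep q) (rep q') = -66)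
        -- some member of the second class is adjacent to the first representative
        obtain ⟨v, hv, hadj⟩ : ∃ v ∈ cls q', G.Adj (rep q) v := by
          by_contra hc
          push Not at hc
          have h2 : ∀ v ∈ cls q', (trace G x (rep q) ∩ trace G x v).card = 2 := by
            intro v hv
            have hvM := hclsM q' hv
            have hval : res G x (rep q) v = -66 := by
              rw [hresQ q v hvM, show pr v hvM = q' from Subtype.ext (Finset.mem_filter.1 hv).2, h]
            rcases res_cases hG (hrepM q) hvM with ⟨h', -⟩ | ⟨h', -⟩ | ⟨-, ⟨ha, -⟩ | h'⟩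
            · omega
            · omega
            · exact absurd ha (hc v hv)
            · exact h'
          have hd : ∀ v ∈ cls q', ∀ v' ∈ cls q', v ≠ v' →
              Disjoint (trace G x (rep q) ∩ trace G x v) (trace G x (rep q) ∩ trace G x v') := by
            intro v hv v' hv' hne
            have hvM := hclsM q' hv
            have hv'M := hclsM q' hv'
            have h132 : res G x v v' = 132 := (res_eq_row hG hvM hv'M).2
              ((Finset.mem_filter.1 hv).2.trans (Finset.mem_filter.1 hv').2.symm)
            rcases res_cases hG hvM hv'M with ⟨-, e | ⟨-, e⟩⟩ | ⟨e, -⟩ | ⟨e, -⟩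
            · exact absurd e hne
            · exact (Finset.disjoint_iff_inter_eq_empty.2 (Finset.card_eq_zero.1 e)).mono
                Finset.inter_subset_right Finset.inter_subset_right
            · omega
            · omega
          have hle : ((cls q').biUnion fun v => trace G x (rep q) ∩ trace G x v).card ≤ 4 :=
            (Finset.card_le_card (Finset.biUnion_subset.2 fun v _ => Finset.inter_subset_left)).trans
              (trace_card hG (hrepM q)).le
          rw [Finset.card_biUnion hd, Finset.sum_congr rfl h2, Finset.sum_const, hcls4] at hle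
          simp at hle
        refine hC _ (Finset.mem_filter.1 hq).2 v ?_ hadj
        rw [hClift]
        exact Finset.mem_insert_of_mem (Finset.mem_biUnion.2 ⟨q', hq', hv⟩)
      rcases (hS S).1 ⟨hS5, hyS, hSi⟩ with h | h
      · exact Or.inl (hClift.trans (by rw [h]))
      · exact Or.inr (hClift.trans (by rw [h]))
    · intro h
      obtain ⟨S, rfl, hS'⟩ : ∃ S, C = lift S ∧ (S = A ∨ S = B) := by
        rcases h with h | h
        exacts [⟨A, h, Or.inl rfl⟩, ⟨B, h, Or.inr rfl⟩]
      obtain ⟨h5, hyS, hSi⟩ := (hS S).2 hS'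
      refine ⟨⟨by rw [hliftcard, h5], ?_⟩, Finset.mem_insert_self _ _,
        Finset.mem_insert_of_mem ((hmem y hy S).2 hyS)⟩
      intro u hu v hv hadj
      simp only [lift, Finset.mem_insert] at hu hv
      rcases hu with rfl | hu <;> rcases hv with rfl | hv
      · exact hadj.ne rfl
      · obtain ⟨q, -, hq⟩ := Finset.mem_biUnion.1 hv
        exact (mem_away.1 (hclsM q hq)).2 hadj
      · obtain ⟨q, -, hq⟩ := Finset.mem_biUnion.1 hu
        exact (mem_away.1 (hclsM q hq)).2 hadj.symm
      · obtain ⟨q, hq, hu⟩ := Finset.mem_biUnion.1 hu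
        obtain ⟨q', hq', hv⟩ := Finset.mem_biUnion.1 hv
        have huM := hclsM q hu
        have hvM := hclsM q' hv
        have h66 : res G x u v = -66 := by
          rcases res_cases hG huM hvM with ⟨-, e | ⟨e, -⟩⟩ | ⟨-, e⟩ | ⟨e, -⟩
          · exact absurd e hadj.ne
          · exact absurd hadj e
          · exact absurd hadj e
          · exact e
        refine hSi q hq q' hq' ?_
        show res G x (rep q) (rep q') = -66
        rw [← h66, show res G x (rep q) = res G x u from
          (hrep' q).trans (Finset.mem_filter.1 hu).2.symm, res_comm hG huM (hrepM q'),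
          show res G x (rep q') = res G x v from
          (hrep' q').trans (Finset.mem_filter.1 hv).2.symm, res_comm hG hvM huM]
  rw [hset, Finset.card_pair fun h => hAB (hlift_inj h)]

theorem cocliques_through (hG : G.IsSRGWith 77 16 0 4) (x : V) :
    ((cocliques G).filter fun C => x ∈ C).card = 6 := by
  classical
  set P := (cocliques G).filter fun C => x ∈ C with hP
  have h : ∑ C ∈ P, ((away G x).filter fun y => y ∈ C).card = 120 := by
    simp only [Finset.card_filter]
    rw [Finset.sum_comm]
    have e : ∀ y ∈ away G x, (∑ C ∈ P, if y ∈ C then 1 else 0) = 2 := fun y hy => by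
      rw [← Finset.card_filter, hP, Finset.filter_filter]
      exact two_cocliques hG hy
    rw [Finset.sum_congr rfl e, Finset.sum_const, away, card_away hG x]
    rfl
  have h20 : ∀ C ∈ P, ((away G x).filter fun y => y ∈ C).card = 20 := by
    intro C hC
    obtain ⟨hC, hxC⟩ := Finset.mem_filter.1 hC
    obtain ⟨h21, hCi⟩ := mem_cocliques.1 hC
    have e : ((away G x).filter fun y => y ∈ C) = C.erase x := by
      ext y
      simp only [Finset.mem_filter, Finset.mem_erase, mem_away]
      exact ⟨fun h => ⟨Ne.symm h.1.1, h.2⟩, fun h => ⟨⟨Ne.symm h.1, hCi x hxC y h.2⟩, h.2⟩⟩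
    rw [e, Finset.card_erase_of_mem hxC, h21]
  rw [Finset.sum_congr rfl h20, Finset.sum_const, smul_eq_mul] at h
  omega

theorem cocliques_card (hG : G.IsSRGWith 77 16 0 4) : (cocliques G).card = 22 := by
  classical
  have h : ∑ C ∈ cocliques G, (Finset.univ.filter fun x => x ∈ C).card = 462 := by
    simp only [Finset.card_filter]
    rw [Finset.sum_comm]
    simp only [← Finset.card_filter, cocliques_through hG, Finset.sum_const, Finset.card_univ,
      hG.card]
    rfl
  rw [Finset.sum_congr rfl fun C hC => by
    rw [Finset.filter_mem_eq_inter, Finset.univ_inter, (mem_cocliques.1 hC).1],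
    Finset.sum_const, smul_eq_mul] at h
  omega

/-- a graph with these parameters is the block graph of a Steiner system -/
theorem exists_steiner (hG : G.IsSRGWith 77 16 0 4) :
    ∃ B : Set (Finset ↥(cocliques G)),
      IsSteinerSystem 3 6 B ∧ Nonempty (G ≃g blockGraph B) := by
  classical
  let t : V → Finset ↥(cocliques G) := fun v => Finset.univ.filter fun C => v ∈ C.1
  have hcard : ∀ (P : Finset V → Prop) [DecidablePred P],
      (Finset.univ.filter fun C : ↥(cocliques G) => P C.1).card
        = ((cocliques G).filter P).card := fun P _ => by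
    rw [← Finset.card_map (Function.Embedding.subtype fun C => C ∈ cocliques G)]
    congr 1
    ext C
    simp [and_comm]
  have h6 : ∀ v, (t v).card = 6 := fun v => by
    rw [show t v = Finset.univ.filter fun C : ↥(cocliques G) => v ∈ C.1 from rfl,
      hcard fun C => v ∈ C]
    exact cocliques_through hG v
  have hmeet : ∀ v w, v ≠ w → (G.Adj v w ∧ (t v ∩ t w).card = 0) ∨
      (¬ G.Adj v w ∧ (t v ∩ t w).card = 2) := by
    intro v w hne
    have e : t v ∩ t w = Finset.univ.filter fun C : ↥(cocliques G) => v ∈ C.1 ∧ w ∈ C.1 := by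
      ext C; simp [t]
    rw [e, hcard fun C => v ∈ C ∧ w ∈ C]
    by_cases ha : G.Adj v w
    · refine Or.inl ⟨ha, ?_⟩
      rw [Finset.card_eq_zero, Finset.filter_eq_empty_iff]
      exact fun C hC h => (mem_cocliques.1 hC).2 v h.1 w h.2 ha
    · exact Or.inr ⟨ha, two_cocliques hG (mem_away.2 ⟨hne, ha⟩)⟩
  have hinj : Function.Injective t := by
    intro v w h
    by_contra hne
    have := hmeet v w hne
    rw [h, Finset.inter_self, h6] at this
    omega
  have huniq : ∀ v w : V, ∀ s : Finset ↥(cocliques G), s.card = 3 → s ⊆ t v → s ⊆ t w →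
      v = w := by
    intro v w s hs h1 h2
    by_contra hne
    have := Finset.card_le_card (Finset.subset_inter h1 h2)
    rcases hmeet v w hne with ⟨-, h⟩ | ⟨-, h⟩ <;> omega
  have hcov : (Finset.univ : Finset V).biUnion (fun v => (t v).powersetCard 3)
      = Finset.univ.powersetCard 3 := by
    refine Finset.eq_of_subset_of_card_le (fun s hs => ?_) ?_
    · obtain ⟨v, -, hv⟩ := Finset.mem_biUnion.1 hs
      exact Finset.mem_powersetCard.2 ⟨Finset.subset_univ _, (Finset.mem_powersetCard.1 hv).2⟩
    · rw [Finset.card_biUnion]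
      · simp only [Finset.card_powersetCard, Finset.card_univ, h6, Finset.sum_const, hG.card,
          Fintype.card_coe, cocliques_card hG]
        decide
      · intro v _ w _ hne
        refine Finset.disjoint_left.2 fun s hs hs' => hne ?_
        rw [Finset.mem_powersetCard] at hs hs'
        exact huniq v w s hs.2 hs.1 hs'.1
  refine ⟨Set.range t, ⟨?_, fun s hs => ?_⟩, ⟨⟨Equiv.ofInjective t hinj, fun {v w} => ?_⟩⟩⟩
  · rintro _ ⟨v, rfl⟩
    exact h6 v
  · have : s ∈ (Finset.univ : Finset V).biUnion (fun v => (t v).powersetCard 3) := by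
      rw [hcov]
      exact Finset.mem_powersetCard.2 ⟨Finset.subset_univ _, hs⟩
    obtain ⟨v, -, hv⟩ := Finset.mem_biUnion.1 this
    refine ⟨t v, ⟨⟨v, rfl⟩, (Finset.mem_powersetCard.1 hv).1⟩, ?_⟩
    rintro _ ⟨⟨w, rfl⟩, hw⟩
    rw [huniq w v s hs hw (Finset.mem_powersetCard.1 hv).1]
  · rw [Spor.blockGraph_adj (fun b (hb : b ∈ Set.range t) => by obtain ⟨u, rfl⟩ := hb; exact h6 u)]
    show (t v ∩ t w).card = 0 ↔ G.Adj v w
    by_cases hne : v = w
    · subst hne; simp [h6]
    rcases hmeet v w hne with ⟨ha, h⟩ | ⟨ha, h⟩ <;> simp [ha, h]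

theorem blockGraph_iso {α β : Type*} [DecidableEq β] {B : Set (Finset α)}
    {B' : Set (Finset β)} (h : SetSystemIso B B') :
    Nonempty (blockGraph B ≃g blockGraph B') := by
  classical
  obtain ⟨e, he⟩ := h
  subst he
  let F : ↥B ≃ ↥((fun b => b.image e) '' B) :=
    Equiv.Set.image (fun b => b.image e) B (Finset.image_injective e.injective)
  refine ⟨⟨F, fun {u v} => ?_⟩⟩
  have hF : ∀ b : ↥B, (F b : Finset β) = (b : Finset α).image e := fun _ => rfl
  simp only [blockGraph, SimpleGraph.fromRel_adj, hF, Finset.disjoint_image e.injective,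
    F.injective.ne_iff]

theorem srg77_unique {V W : Type*} [Fintype V] [Fintype W] {G : SimpleGraph V}
    {H : SimpleGraph W} [DecidableRel G.Adj] [DecidableRel H.Adj]
    (hG : G.IsSRGWith 77 16 0 4) (hH : H.IsSRGWith 77 16 0 4) : Nonempty (G ≃g H) := by
  classical
  obtain ⟨B, hB, ⟨e⟩⟩ := exists_steiner hG
  obtain ⟨B', hB', ⟨e'⟩⟩ := exists_steiner hH
  obtain ⟨f⟩ := blockGraph_iso (SteinerUnique.Labelled.iso (by norm_num)
    (SteinerUnique.labelled22 (by rw [Fintype.card_coe, cocliques_card hG]) hB)
    (SteinerUnique.labelled22 (by rw [Fintype.card_coe, cocliques_card hH]) hB'))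
  exact ⟨(e.trans f).trans e'.symm⟩

end CfsgLib.M22Unique
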