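import Cfsg.Agent.Lib.KnownA.MathieuOut.Main

/-!
Exact centralizer orders of elements of the stabilisers in M24 from the depth-first search.
-/

set_option autoImplicit false

namespace CfsgLib.Spor

open Cfsg CfsgLib.MathieuOut
open scoped Pointwise

/-- the search lists only stabiliser elements commuting with `a`, in normal form -/
def centListOK (masks prev : List ℕ) (a : ℕ) (plan : List (ℕ × ℕ × List ℕ)) : Bool :=
  (dfs masks prev a a plan []).all fun t =>
    inStabP masks prev t && eqP (compP t a) (compP a t) && Nat.beq (normP t) t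

theorem natCard_centralizer_cert {H : Subgroup (Equiv.Perm GolayPt)} {masks prev : List ℕ}
    (hH : stabG masks prev = H) (hprev : (prev.all fun b => Nat.blt b 24) = true) {a : ℕ}
    {plan : List (ℕ × ℕ × List ℕ)} (hplan : planOK a plan [] = true)
    (hok : centListOK masks prev a plan = true) (hnd : (dfs masks prev a a plan []).Nodup)
    {n : ℕ} (hlen : (dfs masks prev a a plan []).length = n) (A : H)
    (hA : Rep (A : Equiv.Perm GolayPt) a) :
    Nat.card (Subgroup.centralizer ({A} : Set H)) = n := by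
  subst hH
  have hprev' : ∀ b ∈ prev, b < 24 :=
    fun b hb => by simpa [Nat.blt_eq] using List.all_eq_true.1 hprev b hb
  simp only [centListOK, List.all_eq_true, Bool.and_eq_true, Nat.beq_eq] at hok
  have hmem : ∀ g : Subgroup.centralizer ({A} : Set (stabG masks prev)),
      canon ((g : stabG masks prev) : Equiv.Perm GolayPt) ∈
        (dfs masks prev a a plan []).toFinset := fun g => List.mem_toFinset.2
    (canon_mem_dfs hplan (g : stabG masks prev).2 hprev' hA hA
      (congrArg Subtype.val (Subgroup.mem_centralizer_singleton_iff.1 g.2)))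
  rw [Nat.card_congr (Equiv.ofBijective
    (fun g => (⟨_, hmem g⟩ : (dfs masks prev a a plan []).toFinset)) ⟨?_, ?_⟩),
    Nat.card_eq_fintype_card, Fintype.card_coe, List.toFinset_card_of_nodup hnd, hlen]
  · intro g h e
    exact Subtype.ext (Subtype.ext (canon_injective (congrArg Subtype.val e)))
  · rintro ⟨t, ht⟩
    obtain ⟨⟨h1, h2⟩, h3⟩ := hok t (List.mem_toFinset.1 ht)
    obtain ⟨σ, hσ, hσt⟩ := exists_stab_rep hprev h1
    refine ⟨⟨⟨σ, hσ⟩, Subgroup.mem_centralizer_singleton_iff.2 (Subtype.ext ?_)⟩, Subtype.ext ?_⟩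
    · exact (eqP_iff (hσt.mul hA) (hA.mul hσt)).1 h2
    · show canon σ = t
      rw [canon_eq_normP hσt, h3]

theorem not_isConj_of_dfs_eq_nil {H : Subgroup (Equiv.Perm GolayPt)} {masks prev : List ℕ}
    (hH : stabG masks prev = H) (hprev : (prev.all fun b => Nat.blt b 24) = true) {u v : ℕ}
    {plan : List (ℕ × ℕ × List ℕ)} (hplan : planOK u plan [] = true)
    (hnil : (dfs masks prev u v plan []).isEmpty = true) (U V : H)
    (hU : Rep (U : Equiv.Perm GolayPt) u) (hV : Rep (V : Equiv.Perm GolayPt) v) : ¬ IsConj U V := by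
  subst hH
  intro h
  obtain ⟨c, hc⟩ := isConj_iff.1 h
  have hcu : c * U = V * c := by rw [← hc]; group
  have hm := canon_mem_dfs hplan c.2
    (fun b hb => by simpa [Nat.blt_eq] using List.all_eq_true.1 hprev b hb) hU hV
    (congrArg Subtype.val hcu)
  rw [List.isEmpty_iff.1 hnil] at hm
  exact List.not_mem_nil hm

/-- the packed element has prime order `q`, is in the stabiliser, and `b` raises it to the power `s` -/
def primeEltOK (masks prev : List ℕ) (q a b s : ℕ) : Bool :=
  inStabP masks prev a && inStabP masks prev b && eqP (CfsgLib.MathieuOut.powP a q) CfsgLib.MathieuOut.idP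
    && !eqP a CfsgLib.MathieuOut.idP && eqP (compP b a) (compP (CfsgLib.MathieuOut.powP a s) b)

theorem exists_prime_elt {H : Subgroup (Equiv.Perm GolayPt)} {masks prev : List ℕ}
    (hH : stabG masks prev = H) (hprev : (prev.all fun b => Nat.blt b 24) = true) {q a b s : ℕ}
    [Fact q.Prime] (h : primeEltOK masks prev q a b s = true) :
    ∃ A : H, Rep (A : Equiv.Perm GolayPt) a ∧ orderOf A = q ∧ ∀ i, IsConj A (A ^ s ^ i) := by
  subst hH
  simp only [primeEltOK, Bool.and_eq_true, Bool.not_eq_true'] at h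
  obtain ⟨⟨⟨⟨ha, hb⟩, hq⟩, h1⟩, hab⟩ := h
  obtain ⟨σ, hσ, hσa⟩ := exists_stab_rep hprev ha
  obtain ⟨τ, hτ, hτb⟩ := exists_stab_rep hprev hb
  refine ⟨⟨σ, hσ⟩, hσa, orderOf_eq_prime (Subtype.ext ?_) (fun e => ?_), fun i => ?_⟩
  · simpa using (eqP_iff (rep_pow hσa q) rep_idP).1 hq
  · rw [(eqP_iff hσa rep_idP).2 (congrArg Subtype.val e)] at h1
    exact absurd h1 (by decide)
  · refine isConj_iff.2 ⟨(⟨τ, hτ⟩ : stabG masks prev) ^ i, conj_pow_eq ?_ i⟩
    refine mul_inv_eq_iff_eq_mul.2 (Subtype.ext ?_)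
    simpa using (eqP_iff (hτb.mul hσa) ((rep_pow hσa s).mul hτb)).1 hab

theorem isConj_pow_or_inv {G : Type*} [Group G] {x : G} {q s : ℕ} (hx : orderOf x = q)
    (hconj : ∀ i, IsConj x (x ^ s ^ i))
    (hs : ∀ j < q, j ≠ 0 → ∃ i < q, j = s ^ i % q ∨ j + s ^ i % q = q) :
    ∀ j < q, j ≠ 0 → IsConj (x ^ j) x ∨ IsConj (x ^ j) x⁻¹ := by
  intro j hj hj0
  obtain ⟨i, -, hi | hi⟩ := hs j hj hj0
  · left
    rw [hi, ← hx, pow_mod_orderOf]
    exact (hconj i).symm
  · right
    have h1 : x ^ j = (x ^ s ^ i)⁻¹ := by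
      refine eq_inv_of_mul_eq_one_left ?_
      rw [← pow_mod_orderOf x (s ^ i), hx, ← pow_add, hi, ← hx, pow_orderOf_eq_one]
    rw [h1]
    obtain ⟨c, hc⟩ := isConj_iff.1 (hconj i).symm
    refine isConj_iff.2 ⟨c, ?_⟩
    calc c * (x ^ s ^ i)⁻¹ * c⁻¹ = (c * x ^ s ^ i * c⁻¹)⁻¹ := by group
      _ = x⁻¹ := by rw [hc]

theorem isConj_pow_of_rational {G : Type*} [Group G] {x : G} {q s : ℕ} (hx : orderOf x = q)
    (hconj : ∀ i, IsConj x (x ^ s ^ i)) (hs : ∀ j < q, j ≠ 0 → ∃ i < q, j = s ^ i % q) :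
    ∀ j < q, j ≠ 0 → IsConj (x ^ j) x := by
  intro j hj hj0
  obtain ⟨i, -, hi⟩ := hs j hj hj0
  rw [hi, ← hx, pow_mod_orderOf]
  exact (hconj i).symm

end CfsgLib.Spor
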