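import Cfsg.Agent.Lib.KnownA.MathieuOut.Main

/-!
Packed elements of prime order in M22 and M24 with search plans for their centralizers, and the
six tetrads attached to a fixed-point-free involution.
-/

set_option autoImplicit false

namespace CfsgLib.Spor.BlockData

/-- an element of order 11 -/
def m22e11 : ℕ := 976888844675873661196362720280329824
/-- an element acting on it -/
def m22e11Act : ℕ := 975042231816737075638673652458894368
/-- the search plan for its centralizer -/
def m22e11Plan : List (ℕ × ℕ × List ℕ) :=
  [(23, 1, []), (0, 1, []), (1, 11, [4958407]), (3, 11, [13062145, 4845570, 13938692, 7221256, 10170384, 11952160, 15515712, 2019456, 4038912, 8077824, 11654144])]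

/-- an element of order 7 -/
def m22e7 : ℕ := 970077907645573631852776348739845632
/-- an element acting on it -/
def m22e7Act : ℕ := 970417725887707074165421917205640736
/-- the search plan for its centralizer -/
def m22e7Plan : List (ℕ × ℕ × List ℕ) :=
  [(23, 1, []), (0, 1, []), (9, 1, []), (5, 7, [14949408]), (2, 7, [13938692, 3444840, 15762208, 5514536]), (1, 7, [13062145, 4845570, 7221256, 10170384, 11952160, 2019456, 4038912])]

/-- an element of order 5 -/
def m22e5 : ℕ := 980377469819206640087477068640663072
/-- an element acting on it -/
def m22e5Act : ℕ := 982000363638997278609537804673617984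
/-- the search plan for its centralizer -/
def m22e5Plan : List (ℕ × ℕ × List ℕ) :=
  [(23, 1, []), (0, 1, []), (12, 1, []), (3, 1, []), (1, 5, [8524371]), (5, 5, [14176296]), (2, 5, [5902343, 13811730, 8581192, 9465987, 4900873]), (8, 5, [13062145, 4845570, 7221256, 4038912, 11654144])]

/-- an element of order 23 -/
def m24e23 : ℕ := 292332493552267966709009038870729059
/-- an element acting on it -/
def m24e23Act : ℕ := 267457205986461686682259374626708576
/-- the search plan for its centralizer -/
def m24e23Plan : List (ℕ × ℕ × List ℕ) :=
  [(8, 1, []), (0, 23, [13062145, 4845570, 13938692, 7221256, 10170384, 11952160, 15515712, 2019456, 4038912, 8077824, 11654144, 14919680])]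

/-- an element of order 11 -/
def m24e11 : ℕ := 934167680464747095563831269169707216
/-- an element acting on it -/
def m24e11Act : ℕ := 292807270122735214927787369229779507
/-- the search plan for its centralizer -/
def m24e11Plan : List (ℕ × ℕ × List ℕ) :=
  [(21, 1, []), (18, 1, []), (2, 11, [15387412]), (0, 11, [13062145, 4845570, 13938692, 7221256, 10170384, 11952160, 15515712, 2019456, 4038912, 8077824, 11654144])]

/-- an element of order 7 -/
def m24e7 : ℕ := 438796290359116789647255430164385519
/-- an element acting on it -/
def m24e7Act : ℕ := 896088866204827467963036224564234336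
/-- the search plan for its centralizer -/
def m24e7Plan : List (ℕ × ℕ × List ℕ) :=
  [(0, 7, []), (13, 1, [582081]), (4, 7, [6053905, 4485344, 5296705]), (17, 1, [5939296]), (11, 1, []), (1, 7, [13062145, 4845570, 13938692, 7221256, 11952160, 11654144, 14919680])]

/-- an element of order 5 -/
def m24e5 : ℕ := 501934081817767970698677277931654182
/-- an element acting on it -/
def m24e5Act : ℕ := 726476994048360297056166958290010754
/-- the search plan for its centralizer -/
def m24e5Plan : List (ℕ × ℕ × List ℕ) :=
  [(20, 1, []), (18, 1, []), (1, 1, []), (21, 1, []), (2, 5, [8126628]), (0, 5, [2392899]), (4, 5, [6053905, 3719203, 7438406, 4038912, 7145475]), (3, 5, [13062145, 4845570, 13938692, 7221256, 11654144])]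

/-- the tetrads of the involution syl2Rep1 -/
def sixTetrads : List ℕ := [4241, 1038, 1572960, 279296, 10553344, 4366336]
/-- the tetrad of a point -/
def tetIndex : List ℕ := [0, 1, 1, 1, 0, 2, 2, 0, 3, 3, 1, 4, 0, 5, 3, 5, 4, 5, 3, 2, 2, 4, 5, 4]
/-- the invariant octads -/
def invOctads : List ℕ := [5939296, 4370577, 1577201, 4645632, 1852256, 283537, 4367374, 1573998, 5279, 280334, 14919680, 12126304, 10557585, 10832640, 10554382]
/-- search plan -/
def tetPlan : List (ℕ × ℕ × List ℕ) :=
  [(1, 2, []), (9, 2, []), (8, 2, []), (0, 2, []), (4, 2, [283537]), (13, 2, [307594]), (17, 2, [4370577]), (2, 2, [421910, 4367374]), (5, 2, [843820]), (11, 2, [9347075, 4900873]), (16, 2, [13062145, 7221256]), (6, 2, [13938692, 15515712])]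
/-- elements separating the tetrads -/
def tetWit : List ℕ := [892716570080838209712931004353710112, 975731719927085230933615534804370503, 901803094689507488420357355583374407, 973134343538481391752226029608994852, 693642739285919222714766359278191680, 681961304265194898108053380995023940]

end CfsgLib.Spor.BlockData
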