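import Cfsg.Agent.Lib.CharApps.PrimeClassBound
import Cfsg.Agent.Lib.Spor.CentralizerCert
import Cfsg.Agent.Lib.Spor.MathieuBlockData

/-!
M22 has no character of degree divisible by 128 and M24 none of degree divisible by 1024.
-/

set_option autoImplicit false
set_option linter.style.haveILetI false

namespace CfsgLib.Spor

open Cfsg CfsgLib.Chars CfsgLib.CharApps CfsgLib.MathieuOut CfsgLib.Spor.BlockData
open scoped ComplexConjugate

/-- residues force a lower bound on a norm -/
def normBoundOK (q d c : ℕ) : Bool :=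
  (List.range c).all fun n => (List.range (2 * c + 3)).all fun s =>
    !(decide (((n : ℤ) - (d : ℤ) ^ 2) % q = 0) &&
      decide (((s : ℤ) - (c + 1) - 2 * d) % q = 0) && decide (((s : ℤ) - (c + 1)) ^ 2 ≤ 4 * n))

/-- residues force a lower bound on a square -/
def sqBoundOK (q d m c : ℕ) : Bool :=
  (List.range (2 * c + 1)).all fun s =>
    !(decide (((s : ℤ) - c - d) % q = 0) && decide (((s : ℤ) - c) % m = 0) &&
      decide (((s : ℤ) - c) ^ 2 < c))

theorem le_of_normBoundOK {q d c : ℕ} (h : normBoundOK q d c = true) {S n : ℤ}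
    (hS : (q : ℤ) ∣ S - 2 * d) (hn : (q : ℤ) ∣ n - (d : ℤ) ^ 2) (hle : S ^ 2 ≤ 4 * n) :
    (c : ℤ) ≤ n := by
  by_contra hlt
  push Not at hlt
  have hn0 : 0 ≤ n := by nlinarith [sq_nonneg S]
  have hS1 : S ≤ c + 1 := by nlinarith [sq_nonneg ((c : ℤ) - 1)]
  have hS2 : -(c + 1 : ℤ) ≤ S := by nlinarith [sq_nonneg ((c : ℤ) - 1)]
  simp only [normBoundOK, List.all_eq_true, List.mem_range, Bool.not_eq_true',
    Bool.and_eq_false_iff, decide_eq_false_iff_not] at h
  have := h n.toNat (by omega) (S + (c + 1)).toNat (by omega)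
  rw [Int.toNat_of_nonneg hn0, Int.toNat_of_nonneg (by omega), add_sub_cancel_right] at this
  rcases this with (h1 | h1) | h1
  · exact h1 (Int.emod_eq_zero_of_dvd hn)
  · exact h1 (Int.emod_eq_zero_of_dvd hS)
  · exact h1 hle

theorem le_of_sqBoundOK {q d m c : ℕ} (h : sqBoundOK q d m c = true) {v : ℤ}
    (hv : (q : ℤ) ∣ v - d) (hm : (m : ℤ) ∣ v) : (c : ℤ) ≤ v ^ 2 := by
  by_contra hlt
  push Not at hlt
  have h1 : v ≤ c := by nlinarith
  have h2 : -(c : ℤ) ≤ v := by nlinarith
  simp only [sqBoundOK, List.all_eq_true, List.mem_range, Bool.not_eq_true',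
    Bool.and_eq_false_iff, decide_eq_false_iff_not] at h
  have := h (v + c).toNat (by omega)
  rw [Int.toNat_of_nonneg (by omega), add_sub_cancel_right] at this
  rcases this with (h3 | h3) | h3
  · exact h3 (Int.emod_eq_zero_of_dvd hv)
  · exact h3 (Int.emod_eq_zero_of_dvd hm)
  · exact h3 hlt

theorem index_centralizer_eq_of_card {G : Type*} [Group G] [Finite G] {x : G} {c i : ℕ}
    (h : Nat.card (Subgroup.centralizer ({x} : Set G)) = c) (hG : Nat.card G = c * i) :
    (Subgroup.centralizer ({x} : Set G)).index = i := by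
  have h1 := (Subgroup.centralizer ({x} : Set G)).card_mul_index
  rw [h, hG] at h1
  exact Nat.eq_of_mul_eq_mul_left (h ▸ Nat.card_pos) h1

theorem centralizer_inv_eq {G : Type*} [Group G] (x : G) :
    Subgroup.centralizer ({x⁻¹} : Set G) = Subgroup.centralizer ({x} : Set G) := by
  ext y
  simp only [Subgroup.mem_centralizer_singleton_iff]
  exact Commute.inv_right_iff (a := y) (b := x)

theorem orderOf_ne_of_isConj {G : Type*} [Group G] {x y : G} (h : IsConj x y) :
    orderOf x = orderOf y := by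
  obtain ⟨c, rfl⟩ := isConj_iff.1 h
  rw [← MulAut.conj_apply]
  exact (orderOf_injective (MulAut.conj c).toMonoidHom (MulAut.conj c).injective x).symm

set_option maxRecDepth 100000 in
theorem m22_data :
    ∃ A B C : Spor.M22, orderOf A = 11 ∧ orderOf B = 7 ∧ orderOf C = 5 ∧
      Nat.card (Subgroup.centralizer ({A} : Set Spor.M22)) = 11 ∧
      Nat.card (Subgroup.centralizer ({B} : Set Spor.M22)) = 7 ∧
      Nat.card (Subgroup.centralizer ({C} : Set Spor.M22)) = 5 ∧
      ¬ IsConj A A⁻¹ ∧ ¬ IsConj B B⁻¹ ∧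
      (∀ j < 11, j ≠ 0 → IsConj (A ^ j) A ∨ IsConj (A ^ j) A⁻¹) ∧
      (∀ j < 7, j ≠ 0 → IsConj (B ^ j) B ∨ IsConj (B ^ j) B⁻¹) ∧
      (∀ j < 5, j ≠ 0 → IsConj (C ^ j) C) := by
  have hprev : (([23, 0] : List ℕ).all fun b => Nat.blt b 24) = true := by decide
  haveI : Fact (Nat.Prime 11) := ⟨by norm_num⟩
  haveI : Fact (Nat.Prime 7) := ⟨by norm_num⟩
  haveI : Fact (Nat.Prime 5) := ⟨by norm_num⟩
  obtain ⟨A, hAr, hA, hAc⟩ := exists_prime_elt stabG_M22 hprev (q := 11) (a := m22e11)
    (b := m22e11Act) (s := 3) (by decide +kernel)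
  obtain ⟨B, hBr, hB, hBc⟩ := exists_prime_elt stabG_M22 hprev (q := 7) (a := m22e7)
    (b := m22e7Act) (s := 2) (by decide +kernel)
  obtain ⟨C, hCr, hC, hCc⟩ := exists_prime_elt stabG_M22 hprev (q := 5) (a := m22e5)
    (b := m22e5Act) (s := 2) (by decide +kernel)
  have hinv : ∀ (X : Spor.M22) (q a : ℕ), orderOf X = q → 0 < q → Rep (X : Equiv.Perm GolayPt) a →
      Rep ((X⁻¹ : Spor.M22) : Equiv.Perm GolayPt) (CfsgLib.MathieuOut.powP a (q - 1)) := by
    intro X q a hq hpos h
    have e : X⁻¹ = X ^ (q - 1) := inv_eq_of_mul_eq_one_right (by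
      rw [← pow_succ', Nat.sub_add_cancel hpos, ← hq, pow_orderOf_eq_one])
    rw [e, Subgroup.coe_pow]
    exact rep_pow h _
  refine ⟨A, B, C, hA, hB, hC,
    natCard_centralizer_cert stabG_M22 hprev (plan := m22e11Plan) (by decide +kernel)
      (by decide +kernel) (by decide +kernel) (by decide +kernel) A hAr,
    natCard_centralizer_cert stabG_M22 hprev (plan := m22e7Plan) (by decide +kernel)
      (by decide +kernel) (by decide +kernel) (by decide +kernel) B hBr,
    natCard_centralizer_cert stabG_M22 hprev (plan := m22e5Plan) (by decide +kernel)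
      (by decide +kernel) (by decide +kernel) (by decide +kernel) C hCr,
    not_isConj_of_dfs_eq_nil stabG_M22 hprev (plan := m22e11Plan) (by decide +kernel)
      (by decide +kernel) A A⁻¹ hAr (hinv A 11 _ hA (by norm_num) hAr),
    not_isConj_of_dfs_eq_nil stabG_M22 hprev (plan := m22e7Plan) (by decide +kernel)
      (by decide +kernel) B B⁻¹ hBr (hinv B 7 _ hB (by norm_num) hBr),
    isConj_pow_or_inv hA hAc (by decide +kernel), isConj_pow_or_inv hB hBc (by decide +kernel),
    isConj_pow_of_rational hC hCc (by decide +kernel)⟩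

set_option maxRecDepth 100000 in
theorem m24_data :
    ∃ A B C D : M24, orderOf A = 23 ∧ orderOf B = 11 ∧ orderOf C = 7 ∧ orderOf D = 5 ∧
      Nat.card (Subgroup.centralizer ({A} : Set M24)) = 23 ∧
      Nat.card (Subgroup.centralizer ({B} : Set M24)) = 11 ∧
      Nat.card (Subgroup.centralizer ({C} : Set M24)) = 42 ∧
      Nat.card (Subgroup.centralizer ({D} : Set M24)) = 60 ∧
      ¬ IsConj A A⁻¹ ∧ ¬ IsConj C C⁻¹ ∧
      (∀ j < 23, j ≠ 0 → IsConj (A ^ j) A ∨ IsConj (A ^ j) A⁻¹) ∧
      (∀ j < 11, j ≠ 0 → IsConj (B ^ j) B) ∧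
      (∀ j < 7, j ≠ 0 → IsConj (C ^ j) C ∨ IsConj (C ^ j) C⁻¹) ∧
      (∀ j < 5, j ≠ 0 → IsConj (D ^ j) D) := by
  have hprev : (([] : List ℕ).all fun b => Nat.blt b 24) = true := rfl
  haveI : Fact (Nat.Prime 23) := ⟨by norm_num⟩
  haveI : Fact (Nat.Prime 11) := ⟨by norm_num⟩
  haveI : Fact (Nat.Prime 7) := ⟨by norm_num⟩
  haveI : Fact (Nat.Prime 5) := ⟨by norm_num⟩
  obtain ⟨A, hAr, hA, hAc⟩ := exists_prime_elt stabG_M24 hprev (q := 23) (a := m24e23)
    (b := m24e23Act) (s := 2) (by decide +kernel)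
  obtain ⟨B, hBr, hB, hBc⟩ := exists_prime_elt stabG_M24 hprev (q := 11) (a := m24e11)
    (b := m24e11Act) (s := 2) (by decide +kernel)
  obtain ⟨C, hCr, hC, hCc⟩ := exists_prime_elt stabG_M24 hprev (q := 7) (a := m24e7)
    (b := m24e7Act) (s := 2) (by decide +kernel)
  obtain ⟨D, hDr, hD, hDc⟩ := exists_prime_elt stabG_M24 hprev (q := 5) (a := m24e5)
    (b := m24e5Act) (s := 2) (by decide +kernel)
  have hinv : ∀ (X : M24) (q a : ℕ), orderOf X = q → 0 < q → Rep (X : Equiv.Perm GolayPt) a →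
      Rep ((X⁻¹ : M24) : Equiv.Perm GolayPt) (CfsgLib.MathieuOut.powP a (q - 1)) := by
    intro X q a hq hpos h
    have e : X⁻¹ = X ^ (q - 1) := inv_eq_of_mul_eq_one_right (by
      rw [← pow_succ', Nat.sub_add_cancel hpos, ← hq, pow_orderOf_eq_one])
    rw [e, Subgroup.coe_pow]
    exact rep_pow h _
  refine ⟨A, B, C, D, hA, hB, hC, hD,
    natCard_centralizer_cert stabG_M24 hprev (plan := m24e23Plan) (by decide +kernel)
      (by decide +kernel) (by decide +kernel) (by decide +kernel) A hAr,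
    natCard_centralizer_cert stabG_M24 hprev (plan := m24e11Plan) (by decide +kernel)
      (by decide +kernel) (by decide +kernel) (by decide +kernel) B hBr,
    natCard_centralizer_cert stabG_M24 hprev (plan := m24e7Plan) (by decide +kernel)
      (by decide +kernel) (by decide +kernel) (by decide +kernel) C hCr,
    natCard_centralizer_cert stabG_M24 hprev (plan := m24e5Plan) (by decide +kernel)
      (by decide +kernel) (by decide +kernel) (by decide +kernel) D hDr,
    not_isConj_of_dfs_eq_nil stabG_M24 hprev (plan := m24e23Plan) (by decide +kernel)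
      (by decide +kernel) A A⁻¹ hAr (hinv A 23 _ hA (by norm_num) hAr),
    not_isConj_of_dfs_eq_nil stabG_M24 hprev (plan := m24e7Plan) (by decide +kernel)
      (by decide +kernel) C C⁻¹ hCr (hinv C 7 _ hC (by norm_num) hCr),
    isConj_pow_or_inv hA hAc (by decide +kernel), isConj_pow_of_rational hB hBc (by decide +kernel),
    isConj_pow_or_inv hC hCc (by decide +kernel), isConj_pow_of_rational hD hDc (by decide +kernel)⟩

set_option maxHeartbeats 1000000 in
theorem not_dvd_degree_M22 [Fintype Spor.M22] (χ : IrrCharacter Spor.M22) :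
    ¬ 128 ∣ charDegree (χ : Spor.M22 → ℂ) := by
  classical
  intro h128
  obtain ⟨A, B, C, hA, hB, hC, cA, cB, cC, nA, nB, hAj, hBj, hCj⟩ := m22_data
  haveI : Fact (Nat.Prime 11) := ⟨by norm_num⟩
  haveI : Fact (Nat.Prime 7) := ⟨by norm_num⟩
  haveI : Fact (Nat.Prime 5) := ⟨by norm_num⟩
  obtain ⟨S₁, n₁, hS₁, hn₁, dS₁, dn₁, le₁⟩ := exists_trace_norm χ (by norm_num) hA hAj
  obtain ⟨S₂, n₂, hS₂, hn₂, dS₂, dn₂, le₂⟩ := exists_trace_norm χ (by norm_num) hB hBj
  obtain ⟨v, hv, dv⟩ := exists_int_of_rational χ hC hCj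
  have hG := natCard_M22
  have iA := index_centralizer_eq_of_card cA (i := 40320) hG
  have iB := index_centralizer_eq_of_card cB (i := 63360) hG
  have iC := index_centralizer_eq_of_card cC (i := 88704) hG
  have hne : ∀ {x y : Spor.M22}, orderOf x ≠ orderOf y → ¬ IsConj x y :=
    fun h h' => h (orderOf_ne_of_isConj h')
  set s : Finset Spor.M22 := {A, A⁻¹, B, B⁻¹, C} with hs
  have hcases : ∀ x ∈ s, x = A ∨ x = A⁻¹ ∨ x = B ∨ x = B⁻¹ ∨ x = C := fun x hx => by
    simpa [hs] using hx
  have hAA : A ≠ A⁻¹ := fun e => nA (e ▸ IsConj.refl A)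
  have hBB : B ≠ B⁻¹ := fun e => nB (e ▸ IsConj.refl B)
  have hsep : ∀ x ∈ s, ∀ y ∈ s, IsConj x y → x = y := by
    intro x hx y hy h
    have ho := orderOf_ne_of_isConj h
    rcases hcases x hx with rfl | rfl | rfl | rfl | rfl <;>
      rcases hcases y hy with rfl | rfl | rfl | rfl | rfl <;>
      simp only [orderOf_inv, hA, hB, hC] at ho <;>
      first
        | rfl
        | exact absurd h nA
        | exact absurd h.symm nA
        | exact absurd h nB
        | exact absurd h.symm nB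
        | omega
  have h1 : (1 : Spor.M22) ∉ s := fun h => by
    rcases hcases 1 h with e | e | e | e | e <;>
      have := congrArg orderOf e <;> simp only [orderOf_one, orderOf_inv, hA, hB, hC] at this <;>
      omega
  let n : Spor.M22 → ℤ := fun x =>
    if orderOf x = 11 then n₁ else if orderOf x = 7 then n₂ else v ^ 2
  have hn : ∀ x ∈ s, (n x : ℂ) = (χ : Spor.M22 → ℂ) x * conj ((χ : Spor.M22 → ℂ) x) := by
    intro x hx
    rcases hcases x hx with rfl | rfl | rfl | rfl | rfl <;>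
      simp only [n, orderOf_inv, hA, hB, hC, irr_inv, Complex.conj_conj, reduceIte,
        show ¬ (7 : ℕ) = 11 by norm_num, show ¬ (5 : ℕ) = 11 by norm_num,
        show ¬ (5 : ℕ) = 7 by norm_num, hn₁, hn₂]
    · rw [mul_comm]
    · rw [mul_comm]
    · rw [← hv, map_intCast, Int.cast_pow, sq]
  have hAB : A ≠ B ∧ A ≠ B⁻¹ ∧ A ≠ C ∧ A⁻¹ ≠ B ∧ A⁻¹ ≠ B⁻¹ ∧ A⁻¹ ≠ C ∧ B ≠ C ∧ B⁻¹ ≠ C := by
    refine ⟨?_, ?_, ?_, ?_, ?_, ?_, ?_, ?_⟩ <;> intro e <;>
      have := congrArg orderOf e <;> simp only [orderOf_inv, hA, hB, hC] at this <;> omega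
  obtain ⟨a1, a2, a3, a4, a5, a6, a7, a8⟩ := hAB
  have hsum : ∀ f : Spor.M22 → ℂ, ∑ x ∈ s, f x = f A + f A⁻¹ + f B + f B⁻¹ + f C := by
    intro f
    rw [hs, Finset.sum_insert (by simp [hAA, a1, a2, a3]),
      Finset.sum_insert (by simp [a4, a5, a6]), Finset.sum_insert (by simp [hBB, a7]),
      Finset.sum_insert (by simp [a8]), Finset.sum_singleton]
    ring
  have hsumZ : ∀ f : Spor.M22 → ℤ, ∑ x ∈ s, f x = f A + f A⁻¹ + f B + f B⁻¹ + f C := by
    intro f
    rw [hs, Finset.sum_insert (by simp [hAA, a1, a2, a3]),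
      Finset.sum_insert (by simp [a4, a5, a6]), Finset.sum_insert (by simp [hBB, a7]),
      Finset.sum_insert (by simp [a8]), Finset.sum_singleton]
    ring
  obtain ⟨hle, heq⟩ := degree_sq_add_classes_le χ s hsep h1 n hn
  rw [hsumZ] at hle heq
  simp only [n, orderOf_inv, hA, hB, hC, reduceIte, show ¬ (7 : ℕ) = 11 by norm_num,
    show ¬ (5 : ℕ) = 11 by norm_num, show ¬ (5 : ℕ) = 7 by norm_num, centralizer_inv_eq, iA, iB,
    iC, hG] at hle heq
  push_cast at hle heq
  set d := charDegree (χ : Spor.M22 → ℂ) with hd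
  have hdG : d ∣ 443520 := by
    obtain ⟨m, -, hm, hdvd⟩ := irr_degree_dvd_card χ.2
    rw [deg_eq, Nat.cast_inj] at hm
    rw [← hG, hd, hm]
    exact hdvd
  have hv0 : 0 ≤ v ^ 2 := sq_nonneg v
  have hn10 : 0 ≤ n₁ := by nlinarith [sq_nonneg S₁]
  have hn20 : 0 ≤ n₂ := by nlinarith [sq_nonneg S₂]
  obtain ⟨k, hk⟩ := h128
  have hk5 : k ≤ 5 := by
    by_contra h
    have : (768 : ℤ) ≤ d := by omega
    nlinarith
  have hd0 : 0 < d := deg_pos χ
  interval_cases k
  · omega
  · -- degree 128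
    have := le_of_normBoundOK (q := 7) (d := d) (c := 4) (by rw [hk]; decide +kernel) dS₂ dn₂ le₂
    rw [hk] at hle; push_cast at hle this; nlinarith
  · rw [hk] at hdG; norm_num at hdG
  · -- degree 384
    have b1 := le_of_normBoundOK (q := 11) (d := d) (c := 1) (by rw [hk]; decide +kernel) dS₁ dn₁ le₁
    have b2 := le_of_normBoundOK (q := 7) (d := d) (c := 1) (by rw [hk]; decide +kernel) dS₂ dn₂ le₂
    have b3 := le_of_sqBoundOK (q := 5) (d := d) (m := 1) (c := 1) (by rw [hk]; decide +kernel) dv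
      (one_dvd _)
    rw [hk] at hle
    push_cast at hle b1 b2 b3
    have e1 : n₁ = 1 := by omega
    have e2 : n₂ = 1 := by omega
    have e3 : v ^ 2 = 1 := by omega
    have hS1 : S₁ = -2 := by
      have : S₁ ≤ 2 ∧ -2 ≤ S₁ := ⟨by nlinarith, by nlinarith⟩
      rw [hk] at dS₁; push_cast at dS₁; omega
    have hS2 : S₂ = -2 := by
      have : S₂ ≤ 2 ∧ -2 ≤ S₂ := ⟨by nlinarith, by nlinarith⟩
      rw [hk] at dS₂; push_cast at dS₂; omega
    have hv1 : v = 1 ∨ v = -1 := sq_eq_one_iff.mp e3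
    have hz := heq (by rw [e1, e2, e3, hk]; norm_num)
    have h0 := degree_add_classes_eq_zero χ (by omega) s hsep h1 hz
    rw [hsum] at h0
    simp only [centralizer_inv_eq, iA, iB, iC, irr_inv] at h0
    have h0' : ((d : ℤ) + 40320 * S₁ + 63360 * S₂ + 88704 * v : ℤ) = 0 := by
      have h : (((d : ℤ) + 40320 * S₁ + 63360 * S₂ + 88704 * v : ℤ) : ℂ) = ((0 : ℤ) : ℂ) := by
        push_cast
        rw [hS₁, hS₂, hv]
        linear_combination h0
      exact_mod_cast h
    omega
  · rw [hk] at hdG; norm_num at hdG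
  · -- degree 640
    have := le_of_normBoundOK (q := 11) (d := d) (c := 4) (by rw [hk]; decide +kernel) dS₁ dn₁ le₁
    rw [hk] at hle; push_cast at hle this; nlinarith

set_option maxHeartbeats 1000000 in
theorem not_dvd_degree_M24 [Fintype M24] (χ : IrrCharacter M24) :
    ¬ 1024 ∣ charDegree (χ : M24 → ℂ) := by
  classical
  intro h1024
  obtain ⟨A, B, C, D, hA, hB, hC, hD, cA, cB, cC, cD, nA, nC, hAj, hBj, hCj, hDj⟩ := m24_data
  haveI : Fact (Nat.Prime 23) := ⟨by norm_num⟩
  haveI : Fact (Nat.Prime 11) := ⟨by norm_num⟩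
  haveI : Fact (Nat.Prime 7) := ⟨by norm_num⟩
  haveI : Fact (Nat.Prime 5) := ⟨by norm_num⟩
  obtain ⟨S₁, n₁, hS₁, hn₁, dS₁, dn₁, le₁⟩ := exists_trace_norm χ (by norm_num) hA hAj
  obtain ⟨u, hu, du⟩ := exists_int_of_rational χ hB hBj
  obtain ⟨S₂, n₂, hS₂, hn₂, dS₂, dn₂, le₂⟩ := exists_trace_norm χ (by norm_num) hC hCj
  obtain ⟨v, hv, dv⟩ := exists_int_of_rational χ hD hDj
  have hG : Nat.card M24 = 244823040 := natCard_M24
  have iA := index_centralizer_eq_of_card cA (i := 10644480) hG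
  have iB := index_centralizer_eq_of_card cB (i := 22256640) hG
  have iC := index_centralizer_eq_of_card cC (i := 5829120) hG
  have iD := index_centralizer_eq_of_card cD (i := 4080384) hG
  set s : Finset M24 := {A, A⁻¹, B, C, C⁻¹, D} with hs
  have hcases : ∀ x ∈ s, x = A ∨ x = A⁻¹ ∨ x = B ∨ x = C ∨ x = C⁻¹ ∨ x = D := fun x hx => by
    simpa [hs] using hx
  have hAA : A ≠ A⁻¹ := fun e => nA (e ▸ IsConj.refl A)
  have hCC : C ≠ C⁻¹ := fun e => nC (e ▸ IsConj.refl C)
  have hsep : ∀ x ∈ s, ∀ y ∈ s, IsConj x y → x = y := by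
    intro x hx y hy h
    have ho := orderOf_ne_of_isConj h
    rcases hcases x hx with rfl | rfl | rfl | rfl | rfl | rfl <;>
      rcases hcases y hy with rfl | rfl | rfl | rfl | rfl | rfl <;>
      simp only [orderOf_inv, hA, hB, hC, hD] at ho <;>
      first
        | rfl
        | exact absurd h nA
        | exact absurd h.symm nA
        | exact absurd h nC
        | exact absurd h.symm nC
        | omega
  have h1 : (1 : M24) ∉ s := fun h => by
    rcases hcases 1 h with e | e | e | e | e | e <;>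
      have := congrArg orderOf e <;>
      simp only [orderOf_one, orderOf_inv, hA, hB, hC, hD] at this <;> omega
  let n : M24 → ℤ := fun x => if orderOf x = 23 then n₁ else if orderOf x = 11 then u ^ 2
    else if orderOf x = 7 then n₂ else v ^ 2
  have hn : ∀ x ∈ s, (n x : ℂ) = (χ : M24 → ℂ) x * conj ((χ : M24 → ℂ) x) := by
    intro x hx
    rcases hcases x hx with rfl | rfl | rfl | rfl | rfl | rfl <;>
      simp only [n, orderOf_inv, hA, hB, hC, hD, irr_inv, Complex.conj_conj, reduceIte,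
        show ¬ (11 : ℕ) = 23 by norm_num, show ¬ (7 : ℕ) = 23 by norm_num,
        show ¬ (7 : ℕ) = 11 by norm_num, show ¬ (5 : ℕ) = 23 by norm_num,
        show ¬ (5 : ℕ) = 11 by norm_num, show ¬ (5 : ℕ) = 7 by norm_num, hn₁, hn₂]
    · rw [mul_comm]
    · rw [← hu, map_intCast, Int.cast_pow, sq]
    · rw [mul_comm]
    · rw [← hv, map_intCast, Int.cast_pow, sq]
  have hne : ∀ {x y : M24}, orderOf x ≠ orderOf y → x ≠ y := fun h e => h (congrArg orderOf e)
  have hsumZ : ∀ f : M24 → ℤ, ∑ x ∈ s, f x = f A + f A⁻¹ + f B + f C + f C⁻¹ + f D := by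
    intro f
    rw [hs, Finset.sum_insert (by
        simp [hAA, hne (show orderOf A ≠ orderOf B by omega),
          hne (show orderOf A ≠ orderOf C by omega),
          hne (show orderOf A ≠ orderOf C⁻¹ by rw [orderOf_inv]; omega),
          hne (show orderOf A ≠ orderOf D by omega)]),
      Finset.sum_insert (by
        simp [hne (show orderOf A⁻¹ ≠ orderOf B by rw [orderOf_inv]; omega),
          hne (show orderOf A⁻¹ ≠ orderOf C by rw [orderOf_inv]; omega),
          hne (show orderOf A⁻¹ ≠ orderOf C⁻¹ by rw [orderOf_inv, orderOf_inv]; omega),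
          hne (show orderOf A⁻¹ ≠ orderOf D by rw [orderOf_inv]; omega)]),
      Finset.sum_insert (by
        simp [hne (show orderOf B ≠ orderOf C by omega),
          hne (show orderOf B ≠ orderOf C⁻¹ by rw [orderOf_inv]; omega),
          hne (show orderOf B ≠ orderOf D by omega)]),
      Finset.sum_insert (by simp [hCC, hne (show orderOf C ≠ orderOf D by omega)]),
      Finset.sum_insert (by
        simp [hne (show orderOf C⁻¹ ≠ orderOf D by rw [orderOf_inv]; omega)]),
      Finset.sum_singleton]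
    ring
  have hle := (degree_sq_add_classes_le χ s hsep h1 n hn).1
  rw [hsumZ] at hle
  simp only [n, orderOf_inv, hA, hB, hC, hD, reduceIte, show ¬ (11 : ℕ) = 23 by norm_num,
    show ¬ (7 : ℕ) = 23 by norm_num, show ¬ (7 : ℕ) = 11 by norm_num,
    show ¬ (5 : ℕ) = 23 by norm_num, show ¬ (5 : ℕ) = 11 by norm_num,
    show ¬ (5 : ℕ) = 7 by norm_num, centralizer_inv_eq, iA, iB, iC, iD, hG] at hle
  push_cast at hle
  have hdvd := degree_dvd_index_mul χ hv
  rw [iD] at hdvd
  push_cast at hdvd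
  set d := charDegree (χ : M24 → ℂ) with hd
  have hdG : d ∣ 244823040 := by
    obtain ⟨m, -, hm, hdvd⟩ := irr_degree_dvd_card χ.2
    rw [deg_eq, Nat.cast_inj] at hm
    rw [← hG, hd, hm]
    exact hdvd
  have hv4 : (4 : ℤ) ∣ v := by
    have h : (1024 : ℤ) ∣ 4080384 * v := (Int.natCast_dvd_natCast.2 h1024).trans hdvd
    omega
  have p1 : 0 ≤ n₁ := by nlinarith [sq_nonneg S₁]
  have p2 : 0 ≤ n₂ := by nlinarith [sq_nonneg S₂]
  have p3 : 0 ≤ u ^ 2 := sq_nonneg u
  have p4 : 0 ≤ v ^ 2 := sq_nonneg v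
  obtain ⟨k, hk⟩ := h1024
  have hk15 : k ≤ 15 := by
    by_contra h
    have : (16384 : ℤ) ≤ d := by omega
    nlinarith
  have hd0 : 0 < d := deg_pos χ
  have key : ∀ c₁ c₂ c₃ c₄ : ℕ, normBoundOK 23 d c₁ = true → sqBoundOK 11 d 1 c₂ = true →
      normBoundOK 7 d c₃ = true → sqBoundOK 5 d 4 c₄ = true →
      (d : ℤ) ^ 2 + 21288960 * c₁ + 22256640 * c₂ + 11658240 * c₃ + 4080384 * c₄ ≤ 244823040 := by
    intro c₁ c₂ c₃ c₄ h₁ h₂ h₃ h₄
    have b1 := le_of_normBoundOK h₁ dS₁ dn₁ le₁
    have b2 := le_of_sqBoundOK h₂ du (one_dvd _)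
    have b3 := le_of_normBoundOK h₃ dS₂ dn₂ le₂
    have b4 := le_of_sqBoundOK h₄ dv hv4
    linarith
  rw [hk] at hdG key
  interval_cases k <;> first
    | omega
    | (norm_num at hdG; done)
    | (have := key 6 1 4 16 (by decide +kernel) (by decide +kernel) (by decide +kernel)
        (by decide +kernel); norm_num at this; done)
    | (have := key 8 9 0 0 (by decide +kernel) (by decide +kernel) (by decide +kernel)
        (by decide +kernel); norm_num at this; done)
    | (have := key 12 25 0 0 (by decide +kernel) (by decide +kernel) (by decide +kernel)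
        (by decide +kernel); norm_num at this; done)
    | (have := key 16 16 0 0 (by decide +kernel) (by decide +kernel) (by decide +kernel)
        (by decide +kernel); norm_num at this; done)
    | (have := key 18 0 0 0 (by decide +kernel) (by decide +kernel) (by decide +kernel)
        (by decide +kernel); norm_num at this; done)
    | (have := key 26 0 0 0 (by decide +kernel) (by decide +kernel) (by decide +kernel)
        (by decide +kernel); norm_num at this; done)
    | (have := key 36 0 0 0 (by decide +kernel) (by decide +kernel) (by decide +kernel)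
        (by decide +kernel); norm_num at this; done)

end CfsgLib.Spor
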