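import Cfsg.Agent.Lib.Spor.SmallGroups

/-!
The centraliser of a transvection in the special linear group of degree five over two elements.
-/

set_option autoImplicit false

namespace CfsgLib.Spor.Tv5

open Matrix

/-- the group -/
abbrev SL5 : Type := Matrix.SpecialLinearGroup (Fin 5) (ZMod 2)

/-- the matrix of the standard transvection -/
def tvMat : Matrix (Fin 5) (Fin 5) (ZMod 2) := Matrix.transvection 0 1 1

theorem zmod2_cases : ∀ a : ZMod 2, a = 0 ∨ a = 1 := by decide

theorem det_eq_one_of_ne_zero {a : ZMod 2} (h : a ≠ 0) : a = 1 := (zmod2_cases a).resolve_left h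

theorem transvection_comm_iff {n : Type*} [Fintype n] [DecidableEq n] (a b : n) (hab : a ≠ b)
    (g : Matrix n n (ZMod 2)) :
    g * Matrix.transvection a b 1 = Matrix.transvection a b 1 * g ↔
      (∀ i, i ≠ a → g i a = 0) ∧ (∀ j, j ≠ b → g b j = 0) ∧ g a a = g b b := by
  constructor
  · intro h
    rw [Matrix.transvection, mul_add, add_mul, mul_one, one_mul, add_left_cancel_iff] at h
    refine ⟨fun i hi => ?_, fun j hj => ?_, ?_⟩
    · have := congrFun (congrFun h i) b
      rwa [Matrix.mul_single_apply_same, Matrix.single_mul_apply_of_ne _ _ _ _ _ hi, mul_one]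
        at this
    · have := congrFun (congrFun h a) j
      rw [Matrix.mul_single_apply_of_ne _ _ _ _ _ hj, Matrix.single_mul_apply_same, one_mul] at this
      exact this.symm
    · have := congrFun (congrFun h a) b
      rwa [Matrix.mul_single_apply_same, Matrix.single_mul_apply_same, mul_one, one_mul] at this
  · rintro ⟨h1, h2, h3⟩
    rw [Matrix.transvection, mul_add, add_mul, mul_one, one_mul, add_left_cancel_iff]
    ext i j
    by_cases hj : j = b
    · subst hj
      rw [Matrix.mul_single_apply_same, mul_one]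
      by_cases hi : i = a
      · subst hi; rw [Matrix.single_mul_apply_same, one_mul, h3]
      · rw [Matrix.single_mul_apply_of_ne _ _ _ _ _ hi, h1 i hi]
    · rw [Matrix.mul_single_apply_of_ne _ _ _ _ _ hj]
      by_cases hi : i = a
      · subst hi; rw [Matrix.single_mul_apply_same, one_mul, h2 j hj]
      · rw [Matrix.single_mul_apply_of_ne _ _ _ _ _ hi]

theorem comm_iff (s : SL5) (hs : (s : Matrix (Fin 5) (Fin 5) (ZMod 2)) = tvMat) (g : SL5) :
    g ∈ Subgroup.centralizer ({s} : Set SL5) ↔
      (∀ i, i ≠ 0 → g.1 i 0 = 0) ∧ (∀ j, j ≠ 1 → g.1 1 j = 0) ∧ g.1 0 0 = g.1 1 1 := by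
  rw [Subgroup.mem_centralizer_singleton_iff, ← transvection_comm_iff 0 1 (by decide)]
  constructor
  · intro h
    have h' : g.1 * s.1 = s.1 * g.1 := congrArg Subtype.val h
    rwa [hs] at h'
  · intro h
    refine Subtype.ext (show g.1 * s.1 = s.1 * g.1 from ?_)
    rwa [hs]

/-- the matrix built from the free entries -/
def build (v : Fin 7 → ZMod 2) (A : Matrix (Fin 3) (Fin 3) (ZMod 2)) :
    Matrix (Fin 5) (Fin 5) (ZMod 2) :=
  !![1, v 0, v 1, v 2, v 3; 0, 1, 0, 0, 0; 0, v 4, A 0 0, A 0 1, A 0 2;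
     0, v 5, A 1 0, A 1 1, A 1 2; 0, v 6, A 2 0, A 2 1, A 2 2]

theorem det_build (v : Fin 7 → ZMod 2) (A : Matrix (Fin 3) (Fin 3) (ZMod 2)) :
    (build v A).det = A.det := by
  rw [Matrix.det_succ_column_zero, Fin.sum_univ_succ]
  simp [build, Matrix.det_succ_row_zero, Fin.sum_univ_succ]

theorem card_SL3 : Nat.card (Matrix.SpecialLinearGroup (Fin 3) (ZMod 2)) = 168 := by
  rw [Nat.card_eq_fintype_card]
  decide +kernel

/-- the group element built from the free entries -/
def buildSL (v : Fin 7 → ZMod 2) (A : Matrix.SpecialLinearGroup (Fin 3) (ZMod 2)) : SL5 :=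
  ⟨build v A.1, by rw [det_build]; exact A.2⟩

theorem natCard_centralizer (s : SL5) (hs : (s : Matrix (Fin 5) (Fin 5) (ZMod 2)) = tvMat) :
    Nat.card (Subgroup.centralizer ({s} : Set SL5)) = 21504 := by
  have hmem : ∀ (v : Fin 7 → ZMod 2) (A : Matrix.SpecialLinearGroup (Fin 3) (ZMod 2)),
      buildSL v A ∈ Subgroup.centralizer ({s} : Set SL5) := by
    intro v A
    rw [comm_iff s hs]
    show (∀ i, i ≠ 0 → build v A.1 i 0 = 0) ∧ (∀ j, j ≠ 1 → build v A.1 1 j = 0) ∧
      build v A.1 0 0 = build v A.1 1 1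
    refine ⟨fun i hi => ?_, fun j hj => ?_, by simp [build]⟩
    · fin_cases i <;> simp [build] at hi ⊢
    · fin_cases j <;> simp [build] at hj ⊢
  have e : Function.Bijective fun p : (Fin 7 → ZMod 2) × Matrix.SpecialLinearGroup (Fin 3) (ZMod 2)
      => (⟨_, hmem p.1 p.2⟩ : Subgroup.centralizer ({s} : Set SL5)) := by
    constructor
    · rintro ⟨v, A⟩ ⟨w, B⟩ h
      have h' : build v A.1 = build w B.1 := congrArg (fun q => q.1.1) h
      refine Prod.ext (funext fun k => ?_) (Subtype.ext ?_)
      · fin_cases k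
        exacts [congrFun (congrFun h' 0) 1, congrFun (congrFun h' 0) 2,
          congrFun (congrFun h' 0) 3, congrFun (congrFun h' 0) 4, congrFun (congrFun h' 2) 1,
          congrFun (congrFun h' 3) 1, congrFun (congrFun h' 4) 1]
      · ext i j
        fin_cases i <;> fin_cases j
        exacts [congrFun (congrFun h' 2) 2, congrFun (congrFun h' 2) 3, congrFun (congrFun h' 2) 4,
          congrFun (congrFun h' 3) 2, congrFun (congrFun h' 3) 3, congrFun (congrFun h' 3) 4,
          congrFun (congrFun h' 4) 2, congrFun (congrFun h' 4) 3, congrFun (congrFun h' 4) 4]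
    · rintro ⟨g, hg⟩
      obtain ⟨h1, h2, h3⟩ := (comm_iff s hs g).1 hg
      have h00 : g.1 0 0 = 1 := det_eq_one_of_ne_zero fun h0 => by
        have : g.1.det = 0 := Matrix.det_eq_zero_of_column_eq_zero 0 fun i => by
          by_cases hi : i = 0
          · rw [hi]; exact h0
          · exact h1 i hi
        rw [g.2] at this
        exact one_ne_zero this
      let v : Fin 7 → ZMod 2 :=
        ![g.1 0 1, g.1 0 2, g.1 0 3, g.1 0 4, g.1 2 1, g.1 3 1, g.1 4 1]
      let A : Matrix (Fin 3) (Fin 3) (ZMod 2) :=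
        !![g.1 2 2, g.1 2 3, g.1 2 4; g.1 3 2, g.1 3 3, g.1 3 4; g.1 4 2, g.1 4 3, g.1 4 4]
      have hb : build v A = g.1 := by
        ext i j
        fin_cases i <;> fin_cases j <;>
          simp [build, v, A, h00, ← h3, h1, h2]
      refine ⟨(v, ⟨A, by rw [← det_build v, hb]; exact g.2⟩), Subtype.ext (Subtype.ext hb)⟩
  rw [← Nat.card_congr (Equiv.ofBijective _ e), Nat.card_prod, card_SL3, Nat.card_fun,
    Nat.card_zmod, Nat.card_eq_fintype_card, Fintype.card_fin]
  norm_num

/-- the position of a coordinate in the flag -/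
def rnk : Fin 5 → Fin 5 := ![0, 4, 1, 2, 3]

/-- upper unitriangular with respect to the flag -/
def IsUni (M : Matrix (Fin 5) (Fin 5) (ZMod 2)) : Prop :=
  (∀ i j, rnk j < rnk i → M i j = 0) ∧ ∀ i, M i i = 1

theorem IsUni.mul {M N : Matrix (Fin 5) (Fin 5) (ZMod 2)} (hM : IsUni M) (hN : IsUni N) :
    IsUni (M * N) := by
  refine ⟨fun i j h => ?_, fun i => ?_⟩
  · rw [Matrix.mul_apply]
    refine Finset.sum_eq_zero fun k _ => ?_
    by_cases hk : rnk k < rnk i
    · rw [hM.1 i k hk, zero_mul]
    · rw [hN.1 k j (lt_of_lt_of_le h (not_lt.1 hk)), mul_zero]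
  · rw [Matrix.mul_apply, Finset.sum_eq_single i]
    · rw [hM.2, hN.2, mul_one]
    · intro k _ hk
      rcases lt_trichotomy (rnk k) (rnk i) with h | h | h
      · rw [hM.1 i k h, zero_mul]
      · exact absurd (show k = i by revert h; clear hk; revert k i; decide) hk
      · rw [hN.1 k i h, mul_zero]
    · simp

theorem isUni_one : IsUni 1 :=
  ⟨fun i j h => Matrix.one_apply_ne fun hij => absurd h (hij ▸ lt_irrefl _),
    fun i => Matrix.one_apply_eq i⟩

/-- the unitriangular subgroup -/
noncomputable def uni : Subgroup SL5 :=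
  subgroupOfIdempotent {g : SL5 | IsUni g.1}
    ⟨1, isUni_one⟩
    (by
      ext g
      constructor
      · rintro ⟨x, hx, y, hy, rfl⟩
        exact hx.mul hy
      · intro hg
        exact ⟨g, hg, 1, isUni_one, mul_one g⟩)

theorem det_of_isUni {M : Matrix (Fin 5) (Fin 5) (ZMod 2)} (h : IsUni M) : M.det = 1 := by
  let e : Fin 5 ≃ Fin 5 := (Equiv.ofBijective rnk (by decide)).symm
  rw [← Matrix.det_submatrix_equiv_self e M, Matrix.det_of_isUpperTriangular]
  · exact Finset.prod_eq_one fun i _ => h.2 _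
  · intro i j hij
    refine h.1 _ _ ?_
    rw [show rnk (e j) = j from (Equiv.ofBijective rnk (by decide)).apply_symm_apply j,
      show rnk (e i) = i from (Equiv.ofBijective rnk (by decide)).apply_symm_apply i]
    exact hij

/-- the ten free positions -/
def pos : Fin 10 → Fin 5 × Fin 5 :=
  ![(0, 2), (0, 3), (0, 4), (0, 1), (2, 3), (2, 4), (2, 1), (3, 4), (3, 1), (4, 1)]

theorem pos_spec : (∀ k, rnk (pos k).1 < rnk (pos k).2) ∧ Function.Injective pos ∧
    ∀ i j, rnk i < rnk j → ∃ k, pos k = (i, j) := by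
  unfold Function.Injective; decide

theorem natCard_uni : Nat.card uni = 2 ^ 10 := by
  have e : Function.Bijective fun g : uni => fun k : Fin 10 => (g.1.1 (pos k).1 (pos k).2) := by
    constructor
    · rintro ⟨g, hg⟩ ⟨g', hg'⟩ h
      refine Subtype.ext (Subtype.ext ?_)
      ext i j
      rcases lt_trichotomy (rnk i) (rnk j) with hl | hl | hl
      · obtain ⟨k, hk⟩ := pos_spec.2.2 i j hl
        have := congrFun h k
        simp only [hk] at this
        exact this
      · obtain rfl : i = j := by revert hl; clear h; revert i j; decide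
        exact (hg.2 i).trans (hg'.2 i).symm
      · exact (hg.1 i j hl).trans (hg'.1 i j hl).symm
    · intro v
      let M : Matrix (Fin 5) (Fin 5) (ZMod 2) := fun i j =>
        if i = j then 1 else ∑ k, if pos k = (i, j) then v k else 0
      have hM : IsUni M := by
        refine ⟨fun i j h => ?_, fun i => if_pos rfl⟩
        simp only [M]
        rw [if_neg fun hij => absurd h (by rw [hij]; exact lt_irrefl _)]
        refine Finset.sum_eq_zero fun k _ => if_neg fun hk => ?_
        have := pos_spec.1 k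
        rw [hk] at this
        exact lt_asymm h this
      refine ⟨⟨⟨M, det_of_isUni hM⟩, hM⟩, funext fun k => ?_⟩
      show M (pos k).1 (pos k).2 = v k
      simp only [M]
      rw [if_neg fun h => absurd (pos_spec.1 k) (by rw [h]; exact lt_irrefl _),
        Finset.sum_eq_single k]
      · exact if_pos rfl
      · exact fun l _ hl => if_neg fun h => hl (pos_spec.2.1 (h.trans rfl))
      · simp
  rw [Nat.card_congr (Equiv.ofBijective _ e), Nat.card_fun, Nat.card_zmod,
    Nat.card_eq_fintype_card, Fintype.card_fin]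

theorem uni_le_centralizer (s : SL5) (hs : (s : Matrix (Fin 5) (Fin 5) (ZMod 2)) = tvMat) :
    uni ≤ Subgroup.centralizer ({s} : Set SL5) := by
  intro g hg
  rw [comm_iff s hs]
  exact ⟨fun i hi => hg.1 i 0 (by revert hi; revert i; decide),
    fun j hj => hg.1 1 j (by revert hj; revert j; decide), (hg.2 0).trans (hg.2 1).symm⟩

theorem isUni_transvection {a b : Fin 5} (h : rnk a < rnk b) :
    IsUni (Matrix.transvection a b (1 : ZMod 2)) := by
  refine ⟨fun i j hij => ?_, fun i => ?_⟩
  · rw [Matrix.transvection, Matrix.add_apply, Matrix.one_apply_ne, Matrix.single_apply, if_neg,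
      add_zero]
    · rintro ⟨rfl, rfl⟩; exact lt_asymm h hij
    · rintro rfl; exact lt_irrefl _ hij
  · rw [Matrix.transvection, Matrix.add_apply, Matrix.one_apply_eq, Matrix.single_apply, if_neg,
      add_zero]
    rintro ⟨rfl, rfl⟩; exact lt_irrefl _ h

theorem uni_gen (k : Fin 4) :
    IsUni (Matrix.transvection (![0, 2, 3, 4] k) (![2, 3, 4, 1] k) (1 : ZMod 2)) :=
  isUni_transvection (by revert k; decide)

/-- Commuting with the unitriangular subgroup leaves only two possibilities. -/
theorem eq_one_or_of_comm (s : SL5) (hs : (s : Matrix (Fin 5) (Fin 5) (ZMod 2)) = tvMat)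
    (u : SL5) (h : ∀ x ∈ uni, x * u = u * x) : u = 1 ∨ u = s := by
  have hk : ∀ k : Fin 4, (∀ i, i ≠ (![0, 2, 3, 4] k : Fin 5) → u.1 i (![0, 2, 3, 4] k) = 0) ∧
      (∀ j, j ≠ (![2, 3, 4, 1] k : Fin 5) → u.1 (![2, 3, 4, 1] k) j = 0) ∧
      u.1 (![0, 2, 3, 4] k) (![0, 2, 3, 4] k) = u.1 (![2, 3, 4, 1] k) (![2, 3, 4, 1] k) := by
    intro k
    rw [← transvection_comm_iff _ _ (by revert k; decide)]
    exact (congrArg Subtype.val (h ⟨_, det_of_isUni (uni_gen k)⟩ (uni_gen k))).symm
  obtain ⟨a0, b0, c0⟩ := hk 0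
  obtain ⟨a1, b1, c1⟩ := hk 1
  obtain ⟨a2, b2, c2⟩ := hk 2
  obtain ⟨a3, b3, c3⟩ := hk 3
  simp only [Matrix.cons_val_zero, Matrix.cons_val] at a0 a1 a2 a3 b0 b1 b2 b3 c0 c1 c2 c3
  have h00 : u.1 0 0 = 1 := det_eq_one_of_ne_zero fun h0 => by
    have : u.1.det = 0 := Matrix.det_eq_zero_of_column_eq_zero 0 fun i => by
      by_cases hi : i = 0
      · rw [hi]; exact h0
      · exact a0 i hi
    rw [u.2] at this
    exact one_ne_zero this
  rcases zmod2_cases (u.1 0 1) with h01 | h01
  · left
    refine Subtype.ext ?_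
    rw [Matrix.SpecialLinearGroup.coe_one]
    ext i j
    fin_cases i <;> fin_cases j <;>
      simp [h00, h01, ← c0, ← c1, ← c2, ← c3, a0, a1, a2, a3, b0, b1, b2]
  · right
    refine Subtype.ext ?_
    rw [hs]
    ext i j
    fin_cases i <;> fin_cases j <;>
      simp [tvMat, Matrix.transvection, Matrix.single, h00, h01, ← c0, ← c1, ← c2, ← c3,
        a0, a1, a2, a3, b0, b1, b2]

theorem tv_ne_one : tvMat ≠ 1 := by decide +kernel

theorem sylow_center (s : SL5) (hs : (s : Matrix (Fin 5) (Fin 5) (ZMod 2)) = tvMat)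
    (T : Sylow 2 (Subgroup.centralizer ({s} : Set SL5)))
    (u : Subgroup.centralizer ({s} : Set SL5))
    (hc : ∀ x ∈ (T : Subgroup (Subgroup.centralizer ({s} : Set SL5))), x * u = u * x) :
    u = 1 ∨ (u : SL5) = s := by
  let C := Subgroup.centralizer ({s} : Set SL5)
  have hU : IsPGroup 2 (uni.subgroupOf C) := by
    refine IsPGroup.of_card (n := 10) ?_
    rw [Nat.card_congr (Subgroup.subgroupOfEquivOfLe (uni_le_centralizer s hs)).toEquiv,
      natCard_uni]
  obtain ⟨P, hP⟩ := hU.exists_le_sylow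
  obtain ⟨g, hg⟩ := MulAction.exists_smul_eq C T P
  have key : g * u * g⁻¹ = 1 ∨ ((g * u * g⁻¹ : C) : SL5) = s := by
    have := eq_one_or_of_comm s hs ((g * u * g⁻¹ : C) : SL5) fun x hx => by
      have hxP : (⟨x, uni_le_centralizer s hs hx⟩ : C) ∈ (P : Subgroup C) := hP hx
      rw [← hg, Sylow.coe_subgroup_smul, Subgroup.mem_pointwise_smul_iff_inv_smul_mem] at hxP
      have hxT := hc _ hxP
      simp only [MulAut.smul_def, MulAut.conj_inv_apply] at hxT
      have h1 := congrArg (fun t : C => g * t * g⁻¹) hxT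
      simp only [mul_assoc, mul_inv_cancel_left] at h1
      have h2 := congrArg Subtype.val h1
      simpa [mul_assoc] using h2
    exact this.imp (fun h => Subtype.ext h) id
  rcases key with h | h
  · left; exact conj_eq_one_iff.1 h
  · right
    have hgs := Subgroup.mem_centralizer_singleton_iff.1 g.2
    have h' : (g : SL5) * u = s * g := by
      calc (g : SL5) * u = ((g * u * g⁻¹ : C) : SL5) * g := by simp [mul_assoc]
        _ = s * g := congrArg (· * (g : SL5)) h
    exact mul_left_cancel (h'.trans hgs.symm)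

/-- A Sylow 2-subgroup of an involution centraliser of this shape is Sylow in the whole group. -/
theorem not_two_dvd_index {G : Type*} [Group G] [Finite G] (s : SL5)
    (hs : (s : Matrix (Fin 5) (Fin 5) (ZMod 2)) = tvMat) (z : G) (hz : orderOf z = 2)
    (e : (Subgroup.centralizer ({z} : Set G)) ≃* Subgroup.centralizer ({s} : Set SL5))
    (T : Sylow 2 (Subgroup.centralizer ({z} : Set G))) :
    ¬ 2 ∣ ((T : Subgroup (Subgroup.centralizer ({z} : Set G))).map
      (Subgroup.subtype (Subgroup.centralizer ({z} : Set G)))).index := by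
  have hzC : z ∈ Subgroup.centralizer ({z} : Set G) := Subgroup.mem_centralizer_singleton_iff.2 rfl
  have hzc : ∀ x : Subgroup.centralizer ({z} : Set G), x * ⟨z, hzC⟩ = ⟨z, hzC⟩ * x :=
    fun x => Subtype.ext (Subgroup.mem_centralizer_singleton_iff.1 x.2)
  let T' : Sylow 2 (Subgroup.centralizer ({s} : Set SL5)) :=
    T.comapOfInjective e.symm.toMonoidHom e.symm.injective
      (by rw [MonoidHom.range_eq_top.2 e.symm.surjective]; exact le_top)
  have hT' : ∀ x, x ∈ (T' : Subgroup (Subgroup.centralizer ({s} : Set SL5))) ↔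
      e.symm x ∈ (T : Subgroup (Subgroup.centralizer ({z} : Set G))) := fun x => Iff.rfl
  have hcen : ∀ u : Subgroup.centralizer ({z} : Set G),
      (∀ x ∈ (T : Subgroup (Subgroup.centralizer ({z} : Set G))), x * u = u * x) →
      u = 1 ∨ (e u : SL5) = s := by
    intro u hu
    refine (sylow_center s hs T' (e u) fun x hx => ?_).imp_left
      fun h => e.injective (h.trans (map_one e).symm)
    have := congrArg e (hu _ ((hT' x).1 hx))
    simpa using this
  have hez : (e ⟨z, hzC⟩ : SL5) = s :=
    (hcen ⟨z, hzC⟩ fun x _ => hzc x).resolve_left fun h =>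
      CfsgLib.Involutions.invol_ne_one hz (congrArg Subtype.val h)
  obtain ⟨P, hP⟩ := CfsgLib.Spor.sylow_of_centralizer (CfsgLib.Involutions.invol_ne_one hz)
    ((T : Subgroup (Subgroup.centralizer ({z} : Set G))).map
      (Subgroup.subtype (Subgroup.centralizer ({z} : Set G))))
    (Subgroup.map_subtype_le _) (T.isPGroup'.map _)
    ⟨⟨z, hzC⟩, CfsgLib.Spor.mem_sylow_of_le_centralizer T
      ((Subgroup.orderOf_mk z hzC).trans hz)
      (fun x _ => Subgroup.mem_centralizer_singleton_iff.2 (hzc x)), rfl⟩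
    (fun U hUC hU hTU => by
      have h1 : U.subgroupOf (Subgroup.centralizer ({z} : Set G)) =
          (T : Subgroup (Subgroup.centralizer ({z} : Set G))) := by
        refine T.is_maximal' (IsPGroup.of_equiv hU (Subgroup.subgroupOfEquivOfLe hUC).symm) ?_
        intro x hx
        exact hTU ⟨x, hx, rfl⟩
      rw [← h1, Subgroup.subgroupOf_map_subtype, inf_eq_left.2 hUC])
    (fun u hu huc => by
      obtain ⟨u, huT, rfl⟩ := hu
      refine (hcen u fun x hx => Subtype.ext (huc _ ⟨x, hx, rfl⟩)).imp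
        (fun h => by rw [h]; rfl) fun h => ?_
      exact congrArg Subtype.val (e.injective (Subtype.ext (h.trans hez.symm))))
  rw [← hP]
  exact P.not_dvd_index

end CfsgLib.Spor.Tv5
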