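import Cfsg.Agent.Lib.Spor.Classes
import Cfsg.Agent.Lib.Spor.CentralizerCert
import Cfsg.Agent.Lib.Spor.MathieuBlockData

/-!
The centralizer of a fixed-point-free involution of M24 is constrained: it normalizes the group of
elements preserving the six tetrads cut out by the invariant octads, which is self-centralizing.
-/

set_option autoImplicit false

namespace CfsgLib.Spor

open Cfsg CfsgLib.MathieuOut CfsgLib.Spor.BlockData
open scoped Pointwise

/-- the tetrad number of an index -/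
def centTetOf (i : ℕ) : ℕ := tetIndex.getD i 0

/-- two invariant octads contain both indices -/
def twoCommon (i j : ℕ) : Bool :=
  invOctads.any fun w => invOctads.any fun w' =>
    !Nat.beq w w' && w.testBit i && w.testBit j && w'.testBit i && w'.testBit j

set_option maxRecDepth 100000 in
theorem tetrad_checks :
    ((List.range 24).all fun i => (List.range 24).all fun j =>
        twoCommon i j == Nat.beq (centTetOf i) (centTetOf j)) = true ∧
    (invOctads.all fun w => octadList.contains w && Nat.beq (actP syl2Rep1 w) w) = true ∧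
    (octadList.all fun w => !Nat.beq (actP syl2Rep1 w) w || invOctads.contains w) = true := by
  decide +kernel

set_option maxRecDepth 100000 in
theorem tetrad_group_checks :
    ((List.range 24).all fun i => (sixTetrads.any fun m => m.testBit i) &&
        (sixTetrads.all fun m => !m.testBit i || (List.range 24).all fun j =>
          m.testBit j == Nat.beq (centTetOf i) (centTetOf j))) = true ∧
    (planOK syl2Rep1 tetPlan []) = true ∧
    ((dfs sixTetrads [] syl2Rep1 syl2Rep1 tetPlan []).all fun t =>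
        eqP (compP t t) CfsgLib.MathieuOut.idP) = true ∧
    (tetWit.all fun t => inStabP sixTetrads [] t && eqP (compP t syl2Rep1) (compP syl2Rep1 t)) = true ∧
    ((List.range 24).all fun i => (List.range 24).all fun j => Nat.beq (centTetOf i) (centTetOf j) ||
        tetWit.any fun t => Nat.beq (getP t j) j && !Nat.beq (getP t i) i) = true := by
  decide +kernel

/-- two different invariant octads contain both points -/
def Tet (z : Equiv.Perm GolayPt) (p q : GolayPt) : Prop :=
  ∃ o o' : Finset GolayPt, o ∈ octads ∧ o' ∈ octads ∧ o ≠ o' ∧ z • o = o ∧ z • o' = o' ∧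
    p ∈ o ∧ q ∈ o ∧ p ∈ o' ∧ q ∈ o'

theorem Tet.smul {z σ : Equiv.Perm GolayPt} (hσ : σ ∈ M24) (hcomm : σ * z = z * σ) {p q : GolayPt}
    (h : Tet z p q) : Tet z (σ p) (σ q) := by
  obtain ⟨o, o', ho, ho', hne, hz, hz', hp, hq, hp', hq'⟩ := h
  refine ⟨σ • o, σ • o', smul_octad_mem hσ ho, smul_octad_mem hσ ho',
    fun e => hne (smul_left_cancel σ e), ?_, ?_, ?_, ?_, ?_, ?_⟩
  · rw [← mul_smul, ← hcomm, mul_smul, hz]
  · rw [← mul_smul, ← hcomm, mul_smul, hz']
  all_goals exact Finset.smul_mem_smul_finset ‹_›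

theorem tet_iff {ρ : Equiv.Perm GolayPt} (hr : Rep ρ syl2Rep1) (p q : GolayPt) :
    Tet ρ p q ↔ centTetOf (idx p) = centTetOf (idx q) := by
  obtain ⟨h1, h2, h3⟩ := tetrad_checks
  simp only [List.all_eq_true, List.mem_range, beq_iff_eq, Bool.and_eq_true, Nat.beq_eq,
    List.contains_iff_mem, Bool.or_eq_true, Bool.not_eq_true'] at h1 h2 h3
  have h := h1 _ (idx_lt p) _ (idx_lt q)
  have hiff : twoCommon (idx p) (idx q) = true ↔ centTetOf (idx p) = centTetOf (idx q) := by
    rw [h, Nat.beq_eq]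
  rw [← hiff]
  simp only [twoCommon, List.any_eq_true, Bool.and_eq_true, Bool.not_eq_true']
  constructor
  · rintro ⟨o, o', ho, ho', hne, hz, hz', hp, hq, hp', hq'⟩
    have hmem : ∀ s : Finset GolayPt, s ∈ octads → ρ • s = s → mask s ∈ invOctads := by
      intro s hs hfix
      refine (h3 _ (mem_octads.1 hs)).resolve_left ?_
      have e : actP syl2Rep1 (mask s) = mask s := by rw [← hr.mask_smul, hfix]
      simp [e]
    refine ⟨_, hmem o ho hz, _, hmem o' ho' hz', ⟨⟨⟨?_, ?_⟩, ?_⟩, ?_⟩, ?_⟩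
    · rw [← Bool.not_eq_true, Nat.beq_eq]
      exact fun e => hne (by rw [← toSet_mask o, e, toSet_mask])
    all_goals rwa [← mem_toSet, toSet_mask]
  · rintro ⟨w, hw, w', hw', ⟨⟨⟨hne, hp⟩, hq⟩, hp'⟩, hq'⟩
    have hoct : ∀ v ∈ invOctads, toSet v ∈ octads ∧ ρ • toSet v = toSet v := by
      intro v hv
      obtain ⟨hv1, hv2⟩ := h2 v hv
      refine ⟨mem_octads.2 ?_, hr.smul_toSet_eq hv2⟩
      rwa [mask_toSet (lt_of_mem_codeList (mem_octadList_iff.1 hv1).1)]
    refine ⟨toSet w, toSet w', (hoct w hw).1, (hoct w' hw').1, fun e => ?_, (hoct w hw).2,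
      (hoct w' hw').2, mem_toSet.2 hp, mem_toSet.2 hq, mem_toSet.2 hp', mem_toSet.2 hq'⟩
    have e' := congrArg mask e
    rw [mask_toSet (lt_of_mem_codeList (mem_octadList_iff.1 (h2 w hw).1).1),
      mask_toSet (lt_of_mem_codeList (mem_octadList_iff.1 (h2 w' hw').1).1)] at e'
    simp [e'] at hne

/-- the elements of M24 commuting with `ρ` that preserve each tetrad -/
def tetKernel (ρ : Equiv.Perm GolayPt) : Subgroup (Equiv.Perm GolayPt) where
  carrier := {g | g ∈ M24 ∧ g * ρ = ρ * g ∧ ∀ p, centTetOf (idx (g p)) = centTetOf (idx p)}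
  one_mem' := ⟨Subgroup.one_mem _, by simp, fun p => rfl⟩
  mul_mem' := by
    rintro f g ⟨f1, f2, f3⟩ ⟨g1, g2, g3⟩
    refine ⟨Subgroup.mul_mem _ f1 g1, ?_, fun p => by rw [Equiv.Perm.mul_apply, f3, g3]⟩
    rw [mul_assoc, g2, ← mul_assoc, f2, mul_assoc]
  inv_mem' := by
    rintro f ⟨f1, f2, f3⟩
    refine ⟨Subgroup.inv_mem _ f1, ?_, fun p => ?_⟩
    · exact (Commute.inv_left f2).eq
    · rw [← f3 (f⁻¹ p)]
      simp

theorem mem_tetKernel {ρ g : Equiv.Perm GolayPt} :
    g ∈ tetKernel ρ ↔ g ∈ M24 ∧ g * ρ = ρ * g ∧ ∀ p, centTetOf (idx (g p)) = centTetOf (idx p) := Iff.rfl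

theorem mem_sixTetrads {m i j : ℕ} (hm : m ∈ sixTetrads) (hi : i < 24) (hj : j < 24)
    (hb : m.testBit i = true) : m.testBit j = true ↔ centTetOf i = centTetOf j := by
  have h := tetrad_group_checks.1
  simp only [List.all_eq_true, List.mem_range, Bool.and_eq_true, Bool.or_eq_true,
    Bool.not_eq_true', beq_iff_eq] at h
  rcases (h i hi).2 m hm with h0 | h0
  · rw [hb] at h0; exact absurd h0 (by decide)
  · rw [h0 j hj, Nat.beq_eq]

theorem sq_tetKernel {ρ g : Equiv.Perm GolayPt} (hr : Rep ρ syl2Rep1) (hg : g ∈ tetKernel ρ) :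
    g * g = 1 := by
  obtain ⟨hgM, hgc, hgt⟩ := mem_tetKernel.1 hg
  have hstab : g ∈ stabG sixTetrads [] := by
    refine mem_stabG.2 ⟨hgM, fun m hm => ?_, by simp⟩
    refine Finset.eq_of_subset_of_card_le (fun x hx => ?_) (by rw [Finset.card_smul_finset])
    obtain ⟨p, hp, rfl⟩ := Finset.mem_smul_finset.1 hx
    rw [mem_toSet, Equiv.Perm.smul_def]
    exact (mem_sixTetrads hm (idx_lt p) (idx_lt _) (mem_toSet.1 hp)).2 (hgt p).symm
  obtain ⟨-, hplan, hsq, -, -⟩ := tetrad_group_checks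
  have hmem := canon_mem_dfs hplan hstab (by simp) hr hr hgc
  have h := List.all_eq_true.1 hsq _ hmem
  exact (eqP_iff ((rep_canon g).mul (rep_canon g)) rep_idP).1 h

/-- The centralizer of the listed fixed-point-free involution is constrained. -/
theorem constrained_syl2Rep1 {z : M24} (hr : Rep (z : Equiv.Perm GolayPt) syl2Rep1)
    (hz2 : (z : Equiv.Perm GolayPt) * z = 1) :
    ∃ Q : Subgroup M24, IsPGroup 2 Q ∧ Subgroup.centralizer (Q : Set M24) ≤ Q ∧
      Q ≤ Subgroup.centralizer ({z} : Set M24) ∧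
      Subgroup.centralizer ({z} : Set M24) ≤ Subgroup.normalizer (Q : Set M24) := by
  set ρ : Equiv.Perm GolayPt := (z : Equiv.Perm GolayPt) with hρ
  have htet : ∀ p q, Tet ρ p q ↔ centTetOf (idx p) = centTetOf (idx q) := tet_iff hr
  have hzK : ρ ∈ tetKernel ρ := by
    refine mem_tetKernel.2 ⟨z.2, rfl, fun p => ?_⟩
    rw [← htet]
    obtain ⟨o, o', ho, ho', hne, hz, hz', hp, -, hp', -⟩ := (htet p p).2 rfl
    refine ⟨o, o', ho, ho', hne, hz, hz', ?_, hp, ?_, hp'⟩
    · rw [← hz]; exact Finset.smul_mem_smul_finset hp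
    · rw [← hz']; exact Finset.smul_mem_smul_finset hp'
  refine ⟨(tetKernel ρ).subgroupOf M24, ?_, ?_, ?_, ?_⟩
  · intro g
    refine ⟨1, ?_⟩
    rw [pow_one, sq]
    exact Subtype.ext (Subtype.ext (sq_tetKernel hr (Subgroup.mem_subgroupOf.1 g.2)))
  · intro c hc
    rw [Subgroup.mem_subgroupOf, mem_tetKernel]
    have hcomm : ∀ g ∈ tetKernel ρ, g * (c : Equiv.Perm GolayPt) = c * g := fun g hg =>
      congrArg Subtype.val (Subgroup.mem_centralizer_iff.1 hc
        ⟨g, (mem_tetKernel.1 hg).1⟩ hg)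
    refine ⟨c.2, (hcomm ρ hzK).symm, fun p => ?_⟩
    by_contra hne
    obtain ⟨-, -, -, hwit, hsep⟩ := tetrad_group_checks
    simp only [List.all_eq_true, List.mem_range, Bool.or_eq_true, Nat.beq_eq, List.any_eq_true,
      Bool.and_eq_true, Bool.not_eq_true'] at hwit hsep
    obtain ⟨t, ht, htj, hti⟩ := (hsep _ (idx_lt ((c : Equiv.Perm GolayPt) p)) _ (idx_lt p)).resolve_left hne
    obtain ⟨h1, h2⟩ := hwit t ht
    obtain ⟨τ, hτ, hτt⟩ := exists_stab_rep (masks := sixTetrads) (prev := []) rfl h1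
    have hτK : τ ∈ tetKernel ρ := by
      obtain ⟨hM, hmask, -⟩ := mem_stabG.1 hτ
      refine mem_tetKernel.2 ⟨hM, (eqP_iff (hτt.mul hr) (hr.mul hτt)).1 h2, fun x => ?_⟩
      have hx := tetrad_group_checks.1
      simp only [List.all_eq_true, List.mem_range, Bool.and_eq_true, List.any_eq_true] at hx
      obtain ⟨m, hm, hmb⟩ := (hx _ (idx_lt x)).1
      have : τ x ∈ toSet m := by
        rw [← hmask m hm]
        exact Finset.smul_mem_smul_finset (mem_toSet.2 hmb)
      exact ((mem_sixTetrads hm (idx_lt x) (idx_lt _) hmb).1 (mem_toSet.1 this)).symm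
    have hfix : τ p = p := idx_injective (by rw [← hτt.get]; exact htj)
    have hmove : τ ((c : Equiv.Perm GolayPt) p) = (c : Equiv.Perm GolayPt) p := by
      rw [← Equiv.Perm.mul_apply, hcomm τ hτK, Equiv.Perm.mul_apply, hfix]
    rw [hτt.get, hmove] at hti
    simp at hti
  · intro g hg
    rw [Subgroup.mem_centralizer_singleton_iff]
    exact Subtype.ext (mem_tetKernel.1 (Subgroup.mem_subgroupOf.1 hg)).2.1
  · intro c hc
    have hcz : (c : Equiv.Perm GolayPt) * ρ = ρ * c :=
      congrArg Subtype.val (Subgroup.mem_centralizer_singleton_iff.1 hc)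
    have key : ∀ (σ : M24), (σ : Equiv.Perm GolayPt) * ρ = ρ * σ → ∀ g : M24,
        (g : Equiv.Perm GolayPt) ∈ tetKernel ρ →
        ((σ * g * σ⁻¹ : M24) : Equiv.Perm GolayPt) ∈ tetKernel ρ := by
      intro σ hσ g hg
      obtain ⟨-, hgc, hgt⟩ := mem_tetKernel.1 hg
      refine mem_tetKernel.2 ⟨(σ * g * σ⁻¹).2, ?_, fun p => ?_⟩
      · simp only [Subgroup.coe_mul, Subgroup.coe_inv]
        exact ((Commute.mul_left (Commute.mul_left hσ hgc) (Commute.inv_left hσ)) :
          Commute _ ρ).eq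
      · rw [← htet]
        have h := ((htet _ ((σ : Equiv.Perm GolayPt)⁻¹ p)).2 (hgt _)).smul σ.2 hσ
        simpa using h
    rw [Subgroup.mem_normalizer_iff]
    intro g
    simp only [SetLike.mem_coe, Subgroup.mem_subgroupOf]
    refine ⟨key c hcz g, fun hg => ?_⟩
    have h := key c⁻¹ (by exact (Commute.inv_left hcz).eq) _ hg
    simpa [mul_assoc] using h

end CfsgLib.Spor
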