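import Cfsg.Agent.Lib.Spor.SextetGroup
import Cfsg.Agent.Lib.Spor.TetradCentral
import Cfsg.Agent.Lib.Spor.Orb.FpfCent

/-!
The centraliser of a fixed-point-free involution of M24.
-/

set_option autoImplicit false
set_option maxRecDepth 100000

namespace CfsgLib.Spor

open Cfsg CfsgLib.MathieuOut CfsgLib.Spor.BlockData
open scoped Pointwise

theorem fpf_checks :
    (fpfConj.map Prod.fst = sexInvol.filter fun a => Nat.beq (fixPts a).length 0) ∧
    (fpfConj.map fun e => normP e.1).Nodup ∧ fpfConj.length = 18 ∧ fpfBase ∈ fpfConj.map Prod.fst ∧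
    (fpfConj.all fun e => isM24P e.2 && fixPartsB e.2 sexBase &&
      eqP (compP e.2 fpfBase) (compP e.1 e.2)) = true ∧
    powP fpfBase 2 = CfsgLib.Spor.idP ∧ fpfBase ≠ CfsgLib.Spor.idP ∧ compP CfsgLib.Spor.idP fpfBase = fpfBase ∧
    isM24P fpfToRep = true ∧ eqP (compP fpfToRep fpfBase) (compP syl2Rep1 fpfToRep) = true ∧
    (sexBase.all fun m => sixTetrads.contains (actP fpfToRep m)) = true ∧
    partsOK sixTetrads = true ∧ sixTetrads.length = 6 ∧ partsOK sexBase = true ∧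
    (sixTetrads.all fun m => (List.range 24).any fun i => m.testBit i) = true ∧
    ((List.range 24).all fun j => isM24P (fpfMove.getD j 0) &&
      eqP (compP (fpfMove.getD j 0) fpfBase) (compP fpfBase (fpfMove.getD j 0)) &&
      Nat.beq (getP (fpfMove.getD j 0) 0) j) = true ∧
    isM24P fpfThree = true ∧ eqP (compP fpfThree fpfBase) (compP fpfBase fpfThree) = true ∧
    powP fpfThree 3 = CfsgLib.Spor.idP ∧ fpfThree ≠ CfsgLib.Spor.idP ∧
    compP CfsgLib.Spor.idP fpfThree = fpfThree ∧ (fixPts fpfThree).length = 0 := by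
  decide +kernel

theorem sexInvol_rep {a : ℕ} (ha : a ∈ sexInvol) : ∃ x ∈ baseSq, Rep x a := by
  obtain ⟨hm, hsq⟩ := List.mem_filter.1 ha
  obtain ⟨i, hi, rfl⟩ := List.mem_map.1 hm
  obtain ⟨σ, hσ, hr⟩ := listed_mem sexKer_listed (List.mem_range.1 hi)
  refine ⟨σ, ⟨(tetradwise_eq hσ).1, (tetradwise_eq hσ).2, ?_⟩, hr⟩
  rw [Nat.beq_eq] at hsq
  have h2 := hr.pow 2
  rw [hsq] at h2
  exact (pow_two σ).symm.trans (h2.inj rep_one)

theorem baseSq_rep {x : Equiv.Perm GolayPt} (hx : x ∈ baseSq) : ∃ a ∈ sexInvol, Rep x a := by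
  obtain ⟨i, hi, hr⟩ := listed_complete sexKer_listed (baseKer_subset hx.1 hx.2.1)
  refine ⟨_, List.mem_filter.2 ⟨List.mem_map.2 ⟨i, List.mem_range.2 hi, rfl⟩, ?_⟩, hr⟩
  rw [Nat.beq_eq, show powP (getT 120 sexKerTbl i) 2 = compP _ (powP _ 1) from rfl,
    hr.compP_eq (hr.pow 1), pow_one, hx.2.2]
  decide +kernel

/-- elements commuting with `σ`, in M24 -/
def cen (σ : Equiv.Perm GolayPt) : Subgroup (Equiv.Perm GolayPt) :=
  M24 ⊓ Subgroup.centralizer {σ}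

theorem mem_cen {σ g : Equiv.Perm GolayPt} : g ∈ cen σ ↔ g ∈ M24 ∧ g * σ = σ * g := by
  rw [cen, Subgroup.mem_inf, Subgroup.mem_centralizer_singleton_iff]

theorem cen_preserves_six {ρ g : Equiv.Perm GolayPt} (hr : Rep ρ syl2Rep1) (hg : g ∈ cen ρ) :
    g • toFam sixTetrads = toFam sixTetrads := by
  obtain ⟨hgM, hgc⟩ := mem_cen.1 hg
  have hgc' : g⁻¹ * ρ = ρ * g⁻¹ := (Commute.inv_left hgc).eq
  refine Finset.eq_of_subset_of_card_le ?_ (Finset.card_smul_finset _ _).ge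
  intro s hs
  obtain ⟨t, ht, rfl⟩ := Finset.mem_smul_finset.1 hs
  obtain ⟨m, hm, rfl⟩ := List.mem_map.1 (List.mem_toFinset.1 ht)
  obtain ⟨i, hi, hmi⟩ := List.any_eq_true.1
    (List.all_eq_true.1 fpf_checks.2.2.2.2.2.2.2.2.2.2.2.2.2.2.1 m hm)
  rw [List.mem_range] at hi
  have h1 := tetrad_group_checks.1
  simp only [List.all_eq_true, List.mem_range, Bool.and_eq_true, List.any_eq_true] at h1
  obtain ⟨m', hm', hmi'⟩ := (h1 _ (idx_lt (g (pt i)))).1
  refine List.mem_toFinset.2 (List.mem_map.2 ⟨m', hm', ?_⟩)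
  ext x
  rw [← Finset.inv_smul_mem_iff, mem_toSet, mem_toSet, Equiv.Perm.smul_def,
    mem_sixTetrads hm hi (idx_lt _) hmi, mem_sixTetrads hm' (idx_lt _) (idx_lt x) hmi']
  constructor
  · intro h
    have h' := ((tet_iff hr (g (pt i)) x).2 h).smul (inv_mem hgM) hgc'
    have h2 := (tet_iff hr _ _).1 h'
    simpa [idx_pt hi] using h2
  · intro h
    have h' := ((tet_iff hr (pt i) (g⁻¹ x)).2 (by rw [idx_pt hi]; exact h)).smul hgM hgc
    have h2 := (tet_iff hr _ _).1 h'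
    simpa using h2

theorem exists_fpfBase : ∃ σ ∈ baseSq, Rep σ fpfBase ∧ orderOf σ = 2 ∧ ∀ p, σ p ≠ p := by
  obtain ⟨hmap, -, -, hmem, -, h2, h1, hcan, -⟩ := fpf_checks
  rw [hmap] at hmem
  obtain ⟨ha, h0⟩ := List.mem_filter.1 hmem
  obtain ⟨σ, hσ, hr⟩ := sexInvol_rep ha
  haveI : Fact (Nat.Prime 2) := ⟨Nat.prime_two⟩
  refine ⟨σ, hσ, hr, orderOf_of_rep hr h2 h1 hcan, (card_filter_eq_zero_iff σ).1 ?_⟩
  rw [hr.card_fixPts, ← Nat.beq_eq]
  exact h0

theorem cen_le_stab {σ g : Equiv.Perm GolayPt} (hr : Rep σ fpfBase) (hg : g ∈ cen σ) :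
    g • sexK.ix.sem 0 = sexK.ix.sem 0 := by
  obtain ⟨-, -, -, -, -, -, -, -, hc, hcomm, hmap, hsix, hlen, hbase, -⟩ := fpf_checks
  obtain ⟨c, hcM, hcr⟩ := exists_rep_M24 hc
  obtain ⟨ρ, hρM, hρ, -⟩ : ∃ ρ ∈ M24, Rep ρ syl2Rep1 ∧ ρ = c * σ * c⁻¹ := by
    obtain ⟨ρ, hρM, hρ⟩ : ∃ ρ ∈ M24, Rep ρ syl2Rep1 :=
      exists_rep_M24 (by decide +kernel)
    refine ⟨ρ, hρM, hρ, ?_⟩
    rw [eq_mul_inv_iff_mul_eq]
    exact ((eqP_iff (hcr.mul hr) (hρ.mul hcr)).1 hcomm).symm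
  have e : c * σ = ρ * c := (eqP_iff (hcr.mul hr) (hρ.mul hcr)).1 hcomm
  have h0 : c • sexK.ix.sem 0 = toFam sixTetrads := by
    rw [show sexK.ix.sem 0 = toFam sexBase from sexK.fam_eq 0 (by decide +kernel)]
    refine Finset.eq_of_subset_of_card_le ?_ ?_
    · intro s hs
      obtain ⟨t, ht, rfl⟩ := Finset.mem_smul_finset.1 hs
      obtain ⟨m, hm, rfl⟩ := List.mem_map.1 (List.mem_toFinset.1 ht)
      refine List.mem_toFinset.2 (List.mem_map.2 ⟨_, ?_, hcr.toSet_actP m⟩)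
      simpa using List.all_eq_true.1 hmap m hm
    · rw [Finset.card_smul_finset, toFam, toFam, List.toFinset_card_of_nodup (map_toSet_nodup hsix),
        List.toFinset_card_of_nodup (map_toSet_nodup hbase), List.length_map, List.length_map,
        hlen, sexBase_facts.1]
  obtain ⟨hgM, hgc⟩ := mem_cen.1 hg
  have hk : c * g * c⁻¹ ∈ cen ρ := by
    refine mem_cen.2 ⟨mul_mem (mul_mem hcM hgM) (inv_mem hcM), ?_⟩
    rw [show ρ = c * σ * c⁻¹ by rw [e]; group]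
    calc c * g * c⁻¹ * (c * σ * c⁻¹) = c * (g * σ) * c⁻¹ := by group
      _ = c * (σ * g) * c⁻¹ := by rw [hgc]
      _ = c * σ * c⁻¹ * (c * g * c⁻¹) := by group
  have h := cen_preserves_six hρ hk
  rw [← h0, mul_smul, mul_smul, inv_smul_smul] at h
  exact smul_left_cancel c h

theorem natCard_cen_base {σ : Equiv.Perm GolayPt} (hr : Rep σ fpfBase) :
    Nat.card (cen σ) = 7680 := by
  obtain ⟨σ', hσ', hr', -, hfpf⟩ := exists_fpfBase
  obtain rfl : σ = σ' := hr.inj hr'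
  obtain ⟨hmap, hnd, hlen, -, hconj, -⟩ := fpf_checks
  set S0 := sexK.ix.sem 0
  let H : Subgroup (Equiv.Perm GolayPt) := M24 ⊓ MulAction.stabilizer (Equiv.Perm GolayPt) S0
  have hH : Nat.card H = 138240 := by
    rw [← sexK.natCard_stab transSex_ok (sexK.ix.mem 0 (by decide +kernel)) (k := 138240)
      (by decide +kernel)]
    exact Nat.card_congr
      { toFun := fun g => ⟨⟨g.1, (Subgroup.mem_inf.1 g.2).1⟩, (Subgroup.mem_inf.1 g.2).2⟩
        invFun := fun g => ⟨g.1.1, Subgroup.mem_inf.2 ⟨g.1.2, g.2⟩⟩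
        left_inv := fun _ => rfl
        right_inv := fun _ => rfl }
  letI act : MulAction ↥H (Equiv.Perm GolayPt) :=
    MulAction.compHom (Equiv.Perm GolayPt) ((MulAut.conj : Equiv.Perm GolayPt →* _).comp H.subtype)
  have hsmul : ∀ (g : ↥H) (x : Equiv.Perm GolayPt), g • x = (g : Equiv.Perm GolayPt) * x *
      (g : Equiv.Perm GolayPt)⁻¹ := fun g x => rfl
  have horb : MulAction.orbit ↥H σ =
      {x | ∃ e ∈ fpfConj, Rep x e.1} := by
    ext x
    constructor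
    · rintro ⟨g, rfl⟩
      show ∃ e ∈ fpfConj, Rep (g • σ) e.1
      rw [hsmul]
      obtain ⟨hg1, hg2⟩ := Subgroup.mem_inf.1 g.2
      have hx : (g : Equiv.Perm GolayPt) * σ * (g : Equiv.Perm GolayPt)⁻¹ ∈ baseSq := by
        obtain ⟨h1, h2, h3⟩ := hσ'
        refine ⟨mul_mem (mul_mem hg1 h1) (inv_mem hg1), fun t ht => ?_, ?_⟩
        · have ht' : (g : Equiv.Perm GolayPt)⁻¹ • t ∈ S0 := by
            have h := Finset.smul_mem_smul_finset (a := (g : Equiv.Perm GolayPt)⁻¹) ht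
            rwa [show (g : Equiv.Perm GolayPt)⁻¹ • S0 = S0 from inv_smul_eq_iff.2 hg2.symm] at h
          rw [mul_smul, mul_smul, h2 _ ht', smul_inv_smul]
        · calc _ = (g : Equiv.Perm GolayPt) * (σ * σ) * (g : Equiv.Perm GolayPt)⁻¹ := by group
            _ = 1 := by rw [h3]; group
      obtain ⟨a, ha, har⟩ := baseSq_rep hx
      have h0 : (fixPts a).length = 0 := by
        rw [← har.card_fixPts, card_fix_conj]
        exact (card_filter_eq_zero_iff σ).2 hfpf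
      have hm : a ∈ fpfConj.map Prod.fst := by
        rw [hmap]
        exact List.mem_filter.2 ⟨ha, by rw [h0]; rfl⟩
      obtain ⟨e, he, rfl⟩ := List.mem_map.1 hm
      exact ⟨e, he, har⟩
    · rintro ⟨e, he, hex⟩
      have h := List.all_eq_true.1 hconj e he
      simp only [Bool.and_eq_true] at h
      obtain ⟨⟨h1, h2⟩, h3⟩ := h
      obtain ⟨g, hg, hgr⟩ := exists_rep_M24 h1
      refine ⟨⟨g, Subgroup.mem_inf.2 ⟨hg, ?_⟩⟩, ?_⟩
      · show g • S0 = S0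
        rw [show S0 = toFam sexBase from sexK.fam_eq 0 (by decide +kernel)]
        exact (smul_toFam_eq_iff hgr fpf_checks.2.2.2.2.2.2.2.2.2.2.2.2.2.1).2 h2
      · show g * σ * g⁻¹ = x
        rw [(eqP_iff (hgr.mul hr) (hex.mul hgr)).1 h3]
        group
  have hcard : (MulAction.orbit ↥H σ).ncard = 18 := by
    rw [horb, ← Set.ncard_image_of_injective _ canon_injective]
    have e : canon '' {x | ∃ e ∈ fpfConj, Rep x e.1} =
        ↑(fpfConj.map fun e => normP e.1).toFinset := by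
      ext a
      simp only [Set.mem_image, List.coe_toFinset, List.mem_map]
      constructor
      · rintro ⟨x, ⟨e, he, hex⟩, rfl⟩
        exact ⟨e, he, (canon_eq_normP hex).symm⟩
      · rintro ⟨e, he, rfl⟩
        obtain ⟨x, -, hx⟩ := sexInvol_rep (a := e.1)
          (List.mem_filter.1 (hmap ▸ List.mem_map_of_mem he)).1
        exact ⟨x, ⟨e, he, hx⟩, canon_eq_normP hx⟩
    rw [e, Set.ncard_coe_finset, List.toFinset_card_of_nodup hnd, List.length_map, hlen]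
  have hC : Nat.card (MulAction.stabilizer ↥H σ) = Nat.card (cen σ) := Nat.card_congr
    { toFun := fun g => ⟨g.1.1, mem_cen.2 ⟨(Subgroup.mem_inf.1 g.1.2).1, by
        have h : g.1.1 * σ * g.1.1⁻¹ = σ := g.2
        calc g.1.1 * σ = g.1.1 * σ * g.1.1⁻¹ * g.1.1 := by group
          _ = σ * g.1.1 := by rw [h]⟩⟩
      invFun := fun g => ⟨⟨g.1, Subgroup.mem_inf.2 ⟨(mem_cen.1 g.2).1, cen_le_stab hr g.2⟩⟩, by
        show g.1 * σ * g.1⁻¹ = σ
        rw [(mem_cen.1 g.2).2]; group⟩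
      left_inv := fun _ => rfl
      right_inv := fun _ => rfl }
  have key := (MulAction.stabilizer ↥H σ).card_mul_index
  rw [MulAction.index_stabilizer, hcard, hH, hC] at key
  omega

theorem exists_conj_fpfBase {t : Equiv.Perm GolayPt} (ht : t ∈ M24) (ho : orderOf t = 2)
    (h0 : ∀ p, t p ≠ p) : ∃ σ ∈ baseSq, Rep σ fpfBase ∧ (∀ p, σ p ≠ p) ∧
      ∃ c ∈ M24, t = c * σ * c⁻¹ := by
  obtain ⟨σ, hσ, hr, hσo, hfpf⟩ := exists_fpfBase
  have key : ∀ u : Equiv.Perm GolayPt, u ∈ M24 → orderOf u = 2 → (∀ p, u p ≠ p) →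
      ∃ ρ, Rep ρ syl2Rep1 ∧ ∃ c ∈ M24, u = c * ρ * c⁻¹ := by
    intro u hu huo hu0
    rcases exists_invol hu huo with ⟨ρ, -, -, h8, -⟩ | ⟨ρ, -, hρ, -, c, hc, e⟩
    · rw [(card_filter_eq_zero_iff u).2 hu0] at h8; norm_num at h8
    · exact ⟨ρ, hρ, c, hc, e⟩
  obtain ⟨ρ, hρ, c, hc, rfl⟩ := key t ht ho h0
  obtain ⟨ρ', hρ', d, hd, e⟩ := key σ hσ.1 hσo hfpf
  obtain rfl : ρ = ρ' := hρ.inj hρ'
  refine ⟨σ, hσ, hr, hfpf, c * d⁻¹, mul_mem hc (inv_mem hd), ?_⟩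
  rw [e]; group

theorem conj_mem_cen {σ c g : Equiv.Perm GolayPt} (hc : c ∈ M24) (hg : g ∈ cen σ) :
    c * g * c⁻¹ ∈ cen (c * σ * c⁻¹) := by
  obtain ⟨h1, h2⟩ := mem_cen.1 hg
  refine mem_cen.2 ⟨mul_mem (mul_mem hc h1) (inv_mem hc), ?_⟩
  calc c * g * c⁻¹ * (c * σ * c⁻¹) = c * (g * σ) * c⁻¹ := by group
    _ = c * (σ * g) * c⁻¹ := by rw [h2]
    _ = c * σ * c⁻¹ * (c * g * c⁻¹) := by group

theorem conj_mem_cen_inv {σ c g : Equiv.Perm GolayPt} (hc : c ∈ M24)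
    (hg : g ∈ cen (c * σ * c⁻¹)) : c⁻¹ * g * c ∈ cen σ := by
  have h := conj_mem_cen (c := c⁻¹) (inv_mem hc) hg
  simpa [mul_assoc] using h

theorem fpf_centralizer {t : Equiv.Perm GolayPt} (ht : t ∈ M24) (ho : orderOf t = 2)
    (h0 : ∀ p, t p ≠ p) :
    Nat.card (cen t) = 7680 ∧ (∀ p q : GolayPt, ∃ g ∈ cen t, g p = q) ∧
      ∃ S ∈ sextets, ∀ g ∈ cen t, g • S = S := by
  obtain ⟨σ, -, hr, -, c, hc, rfl⟩ := exists_conj_fpfBase ht ho h0
  refine ⟨?_, ?_, c • sexK.ix.sem 0,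
    (sexK.smul_set_eq ⟨c, hc⟩).le (Set.smul_mem_smul_set (a := (⟨c, hc⟩ : ↥M24))
      (sexK.ix.mem 0 (by decide +kernel))), fun g hg => ?_⟩
  · rw [← natCard_cen_base hr]
    refine Nat.card_congr
      { toFun := fun g => ⟨c⁻¹ * g.1 * c, conj_mem_cen_inv hc g.2⟩
        invFun := fun g => ⟨c * g.1 * c⁻¹, conj_mem_cen hc g.2⟩
        left_inv := fun g => Subtype.ext (by simp [mul_assoc])
        right_inv := fun g => Subtype.ext (by simp [mul_assoc]) }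
  · have h := fpf_checks.2.2.2.2.2.2.2.2.2.2.2.2.2.2.2.1
    have hmove : ∀ p : GolayPt, ∃ g ∈ cen (c * σ * c⁻¹), g (c (pt 0)) = p := by
      intro p
      have hj := List.all_eq_true.1 h (idx (c⁻¹ p)) (List.mem_range.2 (idx_lt _))
      simp only [Bool.and_eq_true, Nat.beq_eq] at hj
      obtain ⟨⟨h1, h2⟩, h3⟩ := hj
      obtain ⟨g, hg, hgr⟩ := exists_rep_M24 h1
      refine ⟨c * g * c⁻¹, conj_mem_cen hc (mem_cen.2
        ⟨hg, (eqP_iff (hgr.mul hr) (hr.mul hgr)).1 h2⟩), ?_⟩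
      have e : g (pt 0) = c⁻¹ p :=
        idx_injective ((hgr 0 (by norm_num)).symm.trans h3)
      simp [e]
    intro p q
    obtain ⟨a, ha, hap⟩ := hmove p
    obtain ⟨b, hb, hbq⟩ := hmove q
    refine ⟨b * a⁻¹, mul_mem hb (inv_mem ha), ?_⟩
    rw [← hap, Equiv.Perm.mul_apply, Equiv.Perm.inv_def, Equiv.symm_apply_apply, hbq]
  · have h := cen_le_stab hr (conj_mem_cen_inv hc hg)
    calc g • c • sexK.ix.sem 0 = c • ((c⁻¹ * g * c) • sexK.ix.sem 0) := by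
          rw [← mul_smul, ← mul_smul]; congr 1; group
      _ = _ := by rw [h]

theorem three_fpf_of_fpf {x s : Equiv.Perm GolayPt} (hx : x ∈ M24) (hs : s ∈ M24)
    (h₃ : orderOf x = 3) (h₂ : orderOf s = 2) (hc : Commute x s) (h0 : ∀ p, s p ≠ p) :
    ∀ p, x p ≠ p := by
  haveI : Fact (Nat.Prime 3) := ⟨Nat.prime_three⟩
  obtain ⟨σ, -, hr, -, c, hcM, rfl⟩ := exists_conj_fpfBase hs h₂ h0
  obtain ⟨-, -, -, -, -, -, -, -, -, -, -, -, -, -, -, -, hyM, hy1, hy3, hy0, hycan, hyfix⟩ :=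
    fpf_checks
  obtain ⟨y, hy, hyr⟩ := exists_rep_M24 hyM
  have hyC : y ∈ cen σ := mem_cen.2 ⟨hy, (eqP_iff (hyr.mul hr) (hr.mul hyr)).1 hy1⟩
  have hyo : orderOf y = 3 := orderOf_of_rep hyr hy3 hy0 hycan
  have hyfpf : ∀ p, y p ≠ p := (card_filter_eq_zero_iff y).1 (by rw [hyr.card_fixPts, hyfix])
  let X : ↥(cen σ) := ⟨c⁻¹ * x * c, conj_mem_cen_inv hcM (mem_cen.2 ⟨hx, hc.eq⟩)⟩
  let Y : ↥(cen σ) := ⟨y, hyC⟩
  have hXo : orderOf X = 3 := by
    rw [← Subgroup.orderOf_coe]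
    show orderOf (c⁻¹ * x * c) = 3
    rw [show c⁻¹ * x * c = MulAut.conj c⁻¹ x by simp, MulEquiv.orderOf_eq, h₃]
  have hYo : orderOf Y = 3 := by rw [← Subgroup.orderOf_coe]; exact hyo
  have hf : (Nat.card ↥(cen σ)).factorization 3 = 1 := by
    rw [natCard_cen_base hr, show 7680 = 3 * 2560 from rfl,
      Nat.factorization_mul (by norm_num) (by norm_num), Finsupp.add_apply,
      Nat.prime_three.factorization_self, Nat.factorization_eq_zero_of_not_dvd (by norm_num)]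
  let P : Sylow 3 ↥(cen σ) := Sylow.ofCard (Subgroup.zpowers X)
    (by rw [Nat.card_zpowers, hXo, hf, pow_one])
  let Q : Sylow 3 ↥(cen σ) := Sylow.ofCard (Subgroup.zpowers Y)
    (by rw [Nat.card_zpowers, hYo, hf, pow_one])
  obtain ⟨k, hk⟩ := MulAction.exists_smul_eq ↥(cen σ) Q P
  have hXk : X ∈ ((k • Q : Sylow 3 ↥(cen σ)) : Subgroup ↥(cen σ)) := by
    rw [hk]; exact Subgroup.mem_zpowers X
  rw [Sylow.coe_subgroup_smul, Subgroup.mem_pointwise_smul_iff_inv_smul_mem] at hXk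
  obtain ⟨n, hn⟩ := Subgroup.mem_zpowers_iff.1 hXk
  have hX : X = k * Y ^ n * k⁻¹ := by
    rw [hn, MulAut.smul_def]
    simp [mul_assoc]
  intro p hp
  have hq : ((Y ^ n : ↥(cen σ)) : Equiv.Perm GolayPt) ((k : Equiv.Perm GolayPt)⁻¹ (c⁻¹ p)) =
      (k : Equiv.Perm GolayPt)⁻¹ (c⁻¹ p) := by
    have e : (X : Equiv.Perm GolayPt) (c⁻¹ p) = c⁻¹ p := by simp [X, hp]
    rw [hX] at e
    simp only [Subgroup.coe_mul, Subgroup.coe_inv, Equiv.Perm.mul_apply] at e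
    rw [Equiv.Perm.inv_def, Equiv.eq_symm_apply]
    simpa using e
  rw [← zpow_mod_orderOf, hYo] at hq hn
  have hn' := Int.emod_lt_of_pos n (show (0 : ℤ) < ((3 : ℕ) : ℤ) by norm_num)
  have hn'' := Int.emod_nonneg n (show ((3 : ℕ) : ℤ) ≠ 0 by norm_num)
  generalize hm : n % ((3 : ℕ) : ℤ) = m at hq hn hn' hn''
  have hY3 : ∀ q, y (y (y q)) = q := fun q => by
    have := pow_orderOf_eq_one y
    rw [hyo] at this
    exact DFunLike.congr_fun this q
  rcases (show m = 0 ∨ m = 1 ∨ m = 2 by omega) with rfl | rfl | rfl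
  · rw [zpow_zero, eq_comm, inv_smul_eq_iff, smul_one] at hn
    rw [hn, orderOf_one] at hXo
    norm_num at hXo
  · rw [zpow_one] at hq
    exact hyfpf _ hq
  · rw [zpow_ofNat] at hq
    have h2 : y (y ((k : Equiv.Perm GolayPt)⁻¹ (c⁻¹ p))) = (k : Equiv.Perm GolayPt)⁻¹ (c⁻¹ p) := hq
    exact hyfpf _ ((congrArg y h2).symm.trans (hY3 _))

theorem three_comm_cases {x s : Equiv.Perm GolayPt} (hx : x ∈ M24) (hs : s ∈ M24)
    (h₃ : orderOf x = 3) (h₂ : orderOf s = 2) (hc : Commute x s) :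
    ((Finset.univ.filter fun p => x p = p).card = 6 ∧
      (Finset.univ.filter fun p => s p = p).card = 8) ∨
    ((Finset.univ.filter fun p => x p = p).card = 0 ∧
      (Finset.univ.filter fun p => s p = p).card = 0) := by
  rcases exists_invol hs h₂ with ⟨-, -, -, h8, -⟩ | ⟨-, -, -, h0, -⟩
  · rcases exists_ord3 hx h₃ with ⟨-, -, -, h6, -⟩ | ⟨-, -, -, hx0, -⟩
    · exact Or.inl ⟨h6, h8⟩
    · exfalso
      haveI : Fact (Nat.Prime 3) := ⟨Nat.prime_three⟩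
      have hF : ∀ p, s p = p ↔ s (x p) = x p := fun p => by
        have e : s (x p) = x (s p) := (DFunLike.congr_fun hc.eq p).symm
        rw [e]; exact x.injective.eq_iff.symm
      let e : Equiv.Perm {p // s p = p} := x.subtypePerm fun p => (hF p).symm
      have he : e ^ 3 ^ 1 = 1 := by
        have := pow_orderOf_eq_one x
        rw [h₃] at this
        show (x.subtypePerm _) ^ 3 ^ 1 = 1
        ext p
        rw [Equiv.Perm.subtypePerm_pow]
        simp [this]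
      obtain ⟨a, ha⟩ := Equiv.Perm.exists_fixed_point_of_prime (p := 3) (n := 1)
        (α := {p // s p = p}) (by rw [Fintype.card_subtype, h8]; norm_num) he
      exact (card_filter_eq_zero_iff x).1 hx0 a.1 (congrArg Subtype.val ha)
  · refine Or.inr ⟨(card_filter_eq_zero_iff x).2 ?_, h0⟩
    exact three_fpf_of_fpf hx hs h₃ h₂ hc ((card_filter_eq_zero_iff s).1 h0)

end CfsgLib.Spor
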