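import Cfsg.Agent.Lib.Spor.MathieuSimple
import Cfsg.Agent.Lib.Spor.M24Trans

/-!
The pointwise stabiliser of an octad in M24 is elementary abelian of order 16.
-/

set_option autoImplicit false

namespace CfsgLib.Spor

open Cfsg
open scoped Pointwise

/-- the packed elements fixing the base octad pointwise -/
def octadFixList : List ℕ :=
  (m24T5.flatMap fun s => m24T6.map fun t => compP s t).filter fun a =>
    (List.range 24).all fun i => !baseOctad.testBit i || Nat.beq (getP a i) i

theorem octadFixList_spec : octadFixList.length = 16 ∧ (octadFixList.map fun a => (List.range 24).map (getP a)).Nodup ∧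
    octadFixList.all (fun a => Nat.beq (compP a a) (packL (List.range 24))) = true ∧
    octadFixList.all (fun a => isM24P a) = true := by decide +kernel

theorem octadFix_inj {σ : Equiv.Perm GolayPt} {a b : ℕ} (ha : a ∈ octadFixList)
    (hb : b ∈ octadFixList) (h : Rep σ a) (h' : Rep σ b) : a = b :=
  List.inj_on_of_nodup_map octadFixList_spec.2.1 ha hb (List.map_congr_left fun i hi => by
    rw [h i (List.mem_range.1 hi), h' i (List.mem_range.1 hi)])

theorem exists_rep_octadFix {g : Equiv.Perm GolayPt}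
    (hg : g ∈ M24 ⊓ fixingSubgroup (Equiv.Perm GolayPt) (↑(toSet baseOctad) : Set GolayPt)) :
    ∃ a ∈ octadFixList, Rep g a := by
  obtain ⟨hgM, hgf⟩ := hg
  have hfix : ∀ i < 24, baseOctad.testBit i = true → g (pt i) = pt i := fun i hi hb =>
    (mem_fixingSubgroup_iff _).1 hgf (pt i) (Finset.mem_coe.2 (mem_toSet.2 (by rw [idx_pt hi]; exact hb)))
  obtain ⟨s, hs, t, ht, hst⟩ := exists_pair_of_fix_five (g := g) (mem_fixL.2 ⟨hgM, fun b hb => by
    simp only [List.mem_cons, List.not_mem_nil, or_false] at hb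
    rcases hb with rfl | rfl | rfl | rfl | rfl <;>
      exact hfix _ (by norm_num) (by decide +kernel)⟩)
  refine ⟨_, ?_, hst⟩
  simp only [octadFixList, List.mem_filter, List.mem_flatMap, List.mem_map, List.all_eq_true,
    List.mem_range, Bool.or_eq_true, Bool.not_eq_true', Nat.beq_eq]
  refine ⟨⟨s, hs, t, ht, rfl⟩, fun i hi => ?_⟩
  by_cases hb : baseOctad.testBit i = true
  · exact Or.inr ((hst.fix_iff hi).1 (hfix i hi hb))
  · exact Or.inl (by simpa using hb)

theorem octadFix_mem {a : ℕ} (ha : a ∈ octadFixList) {σ : Equiv.Perm GolayPt} (hM : σ ∈ M24)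
    (hσ : Rep σ a) :
    σ ∈ M24 ⊓ fixingSubgroup (Equiv.Perm GolayPt) (↑(toSet baseOctad) : Set GolayPt) := by
  refine ⟨hM, (mem_fixingSubgroup_iff _).2 fun p hp => ?_⟩
  simp only [octadFixList, List.mem_filter, List.all_eq_true, List.mem_range, Bool.or_eq_true,
    Bool.not_eq_true', Nat.beq_eq] at ha
  have h := (ha.2 (idx p) (idx_lt p)).resolve_left (by
    rw [mem_toSet.1 (Finset.mem_coe.1 hp)]; simp)
  rw [hσ.get] at h
  exact idx_injective h

theorem natCard_octadFix_base :
    Nat.card ↥(M24 ⊓ fixingSubgroup (Equiv.Perm GolayPt) (↑(toSet baseOctad) : Set GolayPt)) = 16 := by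
  choose f hf hr using fun g : ↥(M24 ⊓ fixingSubgroup (Equiv.Perm GolayPt)
    (↑(toSet baseOctad) : Set GolayPt)) => exists_rep_octadFix g.2
  rw [Nat.card_congr (Equiv.ofBijective
    (fun g => (⟨f g, List.mem_toFinset.2 (hf g)⟩ : ↥(octadFixList.toFinset)))
    ⟨fun g h e => Subtype.ext ((hr g).inj (by rw [show f g = f h from congrArg Subtype.val e]; exact hr h)), fun a => by
      have ha : (a : ℕ) ∈ octadFixList := List.mem_toFinset.1 a.2
      obtain ⟨σ, hM, hσ⟩ := exists_rep_M24 (List.all_eq_true.1 octadFixList_spec.2.2.2 _ ha)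
      refine ⟨⟨σ, octadFix_mem ha hM hσ⟩, Subtype.ext ?_⟩
      have h1 := hr ⟨σ, octadFix_mem ha hM hσ⟩
      exact octadFix_inj (hf _) ha h1 hσ⟩),
    Nat.card_eq_fintype_card, Fintype.card_coe,
    List.toFinset_card_of_nodup (List.Nodup.of_map _ octadFixList_spec.2.1)]
  exact octadFixList_spec.1

theorem sq_octadFix_base {g : Equiv.Perm GolayPt}
    (hg : g ∈ M24 ⊓ fixingSubgroup (Equiv.Perm GolayPt) (↑(toSet baseOctad) : Set GolayPt)) :
    g * g = 1 := by
  obtain ⟨a, ha, hr⟩ := exists_rep_octadFix hg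
  have h := Nat.eq_of_beq_eq_true (List.all_eq_true.1 octadFixList_spec.2.2.1 a ha)
  have h2 := hr.mul hr
  rw [h] at h2
  exact h2.inj rep_one

theorem octad_pointwise_stabilizer {o : Finset GolayPt} (ho : o ∈ octads) :
    Nat.card ↥(M24 ⊓ fixingSubgroup (Equiv.Perm GolayPt) (o : Set GolayPt)) = 16 ∧
      ∀ g ∈ M24 ⊓ fixingSubgroup (Equiv.Perm GolayPt) (o : Set GolayPt), g * g = 1 := by
  obtain ⟨k, hk, hkb⟩ := exists_smul_octad baseOctad_mem ho
  subst hkb
  have key : ∀ g, g ∈ M24 ⊓ fixingSubgroup (Equiv.Perm GolayPt)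
      (↑(k • toSet baseOctad) : Set GolayPt) ↔ k⁻¹ * g * k ∈
        M24 ⊓ fixingSubgroup (Equiv.Perm GolayPt) (↑(toSet baseOctad) : Set GolayPt) := by
    intro g
    simp only [Subgroup.mem_inf, mem_fixingSubgroup_iff, Finset.mem_coe]
    refine and_congr ?_ ?_
    · rw [Subgroup.mul_mem_cancel_right _ hk, Subgroup.mul_mem_cancel_left _ (Subgroup.inv_mem _ hk)]
    · constructor
      · intro h p hp
        have := h (k p) (Finset.mem_smul_finset.2 ⟨p, hp, rfl⟩)
        rw [Equiv.Perm.smul_def] at this ⊢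
        simp [Equiv.Perm.mul_apply, this]
      · intro h p hp
        obtain ⟨q, hq, rfl⟩ := Finset.mem_smul_finset.1 hp
        have := h q hq
        simp only [Equiv.Perm.smul_def, Equiv.Perm.mul_apply] at this ⊢
        exact (Equiv.Perm.inv_eq_iff_eq.1 this)
  constructor
  · rw [← natCard_octadFix_base]
    refine Nat.card_congr ⟨fun g => ⟨k⁻¹ * g * k, (key g).1 g.2⟩,
      fun g => ⟨k * g * k⁻¹, (key _).2 (by
        rw [show k⁻¹ * (k * (g : Equiv.Perm GolayPt) * k⁻¹) * k = g by group]; exact g.2)⟩,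
      fun g => Subtype.ext (by show k * (k⁻¹ * (g : Equiv.Perm GolayPt) * k) * k⁻¹ = g; group),
      fun g => Subtype.ext (by show k⁻¹ * (k * (g : Equiv.Perm GolayPt) * k⁻¹) * k = g; group)⟩
  · intro g hg
    have := sq_octadFix_base ((key g).1 hg)
    calc g * g = k * (k⁻¹ * g * k * (k⁻¹ * g * k)) * k⁻¹ := by group
      _ = 1 := by rw [this]; group

end CfsgLib.Spor
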