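import Mathlib
import Cfsg.Prelude.Def_Sporadic_a

/-!
Bit-mask representation of subsets of the 24 points of the Golay code, suitable for kernel
computation: point `some x` is bit `x.val`, the extra point is bit 23.
-/

set_option autoImplicit false

namespace CfsgLib.Spor

open Cfsg

/-- bit index of a point -/
def idx : GolayPt → ℕ
  | none => 23
  | some x => x.val

/-- point of a bit index (only indices below 24 matter) -/
def pt (i : ℕ) : GolayPt := if i < 23 then some (i : ZMod 23) else none

theorem idx_lt : ∀ p : GolayPt, idx p < 24 := by decide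

theorem pt_idx : ∀ p : GolayPt, pt (idx p) = p := by decide

theorem idx_pt {i : ℕ} (h : i < 24) : idx (pt i) = i := by
  revert h; revert i
  decide

theorem idx_injective : Function.Injective idx := fun p q h => by
  rw [← pt_idx p, ← pt_idx q, h]

theorem card_golayPt : Fintype.card GolayPt = 24 := by decide

/-- the points whose bit is set in `m` -/
def toSet (m : ℕ) : Finset GolayPt := Finset.univ.filter fun p => m.testBit (idx p)

/-- the mask of a set of points -/
def mask (s : Finset GolayPt) : ℕ := Nat.ofBits fun i : Fin 24 => decide (pt i ∈ s)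

/-- the word with support given by a mask -/
def word (m : ℕ) : GolayPt → ZMod 2 := fun p => if m.testBit (idx p) then 1 else 0

@[simp] theorem mem_toSet {m : ℕ} {p : GolayPt} : p ∈ toSet m ↔ m.testBit (idx p) = true := by
  simp [toSet]

theorem mask_lt (s : Finset GolayPt) : mask s < 2 ^ 24 := Nat.ofBits_lt_two_pow _

theorem testBit_mask (s : Finset GolayPt) (p : GolayPt) :
    (mask s).testBit (idx p) = decide (p ∈ s) := by
  rw [mask, Nat.testBit_ofBits_lt _ _ (idx_lt p)]
  simp [pt_idx]

@[simp] theorem toSet_mask (s : Finset GolayPt) : toSet (mask s) = s := by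
  ext p; simp [testBit_mask]

theorem mask_toSet {m : ℕ} (h : m < 2 ^ 24) : mask (toSet m) = m := by
  apply Nat.eq_of_testBit_eq
  intro i
  by_cases hi : i < 24
  · have := testBit_mask (toSet m) (pt i)
    rw [idx_pt hi] at this
    rw [this]
    simp [idx_pt hi]
  · have h2 : (2:ℕ) ^ 24 ≤ 2 ^ i := Nat.pow_le_pow_right (by norm_num) (by omega)
    rw [Nat.testBit_eq_false_of_lt (lt_of_lt_of_le (mask_lt _) h2),
      Nat.testBit_eq_false_of_lt (lt_of_lt_of_le h h2)]

theorem toSet_injOn {m n : ℕ} (hm : m < 2 ^ 24) (hn : n < 2 ^ 24) (h : toSet m = toSet n) :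
    m = n := by
  rw [← mask_toSet hm, ← mask_toSet hn, h]

theorem mask_injective : Function.Injective mask := fun s t h => by
  rw [← toSet_mask s, ← toSet_mask t, h]

theorem toSet_and (m n : ℕ) : toSet (m &&& n) = toSet m ∩ toSet n := by
  ext p; simp

theorem toSet_or (m n : ℕ) : toSet (m ||| n) = toSet m ∪ toSet n := by
  ext p; simp

theorem toSet_xor (m n : ℕ) : toSet (m ^^^ n) = symmDiff (toSet m) (toSet n) := by
  ext p
  simp only [mem_toSet, Nat.testBit_xor, Finset.mem_symmDiff]
  cases m.testBit (idx p) <;> cases n.testBit (idx p) <;> simp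

theorem toSet_zero : toSet 0 = ∅ := by
  ext p; simp

theorem toSet_full : toSet 16777215 = Finset.univ := by decide

theorem toSet_compl (m : ℕ) : toSet (16777215 ^^^ m) = (toSet m)ᶜ := by
  ext p
  have h : (16777215 : ℕ).testBit (idx p) = true := mem_toSet.1 (toSet_full ▸ Finset.mem_univ p)
  simp [Nat.testBit_xor, h]

theorem mask_inter (s t : Finset GolayPt) : mask (s ∩ t) = mask s &&& mask t := by
  rw [← mask_toSet (Nat.and_lt_two_pow _ (mask_lt t) : mask s &&& mask t < 2 ^ 24), toSet_and,
    toSet_mask, toSet_mask]

theorem mask_union (s t : Finset GolayPt) : mask (s ∪ t) = mask s ||| mask t := by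
  rw [← mask_toSet (Nat.or_lt_two_pow (mask_lt s) (mask_lt t)), toSet_or,
    toSet_mask, toSet_mask]

theorem mask_empty : mask ∅ = 0 := by
  rw [← toSet_zero, mask_toSet (by norm_num)]

theorem word_eq_one_iff {m : ℕ} {p : GolayPt} : word m p = 1 ↔ m.testBit (idx p) = true := by
  unfold word; split <;> simp_all

theorem word_zero : word 0 = 0 := by
  funext p; simp [word]

theorem word_xor (m n : ℕ) : word (m ^^^ n) = word m + word n := by
  funext p
  simp only [word, Pi.add_apply, Nat.testBit_xor]
  cases m.testBit (idx p) <;> cases n.testBit (idx p) <;> decide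

theorem support₂_word (m : ℕ) : support₂ (word m) = toSet m := by
  ext p
  simp [support₂, word]

theorem zmod2_eq_ite (a : ZMod 2) : a = if a ≠ 0 then 1 else 0 := by
  revert a; decide

theorem word_mask_support₂ (w : GolayPt → ZMod 2) : word (mask (support₂ w)) = w := by
  funext p
  simp only [word, testBit_mask, support₂, Finset.mem_filter, Finset.mem_univ, true_and,
    decide_eq_true_eq]
  exact (zmod2_eq_ite (w p)).symm

theorem support₂_injective : Function.Injective (support₂ : (GolayPt → ZMod 2) → Finset GolayPt) :=
  fun v w h => by rw [← word_mask_support₂ v, ← word_mask_support₂ w, h]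

theorem hammingNorm_eq_card_support₂ (w : GolayPt → ZMod 2) :
    hammingNorm w = (support₂ w).card := rfl

/-! ### Popcount -/

/-- popcounts of 0 .. 255 packed in 4-bit fields -/
def popTbl : ℕ := 0x8776766576656554766565546554544376656554655454436554544354434332766565546554544365545443544343326554544354434332544343324332322176656554655454436554544354434332655454435443433254434332433232216554544354434332544343324332322154434332433232214332322132212110

/-- popcount of a 24-bit number, in a few accelerated operations -/
def pop (m : ℕ) : ℕ :=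
  ((popTbl >>> (4 * (m % 256))) &&& 15) + ((popTbl >>> (4 * (m / 256 % 256))) &&& 15)
    + ((popTbl >>> (4 * (m / 65536 % 256))) &&& 15)

/-- bit count below `n` -/
def bitCount (n m : ℕ) : ℕ := ∑ i ∈ Finset.range n, (m.testBit i).toNat

set_option maxRecDepth 100000 in
theorem popTbl_spec : ∀ v < 256,
    (popTbl >>> (4 * v)) &&& 15 =
      (v.testBit 0).toNat + (v.testBit 1).toNat + (v.testBit 2).toNat + (v.testBit 3).toNat
      + (v.testBit 4).toNat + (v.testBit 5).toNat + (v.testBit 6).toNat + (v.testBit 7).toNat := by
  decide +kernel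

theorem testBit_mod256 (m : ℕ) {i : ℕ} (h : i < 8) : (m % 256).testBit i = m.testBit i := by
  rw [show (256 : ℕ) = 2 ^ 8 by norm_num, Nat.testBit_mod_two_pow]; simp [h]

theorem testBit_div (m k i : ℕ) : (m / 2 ^ k).testBit i = m.testBit (k + i) := by
  rw [← Nat.shiftRight_eq_div_pow, Nat.testBit_shiftRight]

theorem pop_eq_bitCount (m : ℕ) : pop m = bitCount 24 m := by
  have h1 := popTbl_spec (m % 256) (Nat.mod_lt _ (by norm_num))
  have h2 := popTbl_spec (m / 256 % 256) (Nat.mod_lt _ (by norm_num))
  have h3 := popTbl_spec (m / 65536 % 256) (Nat.mod_lt _ (by norm_num))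
  rw [pop, h1, h2, h3]
  simp only [show (256 : ℕ) = 2 ^ 8 by norm_num, show (65536 : ℕ) = 2 ^ 16 by norm_num]
  simp only [Nat.testBit_mod_two_pow, show (0:ℕ) < 8 by norm_num, show (1:ℕ) < 8 by norm_num,
    show (2:ℕ) < 8 by norm_num, show (3:ℕ) < 8 by norm_num, show (4:ℕ) < 8 by norm_num,
    show (5:ℕ) < 8 by norm_num, show (6:ℕ) < 8 by norm_num, show (7:ℕ) < 8 by norm_num,
    decide_true, Bool.true_and, testBit_div]
  simp only [bitCount, Finset.sum_range_succ, Finset.sum_range_zero]
  norm_num
  omega

theorem card_toSet (m : ℕ) : (toSet m).card = pop m := by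
  rw [pop_eq_bitCount, bitCount]
  have : ∀ i ∈ Finset.range 24, (m.testBit i).toNat = if m.testBit i then 1 else 0 := by
    intro i _; cases m.testBit i <;> rfl
  rw [Finset.sum_congr rfl this, ← Finset.card_filter]
  refine Finset.card_bij (fun p _ => idx p) ?_ (fun p _ q _ h => idx_injective h) ?_
  · intro p hp
    simp only [mem_toSet] at hp
    simp [hp, idx_lt]
  · intro i hi
    simp only [Finset.mem_filter, Finset.mem_range] at hi
    exact ⟨pt i, by simp [idx_pt hi.1, hi.2], idx_pt hi.1⟩

theorem pop_mask (s : Finset GolayPt) : pop (mask s) = s.card := by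
  rw [← card_toSet, toSet_mask]

end CfsgLib.Spor
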