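import Cfsg.Agent.Lib.Spor.OrbitApply
import Cfsg.Agent.Lib.Spor.Orb.TransOct

/-!
Distances in the graph of disjointness on octads.
-/

set_option autoImplicit false
set_option maxRecDepth 100000

namespace CfsgLib.Spor

open Cfsg
open scoped Pointwise

/-- meet of indexed octads -/
def meetO (i j : ℕ) : ℕ := pop (getT 24 octTbl i &&& getT 24 octTbl j)

theorem octGraph_spec : ((List.range 759).all fun i =>
    if meetO 0 i = 4 then (List.range 759).any (fun j => Nat.beq (meetO 0 j) 0 && Nat.beq (meetO j i) 0)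
    else if meetO 0 i = 2 then
      (List.range 759).all (fun j => !(Nat.beq (meetO 0 j) 0 && Nat.beq (meetO j i) 0)) &&
      (List.range 759).any (fun j => Nat.beq (meetO 0 j) 0 && Nat.beq (meetO j i) 4)
    else Nat.beq i 0 || Nat.beq (meetO 0 i) 0) = true := by decide +kernel

theorem octInter_sem (g : Equiv.Perm GolayPt) (i j : ℕ) :
    ((g • octK.ix.sem i) ∩ (g • octK.ix.sem j)).card = meetO i j := by
  rw [← Finset.smul_finset_inter, Finset.card_smul_finset]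
  show (toSet _ ∩ toSet _).card = _
  rw [← toSet_and, card_toSet]
  rfl

theorem exists_idx_pair {o o' : Finset GolayPt} (ho : o ∈ octads) (ho' : o' ∈ octads) :
    ∃ g ∈ M24, ∃ i < 759, g • octK.ix.sem 0 = o ∧ g • octK.ix.sem i = o' := by
  obtain ⟨⟨g, hg⟩, h⟩ := octK.exists_trans transOct_ok (octK.ix.mem 0 (by decide +kernel)) ho
  obtain ⟨i, hi, hie⟩ := octK.ix.complete _ (octK.smul_mem _ (inv_mem hg) _ ho')
  exact ⟨g, hg, i, hi, h, by rw [hie, smul_inv_smul]⟩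

theorem octads_meet_facts {o o' : Finset GolayPt} (ho : o ∈ octads) (ho' : o' ∈ octads) :
    ((o ∩ o').card = 4 → ∃ x ∈ octads, (o ∩ x).card = 0 ∧ (x ∩ o').card = 0) ∧
    ((o ∩ o').card = 2 → (∀ x ∈ octads, (o ∩ x).card = 0 → (x ∩ o').card = 0 → False) ∧
      ∃ x ∈ octads, (o ∩ x).card = 0 ∧ (x ∩ o').card = 4) ∧
    (o ≠ o' → (o ∩ o').card = 0 ∨ (o ∩ o').card = 4 ∨ (o ∩ o').card = 2) := by
  obtain ⟨g, hg, i, hi, rfl, rfl⟩ := exists_idx_pair ho ho'
  have h := List.all_eq_true.1 octGraph_spec i (List.mem_range.2 hi)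
  rw [octInter_sem]
  refine ⟨fun h4 => ?_, fun h2 => ?_, fun hne => ?_⟩
  · simp only [h4, if_true, List.any_eq_true, List.mem_range, Bool.and_eq_true, Nat.beq_eq] at h
    obtain ⟨j, hj, h0, h1⟩ := h
    exact ⟨_, octK.smul_mem _ hg _ (octK.ix.mem j hj), by rw [octInter_sem, h0],
      by rw [octInter_sem, h1]⟩
  · simp only [h2, OfNat.ofNat_eq_ofNat, Nat.reduceEqDiff, if_false, if_true, Bool.and_eq_true,
      List.all_eq_true, List.any_eq_true, List.mem_range, Bool.not_eq_true'] at h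
    obtain ⟨hno, j, hj, hj2⟩ := h
    simp only [Nat.beq_eq] at hj2
    refine ⟨fun x hx hx0 hx1 => ?_, _, octK.smul_mem _ hg _ (octK.ix.mem j hj),
      by rw [octInter_sem, hj2.1], by rw [octInter_sem, hj2.2]⟩
    obtain ⟨l, hl, hle⟩ := octK.ix.complete _ (octK.smul_mem _ (inv_mem hg) _ hx)
    rw [← smul_inv_smul g x, ← hle, octInter_sem] at hx0 hx1
    have := hno l hl
    rw [hx0, hx1] at this
    simp at this
  · by_contra hcon
    simp only [not_or] at hcon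
    simp only [hcon.2.1, hcon.2.2, if_false, Bool.or_eq_true, Nat.beq_eq, hcon.1, or_false] at h
    exact hne (by rw [h])

theorem blockGraph_adj_iff {a b : ↥octads} :
    (blockGraph octads).Adj a b ↔ ((a : Finset GolayPt) ∩ b).card = 0 := by
  rw [blockGraph, SimpleGraph.fromRel_adj, disjoint_comm (a := (b : Finset GolayPt)), or_self,
    Finset.disjoint_iff_inter_eq_empty, Finset.card_eq_zero]
  refine ⟨fun h => h.2, fun h => ⟨fun e => ?_, h⟩⟩
  subst e
  rw [Finset.inter_self] at h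
  have := card_octad a.2
  simp [h] at this

theorem blockGraph_octads {o o' : Finset GolayPt} (ho : o ∈ octads) (ho' : o' ∈ octads)
    (hne : o ≠ o') :
    (blockGraph octads).Connected ∧
      ((blockGraph octads).dist ⟨o, ho⟩ ⟨o', ho'⟩ = 1 ↔ (o ∩ o').card = 0) ∧
      ((blockGraph octads).dist ⟨o, ho⟩ ⟨o', ho'⟩ = 2 ↔ (o ∩ o').card = 4) ∧
      ((blockGraph octads).dist ⟨o, ho⟩ ⟨o', ho'⟩ = 3 ↔ (o ∩ o').card = 2) := by
  set G := blockGraph octads with hG
  have walk4 : ∀ a b : ↥octads, ((a : Finset GolayPt) ∩ b).card = 4 →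
      ∃ w : G.Walk a b, w.length = 2 := fun a b h => by
    obtain ⟨x, hx, h0, h1⟩ := (octads_meet_facts a.2 b.2).1 h
    exact ⟨.cons (show G.Adj a ⟨x, hx⟩ from blockGraph_adj_iff.2 h0)
      (.cons (show G.Adj ⟨x, hx⟩ b from blockGraph_adj_iff.2 h1) .nil), rfl⟩
  have walk2 : ∀ a b : ↥octads, ((a : Finset GolayPt) ∩ b).card = 2 →
      ∃ w : G.Walk a b, w.length = 3 := fun a b h => by
    obtain ⟨x, hx, h0, h1⟩ := ((octads_meet_facts a.2 b.2).2.1 h).2
    obtain ⟨w, hw⟩ := walk4 ⟨x, hx⟩ b h1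
    exact ⟨.cons (show G.Adj a ⟨x, hx⟩ from blockGraph_adj_iff.2 h0) w, by simp [hw]⟩
  have hreach : ∀ a b : ↥octads, G.Reachable a b := fun a b => by
    by_cases e : (a : Finset GolayPt) = b
    · rw [Subtype.ext e]
    · rcases (octads_meet_facts a.2 b.2).2.2 e with h | h | h
      · exact (blockGraph_adj_iff.2 h).reachable
      · obtain ⟨w, -⟩ := walk4 a b h; exact w.reachable
      · obtain ⟨w, -⟩ := walk2 a b h; exact w.reachable
  haveI : Nonempty ↥octads := ⟨⟨o, ho⟩⟩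
  refine ⟨⟨hreach⟩, ?_⟩
  have h1 : G.dist ⟨o, ho⟩ ⟨o', ho'⟩ = 1 ↔ (o ∩ o').card = 0 :=
    SimpleGraph.dist_eq_one_iff_adj.trans blockGraph_adj_iff
  have hpos : 0 < G.dist ⟨o, ho⟩ ⟨o', ho'⟩ := (hreach _ _).pos_dist_of_ne (by simpa using hne)
  have h4 : (o ∩ o').card = 4 → G.dist ⟨o, ho⟩ ⟨o', ho'⟩ = 2 := fun h => by
    obtain ⟨w, hw⟩ := walk4 ⟨o, ho⟩ ⟨o', ho'⟩ h
    have hle := SimpleGraph.dist_le w
    have hn1 : G.dist ⟨o, ho⟩ ⟨o', ho'⟩ ≠ 1 := fun e => by
      have := h1.1 e; omega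
    omega
  have h2 : (o ∩ o').card = 2 → G.dist ⟨o, ho⟩ ⟨o', ho'⟩ = 3 := fun h => by
    obtain ⟨w, hw⟩ := walk2 ⟨o, ho⟩ ⟨o', ho'⟩ h
    have hle := SimpleGraph.dist_le w
    have hn1 : G.dist ⟨o, ho⟩ ⟨o', ho'⟩ ≠ 1 := fun e => by
      have := h1.1 e; omega
    have hn2 : G.dist ⟨o, ho⟩ ⟨o', ho'⟩ ≠ 2 := fun e => by
      obtain ⟨p, hp⟩ := (hreach ⟨o, ho⟩ ⟨o', ho'⟩).exists_walk_length_eq_dist
      rw [e] at hp
      match p, hp with
      | .cons (v := v) ha (.cons hb .nil), _ =>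
        exact ((octads_meet_facts ho ho').2.1 h).1 v.1 v.2 (blockGraph_adj_iff.1 ha)
          (blockGraph_adj_iff.1 hb)
    omega
  rcases (octads_meet_facts ho ho').2.2 hne with h | h | h
  · have e := h1.2 h
    exact ⟨h1, by rw [e, h]; omega, by rw [e, h]; omega⟩
  · have e := h4 h
    exact ⟨h1, by rw [e, h]; omega, by rw [e, h]; omega⟩
  · have e := h2 h
    exact ⟨h1, by rw [e, h]; omega, by rw [e, h]; omega⟩

end CfsgLib.Spor
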