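import Cfsg.Agent.Lib.Spor.OrbitApply

/-!
Listed subgroups of `Cfsg.M24` and conjugacy censuses through Sylow subgroups.
-/

set_option autoImplicit false
set_option maxRecDepth 100000

namespace CfsgLib.Spor

open Cfsg
open scoped Pointwise

/-- the packed identity -/
def idP : ℕ := packL (List.range 24)

/-- powers of a packed permutation -/
def powP (a : ℕ) : ℕ → ℕ
  | 0 => idP
  | k + 1 => compP a (powP a k)

theorem Rep.pow {σ : Equiv.Perm GolayPt} {a : ℕ} (h : Rep σ a) : ∀ k, Rep (σ ^ k) (powP a k)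
  | 0 => rep_one
  | k + 1 => by rw [pow_succ']; exact h.mul (h.pow k)

theorem Rep.compP_idP {σ : Equiv.Perm GolayPt} {a b : ℕ} (h : Rep σ a) (h' : Rep σ b) :
    compP idP a = compP idP b := by
  unfold compP
  refine congrArg packL (List.map_congr_left fun i hi => ?_)
  rw [List.mem_range] at hi
  rw [h i hi, h' i hi]

theorem Rep.compP_eq {σ τ : Equiv.Perm GolayPt} {a b : ℕ} (h : Rep σ a) (h' : Rep τ b) :
    compP a b = packL ((List.range 24).map fun i => idx ((σ * τ) (pt i))) := by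
  unfold compP
  refine congrArg packL (List.map_congr_left fun i hi => ?_)
  rw [List.mem_range] at hi
  rw [h' i hi, h _ (idx_lt _), pt_idx]
  rfl

/-- elements, left multiplication tables of the generators, a spanning tree and a sorting -/
def listedOK (el : ℕ → ℕ) (n : ℕ) (gens : List ℕ) (tbl : List (List ℕ)) (par : List (ℕ × ℕ))
    (sorted : List ℕ) : Bool :=
  Nat.blt 0 n && Nat.beq (el 0) idP && gens.all isM24P && Nat.beq gens.length tbl.length &&
    ((gens.zip tbl).all fun gr => (List.range n).all fun i =>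
      Nat.blt (getT 16 gr.2 i) n && Nat.beq (compP gr.1 (el i)) (el (getT 16 gr.2 i))) &&
    Nat.beq par.length (n - 1) &&
    (((List.range (n - 1)).zip par).all fun ip => Nat.blt ip.2.1 gens.length &&
      Nat.blt ip.2.2 (ip.1 + 1) && Nat.beq (compP (gens.getD ip.2.1 idP) (el ip.2.2)) (el (ip.1 + 1))) &&
    Nat.beq sorted.length n && (sorted.all fun i => Nat.blt i n) && ascending (sorted.map el) &&
    ((List.range n).all fun i => Nat.beq (compP idP (el i)) (el i))

/-- the subgroup generated by the listed generators -/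
def genGroup (gens : List ℕ) : Subgroup (Equiv.Perm GolayPt) :=
  Subgroup.closure {σ | σ ∈ M24 ∧ ∃ a ∈ gens, Rep σ a}

theorem genGroup_le (gens : List ℕ) : genGroup gens ≤ M24 :=
  (Subgroup.closure_le _).2 fun _ h => h.1

section
variable {el : ℕ → ℕ} {n : ℕ} {gens : List ℕ} {tbl : List (List ℕ)} {par : List (ℕ × ℕ)}
  {sorted : List ℕ} (h : listedOK el n gens tbl par sorted = true)
include h

theorem listed_mem {i : ℕ} (hi : i < n) : ∃ σ ∈ genGroup gens, Rep σ (el i) := by
  simp only [listedOK, Bool.and_eq_true, List.all_eq_true, Nat.beq_eq, Nat.blt_eq] at h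
  induction i using Nat.strong_induction_on with
  | _ i ih =>
    obtain ⟨⟨⟨⟨⟨⟨⟨⟨⟨⟨-, h0⟩, hg⟩, -⟩, -⟩, hplen⟩, hpar⟩, -⟩, -⟩, -⟩, -⟩ := h
    cases i with
    | zero => exact ⟨1, one_mem _, h0 ▸ rep_one⟩
    | succ i =>
      have hlen : i < ((List.range (n - 1)).zip par).length := by simp; omega
      have hm := List.getElem_mem hlen
      rw [List.getElem_zip, List.getElem_range] at hm
      obtain ⟨⟨h1, h2⟩, h3⟩ := hpar _ hm
      obtain ⟨τ, hτ, hτr⟩ := ih _ h2 (by omega)
      have hmem : gens.getD (par[i]'(by omega)).1 idP ∈ gens := by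
        rw [List.getD_eq_getElem _ _ h1]; exact List.getElem_mem h1
      obtain ⟨ρ, hρ, hρr⟩ := exists_rep_M24 (hg _ hmem)
      exact ⟨ρ * τ, mul_mem (Subgroup.subset_closure ⟨hρ, _, hmem, hρr⟩) hτ, h3 ▸ hρr.mul hτr⟩

theorem listed_complete {σ : Equiv.Perm GolayPt} (hσ : σ ∈ genGroup gens) :
    ∃ i < n, Rep σ (el i) := by
  simp only [listedOK, Bool.and_eq_true, List.all_eq_true, Nat.beq_eq, Nat.blt_eq] at h
  obtain ⟨⟨⟨⟨⟨⟨⟨⟨⟨⟨hn, h0⟩, -⟩, hlen⟩, htbl⟩, -⟩, -⟩, -⟩, -⟩, -⟩, -⟩ := h
  rw [genGroup, ← Subgroup.mem_toSubmonoid, Subgroup.closure_toSubmonoid_of_finite] at hσ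
  induction hσ using Submonoid.closure_induction_left with
  | one => exact ⟨0, hn, h0 ▸ rep_one⟩
  | mul_left x hx y _ ih =>
    obtain ⟨-, a, ha, hxa⟩ := hx
    obtain ⟨i, hi, hiy⟩ := ih
    obtain ⟨k, hk, rfl⟩ := List.mem_iff_getElem.1 ha
    have hz : k < (gens.zip tbl).length := by simp; omega
    have hm := List.getElem_mem hz
    rw [List.getElem_zip] at hm
    obtain ⟨h1, h2⟩ := htbl _ hm i (List.mem_range.2 hi)
    exact ⟨_, h1, h2 ▸ hxa.mul hiy⟩

theorem natCard_genGroup : Nat.card (genGroup gens) = n := by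
  have hmem := fun i : Fin n => listed_mem h i.2
  choose f hf hfr using hmem
  have hcompl := fun {σ : Equiv.Perm GolayPt} (hσ : σ ∈ genGroup gens) => listed_complete h hσ
  simp only [listedOK, Bool.and_eq_true, List.all_eq_true, Nat.beq_eq, Nat.blt_eq] at h
  obtain ⟨⟨⟨⟨-, hlen⟩, hlt⟩, hasc⟩, hcan⟩ := h
  have hnd := nodup_of_ascending hasc
  have hsur : sorted.toFinset = Finset.range n := by
    refine Finset.eq_of_subset_of_card_le (fun i hi => Finset.mem_range.2 (hlt i (List.mem_toFinset.1 hi))) ?_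
    rw [Finset.card_range, List.toFinset_card_of_nodup hnd.of_map, hlen]
  have hinj : ∀ i < n, ∀ j < n, el i = el j → i = j := fun i hi j hj e =>
    List.inj_on_of_nodup_map hnd (List.mem_toFinset.1 (hsur ▸ Finset.mem_range.2 hi))
      (List.mem_toFinset.1 (hsur ▸ Finset.mem_range.2 hj)) e
  let F : Fin n → genGroup gens := fun i => ⟨f i, hf i⟩
  have hF : Function.Bijective F := by
    constructor
    · intro i j e
      have e' : f i = f j := congrArg Subtype.val e
      refine Fin.ext (hinj _ i.2 _ j.2 ?_)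
      rw [← hcan _ (List.mem_range.2 i.2), ← hcan _ (List.mem_range.2 j.2)]
      exact (hfr i).compP_idP (e' ▸ hfr j)
    · rintro ⟨σ, hσ⟩
      obtain ⟨i, hi, hir⟩ := hcompl hσ
      exact ⟨⟨i, hi⟩, Subtype.ext ((hfr ⟨i, hi⟩).inj hir)⟩
  rw [← Nat.card_eq_of_bijective F hF, Nat.card_fin]

end

/-- every element of order `p` among the listed ones is conjugate to one of the representatives -/
def censusOK (el : ℕ → ℕ) (n p : ℕ) (reps : List ℕ) (wit : List (ℕ × ℕ)) : Bool :=
  Nat.beq wit.length n &&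
    (reps.all fun a => isM24P a && Nat.beq (powP a p) idP && !Nat.beq a idP) &&
    (((List.range n).zip wit).all fun iw => Nat.beq iw.1 0 ||
      !Nat.beq (powP (el iw.1) p) idP || (Nat.blt iw.2.1 reps.length && isM24P iw.2.2 &&
        Nat.beq (compP iw.2.2 (reps.getD iw.2.1 idP)) (compP (el iw.1) iw.2.2)))

/-- elements of order `p` of `M24` are conjugate to the representatives -/
theorem exists_census_conj {el : ℕ → ℕ} {n p : ℕ} {gens : List ℕ} {tbl : List (List ℕ)}
    {par : List (ℕ × ℕ)} {sorted : List ℕ} (hl : listedOK el n gens tbl par sorted = true)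
    {reps : List ℕ} {wit : List (ℕ × ℕ)} (hc : censusOK el n p reps wit = true)
    [hp : Fact p.Prime] {v k : ℕ} (hn : n = p ^ v) (hk : 244823040 = n * k) (hpk : ¬ p ∣ k)
    {σ : Equiv.Perm GolayPt} (hσ : σ ∈ M24) (ho : orderOf σ = p) :
    ∃ a ∈ reps, ∃ ρ ∈ M24, Rep ρ a ∧ ∃ c ∈ M24, σ = c * ρ * c⁻¹ := by
  set P := (genGroup gens).subgroupOf M24
  have hcard : Nat.card P = n := by
    rw [Nat.card_congr (Subgroup.subgroupOfEquivOfLe (genGroup_le gens)).toEquiv,
      natCard_genGroup hl]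
  have hPp : IsPGroup p P := IsPGroup.of_card (hn ▸ hcard)
  have hidx : P.index = k := by
    have := P.card_mul_index
    rw [hcard, natCard_M24, hk] at this
    exact Nat.eq_of_mul_eq_mul_left (hn ▸ pow_pos hp.out.pos v) this
  let S : Sylow p ↥M24 := hPp.toSylow (hidx ▸ hpk)
  have hσp : IsPGroup p (Subgroup.zpowers (⟨σ, hσ⟩ : ↥M24)) :=
    IsPGroup.of_card (n := 1) (by
      rw [Nat.card_zpowers, pow_one, ← orderOf_injective M24.subtype M24.subtype_injective]
      exact ho)
  obtain ⟨T, hT⟩ := hσp.exists_le_sylow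
  obtain ⟨g, hg⟩ := MulAction.exists_smul_eq ↥M24 T S
  have hgσ : g * ⟨σ, hσ⟩ * g⁻¹ ∈ P := by
    have h1 : MulAut.conj g • (⟨σ, hσ⟩ : ↥M24) ∈ (g • T : Sylow p ↥M24) := by
      exact Subgroup.smul_mem_pointwise_smul _ _ _ (hT (Subgroup.mem_zpowers _))
    rw [hg] at h1
    exact h1
  set τ : Equiv.Perm GolayPt := g * σ * (g : Equiv.Perm GolayPt)⁻¹ with hτdef
  have hτ : τ ∈ genGroup gens := Subgroup.mem_subgroupOf.1 hgσ
  obtain ⟨i, hi, hir⟩ := listed_complete hl hτ
  simp only [censusOK, Bool.and_eq_true, List.all_eq_true, Bool.or_eq_true, Bool.not_eq_true',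
    Nat.beq_eq, Nat.blt_eq] at hc
  obtain ⟨⟨hwl, hreps⟩, hwit⟩ := hc
  have hlen : i < ((List.range n).zip wit).length := by simp; omega
  have hm := List.getElem_mem hlen
  rw [List.getElem_zip, List.getElem_range] at hm
  have hτo : orderOf τ = p := by
    rw [hτdef, ← ho]
    exact orderOf_injective (MulAut.conj (g : Equiv.Perm GolayPt)).toMonoidHom
        (MulAut.conj (g : Equiv.Perm GolayPt)).injective σ
  have hτ1 : τ ≠ 1 := fun e => by
    rw [e, orderOf_one] at hτo
    exact hp.out.one_lt.ne hτo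
  have hpow : τ ^ p = 1 := hτo ▸ pow_orderOf_eq_one τ
  simp only [listedOK, Bool.and_eq_true, List.all_eq_true, Nat.beq_eq, Nat.blt_eq] at hl
  have hcan := hl.2
  have h0 : el 0 = idP := hl.1.1.1.1.1.1.1.1.1.2
  rcases hwit _ hm with (h | h) | h
  · have h' : i = 0 := h
    subst h'
    rw [h0] at hir
    exact absurd (hir.inj rep_one) hτ1
  · exfalso
    have hne : Nat.beq (powP (el i) p) idP = true := by
      obtain ⟨q, rfl⟩ : ∃ q, p = q + 1 := ⟨p - 1, by have := hp.out.pos; omega⟩
      rw [Nat.beq_eq, powP, hir.compP_eq (hir.pow q), ← pow_succ', hpow]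
      refine congrArg packL ((List.map_congr_left fun j hj => ?_).trans (List.map_id _))
      exact idx_pt (List.mem_range.1 hj)
    rw [hne] at h
    exact Bool.noConfusion h
  · obtain ⟨⟨h1, h2⟩, h3⟩ := h
    have hmem : reps.getD (wit[i]'(by omega)).1 idP ∈ reps := by
      rw [List.getD_eq_getElem _ _ h1]; exact List.getElem_mem h1
    obtain ⟨ρ, hρ, hρr⟩ := exists_rep_M24 (hreps _ hmem).1.1
    obtain ⟨c, hc', hcr⟩ := exists_rep_M24 h2
    have h4 := hir.mul hcr
    rw [← h3] at h4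
    have e : c * ρ = τ * c := (hcr.mul hρr).inj h4
    refine ⟨_, hmem, ρ, hρ, hρr, (g : Equiv.Perm GolayPt)⁻¹ * c, mul_mem (inv_mem g.2) hc', ?_⟩
    rw [mul_inv_rev, inv_inv, mul_assoc _ c ρ, e, hτdef]
    group

/-! ### Counting fixed objects -/

/-- a packed permutation fixes the listed family -/
def fixPartsB (a : ℕ) (P : List ℕ) : Bool := P.all fun m => P.contains (actP a m)

theorem smul_toFam_eq_iff {σ : Equiv.Perm GolayPt} {a : ℕ} (h : Rep σ a) {P : List ℕ}
    (hP : partsOK P = true) : σ • toFam P = toFam P ↔ fixPartsB a P = true := by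
  simp only [fixPartsB, List.all_eq_true, List.contains_iff_mem]
  constructor
  · intro e m hm
    have h1 : σ • toSet m ∈ toFam P := e ▸ Finset.smul_mem_smul_finset
      (List.mem_toFinset.2 (List.mem_map_of_mem hm))
    rw [← h.toSet_actP] at h1
    obtain ⟨m', hm', e'⟩ := List.mem_map.1 (List.mem_toFinset.1 h1)
    simp only [partsOK, Bool.and_eq_true, List.all_eq_true, Nat.blt_eq] at hP
    rwa [← toSet_injOn (by simpa using hP.1 m' hm') (by simpa using h.actP_lt m) e']
  · intro hc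
    refine Finset.eq_of_subset_of_card_le ?_ (le_of_eq (Finset.card_smul_finset _ _).symm)
    intro x hx
    obtain ⟨y, hy, rfl⟩ := Finset.mem_smul_finset.1 hx
    obtain ⟨m, hm, rfl⟩ := List.mem_map.1 (List.mem_toFinset.1 hy)
    exact List.mem_toFinset.2 (List.mem_map.2 ⟨_, hc m hm, h.toSet_actP m⟩)

/-- the indices of the fixed objects of a packed permutation -/
def Kind.fixCls {X : Type} [MulAction (Equiv.Perm GolayPt) X] {S : Set X} (K : Kind S) (a : ℕ) :
    List ℕ := classList K.ix.n fun i => fixPartsB a (K.parts i)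

theorem Kind.ncard_fix {X : Type} [MulAction (Equiv.Perm GolayPt) X] {S : Set X} (K : Kind S)
    {σ : Equiv.Perm GolayPt} {a : ℕ} (h : Rep σ a) :
    {x | x ∈ S ∧ σ • x = x}.ncard = (K.fixCls a).length := by
  refine K.ix.ncard_setOf (P := fun x => σ • x = x) fun i hi => ?_
  rw [← smul_toFam_eq_iff h (K.parts_ok i hi), ← K.fam_eq i hi, ← K.fam_smul]
  exact ⟨K.fam_inj _ _, congrArg K.fam⟩

theorem Kind.ncard_fix_conj {X : Type} [MulAction (Equiv.Perm GolayPt) X] {S : Set X} (K : Kind S)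
    {ρ c : Equiv.Perm GolayPt} (hc : c ∈ M24) :
    {x | x ∈ S ∧ (c * ρ * c⁻¹) • x = x}.ncard = {x | x ∈ S ∧ ρ • x = x}.ncard :=
  ncard_setOf_smul hc K (P := fun x => (c * ρ * c⁻¹) • x = x) (Q := fun x => ρ • x = x) fun y => by
    rw [mul_smul, mul_smul, inv_smul_smul]
    exact smul_left_cancel_iff c

/-- fixed points of a packed permutation -/
def fixPts (a : ℕ) : List ℕ := (List.range 24).filter fun i => Nat.beq (getP a i) i

theorem Rep.card_fixPts {σ : Equiv.Perm GolayPt} {a : ℕ} (h : Rep σ a) :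
    (Finset.univ.filter fun p => σ p = p).card = (fixPts a).length := by
  rw [← List.toFinset_card_of_nodup (l := fixPts a) (List.nodup_range.filter _)]
  refine Finset.card_bij (fun p _ => idx p) (fun p hp => ?_) (fun p _ q _ e => idx_injective e)
    fun i hi => ?_
  · simp only [Finset.mem_filter, Finset.mem_univ, true_and] at hp
    simp only [fixPts, List.mem_toFinset, List.mem_filter, List.mem_range, Nat.beq_eq]
    exact ⟨idx_lt p, (h.fix_iff (idx_lt p)).1 (by rwa [pt_idx])⟩
  · simp only [fixPts, List.mem_toFinset, List.mem_filter, List.mem_range, Nat.beq_eq] at hi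
    exact ⟨pt i, by simpa using (h.fix_iff hi.1).2 hi.2, idx_pt hi.1⟩

theorem card_fix_conj (ρ c : Equiv.Perm GolayPt) :
    (Finset.univ.filter fun p => (c * ρ * c⁻¹) p = p).card =
      (Finset.univ.filter fun p => ρ p = p).card := by
  refine Finset.card_bij (fun p _ => c⁻¹ p) (fun p hp => ?_) (fun p _ q _ e => (c⁻¹).injective e)
    fun q hq => ⟨c q, ?_, by simp⟩
  · have h1 : c (ρ (c⁻¹ p)) = p := (Finset.mem_filter.1 hp).2
    exact Finset.mem_filter.2 ⟨Finset.mem_univ _, c.injective (h1.trans (by simp))⟩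
  · have h1 : ρ q = q := (Finset.mem_filter.1 hq).2
    refine Finset.mem_filter.2 ⟨Finset.mem_univ _, ?_⟩
    show c (ρ (c⁻¹ (c q))) = c q
    simp [h1]

end CfsgLib.Spor
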