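import Cfsg.Agent.Lib.Spor.Perm24

/-!
Straight-line programs of packed permutations and stabiliser chains for subgroups of
`Equiv.Perm GolayPt`.
-/

set_option autoImplicit false

namespace CfsgLib.Spor

open Cfsg
open scoped Pointwise

/-- each new entry is the product of two earlier ones (indices counted back from the newest) -/
def checkSLP : List (ℕ × ℕ × ℕ) → List ℕ → Bool
  | [], _ => true
  | (a, i, j) :: r, acc =>
    Nat.beq a (compP (acc.getD i (packL (List.range 24))) (acc.getD j (packL (List.range 24))))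
      && checkSLP r (a :: acc)

/-- the packed permutation `a` comes from an element of `H` -/
def RepIn (H : Subgroup (Equiv.Perm GolayPt)) (a : ℕ) : Prop := ∃ σ ∈ H, Rep σ a

theorem RepIn.one (H : Subgroup (Equiv.Perm GolayPt)) : RepIn H (packL (List.range 24)) :=
  ⟨1, H.one_mem, rep_one⟩

theorem RepIn.comp {H : Subgroup (Equiv.Perm GolayPt)} {a b : ℕ} (ha : RepIn H a)
    (hb : RepIn H b) : RepIn H (compP a b) := by
  obtain ⟨σ, hσ, hσ'⟩ := ha
  obtain ⟨τ, hτ, hτ'⟩ := hb
  exact ⟨σ * τ, H.mul_mem hσ hτ, hσ'.mul hτ'⟩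

theorem repIn_of_checkSLP {H : Subgroup (Equiv.Perm GolayPt)} :
    ∀ (r : List (ℕ × ℕ × ℕ)) (acc : List ℕ), checkSLP r acc = true →
      (∀ a ∈ acc, RepIn H a) → ∀ e ∈ r, RepIn H e.1 := by
  intro r
  induction r with
  | nil => simp
  | cons x r ih =>
    obtain ⟨a, i, j⟩ := x
    intro acc hc hacc
    simp only [checkSLP, Bool.and_eq_true, Nat.beq_eq] at hc
    have hget : ∀ k, RepIn H (acc.getD k (packL (List.range 24))) := fun k => by
      by_cases hk : k < acc.length
      · rw [List.getD_eq_getElem _ _ hk]; exact hacc _ (List.getElem_mem hk)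
      · rw [List.getD_eq_default _ _ (not_lt.1 hk)]; exact RepIn.one H
    have ha : RepIn H a := hc.1 ▸ (hget i).comp (hget j)
    intro e he
    rcases List.mem_cons.1 he with rfl | he
    · exact ha
    · exact ih _ hc.2 (fun b hb => by
        rcases List.mem_cons.1 hb with rfl | hb
        · exact ha
        · exact hacc b hb) e he

/-- intersection of `G` with the stabilisers of a list of points -/
def fixL (G : Subgroup (Equiv.Perm GolayPt)) : List ℕ → Subgroup (Equiv.Perm GolayPt)
  | [] => G
  | b :: r => fixL (G ⊓ MulAction.stabilizer (Equiv.Perm GolayPt) (pt b)) r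

theorem mem_fixL {G : Subgroup (Equiv.Perm GolayPt)} {L : List ℕ} {g : Equiv.Perm GolayPt} :
    g ∈ fixL G L ↔ g ∈ G ∧ ∀ b ∈ L, g (pt b) = pt b := by
  induction L generalizing G with
  | nil => simp [fixL]
  | cons b r ih => simp [fixL, ih, and_assoc]

theorem Rep.fix_iff {σ : Equiv.Perm GolayPt} {a : ℕ} (h : Rep σ a) {b : ℕ} (hb : b < 24) :
    σ (pt b) = pt b ↔ getP a b = b := by
  rw [h b hb]
  constructor
  · intro e; rw [e, idx_pt hb]
  · intro e; exact idx_injective (by rw [e, idx_pt hb])

/-- a stabiliser chain: at each level the listed elements lie in the current group and in `H`,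
their images of the base point are distinct and cover the orbit -/
def IsChain (H : Subgroup (Equiv.Perm GolayPt)) :
    Subgroup (Equiv.Perm GolayPt) → List (ℕ × List ℕ) → Prop
  | G, [] => G = ⊥
  | G, (b, T) :: r => (∀ t ∈ T, RepIn (G ⊓ H) t) ∧
      (∀ g ∈ G, ∃ t ∈ T, getP t b = idx (g (pt b))) ∧
      (T.map fun t => getP t b).Nodup ∧ b < 24 ∧
      IsChain H (G ⊓ MulAction.stabilizer (Equiv.Perm GolayPt) (pt b)) r

theorem IsChain.le {H : Subgroup (Equiv.Perm GolayPt)} :
    ∀ {G : Subgroup (Equiv.Perm GolayPt)} {L : List (ℕ × List ℕ)}, IsChain H G L → G ≤ H := by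
  intro G L
  induction L generalizing G with
  | nil => intro h; rw [show G = ⊥ from h]; exact bot_le
  | cons x r ih =>
    obtain ⟨b, T⟩ := x
    rintro ⟨h1, h2, -, hb, h5⟩ g hg
    obtain ⟨t, ht, hti⟩ := h2 g hg
    obtain ⟨σ, hσ, hσt⟩ := h1 t ht
    rw [hσt b hb] at hti
    have hmem : σ⁻¹ * g ∈ G ⊓ MulAction.stabilizer (Equiv.Perm GolayPt) (pt b) := by
      refine Subgroup.mem_inf.2 ⟨G.mul_mem (G.inv_mem hσ.1) hg, ?_⟩
      rw [MulAction.mem_stabilizer_iff, Equiv.Perm.smul_def, Equiv.Perm.mul_apply,
        ← idx_injective hti]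
      simp
    have := H.mul_mem hσ.2 (ih h5 hmem)
    rwa [mul_inv_cancel_left] at this

theorem IsChain.card {H : Subgroup (Equiv.Perm GolayPt)} :
    ∀ {G : Subgroup (Equiv.Perm GolayPt)} {L : List (ℕ × List ℕ)}, IsChain H G L →
      Nat.card G = (L.map fun x => x.2.length).prod := by
  intro G L
  induction L generalizing G with
  | nil => intro h; rw [show G = ⊥ from h]; simp
  | cons x r ih =>
    obtain ⟨b, T⟩ := x
    rintro ⟨h1, h2, h3, hb, h5⟩
    have horb : MulAction.orbit G (pt b) = ↑((T.map fun t => getP t b).toFinset.image pt) := by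
      ext p
      simp only [MulAction.mem_orbit_iff, Finset.coe_image, Set.mem_image, Finset.mem_coe,
        List.mem_toFinset, List.mem_map]
      constructor
      · rintro ⟨⟨g, hg⟩, rfl⟩
        obtain ⟨t, ht, hti⟩ := h2 g hg
        refine ⟨_, ⟨t, ht, rfl⟩, ?_⟩
        rw [hti, pt_idx]; rfl
      · rintro ⟨_, ⟨t, ht, rfl⟩, rfl⟩
        obtain ⟨σ, hσ, hσt⟩ := h1 t ht
        refine ⟨⟨σ, hσ.1⟩, ?_⟩
        rw [hσt b hb, pt_idx]; rfl
    have hn : (MulAction.orbit G (pt b)).ncard = T.length := by
      rw [horb, Set.ncard_coe_finset, Finset.card_image_of_injOn, List.toFinset_card_of_nodup h3,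
        List.length_map]
      intro x hx y hy hxy
      simp only [Finset.mem_coe, List.mem_toFinset, List.mem_map] at hx hy
      have lt24 : ∀ z, (∃ t ∈ T, getP t b = z) → z < 24 := by
        rintro z ⟨t, ht, rfl⟩
        obtain ⟨σ, -, hσt⟩ := h1 t ht
        rw [hσt b hb]; exact idx_lt _
      rw [← idx_pt (lt24 x hx), ← idx_pt (lt24 y hy), hxy]
    have hstab : Nat.card (MulAction.stabilizer G (pt b)) =
        Nat.card (G ⊓ MulAction.stabilizer (Equiv.Perm GolayPt) (pt b) :
          Subgroup (Equiv.Perm GolayPt)) := by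
      refine Nat.card_congr ⟨fun g => ⟨g.1.1, g.1.2, g.2⟩, fun g => ⟨⟨g.1, g.2.1⟩, g.2.2⟩,
        fun g => rfl, fun g => rfl⟩
    rw [List.map_cons, List.prod_cons, ← ih h5, ← hstab,
      ← Subgroup.card_mul_index (MulAction.stabilizer G (pt b)), MulAction.index_stabilizer, hn,
      mul_comm]

theorem IsChain.card_fixL {H : Subgroup (Equiv.Perm GolayPt)} :
    ∀ {G : Subgroup (Equiv.Perm GolayPt)} {L : List (ℕ × List ℕ)}, IsChain H G L →
      ∀ k, Nat.card (fixL G ((L.take k).map Prod.fst)) = ((L.drop k).map fun x => x.2.length).prod := by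
  intro G L
  induction L generalizing G with
  | nil => intro h k; simpa [fixL] using h.card
  | cons x r ih =>
    obtain ⟨b, T⟩ := x
    intro h k
    cases k with
    | zero => simpa [fixL] using h.card
    | succ k => simpa [fixL] using ih h.2.2.2.2 k

/-- list of the bits of a 24-bit mask -/
def bitList (m : ℕ) : List ℕ := (List.range 24).filter fun i => m.testBit i

/-- one propagation step: the octads in `fam` have five points in `F`, and they separate every
new point `q` (bits of `new`) from all other points outside `F` -/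
def stepOK (F : ℕ) (fam : List ℕ) (new : ℕ) : Bool :=
  (fam.all fun o => inCode o && Nat.beq (pop o) 8 && Nat.blt o 16777216 && Nat.ble 5 (pop (o &&& F)))
    && (bitList new).all fun q => (List.range 24).all fun r =>
      F.testBit r || Nat.beq r q || fam.any fun o => o.testBit r != o.testBit q

theorem smul_octad_mem {g : Equiv.Perm GolayPt} (hg : g ∈ M24) {o : Finset GolayPt}
    (ho : o ∈ octads) : g • o ∈ octads := by
  refine ⟨?_, by rw [Finset.card_smul_finset]; exact ho.2⟩
  rw [mem_supports_iff]
  exact mem_M24_iff.1 hg o (mem_supports_iff.1 ho.1)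

end CfsgLib.Spor
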