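import Cfsg.Agent.Lib.Spor.Census

/-!
A listed Sylow 3-subgroup and the census of its elements of order 3.
-/

set_option autoImplicit false
set_option maxRecDepth 100000

namespace CfsgLib.Spor

/-- packed elements -/
def syl3Tbl : List ℕ := [
   0xb953432e72b39a7829150c5e311180bbd148c0cb2b9a192aa964ec220ce0a4ded492a2882f01bac5920c70b16aa1acd40d24982f2138af5d62161e0a6a4d72c2cbaba8792a330bd04189806a2377c8b04ba815aa6665aa3110e0bd9348b0c17a9a23811524cab8486e6d4d77b0a142a83382331593092c8e6a637b1decaaa8208266215125c06ebd91430a63781b223aa95c4a70b20ab96b4890c2b01ab1b92884de161e4aa18ad4cab09bae75a9f60a22220d80bbd3498e24281b01391591acc3856aa45ed42d3233ae182ac565664188e0a4cad431218aae4381f61d4d25c04ea19eda9d0c9aae3082c51262b8488e6d63728ec44028b13a6683d270b24aa46cd486a732ae2600af2227092c6e6a677788a3a8290238d19590161d6a6a0d7b11e2482921ba33596ac3860a6d677b2df243a8c828d13952220c20b951499e2cb29a4082a9199f092c4ebbeb4306672a9a360128146d25c08ea44ada8903302eb239f68266c3864aa4ecdac10b8baec928af3a4c3110206a277286c74aa84600d11beab8484ebdab49ca307b9ac5a928398a418820]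

/-- generators -/
def syl3Gens : List ℕ := [551183554701680883285800870032721998, 856340664950166347629623298441154592]

/-- left multiplication by generator 0 -/
def syl3Row0 : List ℕ := [
   0x130012001a0019000b0009000700180017001500060004001600140010000e00020011000f000d000c000a00080000000500030001]

/-- left multiplication by generator 1 -/
def syl3Row1 : List ℕ := [
   0xf000d000a0008001a0019000c001400050018001700160003001500130012001100010010000e0000000b00090007000600040002]

/-- part 0 of syl3Par -/
def syl3Par_0 : List (ℕ × ℕ) := [
   (0, 0), (1, 0), (0, 1), (1, 1),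
   (0, 2), (1, 2), (1, 3), (0, 4),
   (1, 4), (0, 5), (1, 5), (0, 6),
   (0, 7), (1, 7), (0, 8), (1, 8),
   (0, 9), (1, 11), (1, 12), (0, 13),
   (1, 13), (0, 14), (1, 16), (1, 17),
   (1, 21), (1, 22)]

/-- syl3Par -/
def syl3Par : List (ℕ × ℕ) :=
  syl3Par_0

/-- part 0 of syl3Sorted -/
def syl3Sorted_0 : List ℕ := [
   7, 21, 1, 22,
   18, 8, 19, 10,
   6, 15, 11, 23,
   3, 13, 9, 12,
   24, 2, 5, 26,
   16, 25, 14, 4,
   17, 20, 0]

/-- syl3Sorted -/
def syl3Sorted : List ℕ :=
  syl3Sorted_0

/-- part 0 of syl3Wit -/
def syl3Wit_0 : List (ℕ × ℕ) := [
   (0, 0), (1, 984818244535754528103549039458486304), (0, 984818244535754528103549039458486304), (1, 42028140397067474687154954226356982),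
   (0, 129862663308539845132356673966937768), (0, 623509734760903504776758580633503142), (0, 963552842376912656278710701733841280), (1, 262886732092398739244307079012723954),
   (1, 810106339239585889549581097167786336), (1, 963552842376912656278710701733841280), (1, 528360037892301995832062444028795146), (1, 71692066859043697192044118446332202),
   (1, 154642701469378230729927155763992832), (0, 362697194543004687066593034376881166), (0, 597277043062573551871315111059197140), (0, 710154505918117061835578574289262912),
   (0, 252499815433784716386213287092731159), (0, 57217408147490525235913424402817204), (1, 798855206308352181475629093929650566), (1, 181934852653439243131326674616977652),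
   (0, 584633587787774084415364784941696183), (0, 898817175449211485948643213271420352), (0, 216342932792132011625220018021642368), (1, 341985538595316802287334691277722839),
   (1, 143573211109155751909900261547706886), (0, 472805830488680896368561644192848192), (0, 112248144758635197601589107347762829)]

/-- syl3Wit -/
def syl3Wit : List (ℕ × ℕ) :=
  syl3Wit_0

/-- representative with 6 fixed points -/
def syl3Rep0 : ℕ := 856340664950166347629623298441154592

/-- representative with 0 fixed points -/
def syl3Rep1 : ℕ := 551183554701680883285800870032721998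

theorem syl3_listed : listedOK (getT 120 syl3Tbl) 27 syl3Gens [syl3Row0, syl3Row1] syl3Par syl3Sorted = true := by
  decide +kernel

theorem syl3_census : censusOK (getT 120 syl3Tbl) 27 3 [syl3Rep0, syl3Rep1] syl3Wit = true := by
  decide +kernel

end CfsgLib.Spor
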