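import Cfsg.Agent.Lib.Spor.Syl2
import Cfsg.Agent.Lib.Spor.Syl3

/-!
The classes of elements of order two and three of `Cfsg.M24`.
-/

set_option autoImplicit false

namespace CfsgLib.Spor

open Cfsg
open scoped Pointwise

theorem exists_census2 {σ : Equiv.Perm GolayPt} (hσ : σ ∈ M24) (ho : orderOf σ = 2) :
    ∃ a ∈ [syl2Rep0, syl2Rep1], ∃ ρ ∈ M24, Rep ρ a ∧ ∃ c ∈ M24, σ = c * ρ * c⁻¹ :=
  haveI : Fact (Nat.Prime 2) := ⟨Nat.prime_two⟩
  exists_census_conj syl2_listed syl2_census (v := 10) (k := 239085) (by norm_num) (by norm_num)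
    (by norm_num) hσ ho

theorem exists_census3 {σ : Equiv.Perm GolayPt} (hσ : σ ∈ M24) (ho : orderOf σ = 3) :
    ∃ a ∈ [syl3Rep0, syl3Rep1], ∃ ρ ∈ M24, Rep ρ a ∧ ∃ c ∈ M24, σ = c * ρ * c⁻¹ :=
  haveI : Fact (Nat.Prime 3) := ⟨Nat.prime_three⟩
  exists_census_conj syl3_listed syl3_census (v := 3) (k := 9067520) (by norm_num) (by norm_num)
    (by norm_num) hσ ho

theorem orderOf_of_rep {ρ : Equiv.Perm GolayPt} {a p : ℕ} [Fact p.Prime] (h : Rep ρ a)
    (hp : powP a p = idP) (h1 : a ≠ idP) (hcan : compP idP a = a) : orderOf ρ = p := by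
  refine orderOf_eq_prime ((hp ▸ h.pow p : Rep (ρ ^ p) idP).inj rep_one) fun e => h1 ?_
  subst e
  rw [← hcan, h.compP_idP rep_one]
  decide +kernel

theorem reps_fixPts : (fixPts syl2Rep0).length = 8 ∧ (fixPts syl2Rep1).length = 0 ∧
    (fixPts syl3Rep0).length = 6 ∧ (fixPts syl3Rep1).length = 0 := by decide +kernel

theorem syl2Rep0_octad : ∃ i < 759, (List.range 24).all (fun j =>
    decide ((getT 24 octTbl i).testBit j = true) == Nat.beq (getP syl2Rep0 j) j) = true := by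
  decide +kernel

/-- the element of order two with the fixed points, or without -/
theorem exists_invol {σ : Equiv.Perm GolayPt} (hσ : σ ∈ M24) (ho : orderOf σ = 2) :
    (∃ ρ ∈ M24, Rep ρ syl2Rep0 ∧ (Finset.univ.filter fun p => σ p = p).card = 8 ∧
      ∃ c ∈ M24, σ = c * ρ * c⁻¹) ∨
    (∃ ρ ∈ M24, Rep ρ syl2Rep1 ∧ (Finset.univ.filter fun p => σ p = p).card = 0 ∧
      ∃ c ∈ M24, σ = c * ρ * c⁻¹) := by
  obtain ⟨a, ha, ρ, hρ, hr, c, hc, rfl⟩ := exists_census2 hσ ho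
  simp only [card_fix_conj, hr.card_fixPts]
  simp only [List.mem_cons, List.not_mem_nil, or_false] at ha
  rcases ha with rfl | rfl
  · exact Or.inl ⟨ρ, hρ, hr, reps_fixPts.1, c, hc, rfl⟩
  · exact Or.inr ⟨ρ, hρ, hr, reps_fixPts.2.1, c, hc, rfl⟩

theorem exists_ord3 {σ : Equiv.Perm GolayPt} (hσ : σ ∈ M24) (ho : orderOf σ = 3) :
    (∃ ρ ∈ M24, Rep ρ syl3Rep0 ∧ (Finset.univ.filter fun p => σ p = p).card = 6 ∧
      ∃ c ∈ M24, σ = c * ρ * c⁻¹) ∨
    (∃ ρ ∈ M24, Rep ρ syl3Rep1 ∧ (Finset.univ.filter fun p => σ p = p).card = 0 ∧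
      ∃ c ∈ M24, σ = c * ρ * c⁻¹) := by
  obtain ⟨a, ha, ρ, hρ, hr, c, hc, rfl⟩ := exists_census3 hσ ho
  simp only [card_fix_conj, hr.card_fixPts]
  simp only [List.mem_cons, List.not_mem_nil, or_false] at ha
  rcases ha with rfl | rfl
  · exact Or.inl ⟨ρ, hρ, hr, reps_fixPts.2.2.1, c, hc, rfl⟩
  · exact Or.inr ⟨ρ, hρ, hr, reps_fixPts.2.2.2, c, hc, rfl⟩

theorem card_filter_eq_zero_iff (σ : Equiv.Perm GolayPt) :
    (Finset.univ.filter fun p => σ p = p).card = 0 ↔ ∀ p, σ p ≠ p := by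
  simp [Finset.filter_eq_empty_iff]

theorem filter_conj (ρ c : Equiv.Perm GolayPt) :
    (Finset.univ.filter fun p => (c * ρ * c⁻¹) p = p) =
      c • Finset.univ.filter fun p => ρ p = p := by
  ext p
  rw [← Finset.inv_smul_mem_iff]
  simp only [Finset.mem_filter, Finset.mem_univ, true_and]
  show c (ρ (c⁻¹ p)) = p ↔ ρ (c⁻¹ p) = c⁻¹ p
  constructor
  · intro h; exact c.injective (h.trans (by simp))
  · intro h; rw [h]; simp

theorem invol_fix_octad {σ : Equiv.Perm GolayPt} (hσ : σ ∈ M24) (ho : orderOf σ = 2)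
    (h8 : ¬ ∀ p, σ p ≠ p) : (Finset.univ.filter fun p => σ p = p) ∈ octads := by
  rcases exists_invol hσ ho with ⟨ρ, -, hr, -, c, hc, rfl⟩ | ⟨ρ, -, -, h0, -⟩
  · rw [filter_conj]
    refine smul_octad_mem hc ?_
    obtain ⟨i, hi, h⟩ := syl2Rep0_octad
    simp only [List.all_eq_true, List.mem_range, beq_iff_eq] at h
    convert octI.mem i hi using 1
    ext p
    show p ∈ _ ↔ p ∈ toSet _
    rw [mem_toSet]
    have := h (idx p) (idx_lt p)
    simp only [Finset.mem_filter, Finset.mem_univ, true_and]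
    rw [show (ρ p = p) ↔ Nat.beq (getP syl2Rep0 (idx p)) (idx p) = true by
      rw [Nat.beq_eq, ← hr.fix_iff (idx_lt p), pt_idx], ← this, decide_eq_true_eq]
  · exact absurd ((card_filter_eq_zero_iff σ).1 h0) h8

end CfsgLib.Spor
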