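import Cfsg.Agent.Lib.Spor.LeechCross
import Cfsg.Agent.Lib.Spor.Transit
import Cfsg.Agent.Lib.ThreeTransp.CoReduce

/-!
Elements of `Cfsg.Co0`: the monomial maps and one non-monomial involution, and checked programs of
these elements acting on vectors given as lists of 24 integers.
-/

set_option autoImplicit false
set_option maxRecDepth 100000

namespace CfsgLib.Spor

open Cfsg
open CfsgLib.ThreeTransp.CoReduce (bigE eight_smul dot_preserved)
open scoped Pointwise

/-- an automorphism of the lattice from two mutually inverse ambient functions -/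
def mkCo0 (f g : (GolayPt → ℤ) → (GolayPt → ℤ)) (hf : ∀ x ∈ leechLattice, f x ∈ leechLattice)
    (hg : ∀ x ∈ leechLattice, g x ∈ leechLattice) (hfg : ∀ x ∈ leechLattice, f (g x) = x)
    (hgf : ∀ x ∈ leechLattice, g (f x) = x)
    (hadd : ∀ x ∈ leechLattice, ∀ y ∈ leechLattice, f (x + y) = f x + f y)
    (hn : ∀ x ∈ leechLattice, sqNorm (f x) = sqNorm x) : Co0 :=
  ⟨{ toFun := fun v => ⟨f v, hf v v.2⟩
     invFun := fun v => ⟨g v, hg v v.2⟩
     left_inv := fun v => Subtype.ext (hgf v v.2)
     right_inv := fun v => Subtype.ext (hfg v v.2) },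
    fun v w => Subtype.ext (hadd v v.2 w w.2), fun v => hn v v.2⟩

theorem mkCo0_smul (f g : (GolayPt → ℤ) → (GolayPt → ℤ)) (hf hg hfg hgf hadd hn)
    (v : leechLattice) :
    ((mkCo0 f g hf hg hfg hgf hadd hn • v : leechLattice) : GolayPt → ℤ) = f v := rfl

theorem coe_smul_add (g : Co0) (v w : leechLattice) : g • (v + w) = g • v + g • w := g.2.1 v w

theorem coe_smul_sqNorm (g : Co0) (v : leechLattice) :
    sqNorm ((g • v : leechLattice) : GolayPt → ℤ) = sqNorm (v : GolayPt → ℤ) := g.2.2 v

/-- the action of an element, as an additive map -/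
def co0Hom (g : Co0) : leechLattice →+ leechLattice :=
  AddMonoidHom.mk' (fun v => g • v) (coe_smul_add g)

theorem co0_ext {g h : Co0} (e : ∀ i, g • bigE i = h • bigE i) : g = h := by
  refine Subtype.ext (Equiv.ext fun v => ?_)
  show g • v = h • v
  have key : (8 : ℤ) • (g • v) = (8 : ℤ) • (h • v) := by
    show (8 : ℤ) • co0Hom g v = (8 : ℤ) • co0Hom h v
    rw [← map_zsmul, ← map_zsmul, eight_smul, map_sum, map_sum]
    refine Finset.sum_congr rfl fun i _ => ?_
    rw [map_zsmul, map_zsmul]
    exact congrArg _ (e i)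
  apply Subtype.ext
  funext p
  have := congrFun (congrArg Subtype.val key) p
  simpa using this

theorem bigE_coe (i : GolayPt) : ((bigE i : leechLattice) : GolayPt → ℤ) = Pi.single i 8 := rfl

theorem sqNorm_single (i : GolayPt) (a : ℤ) : sqNorm (Pi.single i a : GolayPt → ℤ) = a ^ 2 := by
  rw [sqNorm, Finset.sum_eq_single i] <;> simp +contextual [Pi.single_apply]

/-! ### Monomial elements -/

theorem signedPerm_mem {σ : Equiv.Perm GolayPt} (hσ : σ ∈ M24) {c : Finset GolayPt}
    (hc : c ∈ supports (golayCode : Set (GolayPt → ZMod 2))) {x : GolayPt → ℤ}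
    (hx : x ∈ leechLattice) : signedPerm σ c x ∈ leechLattice :=
  sign_mem_leech hc (perm_mem_leech (σ := σ.symm) (inv_mem hσ) hx)

theorem smul_supports {σ : Equiv.Perm GolayPt} (hσ : σ ∈ M24) {c : Finset GolayPt}
    (hc : c ∈ supports (golayCode : Set (GolayPt → ZMod 2))) :
    σ • c ∈ supports (golayCode : Set (GolayPt → ZMod 2)) := by
  have h : σ • supports (golayCode : Set (GolayPt → ZMod 2)) =
      supports (golayCode : Set (GolayPt → ZMod 2)) := MulAction.mem_stabilizer_iff.1 hσ
  exact h ▸ Set.smul_mem_smul_set hc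

theorem mem_smul_iff {σ : Equiv.Perm GolayPt} {c : Finset GolayPt} {i : GolayPt} :
    i ∈ σ • c ↔ σ.symm i ∈ c := by
  rw [← Finset.inv_smul_mem_iff]; rfl

theorem signedPerm_signedPerm_inv (σ : Equiv.Perm GolayPt) (c : Finset GolayPt)
    (x : GolayPt → ℤ) : signedPerm σ c (signedPerm σ⁻¹ (σ⁻¹ • c) x) = x := by
  funext i
  have h1 : (σ⁻¹ : Equiv.Perm GolayPt).symm (σ.symm i) = i := σ.apply_symm_apply i
  simp only [signedPerm, mem_smul_iff, h1]
  split <;> simp

theorem signedPerm_add (σ : Equiv.Perm GolayPt) (c : Finset GolayPt) (x y : GolayPt → ℤ) :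
    signedPerm σ c (x + y) = signedPerm σ c x + signedPerm σ c y := by
  funext i
  simp only [signedPerm, Pi.add_apply]
  split <;> ring

theorem sqNorm_signedPerm (σ : Equiv.Perm GolayPt) (c : Finset GolayPt) (x : GolayPt → ℤ) :
    sqNorm (signedPerm σ c x) = sqNorm x := by
  rw [sqNorm, sqNorm, ← Equiv.sum_comp σ.symm fun i => x i ^ 2]
  refine Finset.sum_congr rfl fun i _ => ?_
  simp only [signedPerm]
  split <;> ring

theorem signedPerm_inv_signedPerm (σ : Equiv.Perm GolayPt) (c : Finset GolayPt)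
    (x : GolayPt → ℤ) : signedPerm σ⁻¹ (σ⁻¹ • c) (signedPerm σ c x) = x := by
  have := signedPerm_signedPerm_inv σ⁻¹ (σ⁻¹ • c) x
  rwa [inv_inv, smul_inv_smul] at this

/-- the index type of the monomial elements -/
abbrev MonoIdx : Type :=
  ↥M24 × ↥(supports (golayCode : Set (GolayPt → ZMod 2)))

/-- a monomial element -/
def monoEl (p : MonoIdx) : Co0 :=
  mkCo0 (signedPerm (p.1 : Equiv.Perm GolayPt) p.2)
    (signedPerm (p.1 : Equiv.Perm GolayPt)⁻¹ ((p.1 : Equiv.Perm GolayPt)⁻¹ • (p.2 : Finset GolayPt)))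
    (fun _ hx => signedPerm_mem p.1.2 p.2.2 hx)
    (fun _ hx => signedPerm_mem (inv_mem p.1.2) (smul_supports (inv_mem p.1.2) p.2.2) hx)
    (fun x _ => signedPerm_signedPerm_inv _ _ x) (fun x _ => signedPerm_inv_signedPerm _ _ x)
    (fun x _ y _ => signedPerm_add _ _ x y) (fun x _ => sqNorm_signedPerm _ _ x)

theorem monoEl_smul (p : MonoIdx) (v : leechLattice) :
    ((monoEl p • v : leechLattice) : GolayPt → ℤ) =
      signedPerm (p.1 : Equiv.Perm GolayPt) p.2 v := rfl

/-! ### Vectors as lists -/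

/-- the vector with given list of coordinates -/
def vOf (l : List ℤ) : GolayPt → ℤ := fun p => l.getD (idx p) 0

/-- the list of coordinates of a vector -/
def lOf (x : GolayPt → ℤ) : List ℤ := (List.range 24).map fun i => x (pt i)

theorem lOf_getD (x : GolayPt → ℤ) {i : ℕ} (h : i < 24) : (lOf x).getD i 0 = x (pt i) := by
  simp [lOf, h]

theorem vOf_lOf (x : GolayPt → ℤ) : vOf (lOf x) = x :=
  funext fun p => by rw [vOf, lOf_getD x (idx_lt p), pt_idx]

theorem lOf_inj {x y : GolayPt → ℤ} (h : lOf x = lOf y) : x = y := by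
  rw [← vOf_lOf x, h, vOf_lOf]

theorem vOf_range (F : ℕ → ℤ) : vOf ((List.range 24).map F) = fun p => F (idx p) :=
  funext fun p => by simp [vOf, idx_lt p]

theorem sum_pt (f : GolayPt → ℤ) : ∑ p, f p = ((List.range 24).map fun j => f (pt j)).sum := by
  have : ∑ p, f p = ∑ j ∈ Finset.range 24, f (pt j) := by
    refine Finset.sum_bij (fun p _ => idx p) (fun p _ => Finset.mem_range.2 (idx_lt p))
      (fun p _ q _ h => idx_injective h) (fun j hj => ⟨pt j, Finset.mem_univ _,
        idx_pt (Finset.mem_range.1 hj)⟩) fun p _ => ?_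
    rw [pt_idx]
  rw [this]
  rfl

/-! ### The involution attached to a sextet -/

/-- the tetrad containing a point -/
def tetOf (i : ℕ) : ℕ := ([8388615, 8388615, 8388615, 147496, 4268048, 147496, 2621632, 2621632, 268544, 1082880, 1082880, 268544, 268544, 4268048, 147496, 1082880, 4268048, 147496, 268544, 2621632, 1082880, 2621632, 4268048, 8388615] : List ℕ).getD i 0

/-- twice the matrix entries -/
def xiE (i j : ℕ) : ℤ :=
  if (tetOf i).testBit j then
    if (tetOf i).testBit 23 then (if Nat.beq i j then -1 else 1)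
    else (if Nat.beq i j then 1 else -1)
  else 0

/-- twice the matrix -/
def xiMat : Matrix GolayPt GolayPt ℤ := Matrix.of fun p q => xiE (idx p) (idx q)

theorem xiMat_sq : xiMat * xiMat = (4 : ℤ) • (1 : Matrix GolayPt GolayPt ℤ) := by
  have h : ∀ p q, (xiMat * xiMat) p q = ((4 : ℤ) • (1 : Matrix GolayPt GolayPt ℤ)) p q := by
    decide +kernel
  exact Matrix.ext h

theorem xiMat_symm : xiMat.transpose = xiMat := by
  have h : ∀ i < 24, ∀ j < 24, xiE j i = xiE i j := by decide +kernel
  exact Matrix.ext fun p q => h _ (idx_lt p) _ (idx_lt q)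

theorem xiMat_row : ∀ p, (2 : ℤ) ∣ ∑ q, xiMat p q := by decide +kernel

/-- the involution, on all integer vectors -/
def xiFun (x : GolayPt → ℤ) : GolayPt → ℤ := fun p => (xiMat.mulVec x) p / 2

theorem two_smul_xiFun {x : GolayPt → ℤ} (hx : x ∈ leechLattice) :
    (2 : ℤ) • xiFun x = xiMat.mulVec x := by
  obtain ⟨m, c, y, -, rfl, -⟩ := mem_leechLattice.1 hx
  funext p
  show 2 * ((xiMat.mulVec (lvec m c y)) p / 2) = _
  refine Int.mul_ediv_cancel' ?_
  have h : (2 : ℤ) ∣ ∑ q, (xiMat p q * lvec m c y q - xiMat p q * m) := Finset.dvd_sum fun q _ => by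
    rw [← mul_sub]
    exact Dvd.dvd.mul_left (by simp only [lvec]; omega) _
  rw [Finset.sum_sub_distrib, ← Finset.sum_mul] at h
  have h' := Dvd.dvd.mul_right (xiMat_row p) m
  have := Int.dvd_add h h'
  rw [sub_add_cancel] at this
  exact this

/-- parity, congruence classes modulo four and sum modulo eight -/
def inLeechB (l : List ℤ) : Bool :=
  let m := l.getD 0 0 % 2
  ((List.range 24).all fun i => decide (l.getD i 0 % 2 = m)) &&
  (inCode (Nat.ofBits fun i : Fin 24 => decide ((l.getD i 0 - m) % 4 = 2))) &&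
  decide (((List.range 24).map fun i => l.getD i 0).sum % 8 = 4 * m % 8)

theorem word_mem_of_inCode {m : ℕ} (h : inCode m = true) (hlt : m < 2 ^ 24) :
    word m ∈ golayCode :=
  word_mem_of_mem_codeList (mem_codeList_iff.2 ⟨hlt, h⟩)

theorem toSet_supports_of_inCode {m : ℕ} (h : inCode m = true) (hlt : m < 2 ^ 24) :
    toSet m ∈ supports (golayCode : Set (GolayPt → ZMod 2)) :=
  toSet_mem_supports (mem_codeList_iff.2 ⟨hlt, h⟩)

theorem mem_leech_of_inLeechB {x : GolayPt → ℤ} (h : inLeechB (lOf x) = true) :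
    x ∈ leechLattice := by
  simp only [inLeechB, Bool.and_eq_true, List.all_eq_true, List.mem_range, decide_eq_true_eq] at h
  obtain ⟨⟨hp, hc⟩, hs⟩ := h
  rw [lOf_getD x (by norm_num)] at hp hc hs
  set m := x (pt 0) % 2 with hm
  set M := Nat.ofBits fun i : Fin 24 => decide (((lOf x).getD i 0 - m) % 4 = 2) with hM
  have hcode := word_mem_of_inCode hc (Nat.ofBits_lt_two_pow _)
  have hbit : ∀ p, bitZ (word M p) = if (x p - m) % 4 = 2 then 1 else 0 := by
    intro p
    have : M.testBit (idx p) = decide ((x p - m) % 4 = 2) := by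
      rw [hM, Nat.testBit_ofBits_lt _ _ (idx_lt p)]
      simp only [lOf_getD x (idx_lt p), pt_idx]
    simp only [word, this, decide_eq_true_eq]
    split <;> simp
  have hpar : ∀ p, x p % 2 = m := fun p => by
    have := hp _ (idx_lt p)
    rwa [lOf_getD x (idx_lt p), pt_idx] at this
  refine mem_leechLattice.2 ⟨m, word M, fun p => (x p - m - 2 * bitZ (word M p)) / 4, hcode, ?_, ?_⟩
  · funext p
    have := hpar p
    simp only [lvec, hbit]
    split <;> omega
  · have e : ∀ p, x p = m + 2 * bitZ (word M p) + 4 * ((x p - m - 2 * bitZ (word M p)) / 4) := by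
      intro p
      have := hpar p
      rw [hbit]
      split <;> omega
    have hsum := sum_lvec m (word M) fun p => (x p - m - 2 * bitZ (word M p)) / 4
    simp only [lvec] at hsum
    rw [← Finset.sum_congr rfl fun p _ => e p] at hsum
    have h4 := four_dvd_sum_bitZ hcode
    rw [show ((List.range 24).map fun i => (lOf x).getD i 0).sum = ∑ p, x p from ?_] at hs
    · obtain ⟨t, ht⟩ := h4
      obtain ⟨u, hu⟩ := Int.ModEq.dvd (hs : (∑ p, x p) ≡ 4 * m [ZMOD 8])
      beta_reduce at hsum ⊢
      exact ⟨-u - 3 * m - t, by linarith⟩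
    · rw [sum_pt]
      exact congrArg List.sum (List.map_congr_left fun i hi =>
        lOf_getD x (List.mem_range.1 hi))

theorem xiFun_mem {x : GolayPt → ℤ} (hx : x ∈ leechLattice) : xiFun x ∈ leechLattice := by
  let H : AddSubgroup (GolayPt → ℤ) :=
    { carrier := {x | x ∈ leechLattice ∧ xiFun x ∈ leechLattice}
      zero_mem' := ⟨AddSubgroup.zero_mem _, by
        rw [show xiFun 0 = 0 from funext fun p => by simp [xiFun]]
        exact AddSubgroup.zero_mem _⟩
      add_mem' := fun {a b} ha hb => ⟨AddSubgroup.add_mem _ ha.1 hb.1, by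
        have : xiFun (a + b) = xiFun a + xiFun b := by
          apply smul_right_injective _ (two_ne_zero (α := ℤ))
          simp only [smul_add, two_smul_xiFun ha.1, two_smul_xiFun hb.1,
            two_smul_xiFun (AddSubgroup.add_mem _ ha.1 hb.1), Matrix.mulVec_add]
        rw [this]; exact AddSubgroup.add_mem _ ha.2 hb.2⟩
      neg_mem' := fun {a} ha => ⟨AddSubgroup.neg_mem _ ha.1, by
        have : xiFun (-a) = -xiFun a := by
          apply smul_right_injective _ (two_ne_zero (α := ℤ))
          simp only [smul_neg, two_smul_xiFun ha.1,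
            two_smul_xiFun (AddSubgroup.neg_mem _ ha.1), Matrix.mulVec_neg]
        rw [this]; exact AddSubgroup.neg_mem _ ha.2⟩ }
  refine (leech_le_of_gens (H := H) ?_ ?_ ?_ hx).2
  · intro p hp s hs
    have h : ∀ p : GolayPt, p ≠ none → ∀ s ∈ [(1 : ℤ), -1],
        inLeechB (lOf (lvec 0 0 (fun i => if i = none then 1 else if i = p then s else 0))) = true ∧
        inLeechB (lOf (xiFun
          (lvec 0 0 (fun i => if i = none then 1 else if i = p then s else 0)))) = true := by
      decide +kernel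
    obtain ⟨h1, h2⟩ := h p hp s (by rcases hs with rfl | rfl <;> simp)
    exact ⟨mem_leech_of_inLeechB h1, mem_leech_of_inLeechB h2⟩
  · intro b hb
    have h : ∀ b ∈ golayBasis, inLeechB (lOf (lvec 0 (word b) 0)) = true ∧
        inLeechB (lOf (xiFun (lvec 0 (word b) 0))) = true := by decide +kernel
    obtain ⟨h1, h2⟩ := h b hb
    exact ⟨mem_leech_of_inLeechB h1, mem_leech_of_inLeechB h2⟩
  · have h : inLeechB (lOf (lvec 1 0 (fun i => if i = none then -1 else 0))) = true ∧
        inLeechB (lOf (xiFun (lvec 1 0 (fun i => if i = none then -1 else 0)))) = true := by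
      decide +kernel
    exact ⟨mem_leech_of_inLeechB h.1, mem_leech_of_inLeechB h.2⟩

theorem xiFun_xiFun {x : GolayPt → ℤ} (hx : x ∈ leechLattice) : xiFun (xiFun x) = x := by
  apply smul_right_injective _ (by norm_num : (4 : ℤ) ≠ 0)
  simp only
  have h1 := two_smul_xiFun hx
  have h2 := two_smul_xiFun (xiFun_mem hx)
  calc (4 : ℤ) • xiFun (xiFun x) = (2 : ℤ) • xiMat.mulVec (xiFun x) := by
        rw [← h2, smul_smul]; norm_num
    _ = xiMat.mulVec (xiMat.mulVec x) := by rw [← Matrix.mulVec_smul, h1]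
    _ = (4 : ℤ) • x := by rw [Matrix.mulVec_mulVec, xiMat_sq, Matrix.smul_mulVec, Matrix.one_mulVec]

theorem sqNorm_eq_dotProduct (x : GolayPt → ℤ) : sqNorm x = x ⬝ᵥ x := by
  simp only [sqNorm, dotProduct, pow_two]

theorem sqNorm_xiFun {x : GolayPt → ℤ} (hx : x ∈ leechLattice) :
    sqNorm (xiFun x) = sqNorm x := by
  have h : sqNorm ((2 : ℤ) • xiFun x) = 4 * sqNorm x := by
    rw [two_smul_xiFun hx, sqNorm_eq_dotProduct, Matrix.dotProduct_mulVec, ← Matrix.mulVec_transpose,
      xiMat_symm, Matrix.mulVec_mulVec, xiMat_sq, Matrix.smul_mulVec, Matrix.one_mulVec,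
      smul_dotProduct, sqNorm_eq_dotProduct]
    rfl
  rw [sqNorm_eq_dotProduct, smul_dotProduct, dotProduct_smul, ← sqNorm_eq_dotProduct,
    smul_smul, smul_eq_mul] at h
  omega

/-- the non-monomial element -/
def xiEl : Co0 :=
  mkCo0 xiFun xiFun (fun _ => xiFun_mem) (fun _ => xiFun_mem) (fun _ => xiFun_xiFun)
    (fun _ => xiFun_xiFun)
    (fun x hx y hy => by
      apply smul_right_injective _ (two_ne_zero (α := ℤ))
      simp only [smul_add, two_smul_xiFun hx, two_smul_xiFun hy,
        two_smul_xiFun (AddSubgroup.add_mem _ hx hy), Matrix.mulVec_add])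
    (fun _ => sqNorm_xiFun)

theorem xiEl_smul (v : leechLattice) : ((xiEl • v : leechLattice) : GolayPt → ℤ) = xiFun v := rfl

theorem xiEl_mul_self : xiEl * xiEl = 1 :=
  Subtype.ext (Equiv.ext fun v => Subtype.ext (xiFun_xiFun v.2))

/-! ### Programs -/

/-- a step: a monomial map (packed permutation, sign mask) or the involution -/
inductive Stp
  | mono (a s : ℕ)
  | xi

/-- validity of a step -/
def Stp.ok : Stp → Bool
  | .mono a s => isM24P a && inCode s && Nat.blt s 16777216
  | .xi => true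

/-- effect of a step on a list -/
def Stp.run : Stp → List ℤ → List ℤ
  | .mono a s, l =>
    (List.range 24).map fun i => if s.testBit i then -l.getD (getP a i) 0 else l.getD (getP a i) 0
  | .xi, l => (List.range 24).map fun i =>
      ((List.range 24).map fun j => xiE i j * l.getD j 0).sum / 2

/-- effect of a program, first step first -/
def runP : List Stp → List ℤ → List ℤ
  | [], l => l
  | st :: r, l => runP r (st.run l)

/-- `g` acts on coordinate lists as `f` -/
def ActsAs (g : Co0) (f : List ℤ → List ℤ) : Prop :=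
  ∀ v : leechLattice, lOf ((g • v : leechLattice) : GolayPt → ℤ) = f (lOf (v : GolayPt → ℤ))

theorem ActsAs.mul {g h : Co0} {f k : List ℤ → List ℤ} (hg : ActsAs g f) (hh : ActsAs h k) :
    ActsAs (g * h) (f ∘ k) := fun v => by rw [mul_smul, hg, hh]; rfl

theorem exists_mono_of_ok {a s : ℕ} (h : (Stp.mono a s).ok = true) :
    ∃ p : MonoIdx, ActsAs (monoEl p) (Stp.mono a s).run := by
  simp only [Stp.ok, Bool.and_eq_true, Nat.blt_eq] at h
  obtain ⟨⟨ha, hs⟩, hlt⟩ := h
  obtain ⟨σ, hσ, hr⟩ := exists_rep_M24 ha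
  refine ⟨(⟨σ⁻¹, inv_mem hσ⟩, ⟨toSet s, toSet_supports_of_inCode hs hlt⟩), fun v => ?_⟩
  rw [monoEl_smul]
  simp only [Stp.run]
  rw [lOf]
  refine List.map_congr_left fun i hi => ?_
  have hi' := List.mem_range.1 hi
  rw [hr i hi', lOf_getD _ (idx_lt _), pt_idx]
  simp only [signedPerm, mem_toSet, idx_pt hi']
  rfl

theorem xi_actsAs : ActsAs xiEl Stp.xi.run := fun v => by
  rw [xiEl_smul]
  simp only [Stp.run]
  rw [lOf]
  refine List.map_congr_left fun i hi => ?_
  have hi' := List.mem_range.1 hi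
  show (xiMat.mulVec _) (pt i) / 2 = _
  rw [Matrix.mulVec, dotProduct, sum_pt]
  congr 2
  refine List.map_congr_left fun j hj => ?_
  rw [lOf_getD _ (List.mem_range.1 hj)]
  simp [xiMat, idx_pt hi', idx_pt (List.mem_range.1 hj)]

/-- the subgroup generated by the monomial elements and the involution -/
def genSub : Subgroup Co0 := Subgroup.closure (Set.range monoEl ∪ {xiEl})

theorem exists_prog {P : List Stp} (h : P.all Stp.ok = true) :
    ∃ g ∈ genSub, ActsAs g (runP P) := by
  induction P with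
  | nil => exact ⟨1, one_mem _, fun v => by rw [one_smul]; rfl⟩
  | cons st r ih =>
    simp only [List.all_cons, Bool.and_eq_true] at h
    obtain ⟨g, hg, hga⟩ := ih h.2
    cases st with
    | mono a s =>
      obtain ⟨p, hp⟩ := exists_mono_of_ok h.1
      exact ⟨g * monoEl p,
        mul_mem hg (Subgroup.subset_closure (Or.inl ⟨p, rfl⟩)), hga.mul hp⟩
    | xi =>
      exact ⟨g * xiEl, mul_mem hg (Subgroup.subset_closure (Or.inr rfl)), hga.mul xi_actsAs⟩

end CfsgLib.Spor
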