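import Cfsg.Agent.Lib.Spor.Co0Main

/-!
Census of the 196560 short lattice vectors: they are listed by index, so that the number of them
with prescribed inner products with given vectors is computed.
-/

set_option autoImplicit false
set_option maxRecDepth 100000

namespace CfsgLib.Spor.Census

open Cfsg
open CfsgLib.Spor
open scoped Pointwise symmDiff

/-! ### The index -/

/-- the sub-masks on the listed bits with an even, and with an odd, number of bits -/
def subs : List ℕ → List ℕ × List ℕ
  | [] => ([0], [])
  | i :: r =>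
    ((subs r).1 ++ (subs r).2.map ((1 <<< i) ||| ·), (subs r).2 ++ (subs r).1.map ((1 <<< i) ||| ·))

theorem subs_spec : ∀ (l : List ℕ), l.Nodup →
    (((subs l).1 ++ (subs l).2).Nodup) ∧
    (∀ s ∈ (subs l).1 ++ (subs l).2, ∀ i, s.testBit i = true → i ∈ l) ∧
    ((∀ i ∈ l, i < 24) → (∀ s ∈ (subs l).1, pop s % 2 = 0) ∧ ∀ s ∈ (subs l).2, pop s % 2 = 1) := by
  intro l
  induction l with
  | nil =>
    intro _
    refine ⟨by simp [subs], ?_, fun _ => ⟨?_, by simp [subs]⟩⟩
    · intro s hs i hi
      simp [subs] at hs
      subst hs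
      simp at hi
    · intro s hs
      simp [subs] at hs
      subst hs
      decide +kernel
  | cons a r ih =>
    intro hnd
    obtain ⟨har, hr⟩ := List.nodup_cons.1 hnd
    obtain ⟨h1, h2, h3⟩ := ih hr
    have hbit : ∀ s i, ((1 <<< a) ||| s).testBit i = (decide (i = a) || s.testBit i) := by
      intro s i
      rw [Nat.testBit_or, Nat.shiftLeft_eq, one_mul, Nat.testBit_two_pow]
      simp only [eq_comm (a := a)]
    have ha : ∀ s ∈ (subs r).1 ++ (subs r).2, s.testBit a = false := fun s hs => by
      by_contra hc
      exact har (h2 s hs a (by simpa using hc))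
    have hinj : ∀ s ∈ (subs r).1 ++ (subs r).2, ∀ t ∈ (subs r).1 ++ (subs r).2,
        (1 <<< a) ||| s = (1 <<< a) ||| t → s = t := by
      intro s hs t ht e
      refine Nat.eq_of_testBit_eq fun i => ?_
      have := congrArg (fun n : ℕ => n.testBit i) e
      simp only [hbit] at this
      by_cases hi : i = a
      · subst hi; rw [ha s hs, ha t ht]
      · simpa [hi] using this
    refine ⟨?_, ?_, fun hlt => ?_⟩
    · have hperm : ((subs (a :: r)).1 ++ (subs (a :: r)).2).Perm
          (((subs r).1 ++ (subs r).2) ++ ((subs r).1 ++ (subs r).2).map ((1 <<< a) ||| ·)) := by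
        rw [List.perm_iff_count]
        intro x
        simp only [subs, List.count_append, List.map_append]
        omega
      rw [hperm.nodup_iff, List.nodup_append']
      refine ⟨h1, List.Nodup.map_on hinj h1, fun s hs hs' => ?_⟩
      obtain ⟨t, -, rfl⟩ := List.mem_map.1 hs'
      have := ha _ hs
      rw [hbit] at this
      simp at this
    · intro s hs i hi
      simp only [subs, List.mem_append, List.mem_map] at hs
      rcases hs with (hs | ⟨t, ht, rfl⟩) | (hs | ⟨t, ht, rfl⟩)
      · exact List.mem_cons_of_mem _ (h2 s (List.mem_append_left _ hs) i hi)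
      · rw [hbit, Bool.or_eq_true, decide_eq_true_eq] at hi
        rcases hi with rfl | hi
        · exact List.mem_cons_self
        · exact List.mem_cons_of_mem _ (h2 t (List.mem_append_right _ ht) i hi)
      · exact List.mem_cons_of_mem _ (h2 s (List.mem_append_right _ hs) i hi)
      · rw [hbit, Bool.or_eq_true, decide_eq_true_eq] at hi
        rcases hi with rfl | hi
        · exact List.mem_cons_self
        · exact List.mem_cons_of_mem _ (h2 t (List.mem_append_left _ ht) i hi)
    · obtain ⟨he, ho⟩ := h3 fun i hi => hlt i (List.mem_cons_of_mem _ hi)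
      have ha24 := hlt a List.mem_cons_self
      have hpop : ∀ s, s.testBit a = false → pop ((1 <<< a) ||| s) = pop s + 1 := by
        intro s hs
        rw [← card_toSet, ← card_toSet]
        have e : toSet ((1 <<< a) ||| s) = insert (pt a) (toSet s) := by
          ext p
          simp only [mem_toSet, hbit, Finset.mem_insert, Bool.or_eq_true, decide_eq_true_eq]
          constructor
          · rintro (h | h)
            · exact Or.inl (by rw [← h, pt_idx])
            · exact Or.inr h
          · rintro (h | h)
            · exact Or.inl (by rw [h, idx_pt ha24])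
            · exact Or.inr h
        rw [e, Finset.card_insert_of_notMem (by rw [mem_toSet, idx_pt ha24, hs]; decide)]
      constructor
      · intro s hs
        simp only [subs, List.mem_append, List.mem_map] at hs
        rcases hs with hs | ⟨t, ht, rfl⟩
        · exact he s hs
        · have := ho t ht
          rw [hpop t (ha t (List.mem_append_right _ ht))]
          omega
      · intro s hs
        simp only [subs, List.mem_append, List.mem_map] at hs
        rcases hs with hs | ⟨t, ht, rfl⟩
        · exact ho s hs
        · have := he t ht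
          rw [hpop t (ha t (List.mem_append_left _ ht))]
          omega

/-- indices of short vectors -/
inductive SIdx
  | a (i j : ℕ) (s t : Bool)
  | b (m s : ℕ)
  | c (c j : ℕ)

/-- `±1` -/
def sgn (b : Bool) : ℤ := if b then -1 else 1

/-- the vector of an index -/
def vec : SIdx → GolayPt → ℤ
  | .a i j s t => Pi.single (pt i) (4 * sgn s) + Pi.single (pt j) (4 * sgn t)
  | .b m s => fun p =>
      if m.testBit (idx p) then (if s.testBit (idx p) then -2 else 2) else 0
  | .c c j => fun p => (if c.testBit (idx p) then -1 else 1) * (if idx p = j then -3 else 1)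

/-- the pairs of indices below 24 -/
def pairList : List (ℕ × ℕ) :=
  (List.range 24).flatMap fun i => (((List.range 24).filter fun j => i < j).map fun j => (i, j))

/-- the first kind -/
def aList : List SIdx :=
  pairList.flatMap fun q => [.a q.1 q.2 false false, .a q.1 q.2 false true,
    .a q.1 q.2 true false, .a q.1 q.2 true true]

/-- bits of a mask -/
def bitsOf (m : ℕ) : List ℕ := (List.range 24).filter fun i => m.testBit i

/-- the second kind -/
def bList : List SIdx := octadList.flatMap fun m => (subs (bitsOf m)).1.map fun s => .b m s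

/-- the third kind -/
def cList : List SIdx := codeList.flatMap fun c => (List.range 24).map fun j => .c c j

/-- all indices -/
def allList : List SIdx := aList ++ bList ++ cList

theorem pairList_spec : ∀ q ∈ pairList, q.1 < q.2 ∧ q.2 < 24 := by decide +kernel

theorem pairList_nodup : pairList.Nodup := by decide +kernel

theorem mem_aList {k : SIdx} (h : k ∈ aList) :
    ∃ i j s t, k = .a i j s t ∧ i < j ∧ j < 24 := by
  simp only [aList, List.mem_flatMap, List.mem_cons, List.not_mem_nil, or_false] at h
  obtain ⟨⟨i, j⟩, hq, h⟩ := h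
  obtain ⟨h1, h2⟩ := pairList_spec _ hq
  rcases h with rfl | rfl | rfl | rfl <;> exact ⟨_, _, _, _, rfl, h1, h2⟩

theorem mem_bList {k : SIdx} (h : k ∈ bList) :
    ∃ m s, k = .b m s ∧ m ∈ octadList ∧ s ∈ (subs (bitsOf m)).1 := by
  simp only [bList, List.mem_flatMap, List.mem_map] at h
  obtain ⟨m, hm, s, hs, rfl⟩ := h
  exact ⟨m, s, rfl, hm, hs⟩

theorem mem_cList {k : SIdx} (h : k ∈ cList) : ∃ c j, k = .c c j ∧ c ∈ codeList ∧ j < 24 := by
  simp only [cList, List.mem_flatMap, List.mem_map, List.mem_range] at h
  obtain ⟨c, hc, j, hj, rfl⟩ := h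
  exact ⟨c, j, rfl, hc, hj⟩

theorem bitsOf_nodup (m : ℕ) : (bitsOf m).Nodup := List.nodup_range.filter _

theorem subs_mem {m s : ℕ} (hs : s ∈ (subs (bitsOf m)).1) :
    (∀ i, s.testBit i = true → m.testBit i = true ∧ i < 24) ∧ pop s % 2 = 0 ∧
      toSet s ⊆ toSet m := by
  obtain ⟨-, h2, h3⟩ := subs_spec _ (bitsOf_nodup m)
  have key : ∀ i, s.testBit i = true → m.testBit i = true ∧ i < 24 := fun i hi => by
    have := h2 s (List.mem_append_left _ hs) i hi
    simp [bitsOf] at this
    exact ⟨this.2, this.1⟩
  refine ⟨key, (h3 fun i hi => ?_).1 s hs, fun p hp => mem_toSet.2 (key _ (mem_toSet.1 hp)).1⟩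
  simp [bitsOf] at hi
  exact hi.1

theorem vec_a_mem (i j : ℕ) (s t : Bool) (hij : i < j) (hj : j < 24) :
    vec (.a i j s t) ∈ leechLattice ∧ sqNorm (vec (.a i j s t)) = 32 := by
  have hne : pt i ≠ pt j := fun e => by
    have := congrArg idx e
    rw [idx_pt (by omega), idx_pt hj] at this
    omega
  constructor
  · refine AddSubgroup.subset_closure (Cfsg.Spor.mem_leechSet_of_const_mod_four _ 0 0 (by decide)
      (fun p => ?_) ?_)
    · simp only [vec, Pi.add_apply, Pi.single_apply, Int.ModEq]
      split <;> split <;> omega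
    · simp only [vec, Pi.add_apply, Finset.sum_add_distrib, Finset.sum_pi_single',
        Finset.mem_univ, if_true, Int.ModEq]
      cases s <;> cases t <;> norm_num [sgn]
  · simp only [vec, sqNorm, Pi.add_apply, add_sq, Finset.sum_add_distrib]
    have h1 : ∀ (p : GolayPt) (a : ℤ), ∑ q, (Pi.single p a : GolayPt → ℤ) q ^ 2 = a ^ 2 :=
      fun p a => sqNorm_single p a
    rw [h1, h1]
    cases s <;> cases t <;> simp [sgn, Pi.single_apply, hne, hne.symm]

theorem vec_b_mem {m s : ℕ} (hm : m ∈ octadList) (hs : s ∈ (subs (bitsOf m)).1) :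
    vec (.b m s) ∈ leechLattice ∧ sqNorm (vec (.b m s)) = 32 := by
  obtain ⟨hcode, hpop⟩ := mem_octadList_iff.1 hm
  obtain ⟨-, hev, hsub⟩ := subs_mem hs
  set z : GolayPt → ℤ := fun p =>
    if m.testBit (idx p) then (if s.testBit (idx p) then -1 else 1) else 0 with hz
  have hv : vec (.b m s) = 2 • z := funext fun p => by
    simp only [vec, hz, Pi.smul_apply, nsmul_eq_mul, Nat.cast_ofNat]
    split
    · split <;> rfl
    · rfl
  refine ⟨?_, ?_⟩
  · rw [hv]
    refine (even_vec_iff.2 ⟨z, rfl, ?_, ?_⟩).1
    · convert toSet_mem_supports hcode using 1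
      ext p
      simp only [oddSet, hz, Finset.mem_filter, Finset.mem_univ, true_and, mem_toSet]
      split_ifs with h1 h2 <;> simp_all
    · have hzs : ∀ p, z p = (if p ∈ toSet m then (1 : ℤ) else 0) -
          2 * (if p ∈ toSet s then 1 else 0) := fun p => by
        simp only [hz, mem_toSet]
        by_cases h1 : m.testBit (idx p) = true
        · simp only [h1, if_true]; split <;> norm_num
        · have h2 : ¬ s.testBit (idx p) = true := fun h =>
            h1 (mem_toSet.1 (hsub (mem_toSet.2 h)))
          simp [h1, h2]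
      simp only [hzs, Finset.sum_sub_distrib, ← Finset.mul_sum, Finset.sum_boole,
        Finset.filter_mem_eq_inter, Finset.univ_inter, card_toSet, hpop]
      omega
  · have key : ∀ p, vec (.b m s) p ^ 2 = if p ∈ toSet m then 4 else 0 := fun p => by
      simp only [vec, mem_toSet]
      split
      · split <;> norm_num
      · norm_num
    simp only [sqNorm, key]
    rw [Finset.sum_ite_mem, Finset.univ_inter, Finset.sum_const, card_toSet, hpop]
    norm_num

theorem vec_c_eq (c j : ℕ) :
    vec (.c c j) = oddVec (word c) fun p => if idx p = j then -1 else 0 := funext fun p => by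
  simp only [vec, oddVec, support₂_word, mem_toSet]
  split <;> split <;> norm_num

theorem vec_c_mem {c j : ℕ} (hc : c ∈ codeList) (hj : j < 24) :
    vec (.c c j) ∈ leechLattice ∧ sqNorm (vec (.c c j)) = 32 := by
  have hiff : ∀ p, (idx p = j) = (p = pt j) := fun p =>
    propext ⟨fun h => by rw [← h, pt_idx], fun h => by rw [h, idx_pt hj]⟩
  rw [vec_c_eq]
  refine ⟨oddVec_mem (word_mem_of_mem_codeList hc) ?_, ?_⟩
  · simp only [hiff, Finset.sum_ite_eq', Finset.mem_univ, if_true]
    norm_num
  · rw [sqNorm_oddVec]
    have : ∑ p : GolayPt, oddWt (if idx p = j then -1 else 0) = 1 := by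
      rw [Finset.sum_eq_single (pt j)]
      · rw [idx_pt hj, if_pos rfl]; rfl
      · intro p _ hp
        rw [if_neg (by rw [hiff]; exact hp)]; rfl
      · intro h; exact absurd (Finset.mem_univ _) h
    rw [this]; norm_num

theorem vec_mem {k : SIdx} (h : k ∈ allList) : vec k ∈ leechLattice ∧ sqNorm (vec k) = 32 := by
  simp only [allList, List.mem_append] at h
  rcases h with (h | h) | h
  · obtain ⟨i, j, s, t, rfl, h1, h2⟩ := mem_aList h; exact vec_a_mem i j s t h1 h2
  · obtain ⟨m, s, rfl, hm, hs⟩ := mem_bList h; exact vec_b_mem hm hs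
  · obtain ⟨c, j, rfl, hc, hj⟩ := mem_cList h; exact vec_c_mem hc hj

theorem a_apply (i j : ℕ) (s t : Bool) (hij : i < j) (hj : j < 24) (p : GolayPt) :
    vec (.a i j s t) p =
      if idx p = i then 4 * sgn s else if idx p = j then 4 * sgn t else 0 := by
  simp only [vec, Pi.add_apply, Pi.single_apply]
  have h1 : (p = pt i) ↔ idx p = i :=
    ⟨fun h => by rw [h, idx_pt (by omega)], fun h => by rw [← h, pt_idx]⟩
  have h2 : (p = pt j) ↔ idx p = j :=
    ⟨fun h => by rw [h, idx_pt hj], fun h => by rw [← h, pt_idx]⟩
  simp only [h1, h2]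
  split_ifs <;> omega

theorem vec_injOn {k l : SIdx} (hk : k ∈ allList) (hl : l ∈ allList) (e : vec k = vec l) :
    k = l := by
  have cls : ∀ {k}, k ∈ allList →
      (∃ i j s t, k = SIdx.a i j s t ∧ i < j ∧ j < 24 ∧
        ∀ p, vec k p = 4 ∨ vec k p = -4 ∨ vec k p = 0) ∨
      (∃ m s, k = SIdx.b m s ∧ m ∈ octadList ∧ s ∈ (subs (bitsOf m)).1 ∧
        ∀ p, vec k p = 2 ∨ vec k p = -2 ∨ vec k p = 0) ∨
      (∃ c j, k = SIdx.c c j ∧ c ∈ codeList ∧ j < 24 ∧
        ∀ p, vec k p = 1 ∨ vec k p = -1 ∨ vec k p = 3 ∨ vec k p = -3) := by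
    intro k hk
    simp only [allList, List.mem_append] at hk
    rcases hk with (h | h) | h
    · obtain ⟨i, j, s, t, rfl, h1, h2⟩ := mem_aList h
      refine Or.inl ⟨i, j, s, t, rfl, h1, h2, fun p => ?_⟩
      rw [a_apply i j s t h1 h2]
      cases s <;> cases t <;> simp only [sgn] <;> split_ifs <;> simp_all
    · obtain ⟨m, s, rfl, hm, hs⟩ := mem_bList h
      refine Or.inr (Or.inl ⟨m, s, rfl, hm, hs, fun p => ?_⟩)
      simp only [vec]; split_ifs <;> simp
    · obtain ⟨c, j, rfl, hc, hj⟩ := mem_cList h
      refine Or.inr (Or.inr ⟨c, j, rfl, hc, hj, fun p => ?_⟩)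
      simp only [vec]; split_ifs <;> simp
  rcases cls hk with ⟨i, j, s, t, rfl, h1, h2, v1⟩ | ⟨m, s, rfl, hm, hs, v1⟩ |
      ⟨c, j, rfl, hc, hj, v1⟩ <;>
    rcases cls hl with ⟨i', j', s', t', rfl, h1', h2', v2⟩ | ⟨m', s', rfl, hm', hs', v2⟩ |
      ⟨c', j', rfl, hc', hj', v2⟩
  · have ev : ∀ q, q < 24 → (if q = i then 4 * sgn s else if q = j then 4 * sgn t else 0) =
        (if q = i' then 4 * sgn s' else if q = j' then 4 * sgn t' else 0) := fun q hq => by
      have := congrFun e (pt q)
      rwa [a_apply i j s t h1 h2, a_apply i' j' s' t' h1' h2', idx_pt hq] at this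
    have hs0 : ∀ b, (4 : ℤ) * sgn b ≠ 0 := fun b => by cases b <;> decide
    have key : ∀ q, q < 24 → (q = i ∨ q = j ↔ q = i' ∨ q = j') := fun q hq => by
      have h := ev q hq
      constructor
      · intro hh
        by_contra hn
        push Not at hn
        rw [if_neg hn.1, if_neg hn.2] at h
        rcases hh with rfl | rfl
        · rw [if_pos rfl] at h; exact hs0 _ h
        · rw [if_neg (by omega), if_pos rfl] at h; exact hs0 _ h
      · intro hh
        by_contra hn
        push Not at hn
        rw [if_neg hn.1, if_neg hn.2] at h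
        rcases hh with rfl | rfl
        · rw [if_pos rfl] at h; exact hs0 _ h.symm
        · rw [if_neg (by omega), if_pos rfl] at h; exact hs0 _ h.symm
    have := (key i (by omega)).1 (Or.inl rfl)
    have := (key j h2).1 (Or.inr rfl)
    obtain ⟨rfl, rfl⟩ : i = i' ∧ j = j' := by omega
    have e1 := ev i (by omega)
    have e2 := ev j h2
    rw [if_pos rfl, if_pos rfl] at e1
    rw [if_neg (by omega), if_pos rfl, if_neg (by omega), if_pos rfl] at e2
    have hinj : ∀ a b, (4 : ℤ) * sgn a = 4 * sgn b → a = b := by decide
    rw [hinj _ _ e1, hinj _ _ e2]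
  all_goals try
    (exfalso
     have a := v1 (pt i); have b := v2 (pt i)
     have z := congrFun e (pt i)
     have q := a_apply i j s t h1 h2 (pt i)
     rw [idx_pt (by omega), if_pos rfl] at q
     cases s <;> simp only [sgn] at q <;> omega)
  all_goals try
    (exfalso
     have a := v1 (pt i'); have b := v2 (pt i')
     have z := congrFun e (pt i')
     have q := a_apply i' j' s' t' h1' h2' (pt i')
     rw [idx_pt (by omega), if_pos rfl] at q
     cases s' <;> simp only [sgn] at q <;> omega)
  · have hm2 : toSet m = toSet m' := by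
      ext p
      have h := congrFun e p
      simp only [vec] at h
      simp only [mem_toSet]
      split_ifs at h <;> simp_all
    have hmm : m = m' := toSet_injOn (lt_of_mem_codeList (mem_octadList_iff.1 hm).1)
      (lt_of_mem_codeList (mem_octadList_iff.1 hm').1) hm2
    subst hmm
    obtain ⟨g1, -, -⟩ := subs_mem hs
    obtain ⟨g2, -, -⟩ := subs_mem hs'
    have : s = s' := Nat.eq_of_testBit_eq fun i => by
      by_cases hi : i < 24 ∧ m.testBit i = true
      · have h := congrFun e (pt i)
        simp only [vec, idx_pt hi.1, hi.2, if_true] at h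
        split_ifs at h <;> simp_all
      · have a : s.testBit i = false := by
          by_contra hc; exact hi ⟨(g1 i (by simpa using hc)).2, (g1 i (by simpa using hc)).1⟩
        have b : s'.testBit i = false := by
          by_contra hc; exact hi ⟨(g2 i (by simpa using hc)).2, (g2 i (by simpa using hc)).1⟩
        rw [a, b]
    rw [this]
  · exfalso
    have a := v1 none; have b := v2 none; have z := congrFun e none; omega
  · exfalso
    have a := v1 none; have b := v2 none; have z := congrFun e none; omega
  · have hjj : j = j' := by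
      have h := congrFun e (pt j)
      simp only [vec, idx_pt hj, if_true] at h
      split_ifs at h <;> omega
    subst hjj
    have : c = c' := toSet_injOn (lt_of_mem_codeList hc) (lt_of_mem_codeList hc') (by
      ext p
      have h := congrFun e p
      simp only [vec] at h
      simp only [mem_toSet]
      split_ifs at h <;> simp_all)
    rw [this]

theorem nodup_allList : allList.Nodup := by
  have ha : aList.Nodup := by
    rw [aList, List.nodup_flatMap]
    refine ⟨fun q _ => by simp, List.Pairwise.imp_of_mem ?_ pairList_nodup⟩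
    intro q q' _ _ hne
    simp only [Function.onFun, List.disjoint_left, List.mem_cons, List.not_mem_nil, or_false]
    rintro k (rfl | rfl | rfl | rfl) <;> simp [Prod.ext_iff] at hne ⊢ <;> tauto
  have hb : bList.Nodup := by
    rw [bList, List.nodup_flatMap]
    refine ⟨fun m _ => ?_, List.Pairwise.imp_of_mem ?_ octadList_nodup⟩
    · refine List.Nodup.map (fun s t h => by simpa using h) ?_
      exact (List.nodup_append'.1 (subs_spec _ (bitsOf_nodup m)).1).1
    · intro m m' _ _ hne
      simp only [Function.onFun, List.disjoint_left, List.mem_map]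
      rintro k ⟨s, -, rfl⟩ ⟨t, -, h⟩
      exact hne (by simpa using (SIdx.b.injEq _ _ _ _ ▸ h : m' = m ∧ t = s).1.symm)
  have hc : cList.Nodup := by
    rw [cList, List.nodup_flatMap]
    refine ⟨fun c _ => List.Nodup.map (fun s t h => by simpa using h) List.nodup_range,
      List.Pairwise.imp_of_mem ?_ codeList_nodup⟩
    intro m m' _ _ hne
    simp only [Function.onFun, List.disjoint_left, List.mem_map]
    rintro k ⟨s, -, rfl⟩ ⟨t, -, h⟩
    exact hne (SIdx.c.inj h).1.symm
  rw [allList, List.nodup_append', List.nodup_append']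
  refine ⟨⟨ha, hb, fun k h1 h2 => ?_⟩, hc, fun k h1 h2 => ?_⟩
  · obtain ⟨i, j, s, t, rfl, -⟩ := mem_aList h1
    obtain ⟨m, s', h, -⟩ := mem_bList h2
    simp at h
  · obtain ⟨c, j, rfl, -⟩ := mem_cList h2
    rcases List.mem_append.1 h1 with h1 | h1
    · obtain ⟨i, j', s, t, h, -⟩ := mem_aList h1; simp at h
    · obtain ⟨m, s', h, -⟩ := mem_bList h1; simp at h

theorem length_bList_check :
    (octadList.map fun m => (subs (bitsOf m)).1.length).sum = 97152 := by
  decide +kernel

theorem length_pairList : pairList.length = 276 := by decide +kernel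

theorem length_allList : allList.length = 196560 := by
  simp [allList, aList, bList, cList, List.length_flatMap, length_bList_check, length_pairList,
    codeList_length]

attribute [local irreducible] aList bList cList

theorem exists_idx {x : GolayPt → ℤ} (hx : x ∈ leechLattice) (hn : sqNorm x = 32) :
    ∃ k ∈ allList, vec k = x := by
  classical
  have hsub : vec '' {k | k ∈ allList} ⊆ {x | x ∈ leechLattice ∧ sqNorm x = 32} := by
    rintro _ ⟨k, hk, rfl⟩; exact vec_mem hk
  have hcard : (vec '' {k | k ∈ allList}).ncard = 196560 := by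
    rw [show {k | k ∈ allList} = ↑allList.toFinset by ext; simp,
      Set.InjOn.ncard_image (fun a ha b hb => vec_injOn (List.mem_toFinset.1 ha)
        (List.mem_toFinset.1 hb)), Set.ncard_coe_finset,
      List.toFinset_card_of_nodup nodup_allList, length_allList]
  have heq := Set.eq_of_subset_of_ncard_le hsub (by rw [hcard, ncard_norm_32])
    (Set.finite_of_ncard_ne_zero (by rw [ncard_norm_32]; norm_num))
  obtain ⟨k, hk, rfl⟩ := (heq.symm.subset ⟨hx, hn⟩ : x ∈ vec '' {k | k ∈ allList})
  exact ⟨k, hk, rfl⟩

/-! ### Inner products -/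

/-- an integer combination of characteristic vectors of masks -/
abbrev Cls := List (ℤ × ℕ)

/-- the vector of a combination -/
def clsVec (u : Cls) : GolayPt → ℤ :=
  fun p => (u.map fun q => if q.2.testBit (idx p) then q.1 else 0).sum

/-- the contribution of one mask -/
def sumOn : SIdx → ℕ → ℤ
  | .a i j s t, P => (if P.testBit i then (if s then -4 else 4) else 0) +
      (if P.testBit j then (if t then -4 else 4) else 0)
  | .b m s, P => 2 * (Int.ofNat (pop (P &&& m)) - 2 * Int.ofNat (pop (P &&& s)))
  | .c c j, P => Int.ofNat (pop P) - 2 * Int.ofNat (pop (P &&& c)) -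
      (if P.testBit j then (if c.testBit j then -4 else 4) else 0)

/-- the inner product with a combination -/
def val (u : Cls) (k : SIdx) : ℤ := (u.map fun q => q.1 * sumOn k q.2).sum

theorem dotInt_clsVec (x : GolayPt → ℤ) : ∀ u : Cls,
    dotInt (clsVec u) x = (u.map fun q => q.1 * ∑ p ∈ toSet q.2, x p).sum
  | [] => by simp [dotInt, clsVec]
  | q :: r => by
    rw [List.map_cons, List.sum_cons, ← dotInt_clsVec x r]
    simp only [dotInt, clsVec, List.map_cons, List.sum_cons, add_mul, Finset.sum_add_distrib]
    congr 1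
    rw [Finset.mul_sum, toSet, Finset.sum_filter]
    refine Finset.sum_congr rfl fun p _ => ?_
    split <;> simp

theorem sum_toSet {k : SIdx} (hk : k ∈ allList) (P : ℕ) :
    ∑ p ∈ toSet P, vec k p = sumOn k P := by
  simp only [allList, List.mem_append] at hk
  rcases hk with (h | h) | h
  · obtain ⟨i, j, s, t, rfl, h1, h2⟩ := mem_aList h
    simp only [vec, Pi.add_apply, Finset.sum_add_distrib, Finset.sum_pi_single', mem_toSet,
      idx_pt (show i < 24 by omega), idx_pt h2, sumOn]
    cases s <;> cases t <;> simp [sgn]
  · obtain ⟨m, s, rfl, hm, hs⟩ := mem_bList h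
    obtain ⟨-, -, hsub⟩ := subs_mem hs
    have key : ∀ p, vec (.b m s) p = 2 * ((if p ∈ toSet m then (1 : ℤ) else 0) -
        2 * (if p ∈ toSet s then 1 else 0)) := fun p => by
      simp only [vec, mem_toSet]
      by_cases h1 : m.testBit (idx p) = true
      · simp only [h1, if_true]; split <;> norm_num
      · have h2 : ¬ s.testBit (idx p) = true := fun h => h1 (mem_toSet.1 (hsub (mem_toSet.2 h)))
        simp [h1, h2]
    simp only [key, ← Finset.mul_sum, Finset.sum_sub_distrib, Finset.sum_boole, sumOn,
      Finset.filter_mem_eq_inter, ← toSet_and, card_toSet]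
    rfl
  · obtain ⟨c, j, rfl, hc, hj⟩ := mem_cList h
    have key : ∀ p, vec (.c c j) p = (1 : ℤ) - 2 * (if p ∈ toSet c then 1 else 0) -
        (if p = pt j then (if c.testBit j then -4 else 4) else 0) := fun p => by
      simp only [vec, mem_toSet]
      by_cases hp : p = pt j
      · subst hp; simp only [idx_pt hj, if_true]; split <;> norm_num
      · have : idx p ≠ j := fun h => hp (by rw [← h, pt_idx])
        simp only [this, if_false, hp]; split <;> norm_num
    simp only [key, Finset.sum_sub_distrib, ← Finset.mul_sum, Finset.sum_boole, sumOn,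
      Finset.filter_mem_eq_inter, ← toSet_and, card_toSet, Finset.sum_const, nsmul_eq_mul,
      mul_one, Finset.sum_ite_eq', mem_toSet, idx_pt hj]
    have hf : ((toSet P).filter fun x => c.testBit (idx x) = true) = toSet (P &&& c) := by
      ext x; simp
    simp [hf, card_toSet]

theorem val_eq {k : SIdx} (hk : k ∈ allList) (u : Cls) : dotInt (clsVec u) (vec k) = val u k := by
  rw [dotInt_clsVec, val]
  exact congrArg List.sum (List.map_congr_left fun q _ => by rw [sum_toSet hk])

/-! ### Counts -/

/-- the conditions on an index -/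
def okAll (C : List (Cls × ℤ)) (k : SIdx) : Bool := C.all fun q => decide (val q.1 k = q.2)

/-- the number of indices of the second kind meeting the conditions -/
def cntB (C : List (Cls × ℤ)) : ℕ :=
  (octadList.map fun m => (subs (bitsOf m)).1.countP fun s => okAll C (.b m s)).sum

/-- the number of indices of the third kind meeting the conditions -/
def cntC (C : List (Cls × ℤ)) : ℕ :=
  (codeList.map fun c => (List.range 24).countP fun j => okAll C (.c c j)).sum

/-- the number of short vectors meeting the conditions -/
def count (C : List (Cls × ℤ)) : ℕ := aList.countP (okAll C) + cntB C + cntC C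

/-- the short vectors meeting the conditions -/
def censusSet (C : List (Cls × ℤ)) : Set leechLattice :=
  {x | sqNorm (x : GolayPt → ℤ) = 32 ∧
    ∀ q ∈ C, dotInt (clsVec q.1) (x : GolayPt → ℤ) = q.2}

theorem ncard_censusSet_of (A : List SIdx) (hnd : A.Nodup)
    (hvec : ∀ k ∈ A, vec k ∈ leechLattice ∧ sqNorm (vec k) = 32)
    (hinj : ∀ k ∈ A, ∀ l ∈ A, vec k = vec l → k = l)
    (hsurj : ∀ x ∈ leechLattice, sqNorm x = 32 → ∃ k ∈ A, vec k = x)
    (hval : ∀ k ∈ A, ∀ u, dotInt (clsVec u) (vec k) = val u k) (C : List (Cls × ℤ)) :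
    (censusSet C).ncard = A.countP (okAll C) := by
  classical
  rw [List.countP_eq_length_filter, ← List.toFinset_card_of_nodup (hnd.filter _),
    ← Set.ncard_coe_finset, ← Set.ncard_image_of_injective _ Subtype.val_injective]
  have hok : ∀ k ∈ A, (okAll C k = true ↔
      ∀ q ∈ C, dotInt (clsVec q.1) (vec k) = q.2) := fun k hk => by
    simp only [okAll, List.all_eq_true, decide_eq_true_eq, hval k hk]
  have himg : Subtype.val '' censusSet C =
      vec '' (↑(A.filter (okAll C)).toFinset : Set SIdx) := by
    ext x
    constructor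
    · rintro ⟨v, ⟨hn, hq⟩, rfl⟩
      obtain ⟨k, hk, hkv⟩ := hsurj v v.2 hn
      exact ⟨k, List.mem_toFinset.2 (List.mem_filter.2 ⟨hk, (hok k hk).2 (hkv ▸ hq)⟩), hkv⟩
    · rintro ⟨k, hk', rfl⟩
      obtain ⟨hk, hC⟩ := List.mem_filter.1 (List.mem_toFinset.1 hk')
      obtain ⟨h1, h2⟩ := hvec k hk
      exact ⟨⟨vec k, h1⟩, ⟨h2, (hok k hk).1 hC⟩, rfl⟩
  rw [himg, Set.InjOn.ncard_image]
  intro a ha b hb
  exact hinj a (List.mem_filter.1 (List.mem_toFinset.1 ha)).1 b
    (List.mem_filter.1 (List.mem_toFinset.1 hb)).1

theorem count_eq (C : List (Cls × ℤ)) : count C = allList.countP (okAll C) := by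
  simp only [count, cntB, cntC, allList, bList, cList, List.countP_append, List.countP_flatMap,
    List.countP_map, Function.comp_def]

theorem ncard_censusSet (C : List (Cls × ℤ)) : (censusSet C).ncard = count C :=
  (ncard_censusSet_of allList nodup_allList (fun _ h => vec_mem h) (fun _ h _ h' => vec_injOn h h')
    (fun _ h h' => exists_idx h h') (fun _ h u => val_eq h u) C).trans (count_eq C).symm

end CfsgLib.Spor.Census
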