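import Cfsg.Agent.Lib.Spor.Co0Census

/-!
Census counts cut into parts: each part is checked by itself, which keeps the memory of the
kernel small.
-/

set_option autoImplicit false

namespace CfsgLib.Spor.Census

open Cfsg
open CfsgLib.Spor

/-- the values of `f` summed over consecutive blocks of length `k` are as listed -/
def Parts {α : Type*} (k : ℕ) (f : α → ℕ) : List α → List ℕ → Prop
  | l, [] => l = []
  | l, n :: ns => ((l.take k).map f).sum = n ∧ Parts k f (l.drop k) ns

theorem Parts.sum_eq {α : Type*} {k : ℕ} {f : α → ℕ} :
    ∀ {ns : List ℕ} {l : List α}, Parts k f l ns → (l.map f).sum = ns.sum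
  | [], l, h => by rw [show l = [] from h]; rfl
  | n :: ns, l, ⟨h1, h2⟩ => by
    rw [← List.take_append_drop k l, List.map_append, List.sum_append, h1, Parts.sum_eq h2,
      List.sum_cons]

theorem Parts.nil {α : Type*} {k : ℕ} {f : α → ℕ} {l : List α} (h : l = []) : Parts k f l [] := h

/-- indices of the second kind on one octad -/
def fB (C : List (Cls × ℤ)) (m : ℕ) : ℕ := (subs (bitsOf m)).1.countP fun s => okAll C (.b m s)

/-- indices of the third kind on one code word -/
def fC (C : List (Cls × ℤ)) (c : ℕ) : ℕ := (List.range 24).countP fun j => okAll C (.c c j)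

theorem count_of_parts {C : List (Cls × ℤ)} {a : ℕ} {B D : List ℕ}
    (ha : aList.countP (okAll C) = a) (hB : Parts 96 (fB C) octadList B)
    (hD : Parts 512 (fC C) codeList D) : count C = a + B.sum + D.sum := by
  rw [count, ha, show cntB C = (octadList.map (fB C)).sum from rfl,
    show cntC C = (codeList.map (fC C)).sum from rfl, hB.sum_eq, hD.sum_eq]


end CfsgLib.Spor.Census
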