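import Cfsg.Agent.Lib.Spor.Co0Main

/-!
Norm-8 classes and the non-splitting of `Cfsg.Co0` over negation.
-/

set_option autoImplicit false
set_option maxRecDepth 100000

namespace CfsgLib.Spor

open Cfsg
open scoped Pointwise symmDiff

theorem class64_transitive (v w : leechLattice) (hv : sqNorm (v : GolayPt → ℤ) = 64)
    (hw : sqNorm (w : GolayPt → ℤ) = 64) :
    ∃ g : Co0, ∃ z ∈ leechLattice,
      ((g • v : leechLattice) : GolayPt → ℤ) - (w : GolayPt → ℤ) = 2 • z := by
  obtain ⟨g, hg⟩ := exists_map (by norm_num) v w hv hw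
  exact ⟨g, 0, AddSubgroup.zero_mem _, by rw [hg, sub_self, smul_zero]⟩

/-- an involution exchanging the dodecad of squares and its complement -/
def sqPerm : ℕ := 374105300499572571183193276720649846

theorem sqPerm_checks : isM24P sqPerm = true ∧ compP sqPerm sqPerm = packL (List.range 24) ∧
    actP sqPerm dodec0 = (16777215 ^^^ dodec0) := by decide +kernel

theorem exists_sq_negEl : ∃ q : Co0, q * q = negEl := by
  obtain ⟨h1, h2, h3⟩ := sqPerm_checks
  obtain ⟨σ, hσ, hr⟩ := exists_rep_M24 h1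
  have hσσ : σ * σ = 1 := (hr.mul hr).inj (h2 ▸ rep_one)
  have hflip : σ • toSet dodec0 = (toSet dodec0)ᶜ := by
    rw [hr.smul_toSet_eq h3, toSet_compl]
  let p : MonoIdx := (⟨σ, hσ⟩, ⟨toSet dodec0, dodec0_mem.1⟩)
  refine ⟨monoEl p, co0_ext fun i => Subtype.ext ?_⟩
  rw [mul_smul, monoEl_smul, monoEl_smul, signedPerm_comp, negEl, monoEl_smul]
  show signedPerm (σ * σ) (toSet dodec0 ∆ (σ • toSet dodec0)) _ = signedPerm 1 Finset.univ _
  rw [hσσ, hflip, show toSet dodec0 ∆ (toSet dodec0)ᶜ = Finset.univ from symmDiff_compl_self _]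

theorem nonsplit_negEl (K : Subgroup Co0) : ¬ (Subgroup.zpowers negEl).IsComplement' K := by
  intro h
  have hord : orderOf negEl = 2 := by
    refine orderOf_eq_prime (p := 2) ?_ negEl_ne_one
    rw [pow_two]
    exact co0_ext fun i => by rw [mul_smul, negEl_smul, negEl_smul, neg_neg, one_smul]
  have hidx : K.index = 2 := by
    rw [h.index_eq_card, Nat.card_zpowers, hord]
  obtain ⟨q, hq⟩ := exists_sq_negEl
  have hmem : negEl ∈ K := hq ▸ Subgroup.mul_self_mem_of_index_two hidx q
  exact negEl_ne_one (Subgroup.disjoint_def.1 h.disjoint (Subgroup.mem_zpowers _) hmem)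

end CfsgLib.Spor
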