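import Cfsg.Agent.Lib.Spor.Co0Data
import Cfsg.Agent.Lib.Spor.MathieuSimple

/-!
Every lattice vector of norm 32, 48 or 64 is carried by a monomial map to one of the listed
representatives.
-/

set_option autoImplicit false
set_option maxRecDepth 100000

namespace CfsgLib.Spor

open Cfsg
open scoped Pointwise symmDiff

/-! ### Monomial equivalence -/

theorem signedPerm_comp (σ τ : Equiv.Perm GolayPt) (c d : Finset GolayPt) (x : GolayPt → ℤ) :
    signedPerm σ c (signedPerm τ d x) = signedPerm (σ * τ) (c ∆ (σ • d)) x := by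
  funext i
  have hi : (σ * τ).symm i = τ.symm (σ.symm i) := rfl
  simp only [signedPerm, Finset.mem_symmDiff, mem_smul_iff, hi]
  by_cases h1 : i ∈ c <;> by_cases h2 : σ.symm i ∈ d <;> simp [h1, h2]

/-- `y` is the image of `x` under a monomial map of the code -/
def MonoRel (x y : GolayPt → ℤ) : Prop :=
  ∃ p : MonoIdx, signedPerm (p.1 : Equiv.Perm GolayPt) p.2 x = y

theorem MonoRel.of {σ : Equiv.Perm GolayPt} (hσ : σ ∈ M24) {c : Finset GolayPt}
    (hc : c ∈ supports (golayCode : Set (GolayPt → ZMod 2))) (x : GolayPt → ℤ) :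
    MonoRel x (signedPerm σ c x) :=
  ⟨(⟨σ, hσ⟩, ⟨c, hc⟩), rfl⟩

theorem MonoRel.trans {x y z : GolayPt → ℤ} (h : MonoRel x y) (h' : MonoRel y z) : MonoRel x z := by
  obtain ⟨p, rfl⟩ := h
  obtain ⟨q, rfl⟩ := h'
  exact ⟨(⟨_, mul_mem q.1.2 p.1.2⟩, ⟨_, symmDiff_mem_supports q.2.2 (smul_supports q.1.2 p.2.2)⟩),
    (signedPerm_comp _ _ _ _ x).symm⟩

theorem empty_supports : (∅ : Finset GolayPt) ∈ supports (golayCode : Set (GolayPt → ZMod 2)) :=
  Spor.empty_mem_supports_golayCode

theorem univ_supports :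
    (Finset.univ : Finset GolayPt) ∈ supports (golayCode : Set (GolayPt → ZMod 2)) :=
  Spor.univ_mem_supports_golayCode

theorem MonoRel.mem {x y : GolayPt → ℤ} (h : MonoRel x y) (hx : x ∈ leechLattice) :
    y ∈ leechLattice := by
  obtain ⟨p, rfl⟩ := h; exact signedPerm_mem p.1.2 p.2.2 hx

theorem signedPerm_empty_apply (σ : Equiv.Perm GolayPt) (x : GolayPt → ℤ) (i : GolayPt) :
    signedPerm σ ∅ x i = x (σ.symm i) := by simp [signedPerm]

/-! ### Sign reduction -/

/-- modulo code words, signs on `P` can be pushed into `J` -/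
def certOK (P J : ℕ) (cert : List ℕ) : Bool :=
  (List.range 24).all fun i => !P.testBit i || J.testBit i || cert.any fun c =>
    inCode c && Nat.blt c 16777216 && c.testBit i &&
      ((List.range 24).all fun j => Nat.beq i j || !c.testBit j || !P.testBit j || J.testBit j)

theorem exists_code_flip {P J : ℕ} {cert : List ℕ} (h : certOK P J cert = true)
    (s : Finset GolayPt) :
    ∃ c ∈ supports (golayCode : Set (GolayPt → ZMod 2)),
      ∀ p, P.testBit (idx p) = true → p ∈ s ∆ c → J.testBit (idx p) = true := by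
  classical
  induction s using Finset.induction_on with
  | empty => exact ⟨∅, empty_supports, fun p _ hp => by simp [Finset.mem_symmDiff] at hp⟩
  | insert i s hi ih =>
    obtain ⟨c, hc, hcs⟩ := ih
    simp only [certOK, List.all_eq_true, List.mem_range, Bool.or_eq_true, Bool.not_eq_true',
      List.any_eq_true, Bool.and_eq_true, Nat.blt_eq, Nat.beq_eq] at h
    by_cases hkeep : P.testBit (idx i) = false ∨ J.testBit (idx i) = true
    · refine ⟨c, hc, fun p hP hp => ?_⟩
      rcases eq_or_ne p i with rfl | hne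
      · rcases hkeep with h' | h'
        · rw [hP] at h'; exact absurd h' (by decide)
        · exact h'
      · exact hcs p hP (by simpa [Finset.mem_symmDiff, hne] using hp)
    · push Not at hkeep
      rcases h (idx i) (idx_lt i) with (h0 | h0) | ⟨d, -, ⟨⟨hd, hdlt⟩, hdi⟩, hoth⟩
      · exact absurd h0 hkeep.1
      · exact absurd h0 hkeep.2
      refine ⟨c ∆ toSet d, symmDiff_mem_supports hc (toSet_supports_of_inCode hd hdlt),
        fun p hP hp => ?_⟩
      rcases eq_or_ne p i with rfl | hne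
      · by_cases hpc : p ∈ c
        · exact hcs p hP (by simp [Finset.mem_symmDiff, hpc, hi])
        · simp [Finset.mem_symmDiff, hpc, mem_toSet, hdi] at hp
      · by_cases hpd : d.testBit (idx p) = true
        · rcases hoth (idx p) (idx_lt p) with ((h1 | h1) | h1) | h1
          · exact absurd (idx_injective h1).symm hne
          · rw [hpd] at h1; exact absurd h1 (by decide)
          · rw [hP] at h1; exact absurd h1 (by decide)
          · exact h1
        · exact hcs p hP (by simpa [Finset.mem_symmDiff, hne, mem_toSet, hpd] using hp)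

theorem eight_dvd_sum_of_even {x : GolayPt → ℤ} (hx : x ∈ leechLattice) (h : (2 : ℤ) ∣ x none) :
    (8 : ℤ) ∣ ∑ i, x i := by
  obtain ⟨z, rfl, -, ⟨k, hk⟩⟩ := even_vec_iff.1 ⟨hx, h⟩
  exact ⟨k, by simp [← Finset.mul_sum, hk]; ring⟩

/-- the check behind a sign reduction -/
def signOK (a : List ℤ) (P J : ℕ) (cert : List ℕ) (R : List (List ℤ)) : Bool :=
  certOK P J cert && ((List.range 24).all fun i => decide (a.getD i 0 = 0) || P.testBit i)
    && decide ((2 : ℤ) ∣ a.getD 23 0)
    && Nat.beq ((toSet J).powerset.filter fun s =>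
        (lOf (signedPerm 1 s (vOf a))).sum % 8 = 0 ∧ lOf (signedPerm 1 s (vOf a)) ∉ R).card 0

theorem exists_sign_rep {a : List ℤ} {P J : ℕ} {cert : List ℕ} {R : List (List ℤ)}
    (h : signOK a P J cert R = true) {x : GolayPt → ℤ} (hx : x ∈ leechLattice)
    (habs : ∀ p, x p = vOf a p ∨ x p = -vOf a p) :
    ∃ r ∈ R, MonoRel x (vOf r) := by
  classical
  simp only [signOK, Bool.and_eq_true, List.all_eq_true, List.mem_range, Bool.or_eq_true,
    decide_eq_true_eq, Nat.beq_eq, Finset.card_eq_zero, Finset.filter_eq_empty_iff] at h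
  obtain ⟨⟨⟨hc, hP⟩, heven⟩, hR⟩ := h
  set s := Finset.univ.filter fun p => x p ≠ vOf a p with hs
  obtain ⟨c, hcc, hcs⟩ := exists_code_flip hc s
  set t := (s ∆ c) ∩ toSet P with ht
  have hy : signedPerm 1 c x = signedPerm 1 t (vOf a) := by
    funext p
    have h1 : ((1 : Equiv.Perm GolayPt).symm p) = p := rfl
    simp only [signedPerm, h1]
    by_cases hp : P.testBit (idx p) = true
    · have hpt : p ∈ t ↔ ¬((p ∈ s) ↔ (p ∈ c)) := by
        simp only [ht, Finset.mem_inter, Finset.mem_symmDiff, mem_toSet, hp, and_true]; tauto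
      by_cases hps : p ∈ s
      · have hx' : x p = -vOf a p := by
          simp [hs] at hps; exact (habs p).resolve_left hps
        by_cases hpc : p ∈ c <;> simp [hpt, hps, hpc, hx']
      · have hx' : x p = vOf a p := by simpa [hs] using hps
        by_cases hpc : p ∈ c <;> simp [hpt, hps, hpc, hx']
    · have h0 : vOf a p = 0 := by
        rcases hP _ (idx_lt p) with h0 | h0
        · exact h0
        · exact absurd h0 hp
      have hx0 : x p = 0 := by rcases habs p with e | e <;> simp [e, h0]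
      simp [hx0, h0]
  have htJ : t ∈ (toSet J).powerset := by
    rw [Finset.mem_powerset]
    intro p hp
    simp only [ht, Finset.mem_inter, mem_toSet] at hp
    exact mem_toSet.2 (hcs p hp.2 hp.1)
  have hmem : signedPerm 1 t (vOf a) ∈ leechLattice := hy ▸ signedPerm_mem (one_mem _) hcc hx
  rcases not_and_or.1 (hR htJ) with hbad | hin
  · refine absurd ?_ hbad
    have h2 : (2 : ℤ) ∣ signedPerm 1 t (vOf a) none := by
      simp only [signedPerm]
      split
      · exact heven.neg_right
      · exact heven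
    have := eight_dvd_sum_of_even hmem h2
    rw [sum_pt] at this
    exact Int.emod_eq_zero_of_dvd this
  · refine ⟨_, not_not.1 hin, ?_⟩
    rw [vOf_lOf, ← hy]
    exact MonoRel.of (one_mem _) hcc x

/-! ### Moving tuples -/

theorem smul_toFinset_of_map {g : Equiv.Perm GolayPt} {l l' : List GolayPt} (h : l.map g = l') :
    g • l.toFinset = l'.toFinset := by
  ext p
  rw [← h]
  simp [Finset.mem_smul_finset]

theorem exists_move_two {A B : Finset GolayPt} (hAB : Disjoint A B) {la lb : List GolayPt}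
    (hnd : (la ++ lb).Nodup) (ha : A.card = la.length) (hb : B.card = lb.length)
    (h5 : la.length + lb.length ≤ 5) :
    ∃ g ∈ M24, g • A = la.toFinset ∧ g • B = lb.toFinset := by
  obtain ⟨g, hg, h⟩ := exists_list_map_M24 (l := A.toList ++ B.toList) (l' := la ++ lb)
    (List.nodup_append'.2 ⟨Finset.nodup_toList _, Finset.nodup_toList _,
      fun p hp hq => Finset.disjoint_left.1 hAB (Finset.mem_toList.1 hp) (Finset.mem_toList.1 hq)⟩)
    hnd (by simp [ha, hb]) (by simp [ha, hb]; omega)
  rw [List.map_append] at h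
  obtain ⟨h1, h2⟩ := List.append_inj h (by simp [ha])
  refine ⟨g, hg, ?_, ?_⟩
  · rw [← smul_toFinset_of_map h1, Finset.toList_toFinset]
  · rw [← smul_toFinset_of_map h2, Finset.toList_toFinset]

theorem exists_level_move {base S : ℕ} {L : List (ℕ × List ℕ)}
    (h : levelsOK [base] S [] L = true) {A : Finset GolayPt} (hA : A ⊆ toSet S)
    (hc : A.card = L.length) :
    ∃ g ∈ M24, g • toSet base = toSet base ∧ g • A = (L.map fun l => pt l.1).toFinset := by
  obtain ⟨g, hg, -, hx⟩ := exists_tuple_map L [] h (by simp) A.toList (by simpa using hc)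
    (by simpa using Finset.nodup_toList A) fun x hx => hA (Finset.mem_toList.1 hx)
  refine ⟨g⁻¹, inv_mem hg.1, ?_, ?_⟩
  · rw [inv_smul_eq_iff]; exact (hg.2.1 base (List.mem_singleton_self _)).symm
  · rw [inv_smul_eq_iff]
    have : g • (L.map fun l => pt l.1).toFinset = A := by
      rw [smul_toFinset_of_map (l' := A.toList), Finset.toList_toFinset]
      rw [hx, List.map_map]; rfl
    exact this.symm

theorem octOutLev_ok :
    levelsOK [baseOctad] (16777215 ^^^ baseOctad) [] octOutLev = true := by decide +kernel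

theorem octOutLev_ok' :
    levelsOK [baseOctad] (16777215 ^^^ baseOctad) [] (octOutLev.take 1) = true := by decide +kernel

theorem octInLev_ok : levelsOK [baseOctad] baseOctad [] octInLev = true := by decide +kernel

theorem dodOutLev_ok : levelsOK [dodec0] (16777215 ^^^ dodec0) [] dodOutLev = true := by
  decide +kernel

theorem disjoint_subset_compl {A D : Finset GolayPt} (h : Disjoint D A) : A ⊆ Dᶜ := fun _ hp =>
  Finset.mem_compl.2 fun hq => Finset.disjoint_left.1 h hq hp

theorem exists_move_octad {D A : Finset GolayPt} (hD : D ∈ octads) {S : ℕ}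
    {L : List (ℕ × List ℕ)} (h : levelsOK [baseOctad] S [] L = true)
    (hA : ∀ g ∈ M24, g • D = toSet baseOctad → g • A ⊆ toSet S) (hc : A.card = L.length) :
    ∃ g ∈ M24, g • D = toSet baseOctad ∧ g • A = (L.map fun l => pt l.1).toFinset := by
  obtain ⟨g, hg, hgD⟩ := exists_smul_octad hD baseOctad_mem
  obtain ⟨k, hk, hk1, hk2⟩ := exists_level_move h (hA g hg hgD)
    (by rw [Finset.card_smul_finset]; exact hc)
  exact ⟨k * g, mul_mem hk hg, by rw [mul_smul, hgD, hk1], by rw [mul_smul, hk2]⟩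

/-! ### Even vectors -/

/-- magnitudes from the sets of halves equal to 1 or 3, and 2, 3, 4 -/
def magL (D A B C : ℕ) : List ℤ := (List.range 24).map fun i =>
  if A.testBit i then 4 else if B.testBit i then 6 else if C.testBit i then 8
  else if D.testBit i then 2 else 0

/-- the sets describing the magnitudes of an even vector -/
structure Halves (z : GolayPt → ℤ) (D A B C : Finset GolayPt) : Prop where
  le4 : ∀ p, -4 ≤ z p ∧ z p ≤ 4
  hD : ∀ p, p ∈ D ↔ z p % 2 = 1
  hA : ∀ p, p ∈ A ↔ (z p = 2 ∨ z p = -2)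
  hB : ∀ p, p ∈ B ↔ (z p = 3 ∨ z p = -3)
  hC : ∀ p, p ∈ C ↔ (z p = 4 ∨ z p = -4)

theorem mem_smul_toSet {g : Equiv.Perm GolayPt} {A : Finset GolayPt} {a : ℕ}
    (h : g • A = toSet a) (p : GolayPt) : a.testBit (idx p) = true ↔ g.symm p ∈ A := by
  rw [← mem_toSet, ← h, mem_smul_iff]

theorem Halves.abs_eq {z : GolayPt → ℤ} {D A B C : Finset GolayPt} (H : Halves z D A B C)
    {g : Equiv.Perm GolayPt} {d a b c : ℕ} (hd : g • D = toSet d) (ha : g • A = toSet a)
    (hb : g • B = toSet b) (hc : g • C = toSet c) (p : GolayPt) :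
    signedPerm g ∅ (2 • z) p = vOf (magL d a b c) p ∨
      signedPerm g ∅ (2 • z) p = -vOf (magL d a b c) p := by
  rw [signedPerm_empty_apply, magL, vOf_range]
  simp only [mem_smul_toSet hd, mem_smul_toSet ha, mem_smul_toSet hb, mem_smul_toSet hc,
    H.hD, H.hA, H.hB, H.hC, Pi.smul_apply, nsmul_eq_mul, Nat.cast_ofNat]
  have := H.le4 (g.symm p)
  split_ifs <;> omega

theorem Halves.rep {z : GolayPt → ℤ} {D A B C : Finset GolayPt} (H : Halves z D A B C)
    {d a b c P J : ℕ} {cert : List ℕ} {R : List (List ℤ)}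
    (hx : (2 • z) ∈ leechLattice)
    (hok : signOK (magL d a b c) P J cert R = true)
    (hg : ∃ g ∈ M24, g • D = toSet d ∧ g • A = toSet a ∧ g • B = toSet b ∧ g • C = toSet c) :
    ∃ r ∈ R, MonoRel (2 • z) (vOf r) := by
  obtain ⟨g, hgM, h1, h2, h3, h4⟩ := hg
  obtain ⟨r, hr, hrel⟩ := exists_sign_rep hok (signedPerm_mem hgM empty_supports hx)
    (H.abs_eq h1 h2 h3 h4)
  exact ⟨r, hr, (MonoRel.of hgM empty_supports _).trans hrel⟩

/-- the representatives of a norm -/
def repsOf (n : ℤ) : List (List ℤ) :=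
  if n = 32 then repChains32.map Prod.fst
  else if n = 48 then repChains48.map Prod.fst else repChains64.map Prod.fst

theorem sign_checks :
    signOK (magL 0 8388609 0 0) 8388609 0 [1302533, 13938692] (repsOf 32) = true ∧
    signOK (magL 5279 0 0 0) 5279 4096
      [13062145, 4845570, 13938692, 7221256, 10170384, 2019456, 11654144]
      (repsOf 32) = true ∧
    signOK (magL 340831 0 0 0) 340831 262144
      [7767041, 5129250, 8126628, 13009064, 10257456, 15515712, 2409888, 13911680, 2019456,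
        11952160, 11469952] (repsOf 48) = true ∧
    signOK (magL 5279 8388608 0 0) 8393887 4096
      [7417889, 4845570, 6475812, 7221256, 2969648, 2019456, 504864, 11952160]
      (repsOf 48) = true ∧
    signOK (magL 16771936 0 0 0) 16771936 16252928
      [11538486, 11010247, 13631886, 7340691, 9963547, 16265373, 6832158, 14716939, 3739786,
        5902343, 13373586] (repsOf 64) = true ∧
    signOK (magL 340831 8388608 0 0) 8729439 262144
      [7767041, 5129250, 8126628, 3951624, 6703248, 1445088, 2409888, 3050016, 2019456, 5024896,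
        5621792, 16436384] (repsOf 64) = true ∧
    signOK (magL 5279 8388640 0 0) 8393919 4096
      [2854977, 4845570, 3698756, 7221256, 7860304, 5939296, 2019456, 6100032, 15515712]
      (repsOf 64) = true ∧
    signOK (magL 5279 0 1 0) 5279 4096
      [13062145, 4845570, 13938692, 7221256, 10170384, 2019456, 11654144]
      (repsOf 64) = true ∧
    signOK (magL 0 8388615 0 0) 8388615 0 [6053905, 4845570, 5210132, 10170384]
      (repsOf 64) = true ∧
    signOK (magL 0 0 0 8388608) 8388608 0 [13062145] (repsOf 64) = true := by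
  decide +kernel

theorem smul_empty_toSet (g : Equiv.Perm GolayPt) {A : Finset GolayPt} (h : A.card = 0) :
    g • A = toSet 0 := by
  rw [Finset.card_eq_zero.1 h, Finset.smul_finset_empty, toSet_zero]

theorem compl_mem_supports {D : Finset GolayPt}
    (hD : D ∈ supports (golayCode : Set (GolayPt → ZMod 2))) :
    Dᶜ ∈ supports (golayCode : Set (GolayPt → ZMod 2)) := by
  have h := symmDiff_mem_supports hD univ_supports
  rwa [show D ∆ Finset.univ = Dᶜ from symmDiff_top D] at h

theorem even_reduce {x : GolayPt → ℤ} (hx : x ∈ leechLattice) {n : ℤ} (hxn : sqNorm x = n)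
    (hn : n = 32 ∨ n = 48 ∨ n = 64) (heven : (2 : ℤ) ∣ x none) :
    ∃ r ∈ repsOf n, MonoRel x (vOf r) := by
  classical
  obtain ⟨z, rfl, hD, h4⟩ := even_vec_iff.1 ⟨hx, heven⟩
  rw [sqNorm_two_smul] at hxn
  obtain ⟨D, hDdef⟩ : ∃ D, D = oddSet z := ⟨_, rfl⟩
  rw [← hDdef] at hD
  obtain ⟨A, hAdef⟩ : ∃ A, A = Finset.univ.filter fun p => z p = 2 ∨ z p = -2 := ⟨_, rfl⟩
  obtain ⟨B, hBdef⟩ : ∃ B, B = Finset.univ.filter fun p => z p = 3 ∨ z p = -3 := ⟨_, rfl⟩
  obtain ⟨C, hCdef⟩ : ∃ C, C = Finset.univ.filter fun p => z p = 4 ∨ z p = -4 := ⟨_, rfl⟩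
  have hle : ∀ p, -4 ≤ z p ∧ z p ≤ 4 := fun p => by
    have : z p ^ 2 ≤ sqNorm z :=
      Finset.single_le_sum (f := fun i => z i ^ 2) (fun i _ => sq_nonneg _) (Finset.mem_univ p)
    have h16 : z p ^ 2 ≤ 16 := by omega
    constructor <;> nlinarith only [h16]
  have H : Halves z D A B C :=
    ⟨hle, fun p => by simp [hDdef, oddSet], fun p => by simp [hAdef], fun p => by simp [hBdef],
      fun p => by simp [hCdef]⟩
  have hsum : sqNorm z = D.card + 4 * A.card + 8 * B.card + 16 * C.card := by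
    have key : ∀ p, z p ^ 2 = (if p ∈ D then 1 else 0) + 4 * (if p ∈ A then 1 else 0) +
        8 * (if p ∈ B then 1 else 0) + 16 * (if p ∈ C then 1 else 0) := fun p => by
      simp only [H.hD, H.hA, H.hB, H.hC]
      obtain ⟨h1, h2⟩ := hle p
      generalize z p = a at h1 h2
      interval_cases a <;> norm_num
    simp only [sqNorm, key, Finset.sum_add_distrib, ← Finset.mul_sum, Finset.sum_boole,
      Finset.filter_mem_eq_inter, Finset.univ_inter]
  have hBD : B ⊆ D := fun p hp => by
    have := (H.hB p).1 hp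
    exact (H.hD p).2 (by rcases this with e | e <;> rw [e] <;> norm_num)
  have hDA : Disjoint D A := Finset.disjoint_left.2 fun p hp hq => by
    have h1 := (H.hD p).1 hp
    rcases (H.hA p).1 hq with e | e <;> rw [e] at h1 <;> norm_num at h1
  have hAC : Disjoint A C := Finset.disjoint_left.2 fun p hp hq => by
    have := (H.hA p).1 hp; have := (H.hC p).1 hq; omega
  have hw : D.card = 0 ∨ D.card = 8 ∨ D.card = 12 ∨ D.card = 16 ∨ D.card = 24 := by
    obtain ⟨c, hc, hcs⟩ := hD
    have := weight_cases hc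
    rwa [hammingNorm_eq_card_support₂, hcs] at this
  have hApar : D.card = 0 → 2 ∣ A.card := by
    intro h0
    have key : ∀ p, (4 : ℤ) ∣ z p - 2 * (if p ∈ A then 1 else 0) := fun p => by
      have hp : p ∉ D := by rw [Finset.card_eq_zero.1 h0]; simp
      rw [H.hD] at hp
      simp only [H.hA]
      have := hle p
      split <;> omega
    have := Finset.dvd_sum (s := Finset.univ) fun p _ => key p
    rw [Finset.sum_sub_distrib, ← Finset.mul_sum, Finset.sum_boole,
      Finset.filter_mem_eq_inter, Finset.univ_inter] at this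
    omega
  have hBle := Finset.card_le_card hBD
  have hN : (n = 32 ∧ D.card + 4 * A.card + 8 * B.card + 16 * C.card = 8) ∨
      (n = 48 ∧ D.card + 4 * A.card + 8 * B.card + 16 * C.card = 12) ∨
      (n = 64 ∧ D.card + 4 * A.card + 8 * B.card + 16 * C.card = 16) := by
    rw [hsum] at hxn; omega
  have move0 : ∀ la lc : List GolayPt, (la ++ lc).Nodup → D.card = 0 → A.card = la.length →
      B.card = 0 → C.card = lc.length → la.length + lc.length ≤ 5 → ∀ a c : ℕ,
      la.toFinset = toSet a → lc.toFinset = toSet c →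
      ∃ g ∈ M24, g • D = toSet 0 ∧ g • A = toSet a ∧ g • B = toSet 0 ∧ g • C = toSet c := by
    intro la lc hnd h0 hA hB hC h5 a c ha hc
    obtain ⟨g, hg, h1, h2⟩ := exists_move_two hAC hnd hA hC h5
    exact ⟨g, hg, smul_empty_toSet g h0, h1.trans ha, smul_empty_toSet g hB, h2.trans hc⟩
  have move8 : ∀ {L : List (ℕ × List ℕ)},
      levelsOK [baseOctad] (16777215 ^^^ baseOctad) [] L = true → D.card = 8 →
      A.card = L.length → B.card = 0 → C.card = 0 → ∀ a : ℕ,
      (L.map fun l => pt l.1).toFinset = toSet a →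
      ∃ g ∈ M24, g • D = toSet 5279 ∧ g • A = toSet a ∧ g • B = toSet 0 ∧ g • C = toSet 0 := by
    intro L hL h8 hA hB hC a ha
    obtain ⟨g, hg, h1, h2⟩ := exists_move_octad (A := A) ⟨hD, h8⟩ hL (fun g _ hgD => by
      rw [toSet_compl, ← hgD]
      exact disjoint_subset_compl (Finset.disjoint_left.2 fun p hp hq => by
        rw [mem_smul_iff] at hp hq
        exact Finset.disjoint_left.1 hDA hp hq)) hA
    exact ⟨g, hg, h1, h2.trans ha, smul_empty_toSet g hB, smul_empty_toSet g hC⟩
  obtain ⟨c1, c2, c3, c4, c5, c6, c7, c8, c9, c10⟩ := sign_checks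
  rcases hN with ⟨rfl, hc⟩ | ⟨rfl, hc⟩ | ⟨rfl, hc⟩
  · have : (D.card = 0 ∧ A.card = 2 ∧ B.card = 0 ∧ C.card = 0) ∨
        (D.card = 8 ∧ A.card = 0 ∧ B.card = 0 ∧ C.card = 0) := by omega
    rcases this with ⟨h0, hA, hB, hC⟩ | ⟨h0, hA, hB, hC⟩
    · exact H.rep hx c1 (move0 [none, pt 0] [] (by decide) h0 hA hB hC (by simp) _ 0
        (by decide +kernel) (by decide +kernel))
    · exact H.rep hx c2 (move8 (L := []) rfl h0 hA hB hC 0 (by decide +kernel))
  · have : (D.card = 12 ∧ A.card = 0 ∧ B.card = 0 ∧ C.card = 0) ∨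
        (D.card = 8 ∧ A.card = 1 ∧ B.card = 0 ∧ C.card = 0) := by
      by_cases h0 : D.card = 0
      · have := hApar h0; omega
      · omega
    rcases this with ⟨h0, hA, hB, hC⟩ | ⟨h0, hA, hB, hC⟩
    · obtain ⟨g, hg, hgD⟩ := exists_smul_dodecad (d' := toSet dodec0) ⟨hD, h0⟩ dodec0_mem
      exact H.rep hx c3 ⟨g, hg, hgD, smul_empty_toSet g hA, smul_empty_toSet g hB,
        smul_empty_toSet g hC⟩
    · exact H.rep hx c4 (move8 octOutLev_ok' h0 hA hB hC _ (by decide +kernel))
  · have : (D.card = 16 ∧ A.card = 0 ∧ B.card = 0 ∧ C.card = 0) ∨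
        (D.card = 12 ∧ A.card = 1 ∧ B.card = 0 ∧ C.card = 0) ∨
        (D.card = 8 ∧ A.card = 2 ∧ B.card = 0 ∧ C.card = 0) ∨
        (D.card = 8 ∧ A.card = 0 ∧ B.card = 1 ∧ C.card = 0) ∨
        (D.card = 0 ∧ A.card = 4 ∧ B.card = 0 ∧ C.card = 0) ∨
        (D.card = 0 ∧ A.card = 0 ∧ B.card = 0 ∧ C.card = 1) := by
      rcases hw with h | h | h | h | h
      · have := hApar h
        rcases (by omega : (A.card = 4 ∧ C.card = 0) ∨ (A.card = 0 ∧ C.card = 1)) with h' | h'
        · exact Or.inr (Or.inr (Or.inr (Or.inr (Or.inl ⟨h, h'.1, by omega, h'.2⟩))))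
        · exact Or.inr (Or.inr (Or.inr (Or.inr (Or.inr ⟨h, h'.1, by omega, h'.2⟩))))
      · rcases (by omega : (A.card = 2 ∧ B.card = 0) ∨ (A.card = 0 ∧ B.card = 1)) with h' | h'
        · exact Or.inr (Or.inr (Or.inl ⟨h, h'.1, h'.2, by omega⟩))
        · exact Or.inr (Or.inr (Or.inr (Or.inl ⟨h, h'.1, h'.2, by omega⟩)))
      · exact Or.inr (Or.inl ⟨h, by omega, by omega, by omega⟩)
      · exact Or.inl ⟨h, by omega, by omega, by omega⟩
      · omega
    rcases this with ⟨h0, hA, hB, hC⟩ | ⟨h0, hA, hB, hC⟩ | ⟨h0, hA, hB, hC⟩ | ⟨h0, hA, hB, hC⟩ |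
      ⟨h0, hA, hB, hC⟩ | ⟨h0, hA, hB, hC⟩
    · obtain ⟨g, hg, hgD⟩ := exists_smul_octad (o := Dᶜ) ⟨compl_mem_supports hD, by
        rw [Finset.card_compl, card_golayPt, h0]⟩ baseOctad_mem
      refine H.rep hx c5 ⟨g, hg, ?_, smul_empty_toSet g hA, smul_empty_toSet g hB,
        smul_empty_toSet g hC⟩
      rw [show (16771936 : ℕ) = 16777215 ^^^ baseOctad by decide +kernel, toSet_compl, ← hgD]
      ext p
      simp [mem_smul_iff]
    · obtain ⟨g, hg, hgD⟩ := exists_smul_dodecad (d' := toSet dodec0) ⟨hD, h0⟩ dodec0_mem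
      obtain ⟨k, hk, hk1, hk2⟩ := exists_level_move (A := g • A) dodOutLev_ok (by
        rw [toSet_compl, ← hgD]
        exact disjoint_subset_compl (Finset.disjoint_left.2 fun p hp hq => by
          rw [mem_smul_iff] at hp hq
          exact Finset.disjoint_left.1 hDA hp hq))
        (by rw [Finset.card_smul_finset]; exact hA)
      exact H.rep hx c6 ⟨k * g, mul_mem hk hg, by rw [mul_smul, hgD, hk1]; rfl,
        by rw [mul_smul, hk2]; decide +kernel, smul_empty_toSet _ hB, smul_empty_toSet _ hC⟩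
    · exact H.rep hx c7 (move8 octOutLev_ok h0 hA hB hC _ (by decide +kernel))
    · obtain ⟨g, hg, h1, h2⟩ := exists_move_octad (A := B) ⟨hD, h0⟩ octInLev_ok
        (fun g _ hgD => by rw [← hgD]; exact Finset.smul_finset_subset_smul_finset hBD) hB
      exact H.rep hx c8 ⟨g, hg, h1, smul_empty_toSet g hA, h2.trans (by decide +kernel),
        smul_empty_toSet g hC⟩
    · exact H.rep hx c9 (move0 [none, pt 0, pt 1, pt 2] [] (by decide) h0 hA hB hC (by simp) _ 0
        (by decide +kernel) (by decide +kernel))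
    · exact H.rep hx c10 (move0 [] [none] (by decide) h0 hA hB hC (by simp) 0 _
        (by decide +kernel) (by decide +kernel))

/-! ### Odd vectors -/

/-- the odd representative with the given numbers of quarters `-1` and `1` -/
def oddL (p q : ℕ) : List ℤ := (List.range 24).map fun i =>
  if ([23, 0, 1, 2, 3].take p).contains i then -3
  else if (([23, 0, 1, 2, 3].drop p).take q).contains i then 5 else 1

theorem oddL_mem :
    oddL 1 0 ∈ repsOf 32 ∧ oddL 3 0 ∈ repsOf 48 ∧ oddL 0 1 ∈ repsOf 48 ∧ oddL 5 0 ∈ repsOf 64 ∧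
      oddL 2 1 ∈ repsOf 64 := by decide +kernel

theorem mem_pts_iff {l : List ℕ} (hl : ∀ i ∈ l, i < 24) (p : GolayPt) :
    p ∈ (l.map pt).toFinset ↔ l.contains (idx p) = true := by
  simp only [List.mem_toFinset, List.mem_map, List.contains_iff_mem]
  constructor
  · rintro ⟨i, hi, rfl⟩; rwa [idx_pt (hl i hi)]
  · exact fun h => ⟨_, h, pt_idx p⟩

theorem odd_reduce {x : GolayPt → ℤ} (hx : x ∈ leechLattice) {n : ℤ} (hxn : sqNorm x = n)
    (hn : n = 32 ∨ n = 48 ∨ n = 64) (hodd : ¬ (2 : ℤ) ∣ x none) :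
    ∃ r ∈ repsOf n, MonoRel x (vOf r) := by
  classical
  obtain ⟨c, hc, y, rfl, -⟩ := exists_oddVec hx hodd
  rw [sqNorm_oddVec] at hxn
  obtain ⟨A, hAdef⟩ : ∃ A, A = Finset.univ.filter fun i => y i = -1 := ⟨_, rfl⟩
  obtain ⟨B, hBdef⟩ : ∃ B, B = Finset.univ.filter fun i => y i = 1 := ⟨_, rfl⟩
  have hsmall : ∀ i, y i = 0 ∨ y i = 1 ∨ y i = -1 := fun i => oddWt_small (by
    have : oddWt (y i) ≤ ∑ j, oddWt (y j) :=
      Finset.single_le_sum (f := fun j => oddWt (y j)) (fun j _ => Nat.zero_le _) (Finset.mem_univ i)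
    omega)
  have hcount : ∑ j, oddWt (y j) = A.card + 3 * B.card := by
    have key : ∀ i, oddWt (y i) =
        (if y i = -1 then 1 else 0) + 3 * (if y i = 1 then 1 else 0) := fun i => by
      rcases hsmall i with e | e | e <;> rw [e] <;> rfl
    simp only [key, Finset.sum_add_distrib, ← Finset.mul_sum, ← Finset.card_filter, hAdef, hBdef]
  have hAB : Disjoint A B := Finset.disjoint_left.2 fun i hi hj => by
    simp only [hAdef, hBdef, Finset.mem_filter, Finset.mem_univ, true_and] at hi hj
    omega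
  have main : ∀ p q : ℕ, A.card = p → B.card = q → p + q ≤ 5 →
      MonoRel (oddVec c y) (vOf (oddL p q)) := by
    intro p q hp hq h5
    have hlt : ∀ i ∈ ([23, 0, 1, 2, 3] : List ℕ), i < 24 := by decide
    have hla : ∀ i ∈ ([23, 0, 1, 2, 3] : List ℕ).take p, i < 24 :=
      fun i hi => hlt i (List.mem_of_mem_take hi)
    have hlb : ∀ i ∈ (([23, 0, 1, 2, 3] : List ℕ).drop p).take q, i < 24 :=
      fun i hi => hlt i (List.mem_of_mem_drop (List.mem_of_mem_take hi))
    obtain ⟨g, hg, hgA, hgB⟩ := exists_move_two hAB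
      (la := (([23, 0, 1, 2, 3] : List ℕ).take p).map pt)
      (lb := ((([23, 0, 1, 2, 3] : List ℕ).drop p).take q).map pt) (by
        rw [← List.map_append]
        refine List.Nodup.sublist (List.Sublist.map pt ((List.Sublist.append (List.Sublist.refl _)
          (List.take_sublist _ _)).trans (by rw [List.take_append_drop]))) (by decide))
      (by simp [hp]; omega) (by simp [hq]; omega) (by simp; omega)
    refine MonoRel.trans (y := signedPerm 1 (support₂ c) (oddVec c y))
      (MonoRel.of (one_mem _) (mem_supports_of_code hc) _) ?_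
    refine ⟨(⟨g, hg⟩, ⟨∅, empty_supports⟩), funext fun i => ?_⟩
    have h1 : ((1 : Equiv.Perm GolayPt).symm (g.symm i)) = g.symm i := rfl
    have e : signedPerm 1 (support₂ c) (oddVec c y) (g.symm i) = 1 + 4 * y (g.symm i) := by
      simp only [signedPerm, h1, oddVec]
      split <;> simp
    rw [signedPerm_empty_apply, e, oddL, vOf_range]
    simp only [← mem_pts_iff hla i, ← mem_pts_iff hlb i, ← hgA, ← hgB, mem_smul_iff, hAdef, hBdef,
      Finset.mem_filter, Finset.mem_univ, true_and]
    rcases hsmall (g.symm i) with e | e | e <;> rw [e] <;> norm_num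
  obtain ⟨m1, m2, m3, m4, m5⟩ := oddL_mem
  rcases hn with rfl | rfl | rfl
  · exact ⟨_, m1, main 1 0 (by omega) (by omega) (by omega)⟩
  · rcases (by omega : (A.card = 3 ∧ B.card = 0) ∨ (A.card = 0 ∧ B.card = 1)) with h | h
    · exact ⟨_, m2, main 3 0 h.1 h.2 (by omega)⟩
    · exact ⟨_, m3, main 0 1 h.1 h.2 (by omega)⟩
  · rcases (by omega : (A.card = 5 ∧ B.card = 0) ∨ (A.card = 2 ∧ B.card = 1)) with h | h
    · exact ⟨_, m4, main 5 0 h.1 h.2 (by omega)⟩
    · exact ⟨_, m5, main 2 1 h.1 h.2 (by omega)⟩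

theorem exists_rep_mono {x : GolayPt → ℤ} (hx : x ∈ leechLattice) {n : ℤ} (hxn : sqNorm x = n)
    (hn : n = 32 ∨ n = 48 ∨ n = 64) : ∃ r ∈ repsOf n, MonoRel x (vOf r) := by
  by_cases h : (2 : ℤ) ∣ x none
  · exact even_reduce hx hxn hn h
  · exact odd_reduce hx hxn hn h

end CfsgLib.Spor
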