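import Cfsg.Agent.Lib.Spor.Co0Config
import Cfsg.Agent.Lib.Spor.ShortPairs

/-!
Splittings of norm 48 vectors read as inner products.
-/

set_option autoImplicit false
set_option maxRecDepth 100000

namespace CfsgLib.Spor.Config

open Cfsg
open CfsgLib.Spor

theorem dot_sub_left (a b x : GolayPt → ℤ) : dotInt (a - b) x = dotInt a x - dotInt b x := by
  simp only [dotInt, Pi.sub_apply, sub_mul, Finset.sum_sub_distrib]

theorem split_iff {u x : leechLattice} (hu : sqNorm (u : GolayPt → ℤ) = 48)
    (hx : sqNorm (x : GolayPt → ℤ) = 32) :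
    sqNorm ((u - x) : GolayPt → ℤ) = 32 ↔ dotInt (u : GolayPt → ℤ) (x : GolayPt → ℤ) = 24 := by
  rw [sqNorm_sub, hu, hx]
  omega

/-- The other half of a splitting. -/
theorem split_other {u v : leechLattice} (hu : sqNorm (u : GolayPt → ℤ) = 48)
    (hv : sqNorm (v : GolayPt → ℤ) = 32 ∧ sqNorm ((u - v) : GolayPt → ℤ) = 32) :
    sqNorm ((u - v : leechLattice) : GolayPt → ℤ) = 32 ∧
      dotInt (v : GolayPt → ℤ) ((u - v : leechLattice) : GolayPt → ℤ) = -8 := by
  have h := (split_iff hu hv.1).1 hv.2
  rw [AddSubgroup.coe_sub]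
  exact ⟨hv.2, by rw [dot_comm, dot_sub_left, h, dot_self, hv.1]; norm_num⟩

/-- Splitting vectors at inner product `16` from a fixed one, as a configuration. -/
theorem splitSet_eq {u v : leechLattice} (hu : sqNorm (u : GolayPt → ℤ) = 48) :
    {x : leechLattice | sqNorm (x : GolayPt → ℤ) = 32 ∧ sqNorm ((u - x) : GolayPt → ℤ) = 32 ∧
      dotInt (v : GolayPt → ℤ) (x : GolayPt → ℤ) = 16} = cfgSet [(v, 16), (u - v, 8)] := by
  ext x
  rw [mem_cfgSet_two]
  refine and_congr_right fun hx => ?_
  rw [split_iff hu hx, AddSubgroup.coe_sub, dot_sub_left]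
  omega

theorem fix_of_split {u v : leechLattice} {g : Co0} (h1 : g • v = v) (h2 : g • (u - v) = u - v) :
    g • u = u := by
  calc g • u = g • (v + (u - v)) := by rw [add_sub_cancel]
    _ = u := by rw [coe_smul_add, h1, h2, add_sub_cancel]

/-- Two configurations with common images are related by an automorphism. -/
theorem smul_eq_of_eq {g k : Co0} {a b c : leechLattice} (h : g • a = c) (h' : k • b = c) :
    (k⁻¹ * g) • a = b := by
  rw [mul_smul, h, ← h', inv_smul_smul]

end CfsgLib.Spor.Config
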