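import Cfsg.Agent.Lib.Spor.OctadFix

/-!
The stabiliser of an octad: action on the octad and complement of the translation group.
-/

set_option autoImplicit false

namespace CfsgLib.Spor

open Cfsg
open scoped Pointwise

theorem smul_mem_iff_of_fix {k : Equiv.Perm GolayPt} {A : Finset GolayPt} (h : k • A = A)
    (p : GolayPt) : k p ∈ A ↔ p ∈ A := by
  conv_lhs => rw [← h]
  exact Finset.smul_mem_smul_finset_iff k

theorem natCard_stab_octad_perm {o : Finset GolayPt} (ho : o ∈ octads) :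
    Nat.card ↥(M24 ⊓ MulAction.stabilizer (Equiv.Perm GolayPt) o) = 322560 :=
  (Nat.card_congr
    { toFun := fun g => ⟨⟨g.1, g.2.1⟩, g.2.2⟩
      invFun := fun g => ⟨g.1.1, g.1.2, g.2⟩
      left_inv := fun _ => rfl
      right_inv := fun _ => rfl }).trans (natCard_stab_octad ho)

/-- restriction to the octad -/
def resOctad (o : Finset GolayPt) :
    ↥(M24 ⊓ MulAction.stabilizer (Equiv.Perm GolayPt) o) →* Equiv.Perm ↥o where
  toFun g := (g.1).subtypePerm (p := fun p => p ∈ o) (smul_mem_iff_of_fix g.2.2)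
  map_one' := Equiv.ext fun _ => Subtype.ext rfl
  map_mul' _ _ := Equiv.ext fun _ => Subtype.ext rfl

theorem natCard_ker_resOctad {o : Finset GolayPt} (ho : o ∈ octads) :
    Nat.card (resOctad o).ker = 16 := by
  rw [← (octad_pointwise_stabilizer ho).1]
  exact Nat.card_congr
    { toFun := fun g => ⟨g.1.1, g.1.2.1, (mem_fixingSubgroup_iff _).2 fun p hp =>
        congrArg Subtype.val (Equiv.congr_fun g.2 ⟨p, hp⟩)⟩
      invFun := fun g => ⟨⟨g.1, g.2.1, Finset.eq_of_subset_of_card_le (fun p hp => by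
          obtain ⟨q, hq, rfl⟩ := Finset.mem_smul_finset.1 hp
          rw [(mem_fixingSubgroup_iff _).1 g.2.2 q hq]; exact hq) (Finset.card_smul_finset _ _).ge⟩,
        Equiv.ext fun p => Subtype.ext ((mem_fixingSubgroup_iff _).1 g.2.2 p.1 p.2)⟩
      left_inv := fun _ => rfl
      right_inv := fun _ => rfl }

theorem card_perm_octad {o : Finset GolayPt} (ho : o ∈ octads) :
    Nat.card (Equiv.Perm ↥o) = 40320 := by
  rw [Nat.card_perm, Nat.card_eq_fintype_card, Fintype.card_coe, card_octad ho]; rfl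

theorem range_resOctad {o : Finset GolayPt} (ho : o ∈ octads) :
    (resOctad o).range = alternatingGroup ↥o := by
  refine Equiv.Perm.eq_alternatingGroup_of_index_eq_two ?_
  have h1 := (resOctad o).ker.card_mul_index
  rw [Subgroup.index_ker, natCard_ker_resOctad ho, natCard_stab_octad_perm ho] at h1
  have h2 := (resOctad o).range.card_mul_index
  rw [card_perm_octad ho] at h2
  have h3 : Nat.card (resOctad o).range = 20160 := by omega
  rw [h3] at h2
  omega

theorem induced_eq_alternating {o : Finset GolayPt} (ho : o ∈ octads) :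
    {e : Equiv.Perm ↥o | ∃ g : Equiv.Perm GolayPt, g ∈ M24 ∧
      ∃ h : (∀ x, g x ∈ o ↔ x ∈ o), g.subtypePerm h = e} =
      (alternatingGroup ↥o : Set (Equiv.Perm ↥o)) := by
  ext e
  rw [SetLike.mem_coe, ← range_resOctad ho]
  constructor
  · rintro ⟨g, hg, h, rfl⟩
    exact ⟨⟨g, hg, Finset.eq_of_subset_of_card_le (fun p hp => by
      obtain ⟨q, hq, rfl⟩ := Finset.mem_smul_finset.1 hp
      exact (h q).2 hq) (Finset.card_smul_finset _ _).ge⟩, rfl⟩
  · rintro ⟨⟨g, hg, hgo⟩, rfl⟩
    exact ⟨g, hg, smul_mem_iff_of_fix hgo, rfl⟩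

theorem octad_point_complement {o : Finset GolayPt} (ho : o ∈ octads) {p : GolayPt} (hp : p ∉ o) :
    (M24 ⊓ fixingSubgroup (Equiv.Perm GolayPt) (o : Set GolayPt)) ⊓
        (M24 ⊓ MulAction.stabilizer (Equiv.Perm GolayPt) o ⊓
          MulAction.stabilizer (Equiv.Perm GolayPt) p) = ⊥ ∧
      (M24 ⊓ fixingSubgroup (Equiv.Perm GolayPt) (o : Set GolayPt)) ⊔
          (M24 ⊓ MulAction.stabilizer (Equiv.Perm GolayPt) o ⊓
            MulAction.stabilizer (Equiv.Perm GolayPt) p) =
        M24 ⊓ MulAction.stabilizer (Equiv.Perm GolayPt) o ∧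
      Nonempty (↥(M24 ⊓ MulAction.stabilizer (Equiv.Perm GolayPt) o ⊓
        MulAction.stabilizer (Equiv.Perm GolayPt) p) ≃* alternatingGroup (Fin 8)) := by
  set E := M24 ⊓ fixingSubgroup (Equiv.Perm GolayPt) (o : Set GolayPt)
  set S := M24 ⊓ MulAction.stabilizer (Equiv.Perm GolayPt) o
  set K := S ⊓ MulAction.stabilizer (Equiv.Perm GolayPt) p
  have hES : E ≤ S := fun g hg => ⟨hg.1, Finset.eq_of_subset_of_card_le (fun z hz => by
    obtain ⟨q, hq, rfl⟩ := Finset.mem_smul_finset.1 hz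
    rw [(mem_fixingSubgroup_iff _).1 hg.2 q hq]; exact hq) (Finset.card_smul_finset _ _).ge⟩
  have hfree : ∀ g ∈ E, g p = p → g = 1 := fun g hg hgp => by
    refine eq_one_of_nine_fixed hg.1 (insert p o) ?_ fun q hq => ?_
    · rw [Finset.card_insert_of_notMem hp, card_octad ho]
    · rcases Finset.mem_insert.1 hq with rfl | hq
      · exact hgp
      · exact (mem_fixingSubgroup_iff _).1 hg.2 q hq
  have hbot : E ⊓ K = ⊥ := by
    rw [eq_bot_iff]
    exact fun g hg => Subgroup.mem_bot.2 (hfree g hg.1 hg.2.2)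
  have htrans : ∀ q, q ∉ o → ∃ e ∈ E, e p = q := by
    intro q hq
    have hinj : Function.Injective fun e : ↥E => (⟨e.1 p, Finset.mem_compl.2 fun h =>
        hp ((smul_mem_iff_of_fix (hES e.2).2 p).1 h)⟩ : ↥oᶜ) := by
      intro a b hab
      have h : a.1 p = b.1 p := congrArg Subtype.val hab
      refine Subtype.ext (inv_mul_eq_one.1 (hfree _ (E.mul_mem (E.inv_mem a.2) b.2) ?_))
      show a.1⁻¹ (b.1 p) = p
      rw [← h]; simp
    have hb := (Nat.bijective_iff_injective_and_card _).2 ⟨hinj, by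
      rw [(octad_pointwise_stabilizer ho).1, Nat.card_eq_fintype_card, Fintype.card_coe,
        Finset.card_compl, card_golayPt, card_octad ho]⟩
    obtain ⟨e, he⟩ := hb.2 ⟨q, Finset.mem_compl.2 hq⟩
    exact ⟨e.1, e.2, congrArg Subtype.val he⟩
  refine ⟨hbot, le_antisymm (sup_le hES inf_le_left) fun g hg => ?_, ?_⟩
  · obtain ⟨e, he, hep⟩ := htrans (g p) fun h => hp ((smul_mem_iff_of_fix hg.2 p).1 h)
    have hk : e⁻¹ * g ∈ K := ⟨S.mul_mem (S.inv_mem (hES he)) hg, by
      show e⁻¹ (g p) = p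
      rw [← hep]; simp⟩
    have := mul_mem (Subgroup.mem_sup_left (T := K) he) (Subgroup.mem_sup_right (S := E) hk)
    rwa [mul_inv_cancel_left] at this
  · let ρ : ↥K →* Equiv.Perm ↥o := (resOctad o).comp (Subgroup.inclusion inf_le_left)
    have hρ : Function.Injective ρ := by
      rw [injective_iff_map_eq_one]
      intro g hg
      exact Subtype.ext (hfree g.1 ⟨g.2.1.1, (mem_fixingSubgroup_iff _).2 fun q hq =>
        congrArg Subtype.val (Equiv.congr_fun hg ⟨q, hq⟩)⟩ g.2.2)
    have hle : ρ.range ≤ alternatingGroup ↥o := by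
      rw [← range_resOctad ho]
      rintro _ ⟨g, rfl⟩
      exact ⟨_, rfl⟩
    have hge : alternatingGroup ↥o ≤ ρ.range := by
      rw [← range_resOctad ho]
      rintro _ ⟨⟨g, hg⟩, rfl⟩
      obtain ⟨e, he, hep⟩ := htrans (g p) fun h => hp ((smul_mem_iff_of_fix hg.2 p).1 h)
      refine ⟨⟨e⁻¹ * g, S.mul_mem (S.inv_mem (hES he)) hg, by
        show e⁻¹ (g p) = p
        rw [← hep]; simp⟩, Equiv.ext fun q => Subtype.ext ?_⟩
      show e⁻¹ (g q) = g q
      have hgq : g q ∈ o := (smul_mem_iff_of_fix hg.2 q).2 q.2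
      rw [Equiv.Perm.inv_eq_iff_eq]
      exact ((mem_fixingSubgroup_iff _).1 he.2 _ hgq).symm
    exact ⟨((MonoidHom.ofInjective hρ).trans (MulEquiv.subgroupCongr (le_antisymm hle hge))).trans
      (o.equivFinOfCardEq (card_octad ho)).altCongrHom⟩

end CfsgLib.Spor
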