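import Cfsg.Agent.Lib.Spor.OrbitMeets
import Cfsg.Agent.Lib.Spor.Orb.TransPt
import Cfsg.Agent.Lib.Spor.Orb.PtPt

/-!
Moving the first one or two base points to given points.
-/

set_option autoImplicit false

namespace CfsgLib.Spor

open Cfsg
open scoped Pointwise

theorem card_pt_inter_one (p : GolayPt) (x : Finset GolayPt) :
    (({p} : Finset GolayPt) ∩ x).card = 1 ↔ p ∈ x := by
  rw [card_pt_inter]; split_ifs with h <;> simp [h]

theorem card_pt_inter_zero (p : GolayPt) (x : Finset GolayPt) :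
    (({p} : Finset GolayPt) ∩ x).card = 0 ↔ p ∉ x := by
  rw [card_pt_inter]; split_ifs with h <;> simp [h]

theorem exists_base_pt (p : GolayPt) : ∃ g ∈ M24, g • toSet 1 = {p} := by
  obtain ⟨g, hg, -, h, -⟩ := ptK.exists_base_step (mk := fun x => {x}) ptK_fam (ms := [])
    (show ptK.splitOK (singles []) transPtGens transPtCls = true from transPt_ok) (one_mem _)
    (i := 0) (by decide +kernel) (b := 1) (ptK_mask 0 (by decide +kernel)) (Set.mem_univ p) rfl
  exact ⟨g, hg, h⟩

theorem exists_base_two {p q : GolayPt} (h : p ≠ q) :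
    ∃ g ∈ M24, g • toSet 1 = {p} ∧ g • toSet 2 = {q} := by
  obtain ⟨g, hg, hp⟩ := exists_base_pt p
  obtain ⟨g', hg', hfix, hq, -⟩ := ptK.exists_base_step (mk := fun x => {x}) ptK_fam (ms := [1])
    (show ptK.splitOK (singles [1]) ptPtGens ptPtCls = true from ptPt_ok) hg
    (i := 1) (by decide +kernel) (b := 2) (ptK_mask 1 (by decide +kernel)) (Set.mem_univ q) (by
      simp only [meetsAt, List.map_cons, List.map_nil, hp]
      rw [(card_pt_inter_zero p {q}).2 (by simpa using h)]
      decide +kernel)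
  exact ⟨g', hg', (hfix 1 (by simp)).trans hp, hq⟩

/-- an octad containing a set, moved by an element of `M24` -/
theorem exists_octad_smul {g : Equiv.Perm GolayPt} (hg : g ∈ M24) (A : Finset GolayPt) :
    (∃ o ∈ octads, g • A ⊆ o) ↔ ∃ o ∈ octads, A ⊆ o := by
  constructor
  · rintro ⟨o, ho, h⟩
    exact ⟨g⁻¹ • o, smul_octad_mem (inv_mem hg) ho, by rwa [Finset.subset_smul_finset_iff, inv_inv]⟩
  · rintro ⟨o, ho, h⟩
    exact ⟨g • o, smul_octad_mem hg ho, Finset.smul_finset_subset_smul_finset h⟩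

end CfsgLib.Spor
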