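import Cfsg.Agent.Lib.Spor.Classes
import Cfsg.Agent.Lib.Spor.Cosets
import Cfsg.Agent.Lib.Spor.Orb.DodDod
import Cfsg.Agent.Lib.Spor.Orb.OctOct
import Cfsg.Agent.Lib.Spor.OrbitBases

/-!
The action of `Cfsg.M24` on binary words: invariant subspaces and the cocode.
-/

set_option autoImplicit false
set_option maxRecDepth 100000

namespace CfsgLib.Spor

open Cfsg
open scoped Pointwise symmDiff

/-- the action on words -/
def act (σ : Equiv.Perm GolayPt) (w : GolayPt → ZMod 2) : GolayPt → ZMod 2 := fun p => w (σ.symm p)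

/-- the indicator word of a set -/
def ind (s : Finset GolayPt) : GolayPt → ZMod 2 := word (mask s)

theorem support₂_ind (s : Finset GolayPt) : support₂ (ind s) = s := by
  rw [ind, support₂_word, toSet_mask]

theorem ind_support₂ (w : GolayPt → ZMod 2) : ind (support₂ w) = w := word_mask_support₂ w

theorem ind_toSet {m : ℕ} (h : m < 2 ^ 24) : ind (toSet m) = word m := by rw [ind, mask_toSet h]

theorem ind_add (s t : Finset GolayPt) : ind s + ind t = ind (s ∆ t) := by
  rw [ind, ind, ind, ← word_xor]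
  congr 1
  rw [← mask_toSet (Nat.xor_lt_two_pow (mask_lt s) (mask_lt t)), toSet_xor, toSet_mask, toSet_mask]

theorem ind_empty : ind ∅ = 0 := by rw [ind, mask_empty, word_zero]

theorem support₂_act (σ : Equiv.Perm GolayPt) (w : GolayPt → ZMod 2) :
    support₂ (act σ w) = σ • support₂ w := by
  ext p
  rw [← Finset.inv_smul_mem_iff]
  show p ∈ Finset.univ.filter _ ↔ σ⁻¹ • p ∈ Finset.univ.filter _
  rw [Finset.mem_filter, Finset.mem_filter]
  exact and_congr (iff_of_true (Finset.mem_univ _) (Finset.mem_univ _)) Iff.rfl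

theorem act_ind (σ : Equiv.Perm GolayPt) (s : Finset GolayPt) : act σ (ind s) = ind (σ • s) :=
  support₂_injective (by rw [support₂_act, support₂_ind, support₂_ind])

theorem act_mul (σ τ : Equiv.Perm GolayPt) (w : GolayPt → ZMod 2) :
    act (σ * τ) w = act σ (act τ w) := rfl

theorem act_inv (σ : Equiv.Perm GolayPt) (w : GolayPt → ZMod 2) : act σ (act σ⁻¹ w) = w := by
  funext p; simp [act, Equiv.Perm.inv_def]

theorem act_add (σ : Equiv.Perm GolayPt) (v w : GolayPt → ZMod 2) :
    act σ (v + w) = act σ v + act σ w := rfl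

theorem act_sub (σ : Equiv.Perm GolayPt) (v w : GolayPt → ZMod 2) :
    act σ (v - w) = act σ v - act σ w := rfl

theorem act_mem {σ : Equiv.Perm GolayPt} (hσ : σ ∈ M24) {w : GolayPt → ZMod 2}
    (hw : w ∈ golayCode) : act σ w ∈ golayCode := by
  rw [mem_golayCode_iff, support₂_act]
  exact mem_M24_iff.1 hσ _ (mem_golayCode_iff.1 hw)

theorem Rep.act_word {σ : Equiv.Perm GolayPt} {a : ℕ} (h : Rep σ a) (m : ℕ) :
    act σ (word m) = word (actP a m) :=
  support₂_injective (by rw [support₂_act, support₂_word, support₂_word, h.toSet_actP])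

theorem syn_eq_of_inCode {a b : ℕ} (h : inCode (a ^^^ b) = true) : syn a = syn b := by
  simp only [inCode, List.all_eq_true, Nat.beq_eq] at h
  refine congrArg Nat.ofBits (funext fun i => ?_)
  have hm : golayBasis.getD i 0 ∈ golayBasis := by
    rw [List.getD_eq_getElem _ _ (show (i : ℕ) < golayBasis.length from i.2)]
    exact List.getElem_mem _
  have h2 := natCast_pop_xor_and a b (golayBasis.getD i 0)
  rw [← ZMod.natCast_mod (pop ((a ^^^ b) &&& _)), h _ hm,
    ← ZMod.natCast_mod (pop (a &&& _)), ← ZMod.natCast_mod (pop (b &&& _))] at h2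
  rw [decide_eq_decide]
  rcases Nat.mod_two_eq_zero_or_one (pop (a &&& golayBasis.getD i 0)) with ha | ha <;>
    rcases Nat.mod_two_eq_zero_or_one (pop (b &&& golayBasis.getD i 0)) with hb | hb <;>
    rw [ha, hb] at h2 ⊢ <;> revert h2 <;> decide

theorem word_sub_mem_iff {a b : ℕ} (ha : a < 2 ^ 24) (hb : b < 2 ^ 24) :
    word a - word b ∈ golayCode ↔ syn a = syn b := by
  rw [sub_eq_add, mem_golayCode_iff, mask_support₂_add, mem_codeList_iff, support₂_word,
    support₂_word, mask_toSet ha, mask_toSet hb]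
  exact ⟨fun h => syn_eq_of_inCode h.2, fun h => ⟨Nat.xor_lt_two_pow ha hb, inCode_xor_of_syn_eq h⟩⟩

/-- the leaders of all cosets -/
def allLeaders : List ℕ :=
  leaders0 ++ leaders1 ++ leaders2 ++ leaders3 ++ leaders4 ++ leaders5 ++ leaders6 ++ leaders7

theorem allLeaders_spec : allLeaders.map syn = List.range 4096 ∧
    (allLeaders.all fun v => Nat.blt v 16777216 && Nat.blt (pop (v &&& 8388607)) 4) = true := by
  decide +kernel

/-- some generator moves each nonzero coset -/
def cocodeOK (gens : List ℕ) : Bool :=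
  allLeaders.all fun v => Nat.beq (syn v) 0 || gens.any fun g => !Nat.beq (syn (actP g v)) (syn v)

theorem exists_mem_leader (w : GolayPt → ZMod 2) :
    ∃ v ∈ allLeaders, v < 2 ^ 24 ∧ w - word v ∈ golayCode := by
  have h : syn (mask (support₂ w)) ∈ allLeaders.map syn := by
    rw [allLeaders_spec.1]; exact List.mem_range.2 (syn_lt _)
  obtain ⟨v, hv, he⟩ := List.mem_map.1 h
  have hlt := List.all_eq_true.1 allLeaders_spec.2 v hv
  simp only [Bool.and_eq_true, Nat.blt_eq] at hlt
  refine ⟨v, hv, hlt.1, ?_⟩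
  have e := (word_sub_mem_iff (mask_lt (support₂ w)) hlt.1).2 he.symm
  rwa [word_mask_support₂] at e

theorem exists_moving {gens : List ℕ} (hc : cocodeOK gens = true) {H : Subgroup (Equiv.Perm GolayPt)}
    (hH : H ≤ M24) (hrep : ∀ a ∈ gens, RepIn H a) {w : GolayPt → ZMod 2} (hw : w ∉ golayCode) :
    ∃ σ ∈ H, act σ w - w ∉ golayCode := by
  obtain ⟨v, hv, hlt, hd⟩ := exists_mem_leader w
  have hne : syn v ≠ 0 := fun e => hw (by
    have h0 : word v - word 0 ∈ golayCode :=
      (word_sub_mem_iff hlt (by norm_num)).2 (by rw [e]; decide +kernel)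
    rw [word_zero, sub_zero] at h0
    exact sub_add_cancel w (word v) ▸ add_mem hd h0)
  have hc' := List.all_eq_true.1 hc v hv
  simp only [Bool.or_eq_true, Nat.beq_eq, hne, false_or, List.any_eq_true, Bool.not_eq_true'] at hc'
  obtain ⟨g, hg, hgne⟩ := hc'
  obtain ⟨σ, hσ, hr⟩ := hrep g hg
  refine ⟨σ, hσ, fun hm => ?_⟩
  have h1 : act σ (word v) - word v ∈ golayCode := by
    have h2 := sub_mem hm (sub_mem (act_mem (hH hσ) hd) hd)
    rwa [act_sub, show act σ w - w - (act σ w - act σ (word v) - (w - word v)) =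
      act σ (word v) - word v by abel] at h2
  rw [hr.act_word, word_sub_mem_iff (hr.actP_lt v) hlt] at h1
  rw [h1, Nat.beq_refl] at hgne
  exact Bool.noConfusion hgne

theorem octOct_moving : cocodeOK octOctGens = true := by decide +kernel

theorem dodDod_moving : cocodeOK dodDodGens = true := by decide +kernel

theorem exists_moving_fix {L : List (List ℕ)} {gens : List ℕ} (hc : cocodeOK gens = true)
    (hg : ∀ a ∈ gens, genOK L a = true) {m : ℕ} (hL : [m] ∈ L) {g : Equiv.Perm GolayPt}
    (hgM : g ∈ M24) {w : GolayPt → ZMod 2} (hw : w ∉ golayCode) :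
    ∃ σ ∈ M24, σ • (g • toSet m) = g • toSet m ∧ act σ w - w ∉ golayCode := by
  have hw' : act g⁻¹ w ∉ golayCode := fun h => hw (by
    have := act_mem hgM h
    rwa [act_inv] at this)
  obtain ⟨σ, hσ, hm⟩ := exists_moving hc (famStab_le L)
    (fun a ha => repIn_of_genOK (hg a ha)) hw'
  refine ⟨g * σ * g⁻¹, mul_mem (mul_mem hgM hσ.1) (inv_mem hgM), ?_, fun h => hm ?_⟩
  · rw [mul_smul, mul_smul, inv_smul_smul]
    have h1 := hσ.2 [m] hL
    rw [toFam_singleton, Finset.smul_finset_singleton, Finset.singleton_inj] at h1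
    rw [h1]
  · have h1 := act_mem (inv_mem hgM) h
    rwa [act_sub, ← act_mul, show g⁻¹ * (g * σ * g⁻¹) = σ * g⁻¹ by group, act_mul] at h1

theorem cocode_moved {u : GolayPt → ZMod 2} (hu : u ∈ golayCode) {w : GolayPt → ZMod 2}
    (hw : w ∉ golayCode) : ∃ σ ∈ M24, act σ u = u ∧ act σ w - w ∉ golayCode := by
  have hoct : ∀ o ∈ octads, ∃ σ ∈ M24, σ • o = o ∧ act σ w - w ∉ golayCode := fun o ho => by
    obtain ⟨g, hg, he⟩ := exists_smul_octad (octI.mem 0 (by decide +kernel)) ho
    subst he
    exact exists_moving_fix octOct_moving (octK.splitOK_iff.1 octOct_ok).2.1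
      (show [getT 24 octTbl 0] ∈ octOctL by decide +kernel) hg hw
  have key : ∀ σ : Equiv.Perm GolayPt, σ • support₂ u = support₂ u → act σ u = u := fun σ h =>
    support₂_injective (by rw [support₂_act, h])
  have hcard : (support₂ u).card ∈ [0, 8, 12, 16, 24] := by
    rw [← pop_mask]; simpa using pop_of_mem_codeList (mem_golayCode_iff.1 hu)
  obtain ⟨o₀, ho₀⟩ : ∃ o, o ∈ octads := ⟨_, octI.mem 0 (by decide +kernel)⟩
  simp only [List.mem_cons, List.not_mem_nil, or_false] at hcard
  rcases hcard with h | h | h | h | h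
  · obtain ⟨σ, hσ, -, hm⟩ := hoct o₀ ho₀
    exact ⟨σ, hσ, key σ (by rw [Finset.card_eq_zero.1 h, Finset.smul_finset_empty]), hm⟩
  · obtain ⟨σ, hσ, hf, hm⟩ := hoct (support₂ u) ⟨mem_supports_iff.2 (mem_golayCode_iff.1 hu), h⟩
    exact ⟨σ, hσ, key σ hf, hm⟩
  · obtain ⟨g, hg, he⟩ := exists_smul_dodecad (dodI.mem 0 (by decide +kernel))
      (show support₂ u ∈ dodecads from ⟨mem_supports_iff.2 (mem_golayCode_iff.1 hu), h⟩)
    obtain ⟨σ, hσ, hf, hm⟩ := exists_moving_fix dodDod_moving (dodK.splitOK_iff.1 dodDod_ok).2.1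
      (show [getT 24 dodTbl 0] ∈ dodDodL by decide +kernel) hg hw
    refine ⟨σ, hσ, key σ ?_, hm⟩
    rw [← he]; exact hf
  · have hc : (support₂ u)ᶜ ∈ octads := by
      refine ⟨?_, by rw [Finset.card_compl, card_golayPt, h]⟩
      have h2 := symmDiff_mem_supports (mem_supports_iff.2 (mem_golayCode_iff.1 hu))
        (mem_supports_iff.2 qr_one_mem_codeList.1 :
          Finset.univ ∈ supports (golayCode : Set (GolayPt → ZMod 2)))
      rwa [show (support₂ u) ∆ Finset.univ = (support₂ u)ᶜ from symmDiff_top _] at h2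
    obtain ⟨σ, hσ, hf, hm⟩ := hoct _ hc
    refine ⟨σ, hσ, key σ ?_, hm⟩
    rw [smul_compl_finset] at hf
    exact compl_injective hf
  · obtain ⟨σ, hσ, -, hm⟩ := hoct o₀ ho₀
    refine ⟨σ, hσ, key σ ?_, hm⟩
    rw [(Finset.card_eq_iff_eq_univ _).1 (h.trans card_golayPt.symm), Finset.smul_finset_univ]

/-! ### Invariant subspaces -/

/-- invariance under `Cfsg.M24` -/
def Inv24 (W : Submodule (ZMod 2) (GolayPt → ZMod 2)) : Prop :=
  ∀ σ ∈ M24, ∀ w ∈ W, act σ w ∈ W

theorem one_eq_ind : (fun _ => 1 : GolayPt → ZMod 2) = ind Finset.univ :=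
  support₂_injective (by rw [support₂_ind]; simp [support₂])

theorem oct_dod_facts : (∃ i < 759, pop (getT 24 octTbl 0 ^^^ getT 24 octTbl i) = 8) ∧
    (∃ i < 2576, pop (getT 24 dodTbl 0 ^^^ getT 24 dodTbl i) = 8) ∧
    golayBasis.all (fun b => Nat.beq (pop b) 8) = true := by decide +kernel

theorem code_le_of_octad {W : Submodule (ZMod 2) (GolayPt → ZMod 2)} (hW : Inv24 W)
    {o : Finset GolayPt} (ho : o ∈ octads) (h : ind o ∈ W) : golayCode ≤ W := by
  intro w hw
  rw [← word_mask_support₂ w]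
  refine spanList_induction (P := fun m => word m ∈ W) ?_ (fun b hb => ?_) ?_ _
    (mem_golayCode_iff.1 hw)
  · rw [word_zero]; exact W.zero_mem
  · rw [List.mem_reverse] at hb
    have hbc : b ∈ codeList := by revert b; decide +kernel
    have hb8 := List.all_eq_true.1 oct_dod_facts.2.2 b hb
    rw [Nat.beq_eq] at hb8
    obtain ⟨g, hg, he⟩ := exists_smul_octad ho
      (show toSet b ∈ octads from ⟨toSet_mem_supports hbc, by rw [card_toSet, hb8]⟩)
    have h1 := hW g hg _ h
    rwa [act_ind, he, ind_toSet (lt_of_mem_codeList hbc)] at h1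
  · intro a b ha hb; rw [word_xor]; exact W.add_mem ha hb

theorem code_le_of_word {W : Submodule (ZMod 2) (GolayPt → ZMod 2)} (hW : Inv24 W)
    {u : GolayPt → ZMod 2} (hu : u ∈ W) (huC : u ∈ golayCode) (h0 : u ≠ 0)
    (h1 : u ≠ fun _ => 1) : golayCode ≤ W := by
  have hsup := mem_supports_iff.2 (mem_golayCode_iff.1 huC)
  have hcard : (support₂ u).card ∈ [0, 8, 12, 16, 24] := by
    rw [← pop_mask]; simpa using pop_of_mem_codeList (mem_golayCode_iff.1 huC)
  have step : ∀ {T : Set (Finset GolayPt)} (a b : Finset GolayPt),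
      (∀ s ∈ T, ∀ t ∈ T, ∃ g ∈ M24, g • s = t) → support₂ u ∈ T → a ∈ T → b ∈ T →
      a ∆ b ∈ octads → golayCode ≤ W := fun a b htr hu' ha hb hab => by
    obtain ⟨g, hg, hga⟩ := htr _ hu' _ ha
    obtain ⟨k, hk, hkb⟩ := htr _ hu' _ hb
    have e1 := hW g hg _ hu
    have e2 := hW k hk _ hu
    rw [← ind_support₂ u, act_ind] at e1 e2
    rw [hga] at e1
    rw [hkb] at e2
    exact code_le_of_octad hW hab (ind_add a b ▸ W.add_mem e1 e2)
  simp only [List.mem_cons, List.not_mem_nil, or_false] at hcard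
  rcases hcard with h | h | h | h | h
  · exact absurd (ind_support₂ u ▸ by rw [Finset.card_eq_zero.1 h, ind_empty]) h0
  · exact code_le_of_octad hW ⟨hsup, h⟩ (by rwa [ind_support₂])
  · obtain ⟨i, hi, hpop⟩ := oct_dod_facts.2.1
    refine step _ _ (fun s hs t ht => exists_smul_dodecad hs ht) ⟨hsup, h⟩
      (dodI.mem 0 (by decide +kernel)) (dodI.mem i hi) ⟨symmDiff_mem_supports
        (dodI.mem 0 (by decide +kernel)).1 (dodI.mem i hi).1, ?_⟩
    show (toSet _ ∆ toSet _).card = 8
    rw [← toSet_xor, card_toSet, hpop]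
  · obtain ⟨i, hi, hpop⟩ := oct_dod_facts.1
    have hc : ∀ {s}, s ∈ supports (golayCode : Set (GolayPt → ZMod 2)) → sᶜ ∈
        supports (golayCode : Set (GolayPt → ZMod 2)) := fun {s} hs => by
      have h2 := symmDiff_mem_supports hs (mem_supports_iff.2 qr_one_mem_codeList.1 :
          Finset.univ ∈ supports (golayCode : Set (GolayPt → ZMod 2)))
      rwa [show s ∆ Finset.univ = sᶜ from symmDiff_top _] at h2
    have ho0 := octI.mem 0 (by decide +kernel)
    have hoi := octI.mem i hi
    refine step (T := {s | sᶜ ∈ octads}) (toSet (getT 24 octTbl 0))ᶜ (toSet (getT 24 octTbl i))ᶜ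
      (fun s hs t ht => ?_) ⟨hc hsup, by rw [Finset.card_compl, card_golayPt, h]⟩ ?_ ?_ ?_
    · obtain ⟨g, hg, he⟩ := exists_smul_octad hs ht
      exact ⟨g, hg, compl_injective (by rw [← smul_compl_finset, he])⟩
    · show _ᶜᶜ ∈ octads; rw [compl_compl]; exact ho0
    · show _ᶜᶜ ∈ octads; rw [compl_compl]; exact hoi
    · rw [compl_symmDiff_compl]
      refine ⟨symmDiff_mem_supports ho0.1 hoi.1, ?_⟩
      show (toSet _ ∆ toSet _).card = 8
      rw [← toSet_xor, card_toSet, hpop]
  · exact absurd (support₂_injective (by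
      rw [(Finset.card_eq_iff_eq_univ _).1 (h.trans card_golayPt.symm)]
      simp [support₂])) h1

theorem pairs_le_of_not_mem {W : Submodule (ZMod 2) (GolayPt → ZMod 2)} (hW : Inv24 W)
    (hC : golayCode ≤ W) {w : GolayPt → ZMod 2} (hw : w ∈ W) (hwC : w ∉ golayCode)
    {a b : GolayPt} (hab : a ≠ b) : ind {a, b} ∈ W := by
  obtain ⟨v, hvn, hd⟩ := exists_weight_le_four w
  have hv : v ∈ W := by
    have := W.sub_mem hw (hC hd); rwa [sub_sub_cancel] at this
  rw [hammingNorm_eq_card_support₂] at hvn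
  obtain ⟨p, hp⟩ : (support₂ v).Nonempty := by
    rw [Finset.nonempty_iff_ne_empty]
    intro e
    apply hwC
    rwa [← ind_support₂ v, e, ind_empty, sub_zero] at hd
  obtain ⟨q, -, hq⟩ := Finset.exists_mem_notMem_of_card_lt_card
    (s := support₂ v) (t := Finset.univ) (by rw [Finset.card_univ, card_golayPt]; omega)
  -- a permutation moving only one member of the support
  have htr := isMultiplyPretransitive_le_five (k := (support₂ v).card) (by omega)
  let e : Fin (support₂ v).card ↪ GolayPt :=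
    (support₂ v).equivFin.symm.toEmbedding.trans (Function.Embedding.subtype _)
  let j := (support₂ v).equivFin ⟨p, hp⟩
  have hej : e j = p := by simp [e, j]
  have hmem : ∀ i, e i ∈ support₂ v := fun i => ((support₂ v).equivFin.symm i).2
  let f : Fin (support₂ v).card ↪ GolayPt :=
    ⟨fun i => if i = j then q else e i, fun i k h => by
      dsimp only at h
      split_ifs at h with h1 h2 h2
      · rw [h1, h2]
      · exact absurd (h ▸ hmem k) hq
      · exact absurd (h ▸ hmem i) hq
      · exact e.injective h⟩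
  obtain ⟨σ, hσ⟩ := MulAction.isMultiplyPretransitive_iff.1 htr e f
  have hsm : (σ : Equiv.Perm GolayPt) • support₂ v = insert q ((support₂ v).erase p) := by
    refine Finset.eq_of_subset_of_card_le (fun y hy => ?_) ?_
    · obtain ⟨x, hx, rfl⟩ := Finset.mem_smul_finset.1 hy
      obtain ⟨i, rfl⟩ : ∃ i, e i = x := ⟨(support₂ v).equivFin ⟨x, hx⟩, by simp [e]⟩
      have h2 : σ • e i = f i := DFunLike.congr_fun hσ i
      change (σ : Equiv.Perm GolayPt) • e i = f i at h2
      rw [h2]
      show (if i = j then q else e i) ∈ _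
      by_cases hi : i = j
      · rw [if_pos hi]; exact Finset.mem_insert_self _ _
      · rw [if_neg hi]
        exact Finset.mem_insert_of_mem
          (Finset.mem_erase.2 ⟨hej ▸ e.injective.ne hi, hmem i⟩)
    · rw [Finset.card_smul_finset, Finset.card_insert_of_notMem
        (fun h => hq (Finset.mem_of_mem_erase h)), Finset.card_erase_of_mem hp]
      have := Finset.card_pos.2 ⟨p, hp⟩
      omega
  have hpq : p ≠ q := fun h => hq (h ▸ hp)
  have hpair : ind {p, q} ∈ W := by
    have h1 := W.add_mem (hW _ σ.2 v hv) hv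
    rw [← ind_support₂ v, act_ind, hsm, ind_add] at h1
    convert h1 using 2
    ext x
    simp only [Finset.mem_insert, Finset.mem_singleton, Finset.mem_symmDiff, Finset.mem_erase]
    by_cases hxq : x = q
    · subst hxq; simp [hq]
    · by_cases hxp : x = p
      · subst hxp; simp [hp, hxq]
      · simp [hxq, hxp]
  obtain ⟨g, hg, h1, h2⟩ : ∃ g ∈ M24, g p = a ∧ g q = b := by
    obtain ⟨g, hg, hgp, hgq⟩ := exists_base_two hpq
    obtain ⟨k, hk, hkp, hkq⟩ := exists_base_two hab
    refine ⟨k * g⁻¹, mul_mem hk (inv_mem hg), ?_, ?_⟩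
    · have h3 : (k * g⁻¹) • ({p} : Finset GolayPt) = {a} := by
        rw [← hgp, mul_smul, inv_smul_smul, hkp]
      rwa [smul_pt_singleton, Finset.singleton_inj] at h3
    · have h3 : (k * g⁻¹) • ({q} : Finset GolayPt) = {b} := by
        rw [← hgq, mul_smul, inv_smul_smul, hkq]
      rwa [smul_pt_singleton, Finset.singleton_inj] at h3
  have h3 := hW g hg _ hpair
  rwa [act_ind, Finset.smul_finset_insert, Finset.smul_finset_singleton,
    show g • p = a from h1, show g • q = b from h2] at h3

/-- packed permutation of order seven fixing the first two points -/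
def sevenP : ℕ := 349646419307428669094395687199038496

/-- packed permutation of order eleven fixing the first two points -/
def elevenP : ℕ := 155005127994317293978221359574356000

theorem two_fixed_facts : isM24P sevenP = true ∧ isM24P elevenP = true ∧
    actP sevenP 3 = 3 ∧ actP elevenP 3 = 3 ∧ powP sevenP 7 = idP ∧ powP elevenP 11 = idP ∧
    codeList.all (fun m => !(Nat.beq (actP sevenP m) m && Nat.beq (actP elevenP m) m) ||
      Nat.beq m 0 || Nat.beq m 16777215) = true := by decide +kernel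

theorem act_eq_of_odd {σ : Equiv.Perm GolayPt} {c : GolayPt → ZMod 2} {n : ℕ} (hn : Odd n)
    (hσn : σ ^ n = 1) (h : act σ c = c + fun _ => 1) : False := by
  have key : ∀ k : ℕ, act (σ ^ k) c = c + (k : ZMod 2) • (fun _ => (1 : ZMod 2)) := by
    intro k
    induction k with
    | zero => funext p; simp [act]; rfl
    | succ k ih =>
      rw [pow_succ', act_mul, ih]
      funext p
      have := congrFun h p
      simp only [act, Pi.add_apply, Pi.smul_apply, smul_eq_mul, mul_one] at this ⊢
      rw [this]; push_cast; ring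
  have h1 := congrFun (key n) none
  rw [hσn] at h1
  obtain ⟨m, rfl⟩ := hn
  simp only [act, Pi.add_apply, Pi.smul_apply, smul_eq_mul, mul_one] at h1
  have h2 : ((2 * m + 1 : ℕ) : ZMod 2) = 1 := by
    push_cast; rw [show (2 : ZMod 2) = 0 by decide]; simp
  rw [h2] at h1
  exact absurd h1 (by rcases (show ∀ a : ZMod 2, a = 0 ∨ a = 1 by decide) (c none) with e | e <;>
    (simp [Equiv.Perm.one_def, e]))

theorem code_le_of_not_le {W : Submodule (ZMod 2) (GolayPt → ZMod 2)} (hW : Inv24 W)
    (h : ¬ W ≤ golayCode) : golayCode ≤ W := by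
  by_contra hC
  have hsmall : ∀ u ∈ W, u ∈ golayCode → u = 0 ∨ u = fun _ => 1 := fun u hu huC => by
    by_contra hne
    rw [not_or] at hne
    exact hC (code_le_of_word hW hu huC hne.1 hne.2)
  obtain ⟨w, hw, hwC⟩ := SetLike.not_le_iff_exists.1 h
  have hU : Inv24 (W ⊔ golayCode) := fun σ hσ x hx => by
    obtain ⟨y, hy, z, hz, rfl⟩ := Submodule.mem_sup.1 hx
    exact Submodule.mem_sup.2 ⟨_, hW σ hσ y hy, _, act_mem hσ hz, (act_add σ y z).symm⟩
  have hp : ind (toSet 3) ∈ W ⊔ golayCode := by
    rw [show toSet 3 = {pt 0, pt 1} by decide +kernel]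
    exact pairs_le_of_not_mem hU le_sup_right (Submodule.mem_sup_left hw) hwC (by decide +kernel)
  obtain ⟨y, hy, c, hc, hyc⟩ := Submodule.mem_sup.1 hp
  obtain ⟨h7, h11, h7f, h11f, h7o, h11o, hall⟩ := two_fixed_facts
  have hfix : ∀ a n, isM24P a = true → actP a 3 = 3 → powP a n = idP → Odd n →
      actP a (mask (support₂ c)) = mask (support₂ c) := by
    intro a n ha hf hpow hn
    obtain ⟨σ, hσ, hr⟩ := exists_rep_M24 ha
    have he : act σ (ind (toSet 3)) = ind (toSet 3) := by
      rw [act_ind, ← hr.toSet_actP, hf]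
    have hd : act σ c - c ∈ W := by
      have e2 : act σ c - c = y - act σ y := by
        have h3 := he
        rw [← hyc, act_add] at h3
        rw [sub_eq_sub_iff_add_eq_add, add_comm, h3]
      rw [e2]; exact W.sub_mem hy (hW σ hσ y hy)
    rcases hsmall _ hd (sub_mem (act_mem hσ hc) hc) with e | e
    · have := congrArg (fun x => mask (support₂ x)) (sub_eq_zero.1 e)
      simp only [support₂_act] at this
      rwa [hr.mask_smul] at this
    · exact (act_eq_of_odd hn ((hpow ▸ hr.pow n : Rep (σ ^ n) idP).inj rep_one)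
        (by rw [← e, add_sub_cancel])).elim
  have hm := List.all_eq_true.1 hall _ (mem_golayCode_iff.1 hc)
  rw [hfix _ 7 h7 h7f h7o ⟨3, rfl⟩, hfix _ 11 h11 h11f h11o ⟨5, rfl⟩] at hm
  simp only [Nat.beq_refl, Bool.and_self, Bool.not_true, Bool.false_or, Bool.or_eq_true,
    Nat.beq_eq] at hm
  -- the pair, up to the all-one word, lies in the subspace
  obtain ⟨ε, hε⟩ : ∃ ε : Finset GolayPt, (ε = ∅ ∨ ε = Finset.univ) ∧
      ind (toSet 3) + ind ε ∈ W := by
    rcases hm with e | e
    · refine ⟨∅, Or.inl rfl, ?_⟩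
      have hc0 : c = 0 := by rw [← word_mask_support₂ c, e, word_zero]
      rw [ind_empty, add_zero, ← hyc, hc0, add_zero]; exact hy
    · refine ⟨Finset.univ, Or.inr rfl, ?_⟩
      have hc1 : c = ind Finset.univ := by
        rw [← word_mask_support₂ c, e, ← toSet_full, ind_toSet (by norm_num)]
      have h2 : y = ind (toSet 3) + ind Finset.univ := by
        rw [← hyc, hc1, add_assoc, ind_add, symmDiff_self, Finset.bot_eq_empty, ind_empty, add_zero]
      rw [← h2]; exact hy
  have hall2 : ∀ {a b : GolayPt}, a ≠ b → ind {a, b} + ind ε ∈ W := fun {a b} hab => by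
    obtain ⟨g, hg, hga, hgb⟩ := exists_base_two hab
    have h3 := hW g hg _ hε.2
    rw [act_add, act_ind, act_ind, show toSet 3 = toSet 1 ∪ toSet 2 by decide +kernel,
      Finset.smul_finset_union, hga, hgb] at h3
    have hεg : g • ε = ε := by
      rcases hε.1 with rfl | rfl
      · exact Finset.smul_finset_empty _
      · exact Finset.smul_finset_univ
    rw [hεg] at h3
    rwa [show ({a, b} : Finset GolayPt) = {a} ∪ {b} from Finset.insert_eq a {b}]
  obtain ⟨a, b, c', d, e', f, g', k, hd, hnd⟩ :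
      ∃ a b c d e f g k : GolayPt, ({a, b} ∆ {c, d}) ∆ ({e, f} ∆ {g, k}) ∈ octads ∧
        a ≠ b ∧ c ≠ d ∧ e ≠ f ∧ g ≠ k := by
    refine ⟨pt 0, pt 1, pt 2, pt 3, pt 4, pt 7, pt 10, pt 12, ?_, ?_⟩
    · rw [mem_octads]; decide +kernel
    · decide +kernel
  have hsum := W.add_mem (W.add_mem (hall2 hnd.1) (hall2 hnd.2.1))
    (W.add_mem (hall2 hnd.2.2.1) (hall2 hnd.2.2.2))
  rw [show (ind {a, b} + ind ε + (ind {c', d} + ind ε)) + (ind {e', f} + ind ε + (ind {g', k} + ind ε)) =
      ((ind {a, b} + ind {c', d}) + (ind {e', f} + ind {g', k})) + ((ind ε + ind ε) + (ind ε + ind ε)) by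
    abel, ind_add, ind_add, ind_add, ind_add, symmDiff_self] at hsum
  simp only [Finset.bot_eq_empty, ind_empty, add_zero] at hsum
  exact hC (code_le_of_octad hW hd hsum)

theorem sum_ind (s : Finset GolayPt) : ∑ p, ind s p = (s.card : ZMod 2) := by
  have h : ∀ p, ind s p = if p ∈ s then 1 else 0 := fun p => by
    simp [ind, word, testBit_mask]
  rw [Finset.sum_congr rfl fun p _ => h p]
  simp

theorem even_le {W : Submodule (ZMod 2) (GolayPt → ZMod 2)}
    (hp : ∀ {a b : GolayPt}, a ≠ b → ind {a, b} ∈ W) :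
    ∀ (s : Finset GolayPt), Even s.card → ind s ∈ W := by
  intro s
  induction s using Finset.strongInduction with
  | _ s ih =>
    intro hev
    rcases s.eq_empty_or_nonempty with rfl | ⟨a, ha⟩
    · rw [ind_empty]; exact W.zero_mem
    · obtain ⟨k, hk⟩ := hev
      have h2 : 1 < s.card := by have := Finset.card_pos.2 ⟨a, ha⟩; omega
      obtain ⟨b, hb, hba⟩ := Finset.exists_mem_ne h2 a
      have hsub : ({a, b} : Finset GolayPt) ⊆ s := by
        simp [Finset.insert_subset_iff, ha, hb]
      have h3 := W.add_mem (hp hba.symm) (ih (s \ {a, b})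
        (Finset.sdiff_ssubset hsub (Finset.insert_nonempty _ _)) ⟨k - 1, by
          rw [Finset.card_sdiff_of_subset hsub, Finset.card_pair hba.symm]; omega⟩)
      rw [ind_add] at h3
      convert h3 using 2
      ext x
      simp only [Finset.mem_symmDiff, Finset.mem_sdiff]
      constructor
      · intro hx; by_cases h : x ∈ ({a, b} : Finset GolayPt)
        · exact Or.inl ⟨h, fun h' => h'.2 h⟩
        · exact Or.inr ⟨⟨hx, h⟩, h⟩
      · rintro (⟨h, -⟩ | ⟨⟨h, -⟩, -⟩)
        · exact hsub h
        · exact h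

theorem submodule_cases {W : Submodule (ZMod 2) (GolayPt → ZMod 2)} (hW : Inv24 W) :
    W = ⊥ ∨ W = Submodule.span (ZMod 2) {fun _ => (1 : ZMod 2)} ∨ W = golayCode ∨
      (W : Set (GolayPt → ZMod 2)) = {w | ∑ p, w p = 0} ∨ W = ⊤ := by
  by_cases hle : W ≤ golayCode
  · by_cases hC : golayCode ≤ W
    · exact Or.inr (Or.inr (Or.inl (le_antisymm hle hC)))
    have hsmall : ∀ u ∈ W, u = 0 ∨ u = fun _ => 1 := fun u hu => by
      by_contra hne
      rw [not_or] at hne
      exact hC (code_le_of_word hW hu (hle hu) hne.1 hne.2)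
    by_cases h1 : (fun _ => (1 : ZMod 2)) ∈ W
    · refine Or.inr (Or.inl (le_antisymm (fun u hu => ?_)
        ((Submodule.span_singleton_le_iff_mem _ _).2 h1)))
      rcases hsmall u hu with rfl | rfl
      · exact Submodule.zero_mem _
      · exact Submodule.mem_span_singleton_self _
    · refine Or.inl ((Submodule.eq_bot_iff _).2 fun u hu => ?_)
      rcases hsmall u hu with e | e
      · exact e
      · exact absurd (e ▸ hu) h1
  · obtain ⟨w, hw, hwC⟩ := SetLike.not_le_iff_exists.1 hle
    have hC := code_le_of_not_le hW hle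
    have hev := even_le (W := W) fun hab => pairs_le_of_not_mem hW hC hw hwC hab
    have key : ∀ u : GolayPt → ZMod 2, ∑ p, u p = ((support₂ u).card : ZMod 2) := fun u => by
      conv_lhs => rw [← ind_support₂ u]
      exact sum_ind _
    by_cases hodd : ∃ u ∈ W, Odd (support₂ u).card
    · obtain ⟨u, hu, huo⟩ := hodd
      refine Or.inr (Or.inr (Or.inr (Or.inr (Submodule.eq_top_iff'.2 fun x => ?_))))
      rcases Nat.even_or_odd (support₂ x).card with h | h
      · exact ind_support₂ x ▸ hev _ h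
      · have h2 : Even (support₂ (x + u)).card := by
          rw [← ZMod.natCast_eq_zero_iff_even, ← key]
          rw [Finset.sum_congr rfl fun p _ => Pi.add_apply x u p, Finset.sum_add_distrib, key, key]
          rw [ZMod.natCast_eq_one_iff_odd.2 h, ZMod.natCast_eq_one_iff_odd.2 huo]
          decide
        have h3 : x + u ∈ W := ind_support₂ (x + u) ▸ hev _ h2
        simpa using W.sub_mem h3 hu
    · refine Or.inr (Or.inr (Or.inr (Or.inl (Set.ext fun x => ?_))))
      show x ∈ W ↔ ∑ p, x p = 0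
      rw [key, ZMod.natCast_eq_zero_iff_even]
      refine ⟨fun hx => ?_, fun h => ind_support₂ x ▸ hev _ h⟩
      exact Nat.not_odd_iff_even.1 fun h => hodd ⟨x, hx, h⟩

end CfsgLib.Spor
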