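import Cfsg.Agent.Lib.Spor.ConwayOutMain
import Cfsg.Agent.Lib.Spor.ConwayOutData

/-!
The outer automorphism group of the stabiliser of a short vector is trivial.
-/

set_option autoImplicit false
set_option maxRecDepth 100000

namespace CfsgLib.Spor.ConwayOut

open Cfsg
open CfsgLib.Spor
open CfsgLib.Spor.CentralFree
open CfsgLib.Spor.ConwaySimple (u23)
open CfsgLib.ThreeTransp.CoReduce (bigE)

/-- programs of the letters -/
def co2P : List (List Stp) := letterProgs co2C co2C'

/-- a second short vector -/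
def w0 : leechLattice := ⟨classVec (-4) 4 0 0, mem_leech_of_inLeechB (by decide +kernel)⟩

theorem co2_ok : okAll co2P = true ∧ sameB (co2C' ++ co2C) [] = true := by decide +kernel

theorem co2_rel : (sameB (wProg co2P [2, 1]) (wProg co2P (List.replicate 10 1 ++ [2])) &&
    sameB (wProg co2P [1, 0]) (wProg co2P [0, 0, 1])) = true := by decide +kernel

theorem co2_mono : ([aT, aG, co2Perm].all (inStabP [] [23])) = true ∧
    (sameB (wProg co2P [0]) [.mono aT 0] && sameB (wProg co2P [1]) [.mono aG 0] &&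
      sameB (wProg co2P co2Word) [.mono co2Perm 0]) = true := by decide +kernel

theorem co2_slp : checkSLP co2Rows [aT, aG, co2Perm] = true ∧
    CfsgLib.MathieuOut.levelsLow [] co2Lev = true ∧
    (co2Lev.all fun l => l.2.all fun t => Nat.beq t CfsgLib.MathieuOut.idP ||
      [aT, aG, co2Perm].any (Nat.beq t) || co2Rows.any fun e => Nat.beq t e.1) = true ∧
    10200960 ≤ (co2Lev.map fun l => l.2.length).prod := by decide +kernel

theorem co2_walk : walkFrom co2WalkGens co2Walk.1 co2Walk.2.1 co2Walk.2.2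
    (encV (w0 : GolayPt → ℤ)) = some 4600 := by
  decide +kernel

theorem co2_walk2 : walkFrom (co2Two.map (fun a => [Stp.mono a 0]) ++ [co2H]) co2Walk2.1
    co2Walk2.2.1 co2Walk2.2.2 (encE 23) = some 902 := by
  decide +kernel

theorem co2_fix : co2Two.all (inStabP [] [23, 0]) = true ∧
    inStabP [] [23] co2Mid = true ∧
    co2H.all Stp.ok = true ∧ runP co2H (lOf (w0 : GolayPt → ℤ)) = lOf (w0 : GolayPt → ℤ) := by
  decide +kernel

theorem co2_kill : killB co2P co2Rels co2Kill = true := by decide +kernel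

theorem co2_top : topB (-3) 1 1 (2, 4, 0, -2) = true := by decide +kernel

theorem co2_image : runP co2C (lOf (u23 : GolayPt → ℤ)) = lOf (u23 : GolayPt → ℤ) ∧
    runP co2C base64 = lOf (classVec 2 4 0 (-2)) ∧
    runP co2C base64 ≠ base64 := by decide +kernel

theorem w0_fix {σ : Equiv.Perm GolayPt} (hn : σ none = none) (h0 : σ (some 0) = some 0)
    (hσ : σ ∈ M24) : permEl ⟨σ, hσ⟩ • w0 = w0 := Subtype.ext (funext fun p => by
  rw [permEl_coe]
  show classVec (-4) 4 0 0 (σ.symm p) = classVec (-4) 4 0 0 p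
  have hv : ∀ q : GolayPt, q ≠ none → q ≠ some 0 → classVec (-4) 4 0 0 q = 0 := by
    rintro (_ | x) h1 h2
    · exact absurd rfl h1
    · have : x ≠ 0 := fun e => h2 (by rw [e])
      simp [classVec, this]
  by_cases a : p = none
  · subst a; rw [(Equiv.symm_apply_eq _).2 hn.symm]
  by_cases b : p = some 0
  · subst b; rw [(Equiv.symm_apply_eq _).2 h0.symm]
  rw [hv p a b, hv]
  · rw [ne_eq, Equiv.symm_apply_eq, hn]; exact a
  · rw [ne_eq, Equiv.symm_apply_eq, h0]; exact b)

theorem natCard_out_co2 : Nat.card (Out (MulAction.stabilizer Co0 u23)) = 1 := by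
  obtain ⟨hsimple, hK⟩ := ConwaySimple.isCo2 u23 ConwaySimple.norm_u23
  haveI := hsimple
  have hV : ∀ x y : ZMod 23,
      0 < (u23 : GolayPt → ℤ) (some x) * (u23 : GolayPt → ℤ) (some y) := by decide +kernel
  obtain ⟨c, hc, hacts⟩ := exists_letters co2_ok.1 co2_ok.2
  obtain ⟨hfix, himg, hmove⟩ := co2_image
  have hcV : c • u23 = u23 := fix_of_run hc hfix
  have hctop : ((c • eTop : leechLattice) : GolayPt → ℤ) = classVec 2 4 0 (-2) :=
    lOf_inj (by rw [hc, lOf_eTop, himg])
  obtain ⟨hrows, hlow, hsub, hprod⟩ := co2_slp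
  have hS := stab23_le_genH hacts co2_ok.1 co2_mono.1 co2_mono.2 co2Rows hrows co2Lev hlow hsub
    hprod
  have hok := co2_ok.1
  simp only [okAll, co2P, letterProgs, List.all_cons, List.all_nil, Bool.and_true,
    Bool.and_eq_true] at hok
  have hN : 4600 ≤ (MulAction.orbit (genH c) w0).ncard := by
    refine le_ncard_orbit (H := genH c) (gs := co2WalkGens) (fun P hP => ?_)
      (by decide +kernel) rfl co2_walk
    simp only [co2WalkGens] at hP
    simp only [List.mem_cons, List.not_mem_nil, or_false] at hP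
    rcases hP with rfl | rfl | rfl
    · exact ⟨by decide +kernel, exists_actsAs_of_stab hS (by decide +kernel)⟩
    · exact ⟨by decide +kernel, exists_actsAs_of_stab hS (by decide +kernel)⟩
    · exact ⟨hok.2.2.1, c, Subgroup.subset_closure (by simp), hc⟩
  obtain ⟨hTwo, hMid, hHok, hHfix⟩ := co2_fix
  have hle : stabG [] [23, 0] ≤ stabG [] [23] := fun σ hσ => by
    obtain ⟨h1, -, h3⟩ := mem_stabG.1 hσ
    exact mem_stabG.2 ⟨h1, by simp, fun b hb => h3 b (by simp_all)⟩
  have hpts : ∀ {σ : Equiv.Perm GolayPt}, σ ∈ stabG [] [23, 0] →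
      σ none = none ∧ σ (some 0) = some 0 := by
    intro σ hσ
    have h3 := (mem_stabG.1 hσ).2.2
    have h23 := h3 23 (by simp)
    have h0 := h3 0 (by simp)
    rw [CfsgLib.MathieuOut.pt_23] at h23
    rw [CfsgLib.MathieuOut.pt_zero] at h0
    exact ⟨h23, h0⟩
  have hN2 : 902 ≤ (MulAction.orbit ↥(genH c ⊓ MulAction.stabilizer Co0 w0) eTop).ncard := by
    refine le_ncard_orbit (gs := co2Two.map (fun a => [Stp.mono a 0]) ++ [co2H])
      (fun P hP => ?_) (sqNorm_bigE none).le
      (start := encE 23) (by rw [encE_eq (by norm_num), CfsgLib.MathieuOut.pt_23]) co2_walk2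
    rw [List.mem_append, List.mem_map, List.mem_singleton] at hP
    rcases hP with ⟨a, ha, rfl⟩ | rfl
    · have h := List.all_eq_true.1 hTwo a ha
      obtain ⟨σ, hσ, hσa⟩ := repIn_of_inStabP (masks := []) (prev := [23, 0]) (by simp) h
      have hσ' : σ⁻¹ ∈ stabG [] [23, 0] := inv_mem hσ
      have hM : σ⁻¹ ∈ M24 := (mem_stabG.1 hσ').1
      refine ⟨?_, permEl ⟨σ⁻¹, hM⟩, ⟨permEl_mem_of_stab hS (hle hσ'),
        w0_fix (hpts hσ').1 (hpts hσ').2 hM⟩, permEl_actsAs _ (by simpa using hσa)⟩
      have h24 : isM24P a = true := by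
        simp only [inStabP, Bool.and_eq_true] at h; exact h.1.1
      simp only [List.all_cons, List.all_nil, Stp.ok, h24, Bool.true_and, Bool.and_true]
      decide
    · obtain ⟨g, hgH, hga⟩ := exists_actsAs_of_stab hS hMid
      have hd : ActsAs c⁻¹ (runP co2C') := by simpa [letters, co2P, letterProgs] using hacts 4
      have hH : ActsAs (c⁻¹ * (g * c)) (runP co2H) := by
        rw [co2H, runP_append, runP_append]
        exact hd.mul (hga.mul hc)
      have hcH : c ∈ genH c := Subgroup.subset_closure (by simp)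
      exact ⟨hHok, _, ⟨(genH c).mul_mem ((genH c).inv_mem hcH) ((genH c).mul_mem hgH hcH),
        fix_of_run hH hHfix⟩, hH⟩
  have hM : 443520 ≤ Nat.card
      ↥(genH c ⊓ MulAction.stabilizer Co0 w0 ⊓ MulAction.stabilizer Co0 eTop) := by
    rw [← CfsgLib.MathieuOut.natCard_M22, ← CfsgLib.MathieuOut.stabG_M22]
    exact le_natCard_of_fix (fun σ hσ => (mem_stabG.1 hσ).1) fun σ hσ =>
      ⟨⟨permEl_mem_of_stab hS (hle hσ), w0_fix (hpts hσ).1 (hpts hσ).2 _⟩,
        permEl_eTop (hpts hσ).1⟩
  have hcard : Nat.card (MulAction.stabilizer Co0 u23) < Nat.card (genH c) * 23 := by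
    have := orbit_mul_le w0 hN (orbit_mul_le eTop hN2 hM)
    omega
  have hcb : c * z11 = z11 ^ 10 * c := by
    have h1 := co2_rel
    simp only [Bool.and_eq_true] at h1
    have h2 := wEl_eq_of_same hacts co2_ok.1 h1.1
    rw [wEl_append, wEl_replicate] at h2
    simpa [wEl, letters] using h2
  refine natCard_out_eq_one (fun p => ConwaySimple.u23_fix p) (by decide +kernel) (W := 1)
    (by norm_num) (by decide +kernel) (by rw [hK]; norm_num) (by rw [hK]; norm_num) hacts co2_ok.1
    hcV (k := 10) co2_rel hcard (fun h => hmove (by rw [← lOf_eTop, ← hc, h])) (fun g hg hgb => ?_)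
    co2_kill
  have hu := smul_eTop_fixed hgb ⟨10, by decide +kernel⟩
  rcases top_images (by decide +kernel) (by decide +kernel) (by decide +kernel) co2_top hg hu with
    h | h
  · exfalso
    obtain ⟨σ, rfl, hs⟩ := fix_top_mono hV hg h
    rw [z11, ← permEl_pow, ← permEl_mul, ← permEl_mul] at hgb
    have hcomm := congrArg (fun s : ↥M24 => (s : Equiv.Perm GolayPt)) (permEl_injective hgb)
    simp only [Subgroup.coe_mul, SubgroupClass.coe_pow] at hcomm
    exact no_inverter σ.2 hs hcomm
  · obtain ⟨n, hn11, hn⟩ := fix_top_pow (g := c⁻¹ * g) hV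
      (by rw [mul_smul, hg, inv_smul_eq_iff, hcV])
      (by rw [mul_smul, inv_smul_eq_iff]; exact Subtype.ext (h.trans hctop.symm))
      (by rw [mul_assoc, hgb, ← mul_assoc, ← mul_assoc]
          congr 1
          rw [inv_mul_eq_iff_eq_mul, ← mul_assoc, hcb, mul_inv_cancel_right])
    exact Or.inr ⟨n, hn11, by rw [← hn, mul_inv_cancel_left]⟩

end CfsgLib.Spor.ConwayOut
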