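import Cfsg.Agent.Lib.Spor.ConwayOutMain
import Cfsg.Agent.Lib.Spor.ConwayOutData

/-!
The outer automorphism group of the stabiliser of a vector of norm 48 is trivial.
-/

set_option autoImplicit false
set_option maxRecDepth 100000

namespace CfsgLib.Spor.ConwayOut

open Cfsg
open CfsgLib.Spor
open CfsgLib.Spor.CentralFree
open CfsgLib.Spor.HSConfig (bigV)
open CfsgLib.ThreeTransp.CoReduce (bigE)

/-- programs of the letters -/
def co3P : List (List Stp) := letterProgs co3C co3C'

theorem co3_ok : okAll co3P = true ∧ sameB (co3C' ++ co3C) [] = true := by decide +kernel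

theorem co3_rel : (sameB (wProg co3P [2, 1]) (wProg co3P (List.replicate 1 1 ++ [2])) &&
    sameB (wProg co3P [1, 0]) (wProg co3P [0, 0, 1])) = true := by decide +kernel

theorem co3_mono : ([aT, aG, co3Perm].all (inStabP [] [23])) = true ∧
    (sameB (wProg co3P [0]) [.mono aT 0] && sameB (wProg co3P [1]) [.mono aG 0] &&
      sameB (wProg co3P co3Word) [.mono co3Perm 0]) = true := by decide +kernel

theorem co3_slp : checkSLP co3Rows [aT, aG, co3Perm] = true ∧
    CfsgLib.MathieuOut.levelsLow [] co3Lev = true ∧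
    (co3Lev.all fun l => l.2.all fun t => Nat.beq t CfsgLib.MathieuOut.idP ||
      [aT, aG, co3Perm].any (Nat.beq t) || co3Rows.any fun e => Nat.beq t e.1) = true ∧
    10200960 ≤ (co3Lev.map fun l => l.2.length).prod := by decide +kernel

theorem co3_walk : walkFrom co3WalkGens co3Walk.1 co3Walk.2.1 co3Walk.2.2 (encE 23) = some 2114 := by
  decide +kernel

theorem co3_kill : killB co3P co3Rels co3Kill = true := by decide +kernel

theorem co3_top : topB (-5) (-1) (-1) (4, -2, 2, 0) = true := by decide +kernel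

theorem co3_image : runP co3C (lOf (bigV : GolayPt → ℤ)) = lOf (bigV : GolayPt → ℤ) ∧
    runP co3C base64 = lOf (classVec 4 (-2) 2 0) ∧
    runP co3C base64 ≠ base64 := by decide +kernel

theorem natCard_out_co3 : Nat.card (Out (MulAction.stabilizer Co0 bigV)) = 1 := by
  obtain ⟨hsimple, hK⟩ := ConwaySimple.isCo3 bigV HSConfig.norm_V
  haveI := hsimple
  have hV : ∀ x y : ZMod 23,
      0 < (bigV : GolayPt → ℤ) (some x) * (bigV : GolayPt → ℤ) (some y) := by decide +kernel
  obtain ⟨c, hc, hacts⟩ := exists_letters co3_ok.1 co3_ok.2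
  obtain ⟨hfix, himg, hmove⟩ := co3_image
  have hcV : c • bigV = bigV := fix_of_run hc hfix
  have hctop : ((c • eTop : leechLattice) : GolayPt → ℤ) = classVec 4 (-2) 2 0 :=
    lOf_inj (by rw [hc, lOf_eTop, himg])
  obtain ⟨hrows, hlow, hsub, hprod⟩ := co3_slp
  have hS := stab23_le_genH hacts co3_ok.1 co3_mono.1 co3_mono.2 co3Rows hrows co3Lev hlow hsub
    hprod
  have hN : 2114 ≤ (MulAction.orbit (genH c) eTop).ncard := by
    refine le_ncard_orbit (H := genH c) (gs := co3WalkGens) (fun P hP => ?_) (sqNorm_bigE none).le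
      (start := encE 23) (by rw [encE_eq (by norm_num), CfsgLib.MathieuOut.pt_23]) co3_walk
    simp only [co3WalkGens] at hP
    simp only [List.mem_cons, List.not_mem_nil, or_false] at hP
    have hok := co3_ok.1
    simp only [okAll, co3P, letterProgs, List.all_cons, List.all_nil, Bool.and_true,
      Bool.and_eq_true] at hok
    rcases hP with rfl | rfl | rfl
    · exact ⟨by decide +kernel, exists_actsAs_of_stab hS (by decide +kernel)⟩
    · exact ⟨by decide +kernel, exists_actsAs_of_stab hS (by decide +kernel)⟩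
    · exact ⟨hok.2.2.1, c, Subgroup.subset_closure (by simp), hc⟩
  have hM : 10200960 ≤ Nat.card ↥(genH c ⊓ MulAction.stabilizer Co0 eTop) := by
    rw [← CfsgLib.MathieuOut.natCard_M23, ← CfsgLib.MathieuOut.stabG_M23]
    refine le_natCard_of_fix (fun σ hσ => (mem_stabG.1 hσ).1) fun σ hσ =>
      ⟨permEl_mem_of_stab hS hσ, permEl_eTop ?_⟩
    have := (mem_stabG.1 hσ).2.2 23 (by simp)
    rwa [CfsgLib.MathieuOut.pt_23] at this
  have hcard : Nat.card (MulAction.stabilizer Co0 bigV) < Nat.card (genH c) * 23 := by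
    have := orbit_mul_le eTop hN hM
    omega
  refine natCard_out_eq_one (fun p => ConwaySimple.bigV_fix p) (by decide +kernel) (W := -1)
    (by norm_num) (by decide +kernel) (by rw [hK]; norm_num) (by rw [hK]; norm_num) hacts co3_ok.1
    hcV (k := 1) co3_rel hcard (fun h => hmove (by rw [← lOf_eTop, ← hc, h])) (fun g hg hgb => ?_)
    co3_kill
  have hu := smul_eTop_fixed hgb ⟨1, by simp⟩
  rcases top_images (by decide +kernel) (by decide +kernel) (by decide +kernel) co3_top hg hu with
    h | h
  · rw [pow_one] at hgb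
    obtain ⟨n, -, hn⟩ := fix_top_pow hV hg h hgb
    exact Or.inl ⟨n, hn⟩
  · have hcb : c * z11 = z11 * c := by
      have h1 := co3_rel
      simp only [Bool.and_eq_true] at h1
      simpa [wEl, letters] using wEl_eq_of_same hacts co3_ok.1 h1.1
    rw [pow_one] at hgb
    obtain ⟨n, hn11, hn⟩ := fix_top_pow (g := c⁻¹ * g) hV
      (by rw [mul_smul, hg, inv_smul_eq_iff, hcV])
      (by rw [mul_smul, inv_smul_eq_iff]; exact Subtype.ext (h.trans hctop.symm))
      (by rw [mul_assoc, hgb, ← mul_assoc, ← mul_assoc,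
        (Commute.inv_left (hcb : Commute c z11)).eq])
    exact Or.inr ⟨n, hn11, by rw [← hn, mul_inv_cancel_left]⟩

end CfsgLib.Spor.ConwayOut
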