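import Cfsg.Agent.Lib.Spor.ConwaySimple
import Cfsg.Agent.Lib.Spor.Co0Orbit
import Cfsg.Agent.Lib.KnownA.MathieuOut.Main
import Cfsg.Prelude.Def_KGroupFacts

/-!
Tools for bounding the outer automorphism group of the stabiliser in `Cfsg.Co0` of a lattice vector
fixed by the elements of orders 23 and 11: words in programs, monomial parts of subgroups, small
index, and the images of the top vector under the centraliser of doubling.
-/

set_option autoImplicit false
set_option maxRecDepth 100000

namespace CfsgLib.Spor.ConwayOut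

open Cfsg
open CfsgLib.Spor
open CfsgLib.Spor.CentralFree
open CfsgLib.ThreeTransp.CoReduce (bigE dot_preserved)
open CfsgLib.MathieuOut (idP eq_of_levels levelsLow)
open scoped Pointwise

/-! ### Words of programs -/

/-- value of a word -/
def wEl {G : Type*} [Monoid G] (gs : List G) (w : List ℕ) : G := (w.map fun i => gs.getD i 1).prod

/-- program of a word; the last letter acts first -/
def wProg (Ps : List (List Stp)) (w : List ℕ) : List Stp :=
  w.reverse.flatMap fun i => Ps.getD i []

/-- replace letters by words -/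
def subW (ws : List (List ℕ)) (w : List ℕ) : List ℕ := w.flatMap fun i => ws.getD i []

theorem wEl_append {G : Type*} [Monoid G] (gs : List G) (u w : List ℕ) :
    wEl gs (u ++ w) = wEl gs u * wEl gs w := by
  simp [wEl]

theorem wEl_replicate {G : Type*} [Monoid G] (gs : List G) (i n : ℕ) :
    wEl gs (List.replicate n i) = gs.getD i 1 ^ n := by
  simp [wEl]

theorem map_wEl {G H F : Type*} [Monoid G] [Monoid H] [FunLike F G H] [MonoidHomClass F G H]
    (f : F) (gs : List G) (hs : List H) (ws : List (List ℕ))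
    (h : ∀ i, f (gs.getD i 1) = wEl hs (ws.getD i [])) :
    ∀ w : List ℕ, f (wEl gs w) = wEl hs (subW ws w)
  | [] => by simp [wEl, subW]
  | i :: w => by
    rw [show subW ws (i :: w) = ws.getD i [] ++ subW ws w from rfl, wEl_append, ← h,
      ← map_wEl f gs hs ws h w, ← map_mul]
    rfl

theorem runP_append : ∀ (P Q : List Stp), runP (P ++ Q) = runP Q ∘ runP P
  | [], _ => rfl
  | s :: P, Q => funext fun l => by
    show runP (P ++ Q) (s.run l) = runP Q (runP P (s.run l))
    rw [runP_append P Q]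
    rfl

theorem actsAs_one : ActsAs (1 : Co0) (runP []) := fun v => by rw [one_smul]; rfl

/-- the letters act as their programs -/
def Acts (gs : List Co0) (Ps : List (List Stp)) : Prop :=
  ∀ i, ActsAs (gs.getD i 1) (runP (Ps.getD i []))

theorem Acts.nil : Acts [] [] := fun i => by simpa using actsAs_one

theorem Acts.cons {g : Co0} {P : List Stp} {gs : List Co0} {Ps : List (List Stp)}
    (h : ActsAs g (runP P)) (hs : Acts gs Ps) : Acts (g :: gs) (P :: Ps)
  | 0 => by simpa using h
  | i + 1 => by simpa using hs i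

theorem actsAs_wProg {gs : List Co0} {Ps : List (List Stp)} (h : Acts gs Ps) :
    ∀ w : List ℕ, ActsAs (wEl gs w) (runP (wProg Ps w))
  | [] => actsAs_one
  | i :: w => by
    have e : wProg Ps (i :: w) = wProg Ps w ++ Ps.getD i [] := by simp [wProg]
    rw [e, runP_append]
    exact (h i).mul (actsAs_wProg h w)

/-- every step of every program is valid -/
def okAll (Ps : List (List Stp)) : Bool := Ps.all fun P => P.all Stp.ok

theorem wProg_ok {Ps : List (List Stp)} (h : okAll Ps = true) (w : List ℕ) :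
    (wProg Ps w).all Stp.ok = true := by
  simp only [okAll, List.all_eq_true] at h
  simp only [wProg, List.all_eq_true, List.mem_flatMap]
  rintro s ⟨i, -, hs⟩
  by_cases hi : i < Ps.length
  · rw [List.getD_eq_getElem _ _ hi] at hs
    exact h _ (List.getElem_mem hi) s hs
  · rw [List.getD_eq_default _ _ (not_lt.1 hi)] at hs
    simp at hs

/-! ### Comparing programs -/

/-- the code of eight times a unit vector -/
def encE (i : ℕ) : ℕ := packW (fun k => if Nat.beq k i then 136 else 128) 24

theorem encE_eq {i : ℕ} (hi : i < 24) :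
    encE i = encV ((bigE (pt i) : leechLattice) : GolayPt → ℤ) := by
  rw [encV, encE]
  refine packW_congr fun k hk => ?_
  rw [bigE_coe]
  by_cases h : k = i
  · subst h; simp
  · have : pt k ≠ pt i := fun e => h (by rw [← idx_pt hk, e, idx_pt hi])
    simp [this, h, Nat.beq_eq]

theorem encV_inj {x y : GolayPt → ℤ} (hx : Small x) (hy : Small y) (h : encV x = encV y) :
    x = y := by
  funext p
  have h1 := coordN_encV hx (idx_lt p)
  rw [h, coordN_encV hy (idx_lt p), pt_idx] at h1
  omega

/-- the two programs agree on all unit vectors -/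
def sameB (P Q : List Stp) : Bool :=
  (List.range 24).all fun i => Nat.beq (runN P (encE i)) (runN Q (encE i))

/-- the two programs differ on some unit vector -/
def diffB (P Q : List Stp) (i : ℕ) : Bool :=
  Nat.blt i 24 && !Nat.beq (runN P (encE i)) (runN Q (encE i))

theorem eq_of_sameB {P Q : List Stp} {g h : Co0} (hg : ActsAs g (runP P))
    (hh : ActsAs h (runP Q)) (hP : P.all Stp.ok = true) (hQ : Q.all Stp.ok = true)
    (hs : sameB P Q = true) : g = h := by
  refine co0_ext fun p => ?_
  simp only [sameB, List.all_eq_true, List.mem_range, Nat.beq_eq] at hs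
  have h1 := hs _ (idx_lt p)
  rw [encE_eq (idx_lt p), pt_idx, runN_spec hP hg (sqNorm_bigE p).le,
    runN_spec hQ hh (sqNorm_bigE p).le] at h1
  exact Subtype.ext (encV_inj
    (small_of_sqNorm ((coe_smul_sqNorm g _).trans (sqNorm_bigE p)).le)
    (small_of_sqNorm ((coe_smul_sqNorm h _).trans (sqNorm_bigE p)).le) h1)

theorem ne_of_diffB {P Q : List Stp} {g h : Co0} (hg : ActsAs g (runP P))
    (hh : ActsAs h (runP Q)) (hP : P.all Stp.ok = true) (hQ : Q.all Stp.ok = true) {i : ℕ}
    (hd : diffB P Q i = true) : g ≠ h := by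
  rintro rfl
  simp only [diffB, Bool.and_eq_true, Nat.blt_eq, Bool.not_eq_true'] at hd
  have := hd.2
  rw [encE_eq hd.1, runN_spec hP hg (sqNorm_bigE _).le, runN_spec hQ hh (sqNorm_bigE _).le] at this
  simp at this

theorem permEl_actsAs (σ : ↥M24) {a : ℕ} (h : Rep (σ : Equiv.Perm GolayPt)⁻¹ a) :
    ActsAs (permEl σ) (runP [.mono a 0]) := by
  intro v
  show _ = (Stp.mono a 0).run _
  simp only [Stp.run, lOf]
  refine List.map_congr_left fun i hi => ?_
  have hi' := List.mem_range.1 hi
  rw [permEl_coe, h i hi']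
  simp [idx_lt, pt_idx]

/-! ### The monomial part of a subgroup -/

/-- the permutations whose monomial elements lie in a subgroup -/
def monoPart (H : Subgroup Co0) : Subgroup (Equiv.Perm GolayPt) :=
  (H.comap (MonoidHom.mk' permEl permEl_mul)).map M24.subtype

theorem permEl_mem {H : Subgroup Co0} {σ : Equiv.Perm GolayPt} (h : σ ∈ monoPart H)
    (hσ : σ ∈ M24) : permEl ⟨σ, hσ⟩ ∈ H := by
  obtain ⟨τ, hτ, rfl⟩ := h
  exact hτ

theorem repIn_monoPart {H : Subgroup Co0} {g : Co0} (hg : g ∈ H) {P : List Stp}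
    (hga : ActsAs g (runP P)) (hP : P.all Stp.ok = true) {a : ℕ}
    (ha : inStabP [] [23] a = true) (hs : sameB P [.mono a 0] = true) :
    RepIn (monoPart H ⊓ stabG [] [23]) a := by
  obtain ⟨σ, hσ, hσa⟩ := repIn_of_inStabP (masks := []) (prev := [23]) (by simp) ha
  have hM : σ ∈ M24 := (mem_stabG.1 hσ).1
  refine ⟨σ, ⟨⟨⟨σ, hM⟩, ?_, rfl⟩, hσ⟩, hσa⟩
  have hm : (Stp.mono a 0).ok = true := by
    simp only [inStabP, Bool.and_eq_true] at ha
    simp only [Stp.ok, ha.1.1, Bool.and_eq_true, true_and]
    decide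
  have hok : [Stp.mono a 0].all Stp.ok = true := by simp [hm]
  have e : g = permEl ⟨σ⁻¹, inv_mem hM⟩ := eq_of_sameB hga
    (permEl_actsAs _ (a := a) (by simpa using hσa)) hP hok hs
  have h2 : permEl ⟨σ⁻¹, inv_mem hM⟩ ∈ H := e ▸ hg
  show permEl ⟨σ, hM⟩ ∈ H
  have h3 : permEl ⟨σ⁻¹, inv_mem hM⟩ = (permEl ⟨σ, hM⟩)⁻¹ :=
    (MonoidHom.mk' permEl permEl_mul).map_inv ⟨σ, hM⟩
  rw [h3] at h2
  exact inv_mem_iff.1 h2

theorem stab23_le {H : Subgroup Co0} {gens : List ℕ}
    (hgens : ∀ a ∈ gens, RepIn (monoPart H ⊓ stabG [] [23]) a) (rows : List (ℕ × ℕ × ℕ))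
    (hrows : checkSLP rows gens = true) (L : List (ℕ × List ℕ)) (hlow : levelsLow [] L = true)
    (hsub : (L.all fun l => l.2.all fun t =>
      Nat.beq t idP || gens.any (Nat.beq t) || rows.any fun e => Nat.beq t e.1) = true)
    (hprod : 10200960 ≤ (L.map fun l => l.2.length).prod) :
    stabG [] [23] ≤ monoPart H := by
  have h := eq_of_levels (G := stabG [] [23]) (K := monoPart H ⊓ stabG [] [23]) inf_le_right
    hgens rows hrows L hlow hsub
    (by rw [CfsgLib.MathieuOut.stabG_M23, CfsgLib.MathieuOut.natCard_M23]; exact hprod)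
  exact inf_eq_right.1 h

theorem permEl_mem_of_stab {H : Subgroup Co0} (h : stabG [] [23] ≤ monoPart H)
    {σ : Equiv.Perm GolayPt} (hσ : σ ∈ stabG [] [23]) : permEl ⟨σ, (mem_stabG.1 hσ).1⟩ ∈ H :=
  permEl_mem (h hσ) _

theorem exists_actsAs_of_stab {H : Subgroup Co0} (h : stabG [] [23] ≤ monoPart H) {a : ℕ}
    (ha : inStabP [] [23] a = true) : ∃ g ∈ H, ActsAs g (runP [.mono a 0]) := by
  obtain ⟨σ, hσ, hσa⟩ := repIn_of_inStabP (masks := []) (prev := [23]) (by simp) ha
  exact ⟨_, permEl_mem_of_stab h (inv_mem hσ), permEl_actsAs _ (by simpa using hσa)⟩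

theorem le_natCard_of_fix {G : Subgroup (Equiv.Perm GolayPt)} {L : Subgroup Co0}
    (hG : G ≤ M24) (h : ∀ σ (hσ : σ ∈ G), permEl ⟨σ, hG hσ⟩ ∈ L) : Nat.card G ≤ Nat.card L :=
  Nat.card_le_card_of_injective (fun σ => (⟨_, h σ σ.2⟩ : L)) fun σ τ e => by
    have := congrArg Subtype.val (permEl_injective (congrArg Subtype.val e))
    exact Subtype.ext this

theorem orbit_mul_le {H : Subgroup Co0} (x : leechLattice) {N M : ℕ}
    (hN : N ≤ (MulAction.orbit H x).ncard)
    (hM : M ≤ Nat.card ↥(H ⊓ MulAction.stabilizer Co0 x)) : M * N ≤ Nat.card H :=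
  (ConwayArith.natCard_inf_stab (K := H) x) ▸ Nat.mul_le_mul hM hN

/-! ### Small index -/

theorem eq_top_of_small_index {G : Type*} [Group G] [Finite G] [IsSimpleGroup G] {p : ℕ}
    (hp : p.Prime) (hd : p ∣ Nat.card G) (H : Subgroup G)
    (hH : Nat.card G < Nat.card H * p) : H = ⊤ := by
  have hn : H.index < p := by
    rw [← Subgroup.card_mul_index H] at hH
    exact Nat.lt_of_mul_lt_mul_left hH
  rcases (Subgroup.normalCore_normal H).eq_bot_or_eq_top with h | h
  · exfalso
    have hinj : Function.Injective (MulAction.toPermHom G (G ⧸ H)) := by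
      rw [← MonoidHom.ker_eq_bot_iff, ← Subgroup.normalCore_eq_ker, h]
    have h1 := Subgroup.card_dvd_of_injective _ hinj
    rw [Nat.card_perm, ← Subgroup.index_eq_card] at h1
    exact absurd ((hp.dvd_factorial).1 (hd.trans h1)) (by omega)
  · exact top_le_iff.1 (h ▸ Subgroup.normalCore_le H)

theorem outCongr {G H : Type*} [Group G] [Group H] (e : G ≃* H) :
    Nat.card (Out G) = Nat.card (Out H) := by
  refine Nat.card_congr (QuotientGroup.congr _ _ (MulAut.congr e) ?_).toEquiv
  ext φ
  constructor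
  · rintro ⟨_, ⟨a, rfl⟩, rfl⟩
    exact ⟨e a, MulEquiv.ext fun x => by simp⟩
  · rintro ⟨a, rfl⟩
    exact ⟨MulAut.conj (e.symm a), ⟨_, rfl⟩, MulEquiv.ext fun x => by simp⟩

/-! ### Fixed points of doubling -/

theorem z11_eTop : z11 • eTop = eTop := Subtype.ext (funext fun p => by
  rw [z11, permEl_coe, eTop_coe]
  cases p <;> simp [g2, Pi.single_apply, Equiv.symm_apply_eq])

theorem smul_eTop_fixed {g : Co0} {k : ℕ} (h : g * z11 = z11 ^ k * g)
    (hk : ∃ j : ℕ, (g2 ^ k) ^ j = g2) (p : GolayPt) :
    ((g • eTop : leechLattice) : GolayPt → ℤ) (g2.symm p) =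
      ((g • eTop : leechLattice) : GolayPt → ℤ) p := by
  obtain ⟨j, hj⟩ := hk
  have h1 : z11 ^ k • (g • eTop) = g • eTop := by rw [← mul_smul, ← h, mul_smul, z11_eTop]
  have h2 : ∀ n : ℕ, (z11 ^ k) ^ n • (g • eTop) = g • eTop := by
    intro n
    induction n with
    | zero => rw [pow_zero, one_smul]
    | succ n ih => rw [pow_succ, mul_smul, h1, ih]
  have e : (z11 ^ k) ^ j = z11 := by
    rw [z11, ← permEl_pow, ← permEl_pow]
    exact congrArg permEl (Subtype.ext (by simpa using hj))
  have h3 := h2 j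
  rw [e] at h3
  conv_rhs => rw [← h3, z11, permEl_coe]

theorem fix_top_mono {V : leechLattice}
    (hpos : ∀ x y : ZMod 23, 0 < (V : GolayPt → ℤ) (some x) * (V : GolayPt → ℤ) (some y))
    {g : Co0} (hg : g • V = V) (htop : g • eTop = eTop) :
    ∃ σ : ↥M24, g = permEl σ ∧ (σ : Equiv.Perm GolayPt) none = none := by
  obtain ⟨p, rfl⟩ := exists_monoEl (g := g) (by rw [htop]; exact bigE_mem_stdCross none)
  obtain ⟨hs, hc⟩ := (signedPerm_top_iff p).1 htop
  refine ⟨p.1, monoEl_eq_permEl fun i => ?_, hs⟩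
  cases i with
  | none => exact hc
  | some x =>
    refine notMem_of_fix hg ?_
    cases h : (p.1 : Equiv.Perm GolayPt).symm (some x) with
    | none => rw [Equiv.symm_apply_eq, hs] at h; simp at h
    | some y => exact hpos x y

theorem perm_zero {σ : Equiv.Perm GolayPt} (hn : σ none = none) {τ : Equiv.Perm GolayPt}
    (hτ : ∀ p, τ p = p → p = none ∨ p = some 0) (h : σ * g2 = τ * σ) :
    σ (some 0) = some 0 := by
  have e := DFunLike.congr_fun h (some 0)
  simp only [Equiv.Perm.mul_apply, g2_apply_some, mul_zero] at e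
  rcases hτ _ e.symm with h' | h'
  · rw [← hn] at h'
    exact absurd (σ.injective h') (by simp)
  · exact h'

theorem fix_top_pow {V : leechLattice}
    (hpos : ∀ x y : ZMod 23, 0 < (V : GolayPt → ℤ) (some x) * (V : GolayPt → ℤ) (some y))
    {g : Co0} (hg : g • V = V) (htop : g • eTop = eTop) (hc : g * z11 = z11 * g) :
    ∃ n < 11, g = z11 ^ n := by
  obtain ⟨σ, rfl, hs⟩ := fix_top_mono hpos hg htop
  rw [z11, ← permEl_mul, ← permEl_mul] at hc
  have hcomm := congrArg (fun s : ↥M24 => (s : Equiv.Perm GolayPt)) (permEl_injective hc)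
  simp only [Subgroup.coe_mul] at hcomm
  obtain ⟨n, hn⟩ := exists_pow_of_comm σ.2 hs (perm_zero hs (by decide +kernel) hcomm) hcomm
  refine ⟨n % 11, Nat.mod_lt _ (by norm_num), ?_⟩
  rw [← orderOf_z11, pow_mod_orderOf, z11, ← permEl_pow]
  exact congrArg permEl (Subtype.ext (by simpa using hn))

/-- inversion followed by multiplication, by `a` on squares and `b` on non-squares -/
def invMul (a b : ZMod 23) : GolayPt → GolayPt
  | none => none
  | some x => some (if x ^ 11 = 1 then a * x ^ 21 else b * x ^ 21)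

theorem invMul_check : ∀ a b : ZMod 23,
    (golayBasis.all fun m => inCode (mask ((toSet m).image (invMul a b)))) = false := by
  decide +kernel

theorem no_inverter {σ : Equiv.Perm GolayPt} (hσ : σ ∈ M24) (hn : σ none = none)
    (hc : σ * g2 = g2 ^ 10 * σ) : False := by
  have h0 : σ (some 0) = some 0 := perm_zero hn (τ := g2 ^ 10) (by decide +kernel) hc
  have hsome : ∀ x : ZMod 23, ∃ y, σ (some x) = some y := by
    intro x
    cases h : σ (some x) with
    | none => rw [← hn] at h; exact absurd (σ.injective h) (by simp)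
    | some y => exact ⟨y, rfl⟩
  have hpow : ∀ (k : ℕ) (y z : ZMod 23), σ (some y) = some z →
      σ (some (2 ^ k * y)) = some (z * (2 ^ k) ^ 21) := by
    intro k y z hz
    have h2 : σ * g2 ^ k = (g2 ^ 10) ^ k * σ := SemiconjBy.pow_right hc k
    have e := DFunLike.congr_fun h2 (some y)
    simp only [Equiv.Perm.mul_apply, ← pow_mul, g2_pow_apply, Option.map_some, hz] at e
    rw [e, mul_comm z, ← pow_mul, mul_comm k 21, pow_mul, pow_mul,
      show (2 : ZMod 23) ^ 10 = 2 ^ 21 from by decide]
  obtain ⟨a, ha⟩ := hsome 1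
  obtain ⟨c, hc5⟩ := hsome 5
  have hform : (σ : GolayPt → GolayPt) = invMul a (c * 5) := by
    funext p
    cases p with
    | none => exact hn
    | some x =>
      by_cases hx : x = 0
      · subst hx; rw [h0]; simp [invMul]
      obtain ⟨k, -, ⟨hq, e⟩ | ⟨hq, e⟩⟩ := residue_cases x hx
      · have h1 := hpow k 1 a ha
        rw [mul_one, ← e] at h1
        rw [h1]
        simp only [invMul, if_pos hq]
      · have h1 := hpow k 5 c hc5
        rw [← e] at h1
        rw [h1]
        simp only [invMul, if_neg hq]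
        congr 1
        have h5 : c * (2 ^ k) ^ 21 = c * (2 ^ k) ^ 21 * (5 * 5 ^ 21) := by
          rw [show (5 : ZMod 23) * 5 ^ 21 = 1 from by decide, mul_one]
        rw [h5, e]
        ring
  have hall : (golayBasis.all fun m =>
      inCode (mask ((toSet m).image (invMul a (c * 5))))) = true := by
    refine List.all_eq_true.2 fun m hm => ?_
    have hlt : m < 2 ^ 24 := by
      have := (basis_octads m hm).2.1
      norm_num
      omega
    have hmem : mask (toSet m) ∈ codeList := by
      rw [mask_toSet hlt]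
      exact mem_codeList_iff.2 ⟨hlt, (basis_octads m hm).2.2⟩
    have h := mem_M24_iff.1 hσ _ hmem
    have e : σ • toSet m = (toSet m).image (invMul a (c * 5)) := by rw [← hform]; rfl
    rw [← e]
    exact (mem_codeList_iff.1 h).2
  rw [invMul_check] at hall
  exact Bool.false_ne_true hall

/-! ### Images of the top vector -/

/-- a vector constant on the residue classes -/
def classVec (A B c d : ℤ) : GolayPt → ℤ
  | none => A
  | some x => if x = 0 then B else if x ^ 11 = 1 then c else d

/-- necessary conditions for membership in the lattice -/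
def leechB (x : GolayPt → ℤ) : Bool :=
  decide (∀ i, x i % 2 = x none % 2) &&
    [0, 1, 2, 3].all fun k : ℤ =>
      inCode (mask (Finset.univ.filter fun i => x i % 4 = k % 4))

theorem leechB_of_mem {x : GolayPt → ℤ} (hx : x ∈ leechLattice) : leechB x = true := by
  obtain ⟨m, hp, -, hk⟩ : x ∈ leechSet := mem_leechSet_iff.2 (leechLattice_eq ▸ hx)
  simp only [leechB, Bool.and_eq_true, decide_eq_true_eq, List.all_eq_true]
  exact ⟨fun i => (hp i).trans (hp none).symm, fun k _ => mem_supports_iff_inCode.1 (hk k)⟩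

theorem eq_classVec {u : GolayPt → ℤ} (hu : ∀ p, u (g2.symm p) = u p) :
    u = classVec (u none) (u (some 0)) (u (some 1)) (u (some 5)) := by
  funext p
  cases p with
  | none => rfl
  | some x =>
    by_cases hx : x = 0
    · subst hx; rfl
    · simp only [classVec, if_neg hx]
      exact coords_fixed11 hu x hx

/-- the search for the images -/
def topB (VA VB W : ℤ) (y : ℤ × ℤ × ℤ × ℤ) : Bool :=
  let R := (List.range 17).map fun n : ℕ => (n : ℤ) - 8
  let S := (List.range 5).map fun n : ℕ => (n : ℤ) - 2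
  R.all fun A => R.all fun B => S.all fun c => S.all fun d =>
    !(decide (A ^ 2 + B ^ 2 + 11 * c ^ 2 + 11 * d ^ 2 = 64) &&
      decide (A * VA + B * VB + 11 * (c * W) + 11 * (d * W) = 8 * VA) &&
      leechB (classVec A B c d)) || (A, B, c, d) == (8, 0, 0, 0) || (A, B, c, d) == y

theorem top_images {V : leechLattice} {VA VB W : ℤ} (hA : (V : GolayPt → ℤ) none = VA)
    (hB : (V : GolayPt → ℤ) (some 0) = VB)
    (hW : ∀ x : ZMod 23, x ≠ 0 → (V : GolayPt → ℤ) (some x) = if x ^ 11 = 1 then W else W)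
    {y : ℤ × ℤ × ℤ × ℤ} (hb : topB VA VB W y = true) {g : Co0} (hg : g • V = V)
    (hu : ∀ p, ((g • eTop : leechLattice) : GolayPt → ℤ) (g2.symm p) =
      ((g • eTop : leechLattice) : GolayPt → ℤ) p) :
    g • eTop = eTop ∨ ((g • eTop : leechLattice) : GolayPt → ℤ) =
      classVec y.1 y.2.1 y.2.2.1 y.2.2.2 := by
  obtain ⟨u, hudef⟩ : ∃ u, u = ((g • eTop : leechLattice) : GolayPt → ℤ) := ⟨_, rfl⟩
  have hmem : u ∈ leechLattice := hudef ▸ SetLike.coe_mem _
  have hn : sqNorm u = 64 := hudef ▸ (coe_smul_sqNorm g eTop).trans (sqNorm_bigE none)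
  have hd : dotInt u (V : GolayPt → ℤ) = 8 * VA := by
    rw [hudef]
    conv_lhs => rw [← hg]
    have := dot_preserved g.2 eTop V
    refine this.trans ?_
    simp [dotInt, eTop_coe, Pi.single_apply, hA]
  rw [← hudef] at hu ⊢
  have hcv := eq_classVec hu
  rw [ConwaySimple.norm_classes hu] at hn
  rw [ConwaySimple.dot_classes hu W W hW, hA, hB] at hd
  have hl := leechB_of_mem (hcv ▸ hmem)
  obtain ⟨c1, c2, d1, d2⟩ := ConwaySimple.small_sq hn
  have ha : -9 < u none ∧ u none < 9 := by constructor <;> nlinarith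
  have hb0 : -9 < u (some 0) ∧ u (some 0) < 9 := by constructor <;> nlinarith
  have hR : ∀ z : ℤ, -9 < z → z < 9 → z ∈ (List.range 17).map fun n : ℕ => (n : ℤ) - 8 :=
    fun z h1 h2 => List.mem_map.2 ⟨(z + 8).toNat,
      List.mem_range.2 (show (z + 8).toNat < 17 by omega),
      show ((z + 8).toNat : ℤ) - 8 = z by omega⟩
  have hS : ∀ z : ℤ, -3 < z → z < 3 → z ∈ (List.range 5).map fun n : ℕ => (n : ℤ) - 2 :=
    fun z h1 h2 => List.mem_map.2 ⟨(z + 2).toNat,
      List.mem_range.2 (show (z + 2).toNat < 5 by omega),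
      show ((z + 2).toNat : ℤ) - 2 = z by omega⟩
  simp only [topB, List.all_eq_true] at hb
  have := hb _ (hR _ ha.1 ha.2) _ (hR _ hb0.1 hb0.2) _ (hS _ c1 c2) _ (hS _ d1 d2)
  simp only [hn, hd, hl, decide_true, Bool.and_self, Bool.not_true, Bool.false_or,
    Bool.or_eq_true, beq_iff_eq] at this
  rcases this with e | e
  · left
    refine Subtype.ext ?_
    simp only [Prod.mk.injEq] at e
    rw [← hudef]
    exact ConwaySimple.eq_eTop hu e.1 e.2.1 e.2.2.1 e.2.2.2
  · right
    rw [hcv, ← e]

end CfsgLib.Spor.ConwayOut
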