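import Cfsg.Agent.Lib.Spor.ConwayOutKit

/-!
The outer automorphism group of the stabiliser of a vector fixed by the elements of orders 23 and
11 is trivial, given certificates for a third generator.
-/

set_option autoImplicit false
set_option maxRecDepth 100000

namespace CfsgLib.Spor.ConwayOut

open Cfsg
open CfsgLib.Spor
open CfsgLib.Spor.CentralFree
open CfsgLib.ThreeTransp.CoReduce (bigE)

/-- translation by one, packed (acts as `z23`) -/
def aT : ℕ := pack fun i => if Nat.beq i 23 then 23 else (i + 22) % 23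
  where pack (f : ℕ → ℕ) : ℕ := packL ((List.range 24).map f)

/-- translation by minus one, packed -/
def aT' : ℕ := aT.pack fun i => if Nat.beq i 23 then 23 else (i + 1) % 23

/-- halving, packed (acts as `z11`) -/
def aG : ℕ := aT.pack fun i => if Nat.beq i 23 then 23 else (i * 12) % 23

theorem permEl_inv (σ : ↥M24) : permEl σ⁻¹ = (permEl σ)⁻¹ :=
  (MonoidHom.mk' permEl permEl_mul).map_inv σ

theorem z23_actsAs : ActsAs z23 (runP [.mono aT 0]) :=
  permEl_actsAs _ (by decide +kernel)

theorem z23_inv_actsAs : ActsAs z23⁻¹ (runP [.mono aT' 0]) := by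
  rw [z23, ← permEl_inv]
  exact permEl_actsAs _ (by
    rw [show ((⟨gT, gT_mem⟩ : ↥M24)⁻¹ : ↥M24).1⁻¹ = gT from inv_inv gT]
    decide +kernel)

theorem z11_actsAs : ActsAs z11 (runP [.mono aG 0]) :=
  permEl_actsAs _ (by decide +kernel)

/-- the five letters -/
def letters (c : Co0) : List Co0 := [z23, z11, c, z23⁻¹, c⁻¹]

/-- programs of the five letters -/
def letterProgs (C C' : List Stp) : List (List Stp) :=
  [[.mono aT 0], [.mono aG 0], C, [.mono aT' 0], C']

theorem exists_letters {C C' : List Stp} (hok : okAll (letterProgs C C') = true)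
    (hinv : sameB (C' ++ C) [] = true) :
    ∃ c : Co0, ActsAs c (runP C) ∧ Acts (letters c) (letterProgs C C') := by
  simp only [okAll, letterProgs, List.all_cons, List.all_nil, Bool.and_true,
    Bool.and_eq_true] at hok
  obtain ⟨-, -, hC, -, hC'⟩ := hok
  have hC1 : C.all Stp.ok = true := hC
  have hC1' : C'.all Stp.ok = true := hC'
  obtain ⟨c, -, hc⟩ := exists_prog hC1
  obtain ⟨d, -, hd⟩ := exists_prog hC1'
  have h1 : c * d = 1 := eq_of_sameB (by rw [runP_append]; exact hc.mul hd) actsAs_one
    (by simp [List.all_append, hC1, hC1']) rfl hinv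
  rw [← mul_eq_one_iff_inv_eq.1 h1] at hd
  exact ⟨c, hc, .cons z23_actsAs (.cons z11_actsAs (.cons hc (.cons z23_inv_actsAs
    (.cons hd .nil))))⟩

theorem wEl_eq_of_same {gs : List Co0} {Ps : List (List Stp)} (h : Acts gs Ps)
    (hok : okAll Ps = true) {u w : List ℕ} (hs : sameB (wProg Ps u) (wProg Ps w) = true) :
    wEl gs u = wEl gs w :=
  eq_of_sameB (actsAs_wProg h u) (actsAs_wProg h w) (wProg_ok hok u) (wProg_ok hok w) hs

theorem wEl_mem {H : Subgroup Co0} {gs : List Co0} (h : ∀ g ∈ gs, g ∈ H) (w : List ℕ) :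
    wEl gs w ∈ H := by
  refine list_prod_mem fun x hx => ?_
  obtain ⟨i, -, rfl⟩ := List.mem_map.1 hx
  by_cases hi : i < gs.length
  · rw [List.getD_eq_getElem _ _ hi]; exact h _ (List.getElem_mem hi)
  · rw [List.getD_eq_default _ _ (not_lt.1 hi)]; exact one_mem _

/-- the group generated by the three elements -/
def genH (c : Co0) : Subgroup Co0 := Subgroup.closure {z23, z11, c}

theorem letters_mem (c : Co0) : ∀ g ∈ letters c, g ∈ genH c := by
  have ha : z23 ∈ genH c := Subgroup.subset_closure (by simp)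
  have hb : z11 ∈ genH c := Subgroup.subset_closure (by simp)
  have hc : c ∈ genH c := Subgroup.subset_closure (by simp)
  simp only [letters, List.mem_cons, List.not_mem_nil, or_false]
  rintro g (rfl | rfl | rfl | rfl | rfl)
  exacts [ha, hb, hc, inv_mem ha, inv_mem hc]

/-- the monomial group of degree 23 lies in the generated group -/
theorem stab23_le_genH {c : Co0} {Ps : List (List Stp)} (h : Acts (letters c) Ps)
    (hok : okAll Ps = true) {w : List ℕ} {m : ℕ}
    (hm : ([aT, aG, m].all (inStabP [] [23])) = true)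
    (hw : (sameB (wProg Ps [0]) [.mono aT 0] && sameB (wProg Ps [1]) [.mono aG 0] &&
      sameB (wProg Ps w) [.mono m 0]) = true)
    (rows : List (ℕ × ℕ × ℕ)) (hrows : checkSLP rows [aT, aG, m] = true)
    (L : List (ℕ × List ℕ)) (hlow : CfsgLib.MathieuOut.levelsLow [] L = true)
    (hsub : (L.all fun l => l.2.all fun t => Nat.beq t CfsgLib.MathieuOut.idP ||
      [aT, aG, m].any (Nat.beq t) || rows.any fun e => Nat.beq t e.1) = true)
    (hprod : 10200960 ≤ (L.map fun l => l.2.length).prod) :
    stabG [] [23] ≤ monoPart (genH c) := by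
  simp only [Bool.and_eq_true] at hw
  simp only [List.all_cons, List.all_nil, Bool.and_true, Bool.and_eq_true] at hm
  refine stab23_le (fun a ha => ?_) rows hrows L hlow hsub hprod
  simp only [List.mem_cons, List.not_mem_nil, or_false] at ha
  rcases ha with rfl | rfl | rfl
  · exact repIn_monoPart (wEl_mem (letters_mem c) [0]) (actsAs_wProg h _) (wProg_ok hok _) hm.1
      hw.1.1
  · exact repIn_monoPart (wEl_mem (letters_mem c) [1]) (actsAs_wProg h _) (wProg_ok hok _) hm.2.1
      hw.1.2
  · exact repIn_monoPart (wEl_mem (letters_mem c) w) (actsAs_wProg h _) (wProg_ok hok _) hm.2.2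
      hw.2

/-- the substitution of a candidate -/
def candW (e n : ℕ) : List (List ℕ) :=
  [[if Nat.beq e 0 then 0 else 3], [1], 2 :: List.replicate n 1]

/-- the relators hold and kill every other candidate -/
def killB (Ps : List (List Stp)) (rels : List (List ℕ)) (kill : List (ℕ × ℕ × ℕ × ℕ)) : Bool :=
  (rels.all fun r => sameB (wProg Ps (subW [[0], [1], [2]] r)) []) &&
  ((List.range 22).all fun i => Nat.beq i 0 ||
    kill.any fun q => Nat.beq q.1 (i / 11) && Nat.beq q.2.1 (i % 11)) &&
  kill.all fun q => Nat.blt q.2.2.1 rels.length &&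
    diffB (wProg Ps (subW (candW q.1 q.2.1) (rels.getD q.2.2.1 []))) [] q.2.2.2

theorem natCard_out_eq_one {V : leechLattice}
    (hV : ∀ p, (V : GolayPt → ℤ) (gT p) = (V : GolayPt → ℤ) p ∧
      (V : GolayPt → ℤ) (g2 p) = (V : GolayPt → ℤ) p)
    (h0 : (V : GolayPt → ℤ) none ≠ 0) {W : ℤ} (hW0 : W ≠ 0)
    (hW : ∀ x : ZMod 23, (V : GolayPt → ℤ) (some x) = W)
    [IsSimpleGroup (MulAction.stabilizer Co0 V)]
    (h23 : 23 ∣ Nat.card (MulAction.stabilizer Co0 V))
    (hsq : ¬ 23 ^ 2 ∣ Nat.card (MulAction.stabilizer Co0 V))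
    {c : Co0} {Ps : List (List Stp)} (hacts : Acts (letters c) Ps) (hok : okAll Ps = true)
    (hcV : c • V = V) {k : ℕ}
    (hrel : (sameB (wProg Ps [2, 1]) (wProg Ps (List.replicate k 1 ++ [2])) &&
      sameB (wProg Ps [1, 0]) (wProg Ps [0, 0, 1])) = true)
    (hcard : Nat.card (MulAction.stabilizer Co0 V) < Nat.card (genH c) * 23)
    (hcT : c • eTop ≠ eTop)
    (hcand : ∀ g : Co0, g • V = V → g * z11 = z11 ^ k * g →
      (∃ n : ℕ, g = z11 ^ n) ∨ ∃ n < 11, g = c * z11 ^ n)
    {rels : List (List ℕ)} {kill : List (ℕ × ℕ × ℕ × ℕ)} (hkill : killB Ps rels kill = true) :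
    Nat.card (Out (MulAction.stabilizer Co0 V)) = 1 := by
  classical
  have : Fact (Nat.Prime 23) := ⟨by norm_num⟩
  simp only [Bool.and_eq_true] at hrel
  let K := MulAction.stabilizer Co0 V
  let a : K := ⟨z23, ConwaySimple.z23_fix (ConwaySimple.symm_fix fun p => (hV p).1)⟩
  let b : K := ⟨z11, ConwaySimple.z11_fix (ConwaySimple.symm_fix fun p => (hV p).2)⟩
  let c' : K := ⟨c, hcV⟩
  have hcb : c * z11 = z11 ^ k * c := by
    have := wEl_eq_of_same hacts hok hrel.1
    rw [wEl_append, wEl_replicate] at this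
    simpa [wEl, letters] using this
  have hba : z11 * z23 = z23 ^ 2 * z11 := by
    simpa [wEl, letters, pow_two, mul_assoc] using wEl_eq_of_same hacts hok hrel.2
  have hgen : Subgroup.closure ({a, b, c'} : Set K) = ⊤ := by
    refine eq_top_of_small_index (p := 23) (by norm_num) h23 _ ?_
    have e : (Subgroup.closure ({a, b, c'} : Set K)).map K.subtype = genH c := by
      rw [MonoidHom.map_closure, Set.image_insert_eq, Set.image_insert_eq, Set.image_singleton]
      rfl
    rw [← Subgroup.card_map_of_injective (K := Subgroup.closure ({a, b, c'} : Set K))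
      K.subtype_injective, e]
    exact hcard
  have ha : orderOf a = 23 := by rw [← Subgroup.orderOf_coe]; exact orderOf_z23
  let key : K → GolayPt → leechLattice := fun g i => (g : Co0) • bigE i
  have hkey : Function.Injective key := fun g h e =>
    Subtype.ext (co0_ext fun i => congrFun e i)
  refine le_antisymm ?_ (Nat.one_le_iff_ne_zero.2 Nat.card_pos.ne')
  refine (CfsgLib.MathieuOut.natCard_out_le (G := K) (p := 23) hsq (a := a) (b := b) (c := c') ha
    (s := 2) (k := k) (Subtype.ext (by simpa [a, b, mul_inv_eq_iff_eq_mul] using hba))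
    (Subtype.ext (by simpa [b, c'] using hcb)) hgen (by norm_num) (by decide +kernel) ?_ key hkey
    [(key a, key c')] ?_).trans_eq rfl
  · intro g hg
    obtain ⟨t, ht⟩ := central23 h0 hW0 hW (g := (g : Co0)) g.2 (congrArg Subtype.val hg)
    exact ⟨t, Subtype.ext (by simpa [a] using ht)⟩
  intro φ hφb hφa hφc
  have hfix : ∀ n : ℕ, z11 ^ n • eTop = eTop := by
    intro n
    induction n with
    | zero => rw [pow_zero, one_smul]
    | succ n ih => rw [pow_succ, mul_smul, z11_eTop, ih]
  rcases hcand (φ c') (φ c').2 (by simpa [b] using congrArg Subtype.val hφc) with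
    ⟨n, hn⟩ | ⟨n, hn11, hn⟩
  · exfalso
    have e : φ c' = φ (b ^ n) := by
      rw [map_pow, hφb]
      exact Subtype.ext (by simpa [b] using hn)
    have e' := congrArg Subtype.val (φ.injective e)
    apply hcT
    rw [show c = z11 ^ n by simpa [c', b] using e', hfix]
  obtain ⟨e, he2, he⟩ : ∃ e < 2, (φ a : Co0) = wEl (letters c) [if Nat.beq e 0 then 0 else 3] := by
    rcases hφa with h | h
    · exact ⟨0, by norm_num, by rw [h]; simp [wEl, letters, a]⟩
    · exact ⟨1, by norm_num, by rw [h]; simp [wEl, letters, a]⟩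
  simp only [killB, Bool.and_eq_true, List.all_eq_true, List.mem_range, Bool.or_eq_true,
    Nat.beq_eq, List.any_eq_true, Nat.blt_eq] at hkill
  obtain ⟨⟨hr, hcov⟩, hk⟩ := hkill
  by_cases hz : e * 11 + n = 0
  · obtain ⟨rfl, rfl⟩ : e = 0 ∧ n = 0 := by omega
    refine List.mem_singleton.2 (Prod.ext (congrArg key (Subtype.ext ?_))
      (congrArg key (Subtype.ext ?_)))
    · rw [he]; simp [wEl, letters, a]
    · rw [hn]; simp [c']
  exfalso
  obtain ⟨q, hq, hq1, hq2⟩ := (hcov (e * 11 + n) (by omega)).resolve_left hz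
  obtain ⟨hlt, hd⟩ := hk q hq
  have hq1' : q.1 = e := by omega
  have hq2' : q.2.1 = n := by omega
  set r := rels.getD q.2.2.1 [] with hrdef
  have hr' := hr r (by rw [hrdef, List.getD_eq_getElem _ _ hlt]; exact List.getElem_mem hlt)
  have hone : wEl (letters c) (subW [[0], [1], [2]] r) = 1 :=
    wEl_eq_of_same hacts hok (w := []) hr'
  have h1 : wEl [a, b, c'] r = (1 : K) := by
    refine Subtype.ext ?_
    refine (map_wEl K.subtype [a, b, c'] (letters c) [[0], [1], [2]] ?_ r).trans hone
    rintro (_ | _ | _ | i) <;> simp [wEl, letters, a, b, c']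
  have h2 : wEl (letters c) (subW (candW e n) r) = 1 := by
    rw [← map_wEl (K.subtype.comp φ.toMonoidHom) [a, b, c'] (letters c) (candW e n) ?_ r, h1,
      map_one]
    rintro (_ | _ | _ | i)
    · simpa [candW] using he
    · simp [candW, hφb, wEl, letters, b]
    · have e3 : wEl (letters c) (2 :: List.replicate n 1) = c * z11 ^ n := by
        rw [show 2 :: List.replicate n 1 = [2] ++ List.replicate n 1 from rfl, wEl_append,
          wEl_replicate]
        simp [wEl, letters]
      simpa [candW, e3] using hn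
    · simp [candW, wEl]
  rw [hq1', hq2'] at hd
  exact ne_of_diffB (actsAs_wProg hacts _) (actsAs_wProg hacts []) (wProg_ok hok _)
    (wProg_ok hok _) hd h2

theorem fix_of_run {g : Co0} {P : List Stp} (h : ActsAs g (runP P)) {v : leechLattice}
    (hv : runP P (lOf (v : GolayPt → ℤ)) = lOf (v : GolayPt → ℤ)) : g • v = v :=
  Subtype.ext (lOf_inj ((h v).trans hv))

theorem permEl_eTop {σ : ↥M24} (h : (σ : Equiv.Perm GolayPt) none = none) :
    permEl σ • eTop = eTop := Subtype.ext (funext fun p => by
  rw [permEl_coe, eTop_coe]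
  cases p with
  | none => rw [(Equiv.symm_apply_eq _).2 h.symm]
  | some x =>
    rw [Pi.single_eq_of_ne (Option.some_ne_none x), Pi.single_eq_of_ne]
    rw [ne_eq, Equiv.symm_apply_eq, h]
    exact Option.some_ne_none x)

end CfsgLib.Spor.ConwayOut
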