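import Cfsg.Agent.Lib.Spor.Census

/-!
Homomorphisms out of listed groups given by tables.
-/

set_option autoImplicit false

namespace CfsgLib.Spor

open Cfsg
open scoped Pointwise

section
variable {el : ℕ → ℕ} {n : ℕ} {gens : List ℕ} {tbl : List (List ℕ)} {par : List (ℕ × ℕ)}
  {sorted : List ℕ} (h : listedOK el n gens tbl par sorted = true)
include h

theorem listed_index_unique {σ : Equiv.Perm GolayPt} {i j : ℕ} (hi : i < n) (hj : j < n)
    (hir : Rep σ (el i)) (hjr : Rep σ (el j)) : i = j := by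
  simp only [listedOK, Bool.and_eq_true, List.all_eq_true, Nat.beq_eq, Nat.blt_eq] at h
  obtain ⟨⟨⟨⟨-, hlen⟩, hlt⟩, hasc⟩, hcan⟩ := h
  have hnd := nodup_of_ascending hasc
  have hsur : sorted.toFinset = Finset.range n := by
    refine Finset.eq_of_subset_of_card_le
      (fun i hi => Finset.mem_range.2 (hlt i (List.mem_toFinset.1 hi))) ?_
    rw [Finset.card_range, List.toFinset_card_of_nodup hnd.of_map, hlen]
  refine List.inj_on_of_nodup_map hnd (List.mem_toFinset.1 (hsur ▸ Finset.mem_range.2 hi))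
    (List.mem_toFinset.1 (hsur ▸ Finset.mem_range.2 hj)) ?_
  rw [← hcan i (List.mem_range.2 hi), ← hcan j (List.mem_range.2 hj)]
  exact hir.compP_idP hjr

/-- a group homomorphism from a listed group given by images of the elements and generators -/
theorem listed_hom {G : Type*} [Group G] (φ ψ : ℕ → G) (h0 : φ 0 = 1)
    (hstep : ∀ j < gens.length, ∀ i < n, φ (getT 16 (tbl.getD j []) i) = ψ j * φ i) :
    ∃ F : ↥(genGroup gens) →* G, ∀ (σ : ↥(genGroup gens)), ∀ i < n,
      Rep (σ : Equiv.Perm GolayPt) (el i) → F σ = φ i := by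
  have hc := fun σ : ↥(genGroup gens) => listed_complete h σ.2
  choose ix hix hrep using hc
  have huniq : ∀ (σ : ↥(genGroup gens)), ∀ i < n, Rep (σ : Equiv.Perm GolayPt) (el i) → ix σ = i :=
    fun σ i hi hr => listed_index_unique h (hix σ) hi (hrep σ) hr
  have hl := h
  simp only [listedOK, Bool.and_eq_true, List.all_eq_true, Nat.beq_eq, Nat.blt_eq] at hl
  obtain ⟨⟨⟨⟨⟨⟨⟨⟨⟨⟨hn, he0⟩, -⟩, hlen⟩, htbl⟩, -⟩, -⟩, -⟩, -⟩, -⟩, -⟩ := hl
  have key : ∀ x, x ∈ genGroup gens → ∀ (hx : x ∈ genGroup gens) (y : ↥(genGroup gens)),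
      φ (ix (⟨x, hx⟩ * y)) = φ (ix ⟨x, hx⟩) * φ (ix y) := by
    intro x hx'
    rw [genGroup, ← Subgroup.mem_toSubmonoid, Subgroup.closure_toSubmonoid_of_finite] at hx'
    induction hx' using Submonoid.closure_induction_left with
    | one =>
      intro hx y
      have e : (⟨1, hx⟩ : ↥(genGroup gens)) = 1 := rfl
      rw [e, one_mul, huniq 1 0 hn (by rw [he0]; exact rep_one), h0, one_mul]
    | mul_left a ha z hz ih =>
      intro hx y
      have haH : a ∈ genGroup gens := Subgroup.subset_closure ha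
      have hzH : z ∈ genGroup gens := by
        have := (genGroup gens).mul_mem ((genGroup gens).inv_mem haH) hx
        rwa [inv_mul_cancel_left] at this
      obtain ⟨-, b, hb, hab⟩ := ha
      obtain ⟨k, hk, rfl⟩ := List.mem_iff_getElem.1 hb
      have step : ∀ w : ↥(genGroup gens), φ (ix (⟨a, haH⟩ * w)) = ψ k * φ (ix w) := by
        intro w
        have hz' : k < (gens.zip tbl).length := by simp; omega
        have hm := List.getElem_mem hz'
        rw [List.getElem_zip] at hm
        obtain ⟨h1, h2⟩ := htbl _ hm (ix w) (List.mem_range.2 (hix w))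
        have hr : Rep ((⟨a, haH⟩ * w : ↥(genGroup gens)) : Equiv.Perm GolayPt)
            (el (getT 16 tbl[k] (ix w))) := h2 ▸ hab.mul (hrep w)
        rw [huniq _ _ h1 hr]
        have := hstep k hk (ix w) (hix w)
        rwa [List.getD_eq_getElem _ _ (by omega)] at this
      have e : (⟨a * z, hx⟩ : ↥(genGroup gens)) = ⟨a, haH⟩ * ⟨z, hzH⟩ := rfl
      rw [e, mul_assoc, step, step, ih hzH y, mul_assoc]
  refine ⟨MonoidHom.mk' (fun σ => φ (ix σ)) fun x y => key x.1 x.2 x.2 y, fun σ i hi hr => ?_⟩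
  show φ (ix σ) = φ i
  rw [huniq σ i hi hr]

/-- a listed group is isomorphic to a group of the same order receiving an injective table -/
theorem listed_iso {G : Type*} [Group G] [Finite G] (φ ψ : ℕ → G) (h0 : φ 0 = 1)
    (hstep : ∀ j < gens.length, ∀ i < n, φ (getT 16 (tbl.getD j []) i) = ψ j * φ i)
    (hinj : ∀ i < n, ∀ j < n, φ i = φ j → i = j) (hG : Nat.card G = n) :
    Nonempty (↥(genGroup gens) ≃* G) := by
  obtain ⟨F, hF⟩ := listed_hom h φ ψ h0 hstep
  have hFi : Function.Injective F := by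
    intro x y e
    obtain ⟨i, hi, hir⟩ := listed_complete h x.2
    obtain ⟨j, hj, hjr⟩ := listed_complete h y.2
    rw [hF x i hi hir, hF y j hj hjr] at e
    obtain rfl := hinj i hi j hj e
    exact Subtype.ext (hir.inj hjr)
  exact ⟨MulEquiv.ofBijective F ((Nat.bijective_iff_injective_and_card _).2
    ⟨hFi, by rw [hG, natCard_genGroup h]⟩)⟩

end

end CfsgLib.Spor
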