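import Cfsg.Agent.Lib.Spor.OrbitBases
import Cfsg.Agent.Lib.Spor.ListedTools
import Cfsg.Agent.Lib.Spor.Orb.DodTriple
import Cfsg.Agent.Lib.Spor.Orb.DodPt
import Cfsg.Agent.Lib.Spor.Orb.DodPt1
import Cfsg.Agent.Lib.Spor.Orb.DodPt2
import Cfsg.Agent.Lib.Spor.Orb.DodPt3
import Cfsg.Agent.Lib.Spor.Orb.TransDod
import Mathlib.GroupTheory.SpecificGroups.Quaternion

/-!
The stabiliser of a dodecad and three of its points.
-/

set_option autoImplicit false
set_option maxRecDepth 100000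

namespace CfsgLib.Spor

open Cfsg
open scoped Pointwise

theorem dodTri_gens : (dodTriGens.all fun a =>
    ([getT 24 dodTbl 0, 2 ^ 0, 2 ^ 2, 2 ^ 3] : List ℕ).all fun m => Nat.beq (actP a m) m) = true := by
  decide +kernel

theorem dodTriple_iso (d : Finset GolayPt) (hd : d ∈ dodecads) (p q r : GolayPt) (hp : p ∈ d)
    (hq : q ∈ d) (hr : r ∈ d) (hpq : p ≠ q) (hpr : p ≠ r) (hqr : q ≠ r) :
    Nonempty (↥(MulAction.stabilizer ↥M24 d ⊓ MulAction.stabilizer ↥M24 p ⊓
      MulAction.stabilizer ↥M24 q ⊓ MulAction.stabilizer ↥M24 r) ≃* ↥(genGroup dodTriGens)) := by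
  obtain ⟨⟨g0, hg0⟩, hd0⟩ := dodK.exists_trans transDod_ok (dodK.ix.mem 0 (by decide +kernel)) hd
  change g0 • toSet (getT 24 dodTbl 0) = d at hd0
  have step : ∀ {ms gens : List ℕ} {cls : List (ℕ × List (ℕ × ℕ × ℕ))} {g : Equiv.Perm GolayPt},
      ptK.splitOK (singles ms) gens cls = true → g ∈ M24 → ∀ (i : ℕ) (z : GolayPt), i < 24 →
      meetsAt g ms {z} = (ms.map fun a => pop (a &&& 2 ^ i)) →
      ∃ g' ∈ M24, (∀ a ∈ ms, g' • toSet a = g • toSet a) ∧ g' • toSet (2 ^ i) = {z} := by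
    intro ms gens cls g h hg i z hi e
    obtain ⟨g', h1, h2, h3, -⟩ := ptK.exists_base_step (mk := fun x => {x}) ptK_fam h hg hi
      (ptK_mask i hi) (Set.mem_univ z) e
    exact ⟨g', h1, h2, h3⟩
  have hne : ∀ {a b : GolayPt}, a ≠ b → ((({a} : Finset GolayPt) ∩ {b}).card = 0) := fun hab =>
    (card_pt_inter_zero _ _).2 (by simpa using hab)
  have hin : ∀ {z : GolayPt}, z ∈ d → (d ∩ {z}).card = 1 := fun hz => by
    rw [Finset.inter_singleton_of_mem hz, Finset.card_singleton]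
  obtain ⟨g1, hg1, f1, hp1⟩ := step (ms := [getT 24 dodTbl 0]) (gens := dodPtGens) (cls := dodPtCls)
    (by rw [show singles [getT 24 dodTbl 0] = dodPtL by decide +kernel]; exact dodPt_ok) hg0 0 p
    (by norm_num) (by simp only [meetsAt, List.map_cons, List.map_nil, hd0, hin hp]; decide +kernel)
  have hd1 : g1 • toSet (getT 24 dodTbl 0) = d := (f1 _ (by simp)).trans hd0
  obtain ⟨g2, hg2, f2, hq2⟩ := step (ms := [getT 24 dodTbl 0, 2 ^ 0]) (gens := dodPt1Gens) (cls := dodPt1Cls)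
    (by rw [show singles [getT 24 dodTbl 0, 2 ^ 0] = dodPt1L by decide +kernel]; exact dodPt1_ok) hg1 2 q
    (by norm_num) (by
      simp only [meetsAt, List.map_cons, List.map_nil, hd1, hp1, hin hq, hne hpq]; decide +kernel)
  have hd2 : g2 • toSet (getT 24 dodTbl 0) = d := (f2 _ (by simp)).trans hd1
  have hp2 : g2 • toSet (2 ^ 0) = {p} := (f2 _ (by simp)).trans hp1
  obtain ⟨g3, hg3, f3, hr3⟩ := step (ms := [getT 24 dodTbl 0, 2 ^ 0, 2 ^ 2]) (gens := dodPt2Gens) (cls := dodPt2Cls)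
    (by rw [show singles [getT 24 dodTbl 0, 2 ^ 0, 2 ^ 2] = dodPt2L by decide +kernel]; exact dodPt2_ok) hg2 3 r
    (by norm_num) (by
      simp only [meetsAt, List.map_cons, List.map_nil, hd2, hp2, hq2, hin hr, hne hpr, hne hqr]
      decide +kernel)
  have hd3 : g3 • toSet (getT 24 dodTbl 0) = d := (f3 _ (by simp)).trans hd2
  have hp3 : g3 • toSet (2 ^ 0) = {p} := (f3 _ (by simp)).trans hp2
  have hq3 : g3 • toSet (2 ^ 2) = {q} := (f3 _ (by simp)).trans hq2
  set H₁ := MulAction.stabilizer ↥M24 d ⊓ MulAction.stabilizer ↥M24 p with hH1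
  set H₂ := H₁ ⊓ MulAction.stabilizer ↥M24 q with hH2
  set H₃ := H₂ ⊓ MulAction.stabilizer ↥M24 r
  have hpt : ∀ (m : ↥M24) (z : GolayPt),
      (m : Equiv.Perm GolayPt) • ({z} : Finset GolayPt) = {z} ↔ m ∈ MulAction.stabilizer ↥M24 z :=
    fun m z => smul_pt_eq_iff _ z
  have m1 : ∀ m : ↥M24, m ∈ H₁ ↔ ∀ a ∈ [getT 24 dodTbl 0, 2 ^ 0],
      (m : Equiv.Perm GolayPt) • (g1 • toSet a) = g1 • toSet a := fun m => by
    simp only [List.forall_mem_cons, List.not_mem_nil, IsEmpty.forall_iff, implies_true, and_true,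
      hd1, hp1, hpt, hH1, Subgroup.mem_inf]
    exact Iff.rfl
  have m2 : ∀ m : ↥M24, m ∈ H₂ ↔ ∀ a ∈ [getT 24 dodTbl 0, 2 ^ 0, 2 ^ 2],
      (m : Equiv.Perm GolayPt) • (g2 • toSet a) = g2 • toSet a := fun m => by
    simp only [List.forall_mem_cons, List.not_mem_nil, IsEmpty.forall_iff, implies_true, and_true,
      hd2, hp2, hq2, hpt, hH2, hH1, Subgroup.mem_inf, and_assoc]
    exact Iff.rfl
  have m3 : ∀ m : ↥M24, m ∈ H₃ ↔ ∀ a ∈ [getT 24 dodTbl 0, 2 ^ 0, 2 ^ 2, 2 ^ 3],
      (m : Equiv.Perm GolayPt) • (g3 • toSet a) = g3 • toSet a := fun m => by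
    simp only [List.forall_mem_cons, List.not_mem_nil, IsEmpty.forall_iff, implies_true, and_true,
      hd3, hp3, hq3, hr3, hpt, H₃, hH2, hH1, Subgroup.mem_inf, and_assoc]
    exact Iff.rfl
  have c1 : Nat.card H₁ = 7920 := natCard_stab_dodecad_point hd hp
  have o2 : (MulAction.orbit H₁ q).ncard = 11 := by
    rw [ptK.orbit_eq_meets (mk := fun x => {x}) ptK_fam (ms := [getT 24 dodTbl 0, 2 ^ 0])
      (by rw [show singles [getT 24 dodTbl 0, 2 ^ 0] = dodPt1L by decide +kernel]; exact dodPt1_ok)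
      hg1 m1 (Set.mem_univ q), ptK.ncard_meets (mk := fun x => {x}) ptK_fam ptK_mask _ _ hg1]
    simp only [meetsAt, List.map_cons, List.map_nil, hd1, hp1, hin hq, hne hpq]
    decide +kernel
  have o3 : (MulAction.orbit H₂ r).ncard = 10 := by
    rw [ptK.orbit_eq_meets (mk := fun x => {x}) ptK_fam (ms := [getT 24 dodTbl 0, 2 ^ 0, 2 ^ 2])
      (by rw [show singles [getT 24 dodTbl 0, 2 ^ 0, 2 ^ 2] = dodPt2L by decide +kernel]; exact dodPt2_ok)
      hg2 m2 (Set.mem_univ r), ptK.ncard_meets (mk := fun x => {x}) ptK_fam ptK_mask _ _ hg2]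
    simp only [meetsAt, List.map_cons, List.map_nil, hd2, hp2, hq2, hin hr, hne hpr, hne hqr]
    decide +kernel
  have hcard : Nat.card H₃ = 72 := by
    have e2 := natCard_inf_stabilizer H₁ q
    rw [o2, c1, ← hH2] at e2
    have e3 := natCard_inf_stabilizer H₂ r
    rw [o3] at e3
    have e3' : Nat.card H₃ * 10 = Nat.card H₂ := e3
    omega
  let f : ↥(genGroup dodTriGens) →* ↥M24 :=
    { toFun := fun x => ⟨g3 * x.1 * g3⁻¹, mul_mem (mul_mem hg3 (genGroup_le _ x.2)) (inv_mem hg3)⟩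
      map_one' := Subtype.ext (by simp)
      map_mul' := fun x y => Subtype.ext (by simp [mul_assoc]) }
  have hle : genGroup dodTriGens ≤ ⨅ a ∈ ([getT 24 dodTbl 0, 2 ^ 0, 2 ^ 2, 2 ^ 3] : List ℕ),
      MulAction.stabilizer (Equiv.Perm GolayPt) (toSet a) := by
    rw [genGroup, Subgroup.closure_le]
    rintro σ ⟨-, a, ha, hσr⟩
    simp only [SetLike.mem_coe, Subgroup.mem_iInf, MulAction.mem_stabilizer_iff]
    intro m hm
    have h := List.all_eq_true.1 (List.all_eq_true.1 dodTri_gens a ha) m hm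
    rw [← hσr.toSet_actP, Nat.beq_eq.mp h]
  have hf : ∀ x, f x ∈ H₃ := fun x => (m3 _).2 fun a ha => by
    show (g3 * x.1 * g3⁻¹) • (g3 • toSet a) = g3 • toSet a
    rw [mul_smul, mul_smul, inv_smul_smul]
    have h := hle x.2
    simp only [Subgroup.mem_iInf] at h
    rw [MulAction.mem_stabilizer_iff.1 (h a ha)]
  let f' : ↥(genGroup dodTriGens) →* ↥H₃ := f.codRestrict H₃ hf
  have hinj : Function.Injective f' := fun x y h => by
    have h2 := congrArg (fun m : ↥H₃ => ((m : ↥M24) : Equiv.Perm GolayPt)) h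
    exact Subtype.ext (mul_left_cancel (mul_right_cancel h2))
  exact ⟨(MulEquiv.ofBijective f' ((Nat.bijective_iff_injective_and_card _).2
    ⟨hinj, by rw [hcard, natCard_genGroup dodTri_listed]⟩)).symm⟩

/-- the indices of the elements killed by nine -/
def dodTriNine : List ℕ :=
  (List.range 72).filter fun i => Nat.beq (compP idP (powP (getT 120 dodTriTbl i) 9)) idP

/-- quaternion element from coordinates -/
def quatOf (e : ℕ × ℕ) : QuaternionGroup 2 :=
  if e.1 = 0 then QuaternionGroup.a (e.2 : ZMod 4) else QuaternionGroup.xa (e.2 : ZMod 4)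

theorem dodTri_facts : dodTriNine.length = 9 ∧
    (dodTriNine.all fun i => Nat.beq (compP idP (powP (getT 120 dodTriTbl i) 3)) idP) = true ∧
    ((List.range 8).all fun i => dodQuatGens.length == 2 &&
      (List.range 72).any fun j => Nat.beq (getT 120 dodQuatTbl i) (getT 120 dodTriTbl j)) = true := by
  decide +kernel

theorem dodQuat_step : quatOf (dodQuatLab.getD 0 (0, 0)) = 1 ∧
    (∀ j < dodQuatGens.length, ∀ i < 8,
      quatOf (dodQuatLab.getD (getT 16 (dodQuatRows.getD j []) i) (0, 0)) =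
        quatOf (dodQuatGenLab.getD j (0, 0)) * quatOf (dodQuatLab.getD i (0, 0))) ∧
    (∀ i < 8, ∀ j < 8, quatOf (dodQuatLab.getD i (0, 0)) = quatOf (dodQuatLab.getD j (0, 0)) → i = j) := by
  decide +kernel

theorem dodQuat_iso : Nonempty (↥(genGroup dodQuatGens) ≃* QuaternionGroup 2) :=
  listed_iso dodQuat_listed (fun i => quatOf (dodQuatLab.getD i (0, 0)))
    (fun j => quatOf (dodQuatGenLab.getD j (0, 0))) dodQuat_step.1 dodQuat_step.2.1 dodQuat_step.2.2
    (by rw [Nat.card_eq_fintype_card, QuaternionGroup.card])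

theorem dodQuat_le : genGroup dodQuatGens ≤ genGroup dodTriGens := by
  intro x hx
  obtain ⟨i, hi, hxr⟩ := listed_complete dodQuat_listed hx
  have h := List.all_eq_true.1 dodTri_facts.2.2 i (List.mem_range.2 hi)
  simp only [Bool.and_eq_true, List.any_eq_true, List.mem_range, Nat.beq_eq] at h
  obtain ⟨-, j, hj, e⟩ := h
  obtain ⟨y, hy, hyr⟩ := listed_mem dodTri_listed hj
  rw [e] at hxr
  exact hxr.inj hyr ▸ hy

theorem compP_idP_eq_of_one {σ : Equiv.Perm GolayPt} {a : ℕ} (h : Rep σ a) :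
    Nat.beq (compP idP a) idP = true ↔ σ = 1 := by
  rw [Nat.beq_eq]
  constructor
  · intro e
    have h1 : Rep (1 * σ) (compP idP a) := (rep_one : Rep 1 idP).mul h
    rw [e, one_mul] at h1
    exact h1.inj rep_one
  · rintro rfl
    rw [h.compP_idP rep_one]
    decide +kernel

theorem dodTri_nine : Nat.card {x : ↥(genGroup dodTriGens) // x ^ 9 = 1} = 9 ∧
    ∀ x : ↥(genGroup dodTriGens), x ^ 9 = 1 → x ^ 3 = 1 := by
  obtain ⟨hlen, hthree, -⟩ := dodTri_facts
  have hcases : ∀ x : ↥(genGroup dodTriGens), x ^ 9 = 1 →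
      ∃ i ∈ dodTriNine, Rep x.1 (getT 120 dodTriTbl i) := by
    intro x hx
    obtain ⟨i, hi, hxr⟩ := listed_complete dodTri_listed x.2
    exact ⟨i, List.mem_filter.2 ⟨List.mem_range.2 hi, (compP_idP_eq_of_one (hxr.pow 9)).2
      (congrArg Subtype.val hx)⟩, hxr⟩
  refine ⟨?_, fun x hx => ?_⟩
  · choose ix hix hrep using hcases
    rw [Nat.card_congr (Equiv.ofBijective
      (fun x : {x : ↥(genGroup dodTriGens) // x ^ 9 = 1} =>
        (⟨ix x.1 x.2, List.mem_toFinset.2 (hix _ _)⟩ : ↥dodTriNine.toFinset)) ⟨?_, ?_⟩),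
      Nat.card_eq_fintype_card, Fintype.card_coe, List.toFinset_card_of_nodup, hlen]
    · exact List.nodup_range.filter _
    · intro a b e
      have e' : ix a.1 a.2 = ix b.1 b.2 := congrArg Subtype.val e
      exact Subtype.ext (Subtype.ext ((hrep _ a.2).inj (e' ▸ hrep _ b.2)))
    · rintro ⟨i, hi⟩
      obtain ⟨hi1, hi2⟩ := List.mem_filter.1 (List.mem_toFinset.1 hi)
      rw [List.mem_range] at hi1
      obtain ⟨σ, hσ, hσr⟩ := listed_mem dodTri_listed hi1
      have hx : (⟨σ, hσ⟩ : ↥(genGroup dodTriGens)) ^ 9 = 1 :=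
        Subtype.ext ((compP_idP_eq_of_one (hσr.pow 9)).1 hi2)
      refine ⟨⟨_, hx⟩, Subtype.ext ?_⟩
      exact listed_index_unique dodTri_listed (List.mem_range.1 (List.mem_filter.1 (hix _ hx)).1) hi1
        (hrep _ hx) hσr
  · obtain ⟨i, hi, hxr⟩ := hcases x hx
    exact Subtype.ext ((compP_idP_eq_of_one (hxr.pow 3)).1 (List.all_eq_true.1 hthree i hi))

theorem dodTriple_sylow {K : Type*} [Group K] (e : K ≃* ↥(genGroup dodTriGens)) :
    (∀ Q : Sylow 3 K, (Q : Subgroup K).Normal ∧ Nat.card ↥Q = 9 ∧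
      ∀ x ∈ (Q : Subgroup K), x ^ 3 = 1) ∧
    ∀ P : Sylow 2 K, Nonempty (↥P ≃* QuaternionGroup 2) := by
  haveI : Fact (Nat.Prime 3) := ⟨Nat.prime_three⟩
  haveI : Fact (Nat.Prime 2) := ⟨Nat.prime_two⟩
  haveI : Finite K := Finite.of_equiv _ e.symm.toEquiv
  have hK : Nat.card K = 72 := by rw [Nat.card_congr e.toEquiv, natCard_genGroup dodTri_listed]
  have hf3 : (Nat.card K).factorization 3 = 2 := by
    rw [hK, show 72 = 3 ^ 2 * 8 from rfl, Nat.factorization_mul (by norm_num) (by norm_num),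
      Finsupp.add_apply, Nat.prime_three.factorization_pow, Finsupp.single_eq_same,
      Nat.factorization_eq_zero_of_not_dvd (by norm_num)]
  have hf2 : (Nat.card K).factorization 2 = 3 := by
    rw [hK, show 72 = 2 ^ 3 * 9 from rfl, Nat.factorization_mul (by norm_num) (by norm_num),
      Finsupp.add_apply, Nat.prime_two.factorization_pow, Finsupp.single_eq_same,
      Nat.factorization_eq_zero_of_not_dvd (by norm_num)]
  obtain ⟨h9, h3⟩ := dodTri_nine
  have hT : Set.ncard {x : K | x ^ 9 = 1} = 9 := by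
    refine (Nat.card_coe_set_eq _).symm.trans (Eq.trans ?_ h9)
    refine Nat.card_congr (Equiv.subtypeEquiv e.toEquiv fun x => ?_)
    show x ^ 9 = 1 ↔ e x ^ 9 = 1
    rw [← map_pow, EmbeddingLike.map_eq_one_iff]
  refine ⟨fun Q => ?_, fun P => ?_⟩
  · have hc : ∀ R : Sylow 3 K, Nat.card (R : Subgroup K) = 9 := fun R => by
      rw [R.card_eq_multiplicity, hf3]; norm_num
    have hset : ∀ R : Sylow 3 K, ((R : Subgroup K) : Set K) = {x : K | x ^ 9 = 1} := fun R => by
      refine Set.eq_of_subset_of_ncard_le (fun x hx => ?_) ?_ (Set.toFinite _)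
      · have h := pow_card_eq_one' (G := ↥(R : Subgroup K)) (x := ⟨x, hx⟩)
        rw [hc R] at h
        exact congrArg Subtype.val h
      · rw [hT, ← Nat.card_coe_set_eq]
        exact (hc R).ge
    refine ⟨⟨fun x hx g => ?_⟩, hc Q, fun x hx => ?_⟩
    · have hx' : x ^ 9 = 1 := (Set.ext_iff.1 (hset Q) x).1 hx
      refine (Set.ext_iff.1 (hset Q) _).2 ?_
      show (g * x * g⁻¹) ^ 9 = 1
      rw [conj_pow, hx', mul_one, mul_inv_cancel]
    · have hx' : x ^ 9 = 1 := (Set.ext_iff.1 (hset Q) x).1 hx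
      have h := h3 (e x) (by rw [← map_pow, hx', map_one])
      rwa [← map_pow, EmbeddingLike.map_eq_one_iff] at h
  · let W : Subgroup K := ((genGroup dodQuatGens).subgroupOf (genGroup dodTriGens)).map e.symm.toMonoidHom
    have eW : ↥W ≃* ↥(genGroup dodQuatGens) :=
      (e.symm.subgroupMap _).symm.trans (Subgroup.subgroupOfEquivOfLe dodQuat_le)
    let W' : Sylow 2 K := Sylow.ofCard W (by
      rw [Nat.card_congr eW.toEquiv, natCard_genGroup dodQuat_listed, hf2]; norm_num)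
    obtain ⟨w⟩ := dodQuat_iso
    exact ⟨((Sylow.equiv P W').trans eW).trans w⟩

end CfsgLib.Spor
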