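import Cfsg.Agent.Lib.Spor.DodecadSub
import Cfsg.Agent.Lib.Classical.P1
import Cfsg.Agent.Lib.Small.PSLPrimes

/-!
The stabiliser of a dodecad, a point of it and a point outside is `PSL(2, 11)`: it permutes twelve
half classes of its elements of order eleven as `PSL(2, 11)` permutes the projective line.
-/

set_option autoImplicit false
set_option maxRecDepth 100000

namespace CfsgLib.Spor

open Cfsg
open scoped Pointwise LinearAlgebra.Projectivization

instance fact_eleven_prime : Fact (Nat.Prime 11) := ⟨by norm_num⟩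

/-- the index of the line through a vector: the slope, or `11` for infinity -/
def lineIdx (w : Fin 2 → ZMod 11) : ℕ := if w 1 = 0 then 11 else (w 0 * (w 1) ^ 9).val

/-- the labelled half class -/
def lineObj (k : ℕ) : Finset (Finset (GolayPt × GolayPt)) :=
  ((elevenPts.getD k []).map packGraph).toFinset

/-- a packed permutation carries one half class to another -/
def carries (a i j : ℕ) : Bool :=
  Nat.beq (elevenPts.getD i []).length (elevenPts.getD j []).length &&
    (elevenPts.getD i []).all fun x => (elevenPts.getD j []).any fun y =>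
      Nat.beq (compP a x) (compP y a)

theorem elevenPts_ok : elevenPts.length = 12 ∧
    (elevenPts.all fun l => l.all isPermP && distinctP l && Nat.beq l.length 5) = true ∧
    elevenPts.flatten.Nodup ∧ distinctP elevenPts.flatten = true := by decide +kernel

theorem packGraph_inj {a b : ℕ} {σ τ : Equiv.Perm GolayPt} (ha : Rep σ a) (hb : Rep τ b)
    (h : packGraph a = packGraph b) : σ = τ := by
  rw [ha.packGraph_eq, hb.packGraph_eq] at h
  refine Equiv.ext fun p => ?_
  have hp : (p, σ p) ∈ Finset.univ.image fun p => (p, τ p) := by rw [← h]; simp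
  simp only [Finset.mem_image, Finset.mem_univ, true_and, Prod.mk.injEq] at hp
  obtain ⟨x, rfl, e⟩ := hp
  exact e.symm

theorem mem_flatten_getD {k x : ℕ} (hk : k < 12) (hx : x ∈ elevenPts.getD k []) :
    x ∈ elevenPts.flatten := by
  rw [List.getD_eq_getElem _ _ (by rw [elevenPts_ok.1]; exact hk)] at hx
  exact List.mem_flatten.2 ⟨_, List.getElem_mem _, hx⟩

theorem packGraph_injOn : ∀ x ∈ elevenPts.flatten, ∀ y ∈ elevenPts.flatten,
    packGraph x = packGraph y → x = y := by
  intro x hx y hy h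
  have hperm : ∀ z ∈ elevenPts.flatten, isPermP z = true := by
    intro z hz
    obtain ⟨l, hl, hzl⟩ := List.mem_flatten.1 hz
    have := List.all_eq_true.1 elevenPts_ok.2.1 l hl
    simp only [Bool.and_eq_true, List.all_eq_true] at this
    exact this.1.1 z hzl
  obtain ⟨σ, hσ⟩ := exists_rep (hperm x hx)
  obtain ⟨τ, hτ⟩ := exists_rep (hperm y hy)
  obtain rfl := packGraph_inj hσ hτ h
  exact distinctP_inj elevenPts_ok.2.2.2 hx hy hσ hτ

theorem card_lineObj {k : ℕ} (hk : k < 12) : (lineObj k).card = 5 := by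
  have hl : elevenPts.getD k [] ∈ elevenPts := by
    rw [List.getD_eq_getElem _ _ (by rw [elevenPts_ok.1]; exact hk)]; exact List.getElem_mem _
  have h := List.all_eq_true.1 elevenPts_ok.2.1 _ hl
  simp only [Bool.and_eq_true, Nat.beq_eq] at h
  have hnd : (elevenPts.getD k []).Nodup :=
    ((List.nodup_flatten.1 elevenPts_ok.2.2.1).1 _ hl)
  rw [lineObj, List.toFinset_card_of_nodup, List.length_map, h.2]
  exact hnd.map_on fun x hx y hy e =>
    packGraph_injOn x (mem_flatten_getD hk hx) y (mem_flatten_getD hk hy) e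

theorem lineObj_inj {i j : ℕ} (hi : i < 12) (hj : j < 12) (h : lineObj i = lineObj j) : i = j := by
  obtain ⟨g, hg⟩ : ∃ g, g ∈ lineObj i := Finset.card_pos.1 (by rw [card_lineObj hi]; norm_num)
  obtain ⟨x, hx, rfl⟩ := List.mem_map.1 (List.mem_toFinset.1 hg)
  have hg' : packGraph x ∈ lineObj j := h ▸ hg
  obtain ⟨y, hy, e⟩ := List.mem_map.1 (List.mem_toFinset.1 hg')
  obtain rfl := packGraph_injOn y (mem_flatten_getD hj hy) x (mem_flatten_getD hi hx) e
  by_contra hne
  have hd := (List.nodup_flatten.1 elevenPts_ok.2.2.1).2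
  have hlen := elevenPts_ok.1
  rw [List.getD_eq_getElem _ _ (by omega)] at hx hy
  rcases Nat.lt_or_gt_of_ne hne with hlt | hlt
  · exact List.pairwise_iff_getElem.1 hd i j (by omega) (by omega) hlt hx hy
  · exact List.pairwise_iff_getElem.1 hd j i (by omega) (by omega) hlt hy hx

theorem Rep.smul_lineObj {σ : Equiv.Perm GolayPt} {a i j : ℕ} (hσ : Rep σ a) (hi : i < 12)
    (hj : j < 12) (h : carries a i j = true) : σ • lineObj i = lineObj j := by
  simp only [carries, Bool.and_eq_true, List.all_eq_true, List.any_eq_true, Nat.beq_eq] at h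
  refine Finset.eq_of_subset_of_card_le ?_ (by
    rw [Finset.card_smul_finset, card_lineObj hi, card_lineObj hj])
  intro z hz
  obtain ⟨z', hz', rfl⟩ := Finset.mem_smul_finset.1 hz
  obtain ⟨x, hx, rfl⟩ := List.mem_map.1 (List.mem_toFinset.1 hz')
  obtain ⟨y, hy, e⟩ := h.2 x hx
  have hperm : ∀ w ∈ elevenPts.flatten, isPermP w = true := by
    intro w hw
    obtain ⟨l, hl, hwl⟩ := List.mem_flatten.1 hw
    have := List.all_eq_true.1 elevenPts_ok.2.1 l hl
    simp only [Bool.and_eq_true, List.all_eq_true] at this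
    exact this.1.1 w hwl
  obtain ⟨ρ, hρ⟩ := exists_rep (hperm x (mem_flatten_getD hi hx))
  obtain ⟨ρ', hρ'⟩ := exists_rep (hperm y (mem_flatten_getD hj hy))
  rw [smul_packGraph hσ hρ hρ' e]
  exact List.mem_toFinset.2 (List.mem_map.2 ⟨y, hy, rfl⟩)

/-- the twelve vectors chosen on the lines -/
def lineRep (k : ℕ) : Fin 2 → ZMod 11 := if k = 11 then ![1, 0] else ![(k : ZMod 11), 1]

theorem lineIdx_spec : (∀ w : Fin 2 → ZMod 11, lineIdx w < 12) ∧
    (∀ w : Fin 2 → ZMod 11, w ≠ 0 → ∃ c : ZMod 11, w = c • lineRep (lineIdx w)) ∧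
    (∀ w : Fin 2 → ZMod 11, ∀ c : ZMod 11, c ≠ 0 → lineIdx (c • w) = lineIdx w) := by
  decide +kernel

/-- the transvections -/
def transUp (s : ZMod 11) : Matrix (Fin 2) (Fin 2) (ZMod 11) := !![1, s; 0, 1]

/-- the transposed transvections -/
def transDown (s : ZMod 11) : Matrix (Fin 2) (Fin 2) (ZMod 11) := !![1, 0; s, 1]

theorem eleven_gens_ok :
    (∀ s : ZMod 11, baseOK (elevenUp.getD s.val 0) = true ∧
      getP (elevenUp.getD s.val 0) (elevenOut.getD 0 0) = elevenOut.getD 0 0 ∧
      ∀ k : Fin 12, carries (elevenUp.getD s.val 0) k.val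
        (lineIdx ((transUp s).mulVec (lineRep k.val))) = true) ∧
    (∀ s : ZMod 11, baseOK (elevenDown.getD s.val 0) = true ∧
      getP (elevenDown.getD s.val 0) (elevenOut.getD 0 0) = elevenOut.getD 0 0 ∧
      ∀ k : Fin 12, carries (elevenDown.getD s.val 0) k.val
        (lineIdx ((transDown s).mulVec (lineRep k.val))) = true) ∧
    elevenOut.getD 0 0 < 24 := by decide +kernel

/-- transvections generate -/
theorem sl_two_closure {F : Type*} [Field F] (P : Subgroup (Matrix.SpecialLinearGroup (Fin 2) F))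
    (hu : ∀ g : Matrix.SpecialLinearGroup (Fin 2) F, g.1 0 0 = 1 → g.1 1 0 = 0 → g.1 1 1 = 1 → g ∈ P)
    (hl : ∀ g : Matrix.SpecialLinearGroup (Fin 2) F, g.1 0 0 = 1 → g.1 0 1 = 0 → g.1 1 1 = 1 → g ∈ P) :
    P = ⊤ := by
  rw [eq_top_iff]
  intro g _
  have hdet := g.2
  rw [Matrix.det_fin_two] at hdet
  have key : ∀ g : Matrix.SpecialLinearGroup (Fin 2) F, g.1 1 0 ≠ 0 → g ∈ P := by
    intro g hc
    have hdet := g.2
    rw [Matrix.det_fin_two] at hdet
    let x : Matrix.SpecialLinearGroup (Fin 2) F :=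
      ⟨!![1, (g.1 0 0 - 1) / g.1 1 0; 0, 1], by simp [Matrix.det_fin_two]⟩
    let y : Matrix.SpecialLinearGroup (Fin 2) F :=
      ⟨!![1, 0; g.1 1 0, 1], by simp [Matrix.det_fin_two]⟩
    let z : Matrix.SpecialLinearGroup (Fin 2) F :=
      ⟨!![1, (g.1 1 1 - 1) / g.1 1 0; 0, 1], by simp [Matrix.det_fin_two]⟩
    have e : g = x * y * z := by
      apply Subtype.ext
      rw [Matrix.SpecialLinearGroup.coe_mul, Matrix.SpecialLinearGroup.coe_mul]
      ext i j
      fin_cases i <;> fin_cases j <;>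
        simp [x, y, z, Matrix.mul_apply, Fin.sum_univ_two] <;> field_simp <;>
          first | ring1 | linear_combination hdet | linear_combination -hdet
    rw [e]
    exact mul_mem (mul_mem (hu x (by simp [x]) (by simp [x]) (by simp [x]))
      (hl y (by simp [y]) (by simp [y]) (by simp [y])))
      (hu z (by simp [z]) (by simp [z]) (by simp [z]))
  by_cases hc : g.1 1 0 = 0
  · let y : Matrix.SpecialLinearGroup (Fin 2) F := ⟨!![1, 0; 1, 1], by simp [Matrix.det_fin_two]⟩
    have hy : y ∈ P := hl y (by simp [y]) (by simp [y]) (by simp [y])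
    have : y * g ∈ P := key _ (by
      rw [Matrix.SpecialLinearGroup.coe_mul]
      simp [y, Matrix.mul_apply, Fin.sum_univ_two, hc]
      intro h0
      rw [h0, hc] at hdet
      simp at hdet)
    simpa using mul_mem (inv_mem hy) this
  · exact key g hc

/-- the half class of a point of the line -/
noncomputable def projObj (v : ℙ (ZMod 11) (Fin 2 → ZMod 11)) : Finset (Finset (GolayPt × GolayPt)) :=
  lineObj (lineIdx v.rep)

theorem lineIdx_rep (w : Fin 2 → ZMod 11) (hw : w ≠ 0) :
    lineIdx (Projectivization.mk (ZMod 11) w hw).rep = lineIdx w := by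
  obtain ⟨c, hc⟩ := Projectivization.exists_smul_eq_mk_rep (ZMod 11) w hw
  rw [← hc]
  exact lineIdx_spec.2.2 w (c : ZMod 11) c.ne_zero

theorem projObj_injective : Function.Injective projObj := by
  intro u v h
  have e := lineObj_inj (lineIdx_spec.1 _) (lineIdx_spec.1 _) h
  obtain ⟨c, hc⟩ := lineIdx_spec.2.1 _ u.rep_nonzero
  obtain ⟨c', hc'⟩ := lineIdx_spec.2.1 _ v.rep_nonzero
  rw [e] at hc
  rw [← u.mk_rep, ← v.mk_rep, Projectivization.mk_eq_mk_iff']
  have hc'0 : c' ≠ 0 := by rintro rfl; exact v.rep_nonzero (by rw [hc', zero_smul])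
  refine ⟨c * c'⁻¹, ?_⟩
  conv_lhs => rw [hc']
  rw [smul_smul, inv_mul_cancel_right₀ hc'0, ← hc]

theorem sl_smul_projObj {a : ℕ} {σ : Equiv.Perm GolayPt} (hσ : Rep σ a)
    (g : Matrix.SpecialLinearGroup (Fin 2) (ZMod 11)) {M : Matrix (Fin 2) (Fin 2) (ZMod 11)}
    (hM : g.1 = M) (h : ∀ k : Fin 12, carries a k.val (lineIdx (M.mulVec (lineRep k.val))) = true)
    (v : ℙ (ZMod 11) (Fin 2 → ZMod 11)) : σ • projObj v = projObj (g • v) := by
  obtain ⟨c, hc⟩ := lineIdx_spec.2.1 _ v.rep_nonzero
  have hgv : g • v = g • Projectivization.mk (ZMod 11) v.rep v.rep_nonzero := by rw [v.mk_rep]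
  have hne : g • v.rep ≠ 0 := fun h => v.rep_nonzero (by simpa using congrArg (g⁻¹ • ·) h)
  have hsm : g • Projectivization.mk (ZMod 11) v.rep v.rep_nonzero
      = Projectivization.mk (ZMod 11) (g • v.rep) hne := rfl
  unfold projObj
  rw [hgv, hsm, lineIdx_rep _ hne]
  have hc0 : c ≠ 0 := by rintro rfl; exact v.rep_nonzero (by rw [hc, zero_smul])
  have e : lineIdx (g • v.rep) = lineIdx (M.mulVec (lineRep (lineIdx v.rep))) := by
    show lineIdx (g.1.mulVec v.rep) = _
    conv_lhs => rw [hM, hc, Matrix.mulVec_smul]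
    exact lineIdx_spec.2.2 _ c hc0
  rw [e]
  exact hσ.smul_lineObj (lineIdx_spec.1 _) (lineIdx_spec.1 _) (h ⟨_, lineIdx_spec.1 _⟩)

theorem eleven_iso : Nonempty (↥(dodPtStab dod0 (pt 0) ⊓ MulAction.stabilizer M24 outA) ≃*
    Matrix.ProjectiveSpecialLinearGroup (Fin 2) (ZMod 11)) := by
  classical
  set K := dodPtStab dod0 (pt 0) ⊓ MulAction.stabilizer M24 outA
  let ρ := Projectivization.PSLAction.toPermHom (ι := Fin 2) (K := ZMod 11)
  have hρ : Function.Injective ρ := Matrix.ProjectiveSpecialLinearGroup.toPermHom_injective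
  let M := equivarSub (G := ↥M24) projObj ρ
  let π : Matrix.SpecialLinearGroup (Fin 2) (ZMod 11) →*
      Matrix.ProjectiveSpecialLinearGroup (Fin 2) (ZMod 11) := QuotientGroup.mk' _
  have himg : ∀ g : Matrix.SpecialLinearGroup (Fin 2) (ZMod 11),
      ∃ k ∈ K, ∀ v, k • projObj v = projObj (ρ (π g) v) := by
    let P : Subgroup (Matrix.SpecialLinearGroup (Fin 2) (ZMod 11)) :=
      { carrier := {g | ∃ k ∈ K, ∀ v, k • projObj v = projObj (ρ (π g) v)}
        one_mem' := ⟨1, one_mem _, fun v => by simp⟩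
        mul_mem' := by
          rintro g h ⟨k, hk, hk'⟩ ⟨l, hl, hl'⟩
          exact ⟨k * l, mul_mem hk hl, fun v => by
            rw [mul_smul, hl', hk', map_mul, map_mul, Equiv.Perm.mul_apply]⟩
        inv_mem' := by
          rintro g ⟨k, hk, hk'⟩
          refine ⟨k⁻¹, inv_mem hk, fun v => ?_⟩
          rw [inv_smul_eq_iff, hk', map_inv, map_inv]
          simp }
    have key : ∀ (a : ℕ) (g : Matrix.SpecialLinearGroup (Fin 2) (ZMod 11))
        (M : Matrix (Fin 2) (Fin 2) (ZMod 11)), g.1 = M → baseOK a = true →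
        getP a (elevenOut.getD 0 0) = elevenOut.getD 0 0 →
        (∀ k : Fin 12, carries a k.val (lineIdx (M.mulVec (lineRep k.val))) = true) → g ∈ P := by
      intro a g M hM hb hq hk
      obtain ⟨k, hk1, hka⟩ := exists_baseOK hb
      refine ⟨k, ⟨hk1, (hka.fix_iff eleven_gens_ok.2.2).2 hq⟩, fun v => ?_⟩
      exact sl_smul_projObj hka g hM hk v
    have hP : P = ⊤ := by
      refine sl_two_closure P (fun g h00 h10 h11 => ?_) (fun g h00 h01 h11 => ?_)
      · obtain ⟨hb, hq, hk⟩ := eleven_gens_ok.1 (g.1 0 1)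
        refine key _ g _ ?_ hb hq hk
        ext i j; fin_cases i <;> fin_cases j <;> simp [transUp, h00, h10, h11]
      · obtain ⟨hb, hq, hk⟩ := eleven_gens_ok.2.1 (g.1 1 0)
        refine key _ g _ ?_ hb hq hk
        ext i j; fin_cases i <;> fin_cases j <;> simp [transDown, h00, h01, h11]
    exact fun g => (hP ▸ Subgroup.mem_top g : g ∈ P)
  have hinjobj : ∀ {k : ↥M24} {m n : Matrix.ProjectiveSpecialLinearGroup (Fin 2) (ZMod 11)},
      (∀ v, k • projObj v = projObj (ρ m v)) → (∀ v, k • projObj v = projObj (ρ n v)) → m = n :=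
    fun hm hn => equivar_unique projObj_injective hρ hm hn
  have hall : ∀ x : Matrix.ProjectiveSpecialLinearGroup (Fin 2) (ZMod 11),
      ∃ k, k ∈ K ∧ ∀ v, k • projObj v = projObj (ρ x v) := fun x => by
    obtain ⟨g, hg⟩ := QuotientGroup.mk_surjective x
    obtain ⟨k, hk, hk'⟩ := himg g
    exact ⟨k, hk, fun v => by rw [hk' v, ← hg]; rfl⟩
  choose f hfK hf using hall
  have hcard : Nat.card (Matrix.ProjectiveSpecialLinearGroup (Fin 2) (ZMod 11)) = 660 := by
    have := CfsgLib.Small.card_PSL_two_prime (F := ZMod 11) (p := 11) (ZMod.card 11) (by decide)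
    omega
  let F : Matrix.ProjectiveSpecialLinearGroup (Fin 2) (ZMod 11) → ↥K := fun x => ⟨f x, hfK x⟩
  have hFi : Function.Injective F := fun x y h =>
    hinjobj (hf x) (by rw [show f x = f y from congrArg Subtype.val h]; exact hf y)
  have hFb := hFi.bijective_of_nat_card_le (by rw [natCard_dodPtStab_point, hcard])
  have hle : K ≤ M := fun k hk => by
    obtain ⟨x, hx⟩ := hFb.2 ⟨k, hk⟩
    exact ⟨x, by rw [← show f x = k from congrArg Subtype.val hx]; exact hf x⟩
  let φ := equivarHom projObj_injective hρ K hle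
  have hφs : Function.Surjective φ := fun x =>
    ⟨F x, equivarHom_eq projObj_injective hρ K hle (hf x)⟩
  exact ⟨MulEquiv.ofBijective φ (hφs.bijective_of_nat_card_le
    (by rw [natCard_dodPtStab_point, hcard]))⟩

end CfsgLib.Spor
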