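import Cfsg.Agent.Lib.Spor.Tables
import Cfsg.Agent.Lib.Spor.M24Points

/-!
Orbits of stabilisers in `Cfsg.M24` on indexed objects, by certificates. An object is described by
a family of point sets, and two objects are compared by the cardinalities of the meets of their
members, which is invariant under permutations.
-/

set_option autoImplicit false
set_option maxRecDepth 100000

namespace CfsgLib.Spor

open Cfsg
open scoped Pointwise

/-! ### Families and their meeting numbers -/

/-- the family with given masks -/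
def toFam (P : List ℕ) : Finset (Finset GolayPt) := (P.map toSet).toFinset

/-- the masks are distinct and in range -/
def partsOK (P : List ℕ) : Bool := (P.all fun m => Nat.blt m 16777216) && decide P.Nodup

/-- meeting numbers of two families, in one number -/
def famInv (A B : Finset (Finset GolayPt)) : ℕ := ∑ a ∈ A, ∑ b ∈ B, 64 ^ (a ∩ b).card

/-- meeting numbers of two lists of masks -/
def invL (P Q : List ℕ) : ℕ :=
  (P.map fun a => (Q.map fun b => 64 ^ pop (a &&& b)).sum).sum

theorem map_toSet_nodup {P : List ℕ} (h : partsOK P = true) : (P.map toSet).Nodup := by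
  simp only [partsOK, Bool.and_eq_true, List.all_eq_true, Nat.blt_eq, decide_eq_true_eq] at h
  exact h.2.map_on fun a ha b hb e =>
    toSet_injOn (by simpa using h.1 a ha) (by simpa using h.1 b hb) e

theorem famInv_toFam {P Q : List ℕ} (hP : partsOK P = true) (hQ : partsOK Q = true) :
    famInv (toFam P) (toFam Q) = invL P Q := by
  rw [famInv, toFam, List.sum_toFinset _ (map_toSet_nodup hP), invL, List.map_map]
  refine congrArg List.sum (List.map_congr_left fun a _ => ?_)
  simp only [Function.comp_apply, toFam]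
  rw [List.sum_toFinset _ (map_toSet_nodup hQ), List.map_map]
  refine congrArg List.sum (List.map_congr_left fun b _ => ?_)
  simp only [Function.comp_apply, ← toSet_and, card_toSet]

theorem famInv_smul (g : Equiv.Perm GolayPt) (A B : Finset (Finset GolayPt)) :
    famInv (g • A) (g • B) = famInv A B := by
  show ∑ a ∈ A.image (g • ·), ∑ b ∈ B.image (g • ·), 64 ^ (a ∩ b).card = _
  rw [famInv, Finset.sum_image (fun a _ b _ h => smul_left_cancel g h)]
  refine Finset.sum_congr rfl fun a _ => ?_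
  rw [Finset.sum_image (fun a _ b _ h => smul_left_cancel g h)]
  refine Finset.sum_congr rfl fun b _ => ?_
  congr 1
  rw [← Finset.smul_finset_inter, Finset.card_smul_finset]

/-! ### Joint stabilisers of families -/

/-- the elements of `M24` fixing each of the listed families -/
def famStab (L : List (List ℕ)) : Subgroup (Equiv.Perm GolayPt) where
  carrier := {g | g ∈ M24 ∧ ∀ P ∈ L, g • toFam P = toFam P}
  one_mem' := ⟨one_mem _, fun P _ => one_smul _ _⟩
  mul_mem' := fun {f g} hf hg => ⟨mul_mem hf.1 hg.1, fun P hP => by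
    rw [mul_smul, hg.2 P hP, hf.2 P hP]⟩
  inv_mem' := fun {f} hf => ⟨inv_mem hf.1, fun P hP => by rw [inv_smul_eq_iff, hf.2 P hP]⟩

theorem mem_famStab {L : List (List ℕ)} {g : Equiv.Perm GolayPt} :
    g ∈ famStab L ↔ g ∈ M24 ∧ ∀ P ∈ L, g • toFam P = toFam P := Iff.rfl

theorem famStab_le (L : List (List ℕ)) : famStab L ≤ M24 := fun _ h => h.1

/-- a packed element of `M24` mapping each listed family into itself -/
def genOK (L : List (List ℕ)) (a : ℕ) : Bool :=
  isM24P a && L.all fun P => P.all fun m => P.contains (actP a m)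

theorem repIn_of_genOK {L : List (List ℕ)} {a : ℕ} (h : genOK L a = true) :
    RepIn (famStab L) a := by
  simp only [genOK, Bool.and_eq_true, List.all_eq_true, List.contains_iff_mem] at h
  obtain ⟨σ, hσ, hr⟩ := exists_rep_M24 h.1
  refine ⟨σ, ⟨hσ, fun P hP => Finset.eq_of_subset_of_card_le ?_ (le_of_eq ?_)⟩, hr⟩
  · intro x hx
    obtain ⟨y, hy, rfl⟩ := Finset.mem_smul_finset.1 hx
    obtain ⟨m, hm, rfl⟩ := List.mem_map.1 (List.mem_toFinset.1 hy)
    exact List.mem_toFinset.2 (List.mem_map.2 ⟨_, h.2 P hP m hm, hr.toSet_actP m⟩)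
  · rw [Finset.card_smul_finset]

/-! ### Kinds of objects -/

variable {X : Type} [MulAction (Equiv.Perm GolayPt) X]

/-- an indexed set of objects, each described by a family of point sets -/
structure Kind (S : Set X) where
  /-- the indexing -/
  ix : Indexing S
  /-- the action test -/
  step : ℕ → ℕ → ℕ → ℕ → Bool
  step_ok : StepOK ix step
  /-- the family of an object -/
  fam : X → Finset (Finset GolayPt)
  /-- the masks of the family of an indexed object -/
  parts : ℕ → List ℕ
  fam_eq : ∀ i < ix.n, fam (ix.sem i) = toFam (parts i)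
  parts_ok : ∀ i < ix.n, partsOK (parts i) = true
  smul_mem : ∀ g ∈ M24, ∀ x ∈ S, g • x ∈ S
  fam_smul : ∀ (g : Equiv.Perm GolayPt) (x : X), fam (g • x) = g • fam x
  fam_inj : ∀ x y, fam x = fam y → x = y

variable {S : Set X}

/-- invariants of an object relative to listed families -/
def Kind.invs (K : Kind S) (L : List (List ℕ)) (x : X) : List ℕ :=
  L.map fun P => famInv (toFam P) (K.fam x)

/-- invariants of an indexed object -/
def Kind.invsIx (K : Kind S) (L : List (List ℕ)) (i : ℕ) : List ℕ :=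
  L.map fun P => invL P (K.parts i)

/-- certificate for the orbit decomposition of a joint stabiliser -/
def Kind.splitOK (K : Kind S) (L : List (List ℕ)) (gens : List ℕ)
    (cls : List (ℕ × List (ℕ × ℕ × ℕ))) : Bool :=
  L.all partsOK && gens.all (genOK L) &&
    (cls.all fun c => idxOrbitOK K.step K.ix.n gens c.1 c.2 fun i =>
      decide (K.invsIx L i = K.invsIx L c.1)) &&
    ((List.range K.ix.n).all fun i => (cls.map fun c => K.invsIx L c.1).contains (K.invsIx L i))

theorem Kind.invs_eq (K : Kind S) {L : List (List ℕ)} (hL : L.all partsOK = true) {i : ℕ}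
    (hi : i < K.ix.n) : K.invs L (K.ix.sem i) = K.invsIx L i :=
  List.map_congr_left fun P hP => by
    rw [K.fam_eq i hi, famInv_toFam (List.all_eq_true.1 hL P hP) (K.parts_ok i hi)]

theorem Kind.invs_smul (K : Kind S) {L : List (List ℕ)} {g : Equiv.Perm GolayPt}
    (hg : g ∈ famStab L) (x : X) : K.invs L (g • x) = K.invs L x :=
  List.map_congr_left fun P hP => by
    conv_lhs => rw [K.fam_smul, ← hg.2 P hP, famInv_smul]

theorem Kind.splitOK_iff (K : Kind S) {L : List (List ℕ)} {gens : List ℕ}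
    {cls : List (ℕ × List (ℕ × ℕ × ℕ))} : K.splitOK L gens cls = true ↔
      L.all partsOK = true ∧ (∀ a ∈ gens, genOK L a = true) ∧
      (∀ c ∈ cls, idxOrbitOK K.step K.ix.n gens c.1 c.2 (fun i =>
        decide (K.invsIx L i = K.invsIx L c.1)) = true) ∧
      ∀ i < K.ix.n, ∃ c ∈ cls, K.invsIx L c.1 = K.invsIx L i := by
  simp only [Kind.splitOK, Bool.and_eq_true, List.all_eq_true, List.contains_iff_mem,
    List.mem_map, List.mem_range, and_assoc]

theorem Kind.cls_lt (K : Kind S) {L : List (List ℕ)} {gens : List ℕ}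
    {cls : List (ℕ × List (ℕ × ℕ × ℕ))} (h : K.splitOK L gens cls = true) {c : ℕ × List (ℕ × ℕ × ℕ)}
    (hc : c ∈ cls) : c.1 < K.ix.n := by
  have := (K.splitOK_iff.1 h).2.2.1 c hc
  simp only [idxOrbitOK, Bool.and_eq_true, Nat.blt_eq] at this
  exact this.1.1

/-- two objects with equal invariants are related by the joint stabiliser -/
theorem Kind.exists_map (K : Kind S) {L : List (List ℕ)} {gens : List ℕ}
    {cls : List (ℕ × List (ℕ × ℕ × ℕ))} (h : K.splitOK L gens cls = true) {x y : X}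
    (hx : x ∈ S) (hy : y ∈ S) (e : K.invs L x = K.invs L y) :
    ∃ g ∈ famStab L, g • x = y := by
  obtain ⟨hL, hgens, hcls, hcov⟩ := K.splitOK_iff.1 h
  obtain ⟨i, hi, rfl⟩ := K.ix.complete x hx
  obtain ⟨c, hc, hci⟩ := hcov i hi
  have hP : ∀ j < K.ix.n, decide (K.invsIx L j = K.invsIx L c.1) = true ↔
      K.invs L (K.ix.sem j) = K.invsIx L c.1 := fun j hj => by
    rw [decide_eq_true_eq, K.invs_eq hL hj]
  refine K.ix.exists_smul_pair (P := fun z => K.invs L z = K.invsIx L c.1) K.step_ok (famStab_le L)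
    (fun a ha => repIn_of_genOK (hgens a ha)) (hcls c hc) hP (K.ix.mem i hi)
    (by rw [K.invs_eq hL hi, hci]) hy (by rw [← e, K.invs_eq hL hi, hci])

/-- orbits of the joint stabiliser are the invariant classes -/
theorem Kind.orbit_class (K : Kind S) {L : List (List ℕ)} {gens : List ℕ}
    {cls : List (ℕ × List (ℕ × ℕ × ℕ))} (h : K.splitOK L gens cls = true) {x : X} (hx : x ∈ S) :
    {y | ∃ g ∈ famStab L, g • x = y} = {y | y ∈ S ∧ K.invs L y = K.invs L x} := by
  ext y
  constructor
  · rintro ⟨g, hg, rfl⟩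
    exact ⟨K.smul_mem g hg.1 x hx, K.invs_smul hg x⟩
  · rintro ⟨hy, e⟩
    exact K.exists_map h hx hy e.symm

theorem Kind.ncard_class (K : Kind S) {L : List (List ℕ)} (hL : L.all partsOK = true) {v : List ℕ} :
    {y | y ∈ S ∧ K.invs L y = v}.ncard =
      (classList K.ix.n fun i => decide (K.invsIx L i = v)).length :=
  K.ix.ncard_setOf fun i hi => by rw [decide_eq_true_eq, K.invs_eq hL hi]

/-! ### Orbit lists of subgroups of `M24` -/

/-- the listed elements represent the orbits on `T`, of the listed sizes -/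
def HasOrbits {G Y : Type*} [Group G] [MulAction G Y] (H : Subgroup G) (T : Set Y) (ys : List Y)
    (ns : List ℕ) : Prop :=
  ys.map (fun y => (MulAction.orbit H y).ncard) = ns ∧ (∀ y ∈ ys, y ∈ T) ∧
    T = {z | ∃ y ∈ ys, z ∈ MulAction.orbit H y}

theorem orbit_stabilizer_smul {G α Y : Type*} [Group G] [MulAction G α] [MulAction G Y] (h : G)
    (x : α) (y : Y) :
    MulAction.orbit (MulAction.stabilizer G (h • x)) (h • y) =
      h • MulAction.orbit (MulAction.stabilizer G x) y := by
  ext z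
  rw [Set.mem_smul_set]
  constructor
  · rintro ⟨⟨k, hk⟩, rfl⟩
    refine ⟨(h⁻¹ * k * h) • y, ⟨⟨h⁻¹ * k * h, ?_⟩, rfl⟩, ?_⟩
    · rw [MulAction.mem_stabilizer_iff] at hk ⊢
      rw [mul_smul, mul_smul, hk, inv_smul_smul]
    · show h • ((h⁻¹ * k * h) • y) = k • h • y
      rw [mul_smul, mul_smul, smul_inv_smul]
  · rintro ⟨_, ⟨⟨k, hk⟩, rfl⟩, rfl⟩
    refine ⟨⟨h * k * h⁻¹, ?_⟩, ?_⟩
    · rw [MulAction.mem_stabilizer_iff] at hk ⊢
      rw [mul_smul, mul_smul, inv_smul_smul, hk]
    · show (h * k * h⁻¹) • h • y = h • k • y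
      rw [mul_smul, mul_smul, inv_smul_smul]

theorem HasOrbits.transfer {G α Y : Type*} [Group G] [MulAction G α] [MulAction G Y] {x : α}
    {T : Set Y} {ys : List Y} {ns : List ℕ} (H : HasOrbits (MulAction.stabilizer G x) T ys ns)
    (h : G) (hT : h • T = T) :
    HasOrbits (MulAction.stabilizer G (h • x)) T (ys.map (h • ·)) ns := by
  obtain ⟨h1, h2, h3⟩ := H
  refine ⟨?_, ?_, ?_⟩
  · rw [← h1, List.map_map]
    refine List.map_congr_left fun y _ => ?_
    simp only [Function.comp_apply, orbit_stabilizer_smul, Set.ncard_smul_set]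
  · intro z hz
    obtain ⟨y, hy, rfl⟩ := List.mem_map.1 hz
    rw [← hT]; exact Set.smul_mem_smul_set (h2 y hy)
  · refine hT.symm.trans ?_
    ext z
    simp only [Set.mem_smul_set, Set.mem_setOf_eq, List.mem_map]
    constructor
    · rintro ⟨w, hw, rfl⟩
      rw [h3] at hw
      obtain ⟨y, hy, hyw⟩ := hw
      exact ⟨_, ⟨y, hy, rfl⟩, orbit_stabilizer_smul h x y ▸ Set.smul_mem_smul_set hyw⟩
    · rintro ⟨_, ⟨y, hy, rfl⟩, hz⟩
      rw [orbit_stabilizer_smul, Set.mem_smul_set] at hz
      obtain ⟨w, hw, rfl⟩ := hz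
      refine ⟨w, ?_, rfl⟩
      rw [h3]
      exact ⟨y, hy, hw⟩

theorem Kind.orbit_eq_class (K : Kind S) {L : List (List ℕ)} {gens : List ℕ}
    {cls : List (ℕ × List (ℕ × ℕ × ℕ))} (h : K.splitOK L gens cls = true) {H : Subgroup ↥M24}
    (hH : ∀ g : ↥M24, g ∈ H ↔ (g : Equiv.Perm GolayPt) ∈ famStab L) {x : X} (hx : x ∈ S) :
    MulAction.orbit H x = {y | y ∈ S ∧ K.invs L y = K.invs L x} := by
  rw [← K.orbit_class h hx]
  ext y
  constructor
  · rintro ⟨⟨g, hg⟩, rfl⟩
    exact ⟨g.1, (hH g).1 hg, rfl⟩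
  · rintro ⟨g, hg, rfl⟩
    exact ⟨⟨⟨g, hg.1⟩, (hH _).2 hg⟩, rfl⟩

theorem Kind.hasOrbits (K : Kind S) {L : List (List ℕ)} {gens : List ℕ}
    {cls : List (ℕ × List (ℕ × ℕ × ℕ))} (h : K.splitOK L gens cls = true) {H : Subgroup ↥M24}
    (hH : ∀ g : ↥M24, g ∈ H ↔ (g : Equiv.Perm GolayPt) ∈ famStab L) {ns : List ℕ}
    (hns : (cls.map fun c =>
      (classList K.ix.n fun i => decide (K.invsIx L i = K.invsIx L c.1)).length) = ns) :
    HasOrbits H S (cls.map fun c => K.ix.sem c.1) ns := by
  obtain ⟨hL, -, -, hcov⟩ := K.splitOK_iff.1 h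
  refine ⟨?_, ?_, ?_⟩
  · rw [← hns, List.map_map]
    refine List.map_congr_left fun c hc => ?_
    have hlt := K.cls_lt h hc
    simp only [Function.comp_apply]
    rw [K.orbit_eq_class h hH (K.ix.mem _ hlt), K.invs_eq hL hlt, K.ncard_class hL]
  · intro y hy
    obtain ⟨c, hc, rfl⟩ := List.mem_map.1 hy
    exact K.ix.mem _ (K.cls_lt h hc)
  · ext z
    simp only [Set.mem_setOf_eq, List.mem_map]
    constructor
    · intro hz
      obtain ⟨i, hi, rfl⟩ := K.ix.complete z hz
      obtain ⟨c, hc, hci⟩ := hcov i hi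
      have hlt := K.cls_lt h hc
      refine ⟨_, ⟨c, hc, rfl⟩, ?_⟩
      rw [K.orbit_eq_class h hH (K.ix.mem _ hlt)]
      exact ⟨hz, by rw [K.invs_eq hL hi, K.invs_eq hL hlt, hci]⟩
    · rintro ⟨_, ⟨c, hc, rfl⟩, hz⟩
      rw [K.orbit_eq_class h hH (K.ix.mem _ (K.cls_lt h hc))] at hz
      exact hz.1

theorem Kind.mem_stab_iff (K : Kind S) {i : ℕ} (hi : i < K.ix.n) (g : ↥M24) :
    g ∈ MulAction.stabilizer ↥M24 (K.ix.sem i) ↔
      (g : Equiv.Perm GolayPt) ∈ famStab [K.parts i] := by
  rw [MulAction.mem_stabilizer_iff, mem_famStab]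
  constructor
  · intro h
    refine ⟨g.2, fun P hP => ?_⟩
    rw [List.mem_singleton.1 hP, ← K.fam_eq i hi, ← K.fam_smul]
    exact congrArg K.fam h
  · intro h
    apply K.fam_inj
    show K.fam ((g : Equiv.Perm GolayPt) • K.ix.sem i) = _
    rw [K.fam_smul, K.fam_eq i hi, h.2 _ (List.mem_singleton_self _)]

theorem Kind.smul_set_eq (K : Kind S) (h : ↥M24) : h • S = S := by
  ext x
  rw [Set.mem_smul_set_iff_inv_smul_mem]
  constructor
  · intro hx
    have := K.smul_mem _ h.2 _ hx
    rwa [show (h : Equiv.Perm GolayPt) • (h⁻¹ • x) = x from smul_inv_smul h x] at this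
  · exact K.smul_mem _ (h⁻¹).2 x

/-! ### Transitivity, stabiliser orders and maximality -/

theorem Kind.exists_trans (K : Kind S) {gens : List ℕ} {cls : List (ℕ × List (ℕ × ℕ × ℕ))}
    (h : K.splitOK [] gens cls = true) {x y : X} (hx : x ∈ S) (hy : y ∈ S) :
    ∃ g : ↥M24, g • x = y := by
  obtain ⟨g, hg, e⟩ := K.exists_map h hx hy rfl
  exact ⟨⟨g, hg.1⟩, e⟩

theorem Kind.orbit_top (K : Kind S) {gens : List ℕ} {cls : List (ℕ × List (ℕ × ℕ × ℕ))}
    (h : K.splitOK [] gens cls = true) {x : X} (hx : x ∈ S) : MulAction.orbit ↥M24 x = S := by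
  ext y
  constructor
  · rintro ⟨g, rfl⟩; exact K.smul_mem _ g.2 x hx
  · exact fun hy => K.exists_trans h hx hy

theorem Kind.natCard_stab (K : Kind S) {gens : List ℕ} {cls : List (ℕ × List (ℕ × ℕ × ℕ))}
    (h : K.splitOK [] gens cls = true) {x : X} (hx : x ∈ S) {k : ℕ}
    (hk : k * K.ix.n = 244823040) : Nat.card (MulAction.stabilizer ↥M24 x) = k :=
  natCard_of_index natCard_M24
    (by rw [MulAction.index_stabilizer, K.orbit_top h hx, K.ix.ncard]) hk.symm (by
      rcases Nat.eq_zero_or_pos K.ix.n with h0 | h0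
      · rw [h0, mul_zero] at hk; norm_num at hk
      · exact h0)

/-- the cardinality of the stabiliser of a point in a subgroup -/
theorem natCard_inf_stabilizer {G Y : Type*} [Group G] [MulAction G Y] (H : Subgroup G) (y : Y) :
    Nat.card ↥(H ⊓ MulAction.stabilizer G y) * (MulAction.orbit H y).ncard = Nat.card H := by
  rw [← MulAction.index_stabilizer, ← Subgroup.card_mul_index (MulAction.stabilizer H y)]
  congr 1
  rw [← Nat.card_congr (Subgroup.subgroupOfEquivOfLe
    (inf_le_left : H ⊓ MulAction.stabilizer G y ≤ H)).toEquiv, Subgroup.inf_subgroupOf_left]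
  rfl

/-- certificate of maximality: for each further suborbit an element reaching it and a tree -/
def Kind.maxOK (K : Kind S) (L : List (List ℕ)) (gens : List ℕ) (i0 : ℕ) (cls : List (ℕ × List (ℕ × ℕ × ℕ)))
    (up : List ((ℕ × ℕ) × List (ℕ × ℕ × ℕ))) : Bool :=
  decide (1 < K.ix.n) && Nat.beq cls.length (up.length + 1) &&
    Nat.beq (cls.headI.1) i0 && Nat.beq
      (classList K.ix.n fun i => decide (K.invsIx L i = K.invsIx L i0)).length 1 &&
    (cls.tail.zip up).all fun cu => isM24P cu.2.1.1 && K.step cu.2.1.1 cu.2.1.2 i0 cu.1.1 &&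
      idxOrbitOK K.step K.ix.n (cu.2.1.1 :: gens) i0 cu.2.2 fun _ => true

theorem Kind.isCoatom_stab (K : Kind S) {i0 : ℕ} (hi0 : i0 < K.ix.n) {gens : List ℕ}
    {cls : List (ℕ × List (ℕ × ℕ × ℕ))} {L : List (List ℕ)}
    (h : K.splitOK L gens cls = true)
    (hmem : ∀ g : ↥M24, g ∈ MulAction.stabilizer ↥M24 (K.ix.sem i0) ↔
      (g : Equiv.Perm GolayPt) ∈ famStab L)
    {up : List ((ℕ × ℕ) × List (ℕ × ℕ × ℕ))} (hup : K.maxOK L gens i0 cls up = true) :
    IsCoatom (MulAction.stabilizer ↥M24 (K.ix.sem i0)) := by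
  obtain ⟨hL, hgens, -, hcov⟩ := K.splitOK_iff.1 h
  simp only [Kind.maxOK, Bool.and_eq_true, decide_eq_true_eq, Nat.beq_eq, List.all_eq_true] at hup
  obtain ⟨⟨⟨⟨hn, hlen⟩, hhead⟩, hone⟩, hall⟩ := hup
  have hone' : {y | y ∈ S ∧ K.invs L y = K.invs L (K.ix.sem i0)}.ncard = 1 := by
    rw [K.invs_eq hL hi0, K.ncard_class hL, hone]
  set x0 := K.ix.sem i0 with hx0
  have huniq : ∀ y ∈ S, K.invs L y = K.invs L x0 → y = x0 := by
    obtain ⟨a, ha⟩ := Set.ncard_eq_one.1 hone'
    intro y hy e
    have h1 : y ∈ ({a} : Set X) := ha ▸ ⟨hy, e⟩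
    have h2 : x0 ∈ ({a} : Set X) := ha ▸ ⟨K.ix.mem i0 hi0, rfl⟩
    rw [Set.mem_singleton_iff.1 h1, Set.mem_singleton_iff.1 h2]
  refine ⟨fun htop => ?_, fun H hH => ?_⟩
  · obtain ⟨j, hj, hji⟩ : ∃ j < K.ix.n, j ≠ i0 := by
      rcases Nat.eq_zero_or_pos i0 with h0 | h0
      · exact ⟨1, hn, by omega⟩
      · exact ⟨0, by omega, by omega⟩
    obtain ⟨c, hc, hci⟩ := hcov j hj
    by_cases hci0 : c.1 = i0
    · exact hji (K.ix.inj j hj i0 hi0 (huniq _ (K.ix.mem j hj)
        (by rw [K.invs_eq hL hj, K.invs_eq hL hi0, ← hci, hci0])))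
    · obtain ⟨k, hk⟩ : ∃ k, k ∈ cls.tail.zip up ∧ k.1 = c := by
        cases cls with
        | nil => simp at hc
        | cons d r =>
          simp only [List.headI_cons] at hhead
          rcases List.mem_cons.1 hc with rfl | hc
          · exact absurd hhead hci0
          · obtain ⟨n, hn', rfl⟩ := List.mem_iff_getElem.1 hc
            simp only [List.length_cons] at hlen
            exact ⟨(r.zip up)[n]'(by simp; omega), List.getElem_mem _, by simp⟩
      obtain ⟨hk1, rfl⟩ := hk
      have hu := hall k hk1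
      obtain ⟨σ, hσ, hr⟩ := exists_rep_M24 hu.1.1
      have hmove := K.step_ok σ _ _ i0 k.1.1 hσ hr hi0 (K.cls_lt h hc) hu.1.2
      have : (⟨σ, hσ⟩ : ↥M24) ∈ MulAction.stabilizer ↥M24 x0 := htop ▸ Subgroup.mem_top _
      rw [MulAction.mem_stabilizer_iff] at this
      exact hci0 (K.ix.inj _ (K.cls_lt h hc) i0 hi0 (hmove.symm.trans this))
  · obtain ⟨g, hgH, hgN⟩ := SetLike.exists_of_lt hH
    have hyS : g • x0 ∈ S := K.smul_mem _ g.2 _ (K.ix.mem i0 hi0)
    obtain ⟨j, hj, hjy⟩ := K.ix.complete _ hyS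
    obtain ⟨c, hc, hci⟩ := hcov j hj
    have hcinv : K.invs L (g • x0) = K.invs L (K.ix.sem c.1) := by
      rw [← hjy, K.invs_eq hL hj, K.invs_eq hL (K.cls_lt h hc), hci]
    have hci0 : c.1 ≠ i0 := fun e => hgN
      (MulAction.mem_stabilizer_iff.2 (huniq _ hyS (by rw [hcinv, e])))
    obtain ⟨k, hk, hk'⟩ : ∃ k, k ∈ cls.tail.zip up ∧ k.1 = c := by
      cases cls with
      | nil => simp at hc
      | cons d r =>
        simp only [List.headI_cons] at hhead
        rcases List.mem_cons.1 hc with rfl | hc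
        · exact absurd hhead hci0
        · obtain ⟨n, hn', rfl⟩ := List.mem_iff_getElem.1 hc
          simp only [List.length_cons] at hlen
          exact ⟨(r.zip up)[n]'(by simp; omega), List.getElem_mem _, by simp⟩
    subst hk'
    have hu := hall k hk
    obtain ⟨σ, hσ, hr⟩ := exists_rep_M24 hu.1.1
    have hmove := K.step_ok σ _ _ i0 k.1.1 hσ hr hi0 (K.cls_lt h hc) hu.1.2
    obtain ⟨m, hm, hme⟩ := K.exists_map h hyS (K.ix.mem _ (K.cls_lt h hc)) hcinv
    have hmH : (⟨m, hm.1⟩ : ↥M24) ∈ H := hH.le ((hmem _).2 hm)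
    have hσH : (⟨σ, hσ⟩ : ↥M24) ∈ H := by
      have he : ((⟨σ, hσ⟩ : ↥M24)⁻¹ * ⟨m, hm.1⟩ * g) • x0 = x0 := by
        rw [mul_smul, mul_smul, inv_smul_eq_iff]
        exact hme.trans hmove.symm
      have := mul_mem (mul_mem hmH hgH) (inv_mem (hH.le (MulAction.mem_stabilizer_iff.2 he)))
      simpa [mul_assoc] using this
    have hrep : ∀ a ∈ k.2.1.1 :: gens, RepIn (H.map M24.subtype) a := by
      intro a ha
      rcases List.mem_cons.1 ha with rfl | ha
      · exact ⟨σ, ⟨⟨σ, hσ⟩, hσH, rfl⟩, hr⟩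
      · obtain ⟨τ, hτ, hτa⟩ := repIn_of_genOK (hgens a ha)
        exact ⟨τ, ⟨⟨τ, hτ.1⟩, hH.le ((hmem _).2 hτ), rfl⟩, hτa⟩
    have hmapM : H.map M24.subtype ≤ M24 := by
      rintro _ ⟨x, -, rfl⟩; exact x.2
    refine eq_top_iff.2 fun b _ => ?_
    obtain ⟨j', hj', hbj⟩ := K.ix.complete _ (K.smul_mem _ b.2 _ (K.ix.mem i0 hi0))
    obtain ⟨_, ⟨q, hq, rfl⟩, hqe⟩ := K.ix.exists_smul K.step_ok hmapM hrep hu.2 hj' rfl
    have he : (q⁻¹ * b) • x0 = x0 := by
      rw [mul_smul, inv_smul_eq_iff]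
      exact (hqe.trans hbj).symm
    have := mul_mem hq (hH.le (MulAction.mem_stabilizer_iff.2 he))
    rwa [mul_inv_cancel_left] at this

/-! ### The kinds -/

theorem toFam_singleton (m : ℕ) : toFam [m] = {toSet m} := rfl

theorem partsOK_singleton {m : ℕ} (h : m < 16777216) : partsOK [m] = true := by
  simp [partsOK, h]

theorem fam_single_smul (g : Equiv.Perm GolayPt) (x : Finset GolayPt) :
    ({g • x} : Finset (Finset GolayPt)) = g • ({x} : Finset (Finset GolayPt)) := by
  rw [Finset.smul_finset_singleton]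

theorem getT24_lt (tbl : List ℕ) (i : ℕ) : getT 24 tbl i < 16777216 :=
  lt_of_le_of_lt Nat.and_le_right (by norm_num)

/-- octads -/
def octK : Kind octads where
  ix := octI
  step := maskStep 24 octTbl
  step_ok := octStep_ok
  fam x := {x}
  parts i := [getT 24 octTbl i]
  fam_eq _ _ := rfl
  parts_ok _ _ := partsOK_singleton (getT24_lt _ _)
  smul_mem _ hg _ hx := smul_octad_mem hg hx
  fam_smul g x := fam_single_smul g x
  fam_inj _ _ h := Finset.singleton_injective h

/-- dodecads -/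
def dodK : Kind dodecads where
  ix := dodI
  step := maskStep 24 dodTbl
  step_ok := dodStep_ok
  fam x := {x}
  parts i := [getT 24 dodTbl i]
  fam_eq _ _ := rfl
  parts_ok _ _ := partsOK_singleton (getT24_lt _ _)
  smul_mem _ hg _ hx := smul_mem_dodecads hg hx
  fam_smul g x := fam_single_smul g x
  fam_inj _ _ h := Finset.singleton_injective h

/-- pairs of points -/
def pairK : Kind {s : Finset GolayPt | s.card = 2} where
  ix := pairI
  step := maskStep 24 pairTbl
  step_ok := pairStep_ok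
  fam x := {x}
  parts i := [getT 24 pairTbl i]
  fam_eq _ _ := rfl
  parts_ok _ _ := partsOK_singleton (getT24_lt _ _)
  smul_mem _ _ x hx := by simpa using hx
  fam_smul g x := fam_single_smul g x
  fam_inj _ _ h := Finset.singleton_injective h

/-- triples of points -/
def tripleK : Kind {s : Finset GolayPt | s.card = 3} where
  ix := tripleI
  step := maskStep 24 tripleTbl
  step_ok := tripleStep_ok
  fam x := {x}
  parts i := [getT 24 tripleTbl i]
  fam_eq _ _ := rfl
  parts_ok _ _ := partsOK_singleton (getT24_lt _ _)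
  smul_mem _ _ x hx := by simpa using hx
  fam_smul g x := fam_single_smul g x
  fam_inj _ _ h := Finset.singleton_injective h

theorem sexParts_ok : ((List.range 1771).all fun i =>
    partsOK (sextetParts (getT 144 sexTbl i))) = true := by decide +kernel

theorem trioParts_ok : ((List.range 3795).all fun i =>
    partsOK (trioParts (getT 72 trioTbl i))) = true := by decide +kernel

/-- sextets -/
noncomputable def sexK : Kind sextets where
  ix := sexI
  step := sexStep
  step_ok := sexStep_ok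
  fam x := x
  parts i := sextetParts (getT 144 sexTbl i)
  fam_eq _ _ := rfl
  parts_ok i hi := List.all_eq_true.1 sexParts_ok i (List.mem_range.2 hi)
  smul_mem _ hg _ hx := smul_mem_sextets hg hx
  fam_smul _ _ := rfl
  fam_inj _ _ h := h

/-- trios -/
def trioK : Kind trios where
  ix := trioI
  step := trioStep
  step_ok := trioStep_ok
  fam x := x
  parts i := trioParts (getT 72 trioTbl i)
  fam_eq _ _ := rfl
  parts_ok i hi := List.all_eq_true.1 trioParts_ok i (List.mem_range.2 hi)
  smul_mem _ hg _ hx := smul_mem_trios hg hx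
  fam_smul _ _ := rfl
  fam_inj _ _ h := h

end CfsgLib.Spor
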