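import Cfsg.Agent.Lib.Spor.QuartetCheck
import Cfsg.Prelude.Def_SporadicCombinatorics

/-!
The quartets of a dodecad: determination by two triples, count and transitivity.
-/

set_option autoImplicit false
set_option maxRecDepth 100000

namespace CfsgLib.Spor

open Cfsg
open scoped Pointwise

theorem dodec0_lt : dodec0 < 2 ^ 24 := by decide

theorem mask_dset : mask dset = dodec0 := mask_toSet dodec0_lt

theorem lt_of_sub {m : ℕ} (h : m &&& dodec0 = m) : m < 2 ^ 24 :=
  lt_of_le_of_lt (h ▸ Nat.and_le_right) dodec0_lt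

theorem mem_hexadsOn_dset {s : Finset GolayPt} : s ∈ hexadsOn dset ↔ isHex (mask s) = true := by
  constructor
  · rintro ⟨hs, o, ho, rfl⟩
    rw [mask_inter, mask_dset]
    have h := List.all_eq_true.1 hex_complete _ (mem_octads.1 ho)
    simp only [Bool.or_eq_true, Bool.not_eq_true'] at h
    refine h.resolve_left fun hb => ?_
    rw [← mask_dset, ← mask_inter, pop_mask, hs] at hb
    exact Bool.noConfusion hb
  · intro hs
    simp only [isHex, Bool.and_eq_true, List.any_eq_true, Nat.beq_eq] at hs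
    obtain ⟨-, o, ho, he⟩ := hs
    have hB : hexBucket.getD (mask s % 13) [] ∈ hexBucket := by
      by_cases hi : mask s % 13 < hexBucket.length
      · rw [List.getD_eq_getElem _ _ hi]; exact List.getElem_mem _
      · rw [List.getD_eq_default _ _ (not_lt.1 hi)] at ho; simp at ho
    have hb := List.all_eq_true.1 (List.all_eq_true.1 hexBucket_spec _ hB) o ho
    simp only [Bool.and_eq_true, Nat.blt_eq, Nat.beq_eq] at hb
    obtain ⟨⟨⟨hc, h8⟩, hlt⟩, h6⟩ := hb
    refine ⟨by rw [← pop_mask, ← he, h6], toSet o, ?_, mask_injective ?_⟩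
    · rw [mem_octads, mask_toSet (by simpa using hlt)]
      exact mem_octadList_iff.2 ⟨mem_codeList_iff.2 ⟨by simpa using hlt, hc⟩, h8⟩
    · rw [mask_inter, mask_dset, mask_toSet (by simpa using hlt), he]

theorem mask_mem_dset {s : Finset GolayPt} :
    mask s &&& dodec0 = mask s ↔ s ⊆ dset := by
  rw [← mask_dset, ← mask_inter, mask_injective.eq_iff, Finset.inter_eq_left]

theorem mem_tri0 {s : Finset GolayPt} : mask s ∈ tri0 ↔ s.card = 3 ∧ s ⊆ dset := by
  classical
  obtain ⟨hasc, hall, hlen⟩ := tri0_check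
  simp only [List.all_eq_true, Bool.and_eq_true, Nat.beq_eq] at hall
  have hlt : ∀ m ∈ tri0, m < 2 ^ 24 := fun m hm => lt_of_sub (hall m hm).1
  have himg : (tri0.map toSet).toFinset = dset.powersetCard 3 := by
    refine Finset.eq_of_subset_of_card_le (fun t ht => ?_) (le_of_eq ?_)
    · obtain ⟨m, hm, rfl⟩ := List.mem_map.1 (List.mem_toFinset.1 ht)
      rw [Finset.mem_powersetCard, ← mask_mem_dset, mask_toSet (hlt m hm), card_toSet]
      exact hall m hm
    · rw [List.toFinset_card_of_nodup ((nodup_of_ascending hasc).map_on fun x hx y hy e =>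
        toSet_injOn (hlt x hx) (hlt y hy) e), List.length_map, hlen, Finset.card_powersetCard,
        card_dodecad dodec0_mem]
      rfl
  constructor
  · intro hm
    have h := hall _ hm
    rw [pop_mask, mask_mem_dset] at h
    exact ⟨h.2, h.1⟩
  · intro h
    have : s ∈ (tri0.map toSet).toFinset := himg ▸ Finset.mem_powersetCard.2 ⟨h.2, h.1⟩
    obtain ⟨m, hm, rfl⟩ := List.mem_map.1 (List.mem_toFinset.1 this)
    rwa [mask_toSet (hlt m hm)]

/-- the `i`th quartet -/
def quartSem (i : ℕ) : Finset (Finset GolayPt) := (quartList.getD i []).map toSet |>.toFinset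

theorem quart_getD_mem {i : ℕ} (hi : i < 220) : quartList.getD i [] ∈ quartList := by
  rw [List.getD_eq_getElem _ _ (quartList_spec.1.symm ▸ hi)]; exact List.getElem_mem _

theorem quart_props {i : ℕ} (hi : i < 220) : (quartList.getD i []).length = 4 ∧
    (quartList.getD i []).Nodup ∧ ∀ a ∈ quartList.getD i [], a < 2 ^ 24 ∧
      toSet a ⊆ dset ∧ pop a = 3 ∧
      ∀ b ∈ quartList.getD i [], b ≤ a ∨ (a &&& b = 0 ∧ isHex (a ||| b) = true) := by
  have h := List.all_eq_true.1 quartList_spec.2.1 _ (quart_getD_mem hi)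
  simp only [Bool.and_eq_true, Nat.beq_eq, decide_eq_true_eq, List.all_eq_true,
    Bool.or_eq_true, Nat.ble_eq] at h
  refine ⟨h.1.1, h.1.2, fun a ha => ?_⟩
  obtain ⟨⟨h1, h2⟩, h3⟩ := h.2 a ha
  refine ⟨lt_of_sub h1, ?_, h2, h3⟩
  rw [← mask_mem_dset, mask_toSet (lt_of_sub h1), h1]

theorem mem_quartSem {i : ℕ} {s : Finset GolayPt} (hi : i < 220) :
    s ∈ quartSem i ↔ mask s ∈ quartList.getD i [] := by
  simp only [quartSem, List.mem_toFinset, List.mem_map]
  constructor
  · rintro ⟨m, hm, rfl⟩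
    rwa [mask_toSet ((quart_props hi).2.2 m hm).1]
  · exact fun h => ⟨_, h, toSet_mask s⟩

theorem quartSem_nodup {i : ℕ} (hi : i < 220) : ((quartList.getD i []).map toSet).Nodup :=
  (quart_props hi).2.1.map_on fun a ha b hb e =>
    toSet_injOn ((quart_props hi).2.2 a ha).1 ((quart_props hi).2.2 b hb).1 e

theorem quartSem_card {i : ℕ} (hi : i < 220) : (quartSem i).card = 4 := by
  rw [quartSem, List.toFinset_card_of_nodup (quartSem_nodup hi), List.length_map,
    (quart_props hi).1]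

theorem quartSem_mem {i : ℕ} (hi : i < 220) : quartSem i ∈ quartets dset := by
  refine ⟨quartSem_card hi, fun t ht => ?_, fun t ht u hu hne => ?_⟩
  · have h := (quart_props hi).2.2 _ ((mem_quartSem hi).1 ht)
    rw [toSet_mask, pop_mask] at h
    exact ⟨h.2.2.1, h.2.1⟩
  · rw [mem_hexadsOn_dset, mask_union]
    rcases lt_or_gt_of_ne (mask_injective.ne hne) with hlt | hlt
    · exact (((quart_props hi).2.2 _ ((mem_quartSem hi).1 ht)).2.2.2 _
        ((mem_quartSem hi).1 hu)).resolve_left (not_le.2 hlt) |>.2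
    · rw [Nat.lor_comm]
      exact (((quart_props hi).2.2 _ ((mem_quartSem hi).1 hu)).2.2.2 _
        ((mem_quartSem hi).1 ht)).resolve_left (not_le.2 hlt) |>.2

theorem mem_partners {t u : Finset GolayPt} (ht : t.card = 3) (hu : u.card = 3)
    (hu' : u ⊆ dset) (h : t ∪ u ∈ hexadsOn dset) : mask u ∈ triPartners (mask t) := by
  simp only [triPartners, List.mem_filter, Bool.and_eq_true, Nat.beq_eq]
  refine ⟨mem_tri0.2 ⟨hu, hu'⟩, ?_, ?_⟩
  · have hd : t ∩ u = ∅ := by
      rw [← Finset.card_eq_zero]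
      have := Finset.card_union_add_card_inter t u
      rw [h.1] at this
      omega
    rw [← mask_inter, hd, mask_empty]
  · rw [← mask_union]; exact mem_hexadsOn_dset.1 h

/-- two triples making a hexad lie in a listed quartet, which is the only one containing them -/
theorem quartet_of_pair {t u : Finset GolayPt} (ht : t.card = 3) (ht' : t ⊆ dset) (hu : u.card = 3)
    (hu' : u ⊆ dset) (h : t ∪ u ∈ hexadsOn dset) :
    ∃ i < 220, t ∈ quartSem i ∧ u ∈ quartSem i ∧
      ∀ Q ∈ quartets dset, t ∈ Q → u ∈ Q → Q = quartSem i := by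
  have hp := mem_partners ht hu hu' h
  have hmap : (mask t, triPartners (mask t)) ∈ quartAdj.map fun e => (e.1, e.2.map Prod.fst) := by
    rw [quartAdj_spec]; exact List.mem_map.2 ⟨_, mem_tri0.2 ⟨ht, ht'⟩, rfl⟩
  obtain ⟨⟨a, P⟩, he, hae⟩ := List.mem_map.1 hmap
  obtain ⟨rfl, hP⟩ := Prod.ext_iff.1 hae
  simp only at hP
  rw [← hP] at hp
  obtain ⟨⟨b, i⟩, hbi, rfl⟩ := List.mem_map.1 hp
  have hc := List.all_eq_true.1 quartAdj_ok _ he
  simp only [commonOK, List.all_eq_true, Bool.and_eq_true, Nat.blt_eq, List.contains_iff_mem,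
    Bool.or_eq_true] at hc
  obtain ⟨hi, ⟨hqa, hqb⟩, hcs⟩ := hc _ hbi
  refine ⟨i, hi, (mem_quartSem hi).2 hqa, (mem_quartSem hi).2 hqb, fun Q hQ htQ huQ => ?_⟩
  refine Finset.eq_of_subset_of_card_le (fun c hc => (mem_quartSem hi).2 ?_)
    (by rw [quartSem_card hi, hQ.1])
  by_cases hct : c = t
  · rw [hct]; exact hqa
  by_cases hcu : c = u
  · rw [hcu]; exact hqb
  have hct' := mem_partners ht (hQ.2.1 c hc).1 (hQ.2.1 c hc).2 (hQ.2.2 t htQ c hc (Ne.symm hct))
  have hcu' := mem_partners hu (hQ.2.1 c hc).1 (hQ.2.1 c hc).2 (hQ.2.2 u huQ c hc (Ne.symm hcu))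
  simp only [triPartners, List.mem_filter, Bool.and_eq_true, Nat.beq_eq] at hcu'
  rw [← hP] at hct'
  obtain ⟨x, hx, hxe⟩ := List.mem_map.1 hct'
  have := (hcs x hx).resolve_left (by rw [hxe]; simp [hcu'.2.1, hcu'.2.2])
  rwa [hxe] at this

theorem exists_quartSem {Q : Finset (Finset GolayPt)} (hQ : Q ∈ quartets dset) :
    ∃ i < 220, quartSem i = Q := by
  obtain ⟨t, htQ, u, huQ, hne⟩ := Finset.one_lt_card.1 (by rw [hQ.1]; norm_num)
  obtain ⟨i, hi, -, -, h⟩ := quartet_of_pair (hQ.2.1 t htQ).1 (hQ.2.1 t htQ).2 (hQ.2.1 u huQ).1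
    (hQ.2.1 u huQ).2 (hQ.2.2 t htQ u huQ hne)
  exact ⟨i, hi, (h Q hQ htQ huQ).symm⟩

theorem quartSem_inj {i j : ℕ} (hi : i < 220) (hj : j < 220) (h : quartSem i = quartSem j) :
    i = j := by
  obtain ⟨hlen, -, hasc⟩ := quartList_spec
  have key : ∀ k < 220, ∑ t ∈ quartSem k, mask t * mask t =
      ((quartList.getD k []).map fun m => m * m).sum := fun k hk => by
    rw [quartSem, List.sum_toFinset _ (quartSem_nodup hk), List.map_map]
    exact congrArg List.sum (List.map_congr_left fun m hm => by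
      simp only [Function.comp_apply, mask_toSet ((quart_props hk).2.2 m hm).1])
  have e := (key i hi).symm.trans (h ▸ key j hj)
  rw [List.getD_eq_getElem _ _ (hlen.symm ▸ hi), List.getD_eq_getElem _ _ (hlen.symm ▸ hj)] at e
  exact (List.Nodup.getElem_inj_iff (nodup_of_ascending hasc)
    (hi := by simpa [hlen] using hi) (hj := by simpa [hlen] using hj)).1 (by simpa using e)

/-- the quartets of the base dodecad, indexed -/
def quartI : Indexing (quartets dset) where
  n := 220
  sem := quartSem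
  mem _ hi := quartSem_mem hi
  complete _ hx := exists_quartSem hx
  inj _ hi _ hj h := quartSem_inj hi hj h

theorem quartStep_ok : StepOK quartI quartStep := by
  intro σ a _ top i _ hr htop hi h
  simp only [quartStep, List.all_eq_true, List.contains_iff_mem] at h
  refine Finset.eq_of_subset_of_card_le (fun y hy => ?_)
    (by rw [Finset.card_smul_finset]; exact le_of_eq ((quartSem_card hi).trans (quartSem_card htop).symm))
  obtain ⟨x, hx, rfl⟩ := Finset.mem_smul_finset.1 hy
  refine (mem_quartSem hi).2 ?_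
  rw [hr.mask_smul]
  exact h _ ((mem_quartSem htop).1 hx)

/-! ### Any dodecad -/

theorem quartets_smul {k : Equiv.Perm GolayPt} (hk : k ∈ M24) {d : Finset GolayPt}
    {Q : Finset (Finset GolayPt)} (hQ : Q ∈ quartets d) : k • Q ∈ quartets (k • d) := by
  refine ⟨by rw [Finset.card_smul_finset]; exact hQ.1, fun t ht => ?_, fun t ht u hu hne => ?_⟩
  · obtain ⟨s, hs, rfl⟩ := Finset.mem_smul_finset.1 ht
    exact ⟨by rw [Finset.card_smul_finset]; exact (hQ.2.1 s hs).1,
      Finset.smul_finset_subset_smul_finset (hQ.2.1 s hs).2⟩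
  · obtain ⟨s, hs, rfl⟩ := Finset.mem_smul_finset.1 ht
    obtain ⟨v, hv, rfl⟩ := Finset.mem_smul_finset.1 hu
    obtain ⟨h6, o, ho, he⟩ := hQ.2.2 s hs v hv fun e => hne (by rw [e])
    refine ⟨by rw [← Finset.smul_finset_union, Finset.card_smul_finset]; exact h6,
      k • o, smul_octad_mem hk ho, by rw [← Finset.smul_finset_inter, he, Finset.smul_finset_union]⟩

theorem quartets_smul_iff {k : Equiv.Perm GolayPt} (hk : k ∈ M24) {d : Finset GolayPt}
    {Q : Finset (Finset GolayPt)} : k • Q ∈ quartets (k • d) ↔ Q ∈ quartets d := by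
  refine ⟨fun h => ?_, quartets_smul hk⟩
  have := quartets_smul (inv_mem hk) h
  rwa [inv_smul_smul, inv_smul_smul] at this

theorem two_triples {d : Finset GolayPt} (hd : d ∈ dodecads) {t u : Finset GolayPt}
    (ht : t.card = 3) (hu : u.card = 3) (hh : t ∪ u ∈ hexadsOn d) :
    ∃! Q : Finset (Finset GolayPt), Q ∈ quartets d ∧ t ∈ Q ∧ u ∈ Q := by
  obtain ⟨k, hk, rfl⟩ := exists_smul_dodec0 hd
  have hh' : k⁻¹ • t ∪ k⁻¹ • u ∈ hexadsOn dset := by
    obtain ⟨h6, o, ho, he⟩ := hh
    refine ⟨by rw [← Finset.smul_finset_union, Finset.card_smul_finset]; exact h6,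
      k⁻¹ • o, smul_octad_mem (inv_mem hk) ho, ?_⟩
    rw [← Finset.smul_finset_union, ← he, Finset.smul_finset_inter, inv_smul_smul]
  have hsub : k⁻¹ • t ∪ k⁻¹ • u ⊆ dset := by
    obtain ⟨-, o, -, he⟩ := hh'
    rw [← he]; exact Finset.inter_subset_right
  obtain ⟨i, hi, hti, hui, huniq⟩ := quartet_of_pair (by rw [Finset.card_smul_finset, ht])
    (Finset.union_subset_left hsub) (by rw [Finset.card_smul_finset, hu])
    (Finset.union_subset_right hsub) hh'
  refine ⟨k • quartSem i, ⟨quartets_smul hk (quartSem_mem hi), ?_, ?_⟩, ?_⟩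
  · exact Finset.inv_smul_mem_iff.1 hti
  · exact Finset.inv_smul_mem_iff.1 hui
  · rintro Q ⟨hQ, htQ, huQ⟩
    have h1 : k⁻¹ • Q ∈ quartets dset := by
      have := quartets_smul (inv_mem hk) hQ
      rwa [inv_smul_smul] at this
    rw [← huniq _ h1 (Finset.smul_mem_smul_finset htQ) (Finset.smul_mem_smul_finset huQ),
      smul_inv_smul]

theorem exists_stab_quartet_base {Q : Finset (Finset GolayPt)} (hQ : Q ∈ quartets dset) :
    ∃ g ∈ stabG [dodec0] [], g • quartSem 0 = Q := by
  obtain ⟨i, hi, rfl⟩ := exists_quartSem hQ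
  refine quartI.exists_smul quartStep_ok (fun _ h => (mem_stabG.1 h).1) (fun a ha => ?_) quartTree_ok hi rfl
  have := List.all_eq_true.1 dodGens_ok a ha
  simp only [Bool.and_eq_true] at this
  exact repIn_of_inStabP (by simp) (by simp [inStabP, this.1, this.2])

/-- every quartet is an image of the base quartet -/
theorem exists_quartet_base {d : Finset GolayPt} (hd : d ∈ dodecads)
    {Q : Finset (Finset GolayPt)} (hQ : Q ∈ quartets d) :
    ∃ k ∈ M24, k • dset = d ∧ k • quartSem 0 = Q := by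
  obtain ⟨k, hk, rfl⟩ := exists_smul_dodec0 hd
  have h1 : k⁻¹ • Q ∈ quartets dset := by
    have := quartets_smul (inv_mem hk) hQ
    rwa [inv_smul_smul] at this
  obtain ⟨g, hg, hgQ⟩ := exists_stab_quartet_base h1
  refine ⟨k * g, mul_mem hk hg.1, ?_, ?_⟩
  · rw [mul_smul, hg.2.1 dodec0 (by simp)]
  · rw [mul_smul, hgQ, smul_inv_smul]

theorem quartets_count {d : Finset GolayPt} (hd : d ∈ dodecads) :
    (quartets d).ncard = 220 ∧ ∀ Q ∈ quartets d, ∀ Q' ∈ quartets d,
      ∃ g : Equiv.Perm GolayPt, g ∈ M24 ∧ g • d = d ∧ g • Q = Q' := by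
  obtain ⟨k, hk, rfl⟩ := exists_smul_dodec0 hd
  refine ⟨?_, fun Q hQ Q' hQ' => ?_⟩
  · have : quartets (k • dset) = k • quartets dset := by
      ext Q
      rw [Set.mem_smul_set_iff_inv_smul_mem, ← quartets_smul_iff hk (Q := k⁻¹ • Q), smul_inv_smul]
    rw [this, Set.ncard_smul_set, quartI.ncard]
    rfl
  · obtain ⟨a, ha, had, haQ⟩ := exists_quartet_base hd hQ
    obtain ⟨b, hb, hbd, hbQ⟩ := exists_quartet_base hd hQ'
    refine ⟨b * a⁻¹, mul_mem hb (inv_mem ha), ?_, ?_⟩
    · nth_rewrite 1 [← had]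
      rw [mul_smul, inv_smul_smul, hbd]
    · rw [mul_smul, ← haQ, inv_smul_smul, hbQ]

end CfsgLib.Spor
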