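import Cfsg.Agent.Lib.Spor.Transit

/-!
Subgroups of `Equiv.Perm GolayPt` generated by packed permutations: order certificates, listed
subgroups, equivariant homomorphisms and closed classes.
-/

set_option autoImplicit false

namespace CfsgLib.Spor

open Cfsg
open scoped Pointwise

/-! ### Generated subgroups -/

/-- the subgroup generated by packed permutations -/
def permGenSub (gens : List ℕ) : Subgroup (Equiv.Perm GolayPt) :=
  Subgroup.closure {σ | ∃ a ∈ gens, Rep σ a}

theorem mem_of_repIn {H : Subgroup (Equiv.Perm GolayPt)} {σ : Equiv.Perm GolayPt} {a : ℕ}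
    (h : RepIn H a) (hσ : Rep σ a) : σ ∈ H := by
  obtain ⟨τ, hτ, hτ'⟩ := h
  rwa [hσ.inj hτ']

theorem genSub_le {gens : List ℕ} {H : Subgroup (Equiv.Perm GolayPt)}
    (h : ∀ a ∈ gens, RepIn H a) : permGenSub gens ≤ H := by
  rw [permGenSub, Subgroup.closure_le]
  rintro σ ⟨a, ha, hσ⟩
  exact mem_of_repIn (h a ha) hσ

theorem repIn_genSub {gens : List ℕ} (hg : ∀ a ∈ gens, isPermP a = true) :
    ∀ a ∈ gens, RepIn (permGenSub gens) a := fun a ha => by
  obtain ⟨σ, hσ⟩ := exists_rep (hg a ha)
  exact ⟨σ, Subgroup.subset_closure ⟨a, ha, hσ⟩, hσ⟩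

theorem repIn_slp {gens : List ℕ} {r : List (ℕ × ℕ × ℕ)} (hg : ∀ a ∈ gens, isPermP a = true)
    (hr : checkSLP r gens = true) :
    ∀ t ∈ packL (List.range 24) :: gens ++ r.map Prod.fst, RepIn (permGenSub gens) t := by
  intro t ht
  rcases List.mem_append.1 ht with ht | ht
  · rcases List.mem_cons.1 ht with rfl | ht
    · exact RepIn.one _
    · exact repIn_genSub hg t ht
  · obtain ⟨e, he, rfl⟩ := List.mem_map.1 ht
    exact repIn_of_checkSLP r gens hr (repIn_genSub hg) e he

/-! ### Lower bounds on orders -/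

/-- listed elements: distinct images of each base point, later elements fixing it -/
def chainLB : List (ℕ × List ℕ) → Bool
  | [] => true
  | (b, T) :: r => Nat.blt b 24 && decide (T.map fun t => getP t b).Nodup &&
      (r.all fun l => l.2.all fun t => Nat.beq (getP t b) b) && chainLB r

theorem le_natCard_of_chainLB :
    ∀ (L : List (ℕ × List ℕ)), chainLB L = true → ∀ (G : Subgroup (Equiv.Perm GolayPt)),
      (∀ l ∈ L, ∀ t ∈ l.2, RepIn G t) → (L.map fun l => l.2.length).prod ≤ Nat.card G := by
  intro L
  induction L with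
  | nil => intro _ G _; exact Nat.card_pos (α := G)
  | cons l r ih =>
    obtain ⟨b, T⟩ := l
    intro h G hG
    simp only [chainLB, Bool.and_eq_true, Nat.blt_eq, decide_eq_true_eq, List.all_eq_true,
      Nat.beq_eq] at h
    obtain ⟨⟨⟨hb, hnd⟩, hfix⟩, hr⟩ := h
    have hsub : (r.map fun l => l.2.length).prod ≤
        Nat.card (MulAction.stabilizer G (pt b)) := by
      refine (ih hr ((MulAction.stabilizer G (pt b)).map G.subtype) fun l hl t ht => ?_).trans
        (le_of_eq (Nat.card_congr (Subgroup.equivMapOfInjective _ _ G.subtype_injective).symm.toEquiv))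
      obtain ⟨σ, hσ, hσt⟩ := hG l (List.mem_cons_of_mem _ hl) t ht
      exact ⟨σ, ⟨⟨σ, hσ⟩, MulAction.mem_stabilizer_iff.2
        ((hσt.fix_iff hb).2 (hfix l hl t ht)), rfl⟩, hσt⟩
    have horb : T.length ≤ (MulAction.orbit G (pt b)).ncard := by
      have hsubset : (((T.map fun t => getP t b).map pt).toFinset : Set GolayPt) ⊆
          MulAction.orbit G (pt b) := by
        intro p hp
        rw [List.coe_toFinset] at hp
        simp only [List.mem_map, exists_exists_and_eq_and] at hp
        obtain ⟨t, ht, rfl⟩ := hp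
        obtain ⟨σ, hσ, hσt⟩ := hG _ List.mem_cons_self t ht
        exact ⟨⟨σ, hσ⟩, by rw [hσt b hb, pt_idx]; rfl⟩
      refine le_trans (le_of_eq ?_) (Set.ncard_le_ncard hsubset (Set.toFinite _))
      rw [Set.ncard_coe_finset, List.toFinset_card_of_nodup, List.length_map, List.length_map]
      refine hnd.map_on fun x hx y hy e => ?_
      have lt : ∀ z ∈ T.map (fun t => getP t b), z < 24 := by
        intro z hz
        obtain ⟨t, ht, rfl⟩ := List.mem_map.1 hz
        obtain ⟨σ, -, hσt⟩ := hG _ List.mem_cons_self t ht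
        rw [hσt b hb]; exact idx_lt _
      rw [← idx_pt (lt x hx), e, idx_pt (lt y hy)]
    rw [List.map_cons, List.prod_cons, ← Subgroup.card_mul_index (MulAction.stabilizer G (pt b)),
      MulAction.index_stabilizer, mul_comm]
    exact Nat.mul_le_mul hsub horb

/-- the certificate that packed permutations generate a group of order at least `n` -/
def genOrderOK (gens : List ℕ) (r : List (ℕ × ℕ × ℕ)) (L : List (ℕ × List ℕ)) (n : ℕ) : Bool :=
  gens.all isPermP && checkSLP r gens && chainLB L &&
    (L.all fun l => l.2.all fun t =>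
      (packL (List.range 24) :: gens ++ r.map Prod.fst).contains t) &&
    Nat.beq (L.map fun l => l.2.length).prod n

theorem genSub_eq {gens : List ℕ} {r : List (ℕ × ℕ × ℕ)} {L : List (ℕ × List ℕ)} {n : ℕ}
    (h : genOrderOK gens r L n = true) {H : Subgroup (Equiv.Perm GolayPt)}
    (hH : Nat.card H = n) (hgens : ∀ a ∈ gens, RepIn H a) : permGenSub gens = H := by
  simp only [genOrderOK, Bool.and_eq_true, List.all_eq_true, List.contains_iff_mem,
    Nat.beq_eq] at h
  obtain ⟨⟨⟨⟨h1, h2⟩, h3⟩, h4⟩, h5⟩ := h
  have hle := genSub_le hgens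
  refine Subgroup.eq_of_le_of_card_ge hle ?_
  rw [hH, ← h5]
  exact le_natCard_of_chainLB L h3 _ fun l hl t ht => repIn_slp h1 h2 t (h4 l hl t ht)

/-! ### Lists of elements -/

/-- distinct as permutations -/
def distinctP (l : List ℕ) : Bool := decide (l.map fun a => (List.range 24).map (getP a)).Nodup

theorem distinctP_inj {l : List ℕ} (h : distinctP l = true) {σ : Equiv.Perm GolayPt} {a b : ℕ}
    (ha : a ∈ l) (hb : b ∈ l) (h1 : Rep σ a) (h2 : Rep σ b) : a = b :=
  List.inj_on_of_nodup_map (of_decide_eq_true h) ha hb (List.map_congr_left fun i hi => by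
    rw [h1 i (List.mem_range.1 hi), h2 i (List.mem_range.1 hi)])

/-- a group with as many elements as a list of its members consists of the listed elements -/
theorem exists_rep_of_card {G : Subgroup (Equiv.Perm GolayPt)} {l : List ℕ}
    (hl : distinctP l = true) (hG : ∀ a ∈ l, RepIn G a) (hcard : Nat.card G ≤ l.length)
    {σ : Equiv.Perm GolayPt} (hσ : σ ∈ G) : ∃ a ∈ l, Rep σ a := by
  choose f hf hr using fun a : {a // a ∈ l.toFinset} => hG a.1 (List.mem_toFinset.1 a.2)
  have hinj : Function.Injective fun a => (⟨f a, hf a⟩ : G) := fun a b h => Subtype.ext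
    (distinctP_inj hl (List.mem_toFinset.1 a.2) (List.mem_toFinset.1 b.2) (hr a)
      (by rw [show f a = f b from congrArg Subtype.val h]; exact hr b))
  have hb := hinj.bijective_of_nat_card_le (by
    rwa [Nat.card_eq_finsetCard,
      List.toFinset_card_of_nodup ((of_decide_eq_true hl : (l.map _).Nodup).of_map _)])
  obtain ⟨a, ha⟩ := hb.2 ⟨σ, hσ⟩
  exact ⟨a.1, List.mem_toFinset.1 a.2, (show f a = σ from congrArg Subtype.val ha) ▸ hr a⟩

/-- the listed permutations are closed under products and inverses -/
def listClosed (l : List ℕ) : Bool :=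
  l.all isPermP && l.contains (packL (List.range 24)) &&
    l.all fun a => (l.any fun b => Nat.beq (compP a b) (packL (List.range 24))) &&
      l.all fun b => l.contains (compP a b)

/-- the subgroup of listed permutations -/
def listSub {l : List ℕ} (h : listClosed l = true) : Subgroup (Equiv.Perm GolayPt) where
  carrier := {σ | ∃ a ∈ l, Rep σ a}
  one_mem' := ⟨_, by simp [listClosed] at h; exact h.1.2, rep_one⟩
  mul_mem' := by
    rintro σ τ ⟨a, ha, hσ⟩ ⟨b, hb, hτ⟩
    simp only [listClosed, Bool.and_eq_true, List.all_eq_true, List.contains_iff_mem] at h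
    exact ⟨_, (h.2 a ha).2 b hb, hσ.mul hτ⟩
  inv_mem' := by
    rintro σ ⟨a, ha, hσ⟩
    simp only [listClosed, Bool.and_eq_true, List.all_eq_true, List.any_eq_true, Nat.beq_eq] at h
    obtain ⟨b, hb, hab⟩ := (h.2 a ha).1
    obtain ⟨τ, hτ⟩ := exists_rep (h.1.1 b hb)
    have h1 := hσ.mul hτ
    rw [hab] at h1
    exact ⟨b, hb, by rwa [inv_eq_of_mul_eq_one_right (h1.inj rep_one)]⟩

theorem mem_listSub {l : List ℕ} {h : listClosed l = true} {σ : Equiv.Perm GolayPt} :
    σ ∈ listSub h ↔ ∃ a ∈ l, Rep σ a := Iff.rfl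

theorem natCard_listSub {l : List ℕ} (h : listClosed l = true) (hd : distinctP l = true) :
    Nat.card (listSub h) = l.length := by
  have hperm : ∀ a ∈ l, isPermP a = true := by
    simp only [listClosed, Bool.and_eq_true, List.all_eq_true] at h; exact h.1.1
  choose f hf using fun a : {a // a ∈ l.toFinset} => exists_rep (hperm a.1 (List.mem_toFinset.1 a.2))
  have hb : Function.Bijective fun a =>
      (⟨f a, a.1, List.mem_toFinset.1 a.2, hf a⟩ : listSub h) := by
    constructor
    · intro a b e
      exact Subtype.ext (distinctP_inj hd (List.mem_toFinset.1 a.2) (List.mem_toFinset.1 b.2) (hf a)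
        (by rw [show f a = f b from congrArg Subtype.val e]; exact hf b))
    · rintro ⟨σ, a, ha, hσ⟩
      exact ⟨⟨a, List.mem_toFinset.2 ha⟩, Subtype.ext ((hf _).inj hσ)⟩
  rw [← Nat.card_congr (Equiv.ofBijective _ hb), Nat.card_eq_finsetCard,
    List.toFinset_card_of_nodup ((of_decide_eq_true hd : (l.map _).Nodup).of_map _)]

/-- each listed element has its conjugates in the list -/
def normalisedBy (gens l : List ℕ) : Bool :=
  gens.all fun g => l.all fun a => l.any fun b => Nat.beq (compP g a) (compP b g)

theorem genSub_le_normalizer {gens l : List ℕ} (h : listClosed l = true)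
    (hg : ∀ a ∈ gens, isPermP a = true) (hn : normalisedBy gens l = true) :
    ∀ g ∈ permGenSub gens, ∀ x ∈ listSub h, g * x * g⁻¹ ∈ listSub h := by
  have key : permGenSub gens ≤ Subgroup.normalizer (listSub h : Set (Equiv.Perm GolayPt)) := by
    refine genSub_le fun a ha => ?_
    obtain ⟨σ, hσ⟩ := exists_rep (hg a ha)
    refine ⟨σ, ?_, hσ⟩
    have hsub : ∀ x ∈ listSub h, σ * x * σ⁻¹ ∈ listSub h := by
      rintro x ⟨c, hc, hx⟩
      simp only [normalisedBy, List.all_eq_true, List.any_eq_true, Nat.beq_eq] at hn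
      obtain ⟨b, hb, he⟩ := hn a ha c hc
      have hperm : isPermP b = true := by
        simp only [listClosed, Bool.and_eq_true, List.all_eq_true] at h; exact h.1.1 b hb
      obtain ⟨y, hy⟩ := exists_rep hperm
      have h1 := hσ.mul hx
      rw [he] at h1
      refine ⟨b, hb, ?_⟩
      rw [h1.inj (hy.mul hσ), mul_inv_cancel_right]
      exact hy
    rw [Subgroup.mem_normalizer_iff]
    intro x
    refine ⟨hsub x, fun hx => ?_⟩
    have hinj : Function.Injective fun x : listSub h => (⟨σ * x * σ⁻¹, hsub x x.2⟩ : listSub h) :=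
      fun x y e => Subtype.ext (by simpa using congrArg Subtype.val e)
    obtain ⟨z, hz⟩ := (Finite.injective_iff_surjective.1 hinj) ⟨_, hx⟩
    obtain rfl : (z : Equiv.Perm GolayPt) = x := by simpa using congrArg Subtype.val hz
    exact z.2
  exact fun g hgm x hx => (Subgroup.mem_normalizer_iff.1 (key hgm) x).1 hx

/-! ### Closed classes and equivariant homomorphisms -/

/-- membership in a generated subgroup preserves whatever the generators preserve -/
theorem genSub_smul_mem {X : Type*} [MulAction (Equiv.Perm GolayPt) X] [Finite X] {gens : List ℕ}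
    (hg : ∀ a ∈ gens, isPermP a = true) {C : Set X}
    (h : ∀ a ∈ gens, ∀ σ, Rep σ a → ∀ x ∈ C, σ • x ∈ C) {g : Equiv.Perm GolayPt}
    (hgm : g ∈ permGenSub gens) {x : X} (hx : x ∈ C) : g • x ∈ C := by
  have key : permGenSub gens ≤ MulAction.stabilizer (Equiv.Perm GolayPt) C := by
    refine genSub_le fun a ha => ?_
    obtain ⟨σ, hσ⟩ := exists_rep (hg a ha)
    refine ⟨σ, ?_, hσ⟩
    rw [MulAction.mem_stabilizer_set_iff_smul_set_subset (Set.toFinite _)]
    rintro _ ⟨y, hy, rfl⟩
    exact h a ha σ hσ y hy
  exact MulAction.mem_stabilizer_set.1 (key hgm) x |>.2 hx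

section Equivar

variable {G X V M : Type*} [Group G] [MulAction G X] [Group M]

/-- the elements acting on the objects as elements of `M` act on the labels -/
def equivarSub (obj : V → X) (ρ : M →* Equiv.Perm V) : Subgroup G where
  carrier := {h | ∃ m, ∀ v, h • obj v = obj (ρ m v)}
  one_mem' := ⟨1, fun v => by simp⟩
  mul_mem' := by
    rintro h k ⟨m, hm⟩ ⟨n, hn⟩
    exact ⟨m * n, fun v => by rw [mul_smul, hn, hm, map_mul, Equiv.Perm.mul_apply]⟩
  inv_mem' := by
    rintro h ⟨m, hm⟩
    refine ⟨m⁻¹, fun v => ?_⟩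
    rw [inv_smul_eq_iff, hm, map_inv]
    simp

variable {obj : V → X} {ρ : M →* Equiv.Perm V}

theorem equivar_unique (hobj : Function.Injective obj) (hρ : Function.Injective ρ) {h : G}
    {m n : M} (hm : ∀ v, h • obj v = obj (ρ m v)) (hn : ∀ v, h • obj v = obj (ρ n v)) : m = n :=
  hρ (Equiv.ext fun v => hobj ((hm v).symm.trans (hn v)))

/-- the homomorphism to the group of labels -/
noncomputable def equivarHom (hobj : Function.Injective obj) (hρ : Function.Injective ρ)
    (H : Subgroup G) (hH : H ≤ equivarSub obj ρ) : H →* M where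
  toFun h := Classical.choose (hH h.2)
  map_one' := equivar_unique hobj hρ (Classical.choose_spec (hH (1 : H).2)) fun v => by simp
  map_mul' h k := equivar_unique hobj hρ (Classical.choose_spec (hH (h * k).2)) fun v => by
    rw [Subgroup.coe_mul, mul_smul, Classical.choose_spec (hH k.2), Classical.choose_spec (hH h.2),
      map_mul, Equiv.Perm.mul_apply]

theorem equivarHom_spec (hobj : Function.Injective obj) (hρ : Function.Injective ρ)
    (H : Subgroup G) (hH : H ≤ equivarSub obj ρ) (h : H) (v : V) :
    (h : G) • obj v = obj (ρ (equivarHom hobj hρ H hH h) v) := Classical.choose_spec (hH h.2) v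

theorem equivarHom_eq (hobj : Function.Injective obj) (hρ : Function.Injective ρ)
    (H : Subgroup G) (hH : H ≤ equivarSub obj ρ) {h : H} {m : M}
    (hm : ∀ v, (h : G) • obj v = obj (ρ m v)) : equivarHom hobj hρ H hH h = m :=
  equivar_unique hobj hρ (equivarHom_spec hobj hρ H hH h) hm

end Equivar

/-- matrices acting on column vectors -/
noncomputable def mulVecPerm (n : Type*) [Fintype n] [DecidableEq n] (R : Type*) [CommRing R] :
    GL n R →* Equiv.Perm (n → R) where
  toFun A :=
    { toFun := fun v => (A : Matrix n n R).mulVec v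
      invFun := fun v => ((A⁻¹ : GL n R) : Matrix n n R).mulVec v
      left_inv := fun v => by simp [Matrix.mulVec_mulVec]
      right_inv := fun v => by simp [Matrix.mulVec_mulVec] }
  map_one' := Equiv.ext fun v => by simp
  map_mul' _ _ := Equiv.ext fun v => by simp [Matrix.mulVec_mulVec]

theorem mulVecPerm_injective (n : Type*) [Fintype n] [DecidableEq n] (R : Type*) [CommRing R] :
    Function.Injective (mulVecPerm n R) := fun A B h => Units.ext <|
  Matrix.ext_of_mulVec_single fun i => DFunLike.congr_fun h (Pi.single i 1)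

end CfsgLib.Spor
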