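import Cfsg.Agent.Lib.Spor.Quartet
import Cfsg.Agent.Lib.Spor.GenCert
import Cfsg.Agent.Lib.Spor.OrbitKit

/-!
The stabiliser of a quartet inside the stabiliser of its dodecad.
-/

set_option autoImplicit false
set_option maxRecDepth 100000

namespace CfsgLib.Spor

open Cfsg
open scoped Pointwise

/-! ### The base group -/

/-- the stabiliser of a quartet in the stabiliser of a dodecad -/
abbrev quartStab (d : Finset GolayPt) (Q : Finset (Finset GolayPt)) : Subgroup ↥M24 :=
  MulAction.stabilizer M24 d ⊓ MulAction.stabilizer M24 Q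

theorem quartGens_ok : (quartGens.all fun a => isM24P a && Nat.beq (actP a dodec0) dodec0 &&
    quartStep a 0 0 0) = true := by decide +kernel

theorem quartOrder_ok : genOrderOK quartGens quartSLP quartChain 432 = true := by decide +kernel

theorem orbit_quart_base :
    MulAction.orbit (MulAction.stabilizer M24 dset) (quartSem 0) = quartets dset := by
  ext Q
  constructor
  · rintro ⟨⟨g, hg⟩, rfl⟩
    have := quartets_smul g.2 (quartSem_mem (i := 0) (by norm_num))
    rwa [show (g : Equiv.Perm GolayPt) • dset = dset from hg] at this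
  · intro hQ
    obtain ⟨g, hg, hgQ⟩ := exists_stab_quartet_base hQ
    exact ⟨⟨⟨g, (mem_stabG.1 hg).1⟩, (mem_stabG.1 hg).2.1 dodec0 (by simp)⟩, hgQ⟩

theorem natCard_quartStab_base : Nat.card (quartStab dset (quartSem 0)) = 432 := by
  have h := natCard_inf_stabilizer (MulAction.stabilizer M24 dset) (quartSem 0)
  rw [orbit_quart_base, quartI.ncard, natCard_stab_dodecad dodec0_mem] at h
  change Nat.card (quartStab dset (quartSem 0)) * 220 = 95040 at h
  omega

theorem map_quartStab_base : (quartStab dset (quartSem 0)).map M24.subtype = permGenSub quartGens := by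
  symm
  refine genSub_eq quartOrder_ok ?_ fun a ha => ?_
  · rw [← Nat.card_congr ((quartStab dset (quartSem 0)).equivMapOfInjective _
      M24.subtype_injective).toEquiv, natCard_quartStab_base]
  · have h := List.all_eq_true.1 quartGens_ok a ha
    simp only [Bool.and_eq_true, Nat.beq_eq] at h
    obtain ⟨σ, hσ, hσa⟩ := exists_rep_M24 h.1.1
    refine ⟨σ, ⟨⟨σ, hσ⟩, ⟨hσa.smul_toSet_eq h.1.2, ?_⟩, rfl⟩, hσa⟩
    exact quartStep_ok σ a 0 0 0 hσ hσa (by show 0 < 220; norm_num) (by show 0 < 220; norm_num) h.2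

/-- the base group as a permutation group -/
noncomputable def quartStabEquiv : quartStab dset (quartSem 0) ≃* permGenSub quartGens :=
  ((quartStab dset (quartSem 0)).equivMapOfInjective _ M24.subtype_injective).trans
    (MulEquiv.subgroupCongr map_quartStab_base)

theorem mem_quartStab_base {g : ↥M24} :
    g ∈ quartStab dset (quartSem 0) ↔ (g : Equiv.Perm GolayPt) ∈ permGenSub quartGens := by
  rw [← map_quartStab_base]
  constructor
  · exact fun h => ⟨g, h, rfl⟩
  · rintro ⟨g', h, e⟩; rwa [← Subtype.ext e]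

theorem natCard_genSub_quart : Nat.card (permGenSub quartGens) = 432 := by
  rw [← Nat.card_congr quartStabEquiv.toEquiv, natCard_quartStab_base]

theorem genSub_quart_le_M24 : permGenSub quartGens ≤ M24 := by
  rw [← map_quartStab_base]
  exact Subgroup.map_subtype_le _

/-! ### The homomorphism onto GL(2, 3) -/

/-- the graph of a packed permutation -/
def packGraph (a : ℕ) : Finset (GolayPt × GolayPt) :=
  Finset.univ.image fun p => (p, pt (getP a (idx p)))

theorem Rep.packGraph_eq {σ : Equiv.Perm GolayPt} {a : ℕ} (h : Rep σ a) :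
    packGraph a = Finset.univ.image fun p => (p, σ p) :=
  Finset.image_congr fun p _ => by simp [h.get, pt_idx]

theorem smul_packGraph {g σ τ : Equiv.Perm GolayPt} {a b c : ℕ} (hg : Rep g c) (hσ : Rep σ a)
    (hτ : Rep τ b) (h : compP c a = compP b c) : g • packGraph a = packGraph b := by
  have h1 := hτ.mul hg
  rw [← h] at h1
  have e : g * σ = τ * g := (hg.mul hσ).inj h1
  rw [hσ.packGraph_eq, hτ.packGraph_eq]
  ext ⟨p, q⟩
  simp only [Finset.mem_smul_finset, Finset.mem_image, Finset.mem_univ, true_and]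
  constructor
  · rintro ⟨_, ⟨x, rfl⟩, hpq⟩
    obtain ⟨rfl, rfl⟩ := Prod.ext_iff.1 hpq
    exact ⟨g x, Prod.ext rfl (DFunLike.congr_fun e x).symm⟩
  · rintro ⟨x, hx⟩
    obtain ⟨rfl, rfl⟩ := Prod.ext_iff.1 hx
    refine ⟨(g.symm x, σ (g.symm x)), ⟨_, rfl⟩, Prod.ext (g.apply_symm_apply x) ?_⟩
    have := DFunLike.congr_fun e (g.symm x)
    simpa using this

/-- index of a vector among the nine translations -/
def vecIdx (v : Fin 2 → ZMod 3) : ℕ := 3 * (v 0).val + (v 1).val

/-- the translation with a given vector -/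
def nineObj (v : Fin 2 → ZMod 3) : Finset (GolayPt × GolayPt) :=
  packGraph (quartNine.getD (vecIdx v) 0)

theorem quartNine_ok : quartNine.length = 9 ∧ quartNine.all isPermP = true ∧
    distinctP quartNine = true := by decide +kernel

theorem vecIdx_lt : ∀ v, vecIdx v < 9 := by decide

theorem vecIdx_inj : ∀ v w, vecIdx v = vecIdx w → v = w := by decide

theorem quartNine_mem (v : Fin 2 → ZMod 3) : quartNine.getD (vecIdx v) 0 ∈ quartNine := by
  rw [List.getD_eq_getElem _ _ (quartNine_ok.1.symm ▸ vecIdx_lt v)]; exact List.getElem_mem _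

theorem nineObj_injective : Function.Injective nineObj := by
  intro v w h
  obtain ⟨σ, hσ⟩ := exists_rep (List.all_eq_true.1 quartNine_ok.2.1 _ (quartNine_mem v))
  obtain ⟨τ, hτ⟩ := exists_rep (List.all_eq_true.1 quartNine_ok.2.1 _ (quartNine_mem w))
  have e : σ = τ := by
    refine Equiv.ext fun p => ?_
    have h1 : (p, σ p) ∈ nineObj v := by
      rw [nineObj, hσ.packGraph_eq]; exact Finset.mem_image_of_mem _ (Finset.mem_univ p)
    rw [h, nineObj, hτ.packGraph_eq, Finset.mem_image] at h1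
    obtain ⟨q, -, hq⟩ := h1
    obtain ⟨rfl, hq2⟩ := Prod.ext_iff.1 hq
    exact hq2.symm
  have h2 := distinctP_inj quartNine_ok.2.2 (quartNine_mem v) (quartNine_mem w) hσ (e ▸ hτ)
  have hnd : quartNine.Nodup := (of_decide_eq_true quartNine_ok.2.2 : (quartNine.map _).Nodup).of_map _
  rw [List.getD_eq_getElem _ _ (quartNine_ok.1.symm ▸ vecIdx_lt v),
    List.getD_eq_getElem _ _ (quartNine_ok.1.symm ▸ vecIdx_lt w)] at h2
  exact vecIdx_inj v w ((List.Nodup.getElem_inj_iff hnd).1 h2)

/-- matrix from a list of entries by rows -/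
def matOf (l : List ℕ) : Matrix (Fin 2) (Fin 2) (ZMod 3) :=
  !![(l.getD 0 0 : ℕ), (l.getD 1 0 : ℕ); (l.getD 2 0 : ℕ), (l.getD 3 0 : ℕ)]

/-- conjugation by a packed element acts on the translations by a matrix -/
def conjMatOK (a : ℕ) (l : List ℕ) : Prop :=
  ∀ v, compP a (quartNine.getD (vecIdx v) 0) =
    compP (quartNine.getD (vecIdx ((matOf l).mulVec v)) 0) a

theorem quartGenMat_ok : ∀ i < quartGens.length,
    (matOf (quartGenMat.getD i [])).det ≠ 0 ∧
      conjMatOK (quartGens.getD i 0) (quartGenMat.getD i []) := by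
  unfold conjMatOK
  decide +kernel

theorem quartPre_ok : ∀ e ∈ quartPre,
    e.1 ∈ packL (List.range 24) :: quartGens ++ quartSLP.map Prod.fst ∧ conjMatOK e.1 e.2 := by
  unfold conjMatOK
  decide +kernel

theorem quartPre_cover : ∀ a b c d : ZMod 3, a * d - b * c ≠ 0 →
    ∃ e ∈ quartPre, e.2 = [a.val, b.val, c.val, d.val] := by decide +kernel

theorem smul_nineObj {g : Equiv.Perm GolayPt} {a : ℕ} {l : List ℕ} (hg : Rep g a)
    (h : conjMatOK a l) (v : Fin 2 → ZMod 3) :
    g • nineObj v = nineObj ((matOf l).mulVec v) := by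
  obtain ⟨σ, hσ⟩ := exists_rep (List.all_eq_true.1 quartNine_ok.2.1 _ (quartNine_mem v))
  obtain ⟨τ, hτ⟩ := exists_rep
    (List.all_eq_true.1 quartNine_ok.2.1 _ (quartNine_mem ((matOf l).mulVec v)))
  exact smul_packGraph hg hσ hτ (h v)

theorem genSub_quart_le :
    permGenSub quartGens ≤ equivarSub nineObj (mulVecPerm (Fin 2) (ZMod 3)) := by
  refine genSub_le fun a ha => ?_
  have h := List.all_eq_true.1 quartGens_ok a ha
  simp only [Bool.and_eq_true] at h
  obtain ⟨σ, -, hσ⟩ := exists_rep_M24 h.1.1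
  obtain ⟨i, hi, rfl⟩ := List.mem_iff_getElem.1 ha
  obtain ⟨hdet, hc⟩ := quartGenMat_ok i hi
  rw [List.getD_eq_getElem _ _ hi] at hc
  exact ⟨σ, ⟨Matrix.GeneralLinearGroup.mkOfDetNeZero _ hdet, fun v => smul_nineObj hσ hc v⟩, hσ⟩

theorem natCard_GL23 : Nat.card (GL (Fin 2) (ZMod 3)) = 48 := by
  have : Fact (Nat.Prime 3) := ⟨Nat.prime_three⟩
  rw [Matrix.card_GL_field]
  simp [Fin.prod_univ_two]

theorem quartStab_base_quotient :
    ∃ (N : Subgroup (permGenSub quartGens)) (_ : N.Normal), Nat.card N = 9 ∧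
      Nonempty (permGenSub quartGens ⧸ N ≃* GL (Fin 2) (ZMod 3)) := by
  set f := equivarHom nineObj_injective (mulVecPerm_injective (Fin 2) (ZMod 3)) (permGenSub quartGens)
    genSub_quart_le with hf
  have hsurj : Function.Surjective f := by
    intro m
    have hd : (m : Matrix (Fin 2) (Fin 2) (ZMod 3)).det ≠ 0 := by
      have : Fact (Nat.Prime 3) := ⟨Nat.prime_three⟩
      exact Matrix.GeneralLinearGroup.det_ne_zero m
    rw [Matrix.det_fin_two] at hd
    obtain ⟨e, he, hl⟩ := quartPre_cover _ _ _ _ hd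
    obtain ⟨hmem, hc⟩ := quartPre_ok e he
    have hperm : ∀ a ∈ quartGens, isPermP a = true := by
      have := quartOrder_ok
      simp only [genOrderOK, Bool.and_eq_true, List.all_eq_true] at this
      exact this.1.1.1.1
    have hslp : checkSLP quartSLP quartGens = true := by
      have := quartOrder_ok
      simp only [genOrderOK, Bool.and_eq_true] at this
      exact this.1.1.1.2
    obtain ⟨σ, hσ, hσa⟩ := repIn_slp hperm hslp _ hmem
    refine ⟨⟨σ, hσ⟩, equivarHom_eq nineObj_injective (mulVecPerm_injective (Fin 2) (ZMod 3)) _ _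
      fun v => ?_⟩
    have hmat : matOf e.2 = (m : Matrix (Fin 2) (Fin 2) (ZMod 3)) := by
      rw [hl, matOf]
      ext i j
      fin_cases i <;> fin_cases j <;> simp
    show σ • nineObj v = nineObj ((m : Matrix (Fin 2) (Fin 2) (ZMod 3)).mulVec v)
    rw [← hmat]
    exact smul_nineObj hσa hc v
  refine ⟨f.ker, inferInstance, ?_, ⟨QuotientGroup.quotientKerEquivOfSurjective f hsurj⟩⟩
  have h := f.ker.card_mul_index
  rw [Subgroup.index_ker, natCard_genSub_quart, MonoidHom.range_eq_top.2 hsurj,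
    Subgroup.card_top, natCard_GL23] at h
  omega

/-! ### Transitivity on the dodecad -/

theorem quartPts_ok : (quartPts.all fun t =>
    (packL (List.range 24) :: quartGens ++ quartSLP.map Prod.fst).contains t) = true ∧
    ((List.range 24).all fun i => !dodec0.testBit i ||
      quartPts.any fun t => Nat.beq (getP t 0) i) = true := by decide +kernel

theorem exists_quartStab_point {p : GolayPt} (hp : p ∈ dset) :
    ∃ g ∈ permGenSub quartGens, g (pt 0) = p := by
  obtain ⟨h1, h2⟩ := quartPts_ok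
  simp only [List.all_eq_true, List.contains_iff_mem, List.mem_range, Bool.or_eq_true,
    Bool.not_eq_true', List.any_eq_true, Nat.beq_eq] at h1 h2
  obtain ⟨t, ht, he⟩ := (h2 (idx p) (idx_lt p)).resolve_left (by rw [mem_toSet.1 hp]; simp)
  have := quartOrder_ok
  simp only [genOrderOK, Bool.and_eq_true, List.all_eq_true] at this
  obtain ⟨σ, hσ, hσt⟩ := repIn_slp this.1.1.1.1 this.1.1.1.2 t (h1 t ht)
  exact ⟨σ, hσ, idx_injective (by rw [← hσt 0 (by norm_num), he])⟩

/-! ### Orbits on quartets -/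

/-- the class of a quartet index -/
def quartClass (i : ℕ) : ℕ := quartLab.getD i 0

theorem quartLab_ok : ((List.range quartGens.length).all fun j => (List.range 220).all fun i =>
    let k := (quartImg.getD j []).getD i 0
    Nat.blt k 220 && quartStep (quartGens.getD j 0) 0 i k && Nat.beq (quartClass k) (quartClass i))
      = true := by decide +kernel

theorem quartCls_ok : ((List.range 5).all fun c =>
    let e := quartCls.getD c (0, [])
    Nat.beq (quartClass e.1) c &&
      idxOrbitOK quartStep 220 quartGens e.1 e.2 fun i => Nat.beq (quartClass i) c) = true ∧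
    ((List.range 5).map fun c =>
      (classList 220 fun i => Nat.beq (quartClass i) c).length) = [1, 12, 27, 72, 108] ∧
    (quartCls.getD 0 (0, [])).1 = 0 ∧ ((List.range 220).all fun i => Nat.blt (quartClass i) 5) = true := by
  decide +kernel

/-- the quartets of a class -/
def quartClassSet (c : ℕ) : Set (Finset (Finset GolayPt)) :=
  {Q | ∃ i < 220, quartClass i = c ∧ quartSem i = Q}

theorem ncard_quartClassSet (c : ℕ) :
    (quartClassSet c).ncard = (classList 220 fun i => Nat.beq (quartClass i) c).length := by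
  refine Eq.trans ?_ (quartI.ncard_setOf (P := fun Q => Q ∈ quartClassSet c)
    (test := fun i => Nat.beq (quartClass i) c) ?_)
  · congr 1
    ext Q
    exact ⟨fun h => ⟨by obtain ⟨i, hi, -, rfl⟩ := h; exact quartSem_mem hi, h⟩, And.right⟩
  · intro i hi
    rw [Nat.beq_eq]
    refine ⟨fun h => ⟨i, hi, h, rfl⟩, ?_⟩
    rintro ⟨j, hj, hc, he⟩
    rwa [← quartSem_inj hj hi he]

/-- representative of a class -/
def quartRep (c : ℕ) : Finset (Finset GolayPt) := quartSem (quartCls.getD c (0, [])).1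

theorem orbit_quartRep {c : ℕ} (hc : c < 5) :
    MulAction.orbit (quartStab dset (quartSem 0)) (quartRep c) = quartClassSet c := by
  have hcls := List.all_eq_true.1 quartCls_ok.1 c (List.mem_range.2 hc)
  simp only [Bool.and_eq_true, Nat.beq_eq] at hcls
  obtain ⟨hrc, horb⟩ := hcls
  have hrlt : (quartCls.getD c (0, [])).1 < 220 := by
    simp only [idxOrbitOK, Bool.and_eq_true, Nat.blt_eq] at horb
    exact horb.1.1
  have hgens : ∀ a ∈ quartGens, isPermP a = true := fun a ha => by
    have := List.all_eq_true.1 quartGens_ok a ha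
    simp only [isM24P, Bool.and_eq_true] at this
    exact this.1.1.1
  ext Q
  constructor
  · rintro ⟨⟨g, hg⟩, rfl⟩
    refine genSub_smul_mem hgens (C := quartClassSet c) ?_ (mem_quartStab_base.1 hg)
      ⟨_, hrlt, hrc, rfl⟩
    rintro a ha σ hσ _ ⟨i, hi, hic, rfl⟩
    obtain ⟨j, hj, rfl⟩ := List.mem_iff_getElem.1 ha
    have h := List.all_eq_true.1 (List.all_eq_true.1 quartLab_ok j (List.mem_range.2 hj)) i
      (List.mem_range.2 hi)
    simp only [Bool.and_eq_true, Nat.blt_eq, Nat.beq_eq, List.getD_eq_getElem _ _ hj] at h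
    have hM : σ ∈ M24 := by
      have := List.all_eq_true.1 quartGens_ok _ (List.getElem_mem hj)
      simp only [Bool.and_eq_true] at this
      obtain ⟨τ, hτ, hτ'⟩ := exists_rep_M24 this.1.1
      rwa [hσ.inj hτ']
    exact ⟨_, h.1.1, h.2.trans hic, (quartStep_ok σ _ 0 i _ hM hσ hi h.1.1 h.1.2).symm⟩
  · rintro ⟨i, hi, hic, rfl⟩
    obtain ⟨g, hg, he⟩ := quartI.exists_smul quartStep_ok (K := permGenSub quartGens)
      genSub_quart_le_M24
      (repIn_genSub hgens) horb hi (by simp [hic])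
    have hM : g ∈ M24 := genSub_quart_le_M24 hg
    exact ⟨⟨⟨g, hM⟩, mem_quartStab_base.2 hg⟩, he⟩

/-! ### Any quartet -/

theorem quartStab_smul (k : ↥M24) (d : Finset GolayPt) (Q : Finset (Finset GolayPt)) :
    quartStab ((k : Equiv.Perm GolayPt) • d) ((k : Equiv.Perm GolayPt) • Q) =
      (quartStab d Q).map (MulAut.conj k).toMonoidHom := by
  rw [Subgroup.map_inf _ _ _ (MulAut.conj k).injective,
    ← MulAction.stabilizer_smul_eq_stabilizer_map_conj,
    ← MulAction.stabilizer_smul_eq_stabilizer_map_conj]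
  rfl

theorem exists_quart_conj {d : Finset GolayPt} (hd : d ∈ dodecads) {Q : Finset (Finset GolayPt)}
    (hQ : Q ∈ quartets d) :
    ∃ k : ↥M24, (k : Equiv.Perm GolayPt) • dset = d ∧
      (k : Equiv.Perm GolayPt) • quartSem 0 = Q ∧
      quartStab d Q = (quartStab dset (quartSem 0)).map (MulAut.conj k).toMonoidHom := by
  obtain ⟨k, hk, hkd, hkQ⟩ := exists_quartet_base hd hQ
  refine ⟨⟨k, hk⟩, hkd, hkQ, ?_⟩
  rw [← quartStab_smul]
  show _ = quartStab (k • dset) (k • quartSem 0)
  rw [hkd, hkQ]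

theorem quartet_stabilizer {d : Finset GolayPt} (hd : d ∈ dodecads) {Q : Finset (Finset GolayPt)}
    (hQ : Q ∈ quartets d) :
    Nat.card (quartStab d Q) = 432 ∧
      (∃ (N : Subgroup (quartStab d Q)) (_ : N.Normal), Nat.card N = 9 ∧
        Nonempty (quartStab d Q ⧸ N ≃* GL (Fin 2) (ZMod 3))) ∧
      ∀ p ∈ d, ∀ q ∈ d, ∃ g ∈ quartStab d Q, ((g : ↥M24) : Equiv.Perm GolayPt) p = q := by
  obtain ⟨k, hkd, -, hH⟩ := exists_quart_conj hd hQ
  let e : permGenSub quartGens ≃* quartStab d Q :=
    (quartStabEquiv.symm.trans ((MulAut.conj k).subgroupMap _)).trans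
      (MulEquiv.subgroupCongr hH.symm)
  refine ⟨by rw [← Nat.card_congr e.toEquiv, natCard_genSub_quart], ?_, fun p hp q hq => ?_⟩
  · obtain ⟨N, hN, h9, ⟨φ⟩⟩ := quartStab_base_quotient
    have hN' : (N.map e.toMonoidHom).Normal := hN.map _ e.surjective
    exact ⟨_, hN', (Subgroup.card_map_of_injective e.injective).trans h9,
      ⟨(QuotientGroup.congr N (N.map e.toMonoidHom) e rfl).symm.trans φ⟩⟩
  · rw [← hkd] at hp hq
    obtain ⟨p', hp', rfl⟩ := Finset.mem_smul_finset.1 hp
    obtain ⟨q', hq', rfl⟩ := Finset.mem_smul_finset.1 hq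
    obtain ⟨a, ha, hap⟩ := exists_quartStab_point hp'
    obtain ⟨b, hb, hbq⟩ := exists_quartStab_point hq'
    have hmem : b * a⁻¹ ∈ permGenSub quartGens := mul_mem hb (inv_mem ha)
    have hM : b * a⁻¹ ∈ M24 := genSub_quart_le_M24 hmem
    refine ⟨k * ⟨_, hM⟩ * k⁻¹, ?_, ?_⟩
    · rw [hH]; exact ⟨_, mem_quartStab_base.2 hmem, rfl⟩
    · show ((k : Equiv.Perm GolayPt) * (b * a⁻¹) * (k : Equiv.Perm GolayPt)⁻¹)
        ((k : Equiv.Perm GolayPt) p') = (k : Equiv.Perm GolayPt) q'
      simp only [Equiv.Perm.mul_apply]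
      rw [show (k : Equiv.Perm GolayPt)⁻¹ ((k : Equiv.Perm GolayPt) p') = p' from Equiv.symm_apply_apply _ _,
        show a⁻¹ p' = pt 0 by rw [Equiv.Perm.inv_eq_iff_eq, hap], hbq]

theorem quartet_orbits {d : Finset GolayPt} (hd : d ∈ dodecads) {Q : Finset (Finset GolayPt)}
    (hQ : Q ∈ quartets d) :
    ∃ X₁ ∈ quartets d, ∃ X₂ ∈ quartets d, ∃ X₃ ∈ quartets d, ∃ X₄ ∈ quartets d,
      (MulAction.orbit (quartStab d Q) X₁).ncard = 12 ∧
      (MulAction.orbit (quartStab d Q) X₂).ncard = 27 ∧
      (MulAction.orbit (quartStab d Q) X₃).ncard = 72 ∧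
      (MulAction.orbit (quartStab d Q) X₄).ncard = 108 ∧
      quartets d = {Q} ∪ MulAction.orbit (quartStab d Q) X₁ ∪ MulAction.orbit (quartStab d Q) X₂
        ∪ MulAction.orbit (quartStab d Q) X₃ ∪ MulAction.orbit (quartStab d Q) X₄ := by
  obtain ⟨k, hkd, hkQ, hH⟩ := exists_quart_conj hd hQ
  have horb : ∀ c < 5, MulAction.orbit (quartStab d Q) (k • quartRep c) = k • quartClassSet c := by
    intro c hc
    rw [← orbit_quartRep hc, hH]
    ext z
    rw [Set.mem_smul_set]
    constructor
    · rintro ⟨⟨_, g, hg, rfl⟩, rfl⟩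
      refine ⟨g • quartRep c, ⟨⟨g, hg⟩, rfl⟩, ?_⟩
      show k • g • quartRep c = (k * g * k⁻¹) • k • quartRep c
      rw [mul_smul, mul_smul, inv_smul_smul]
    · rintro ⟨_, ⟨⟨g, hg⟩, rfl⟩, rfl⟩
      refine ⟨⟨k * g * k⁻¹, g, hg, rfl⟩, ?_⟩
      show (k * g * k⁻¹) • k • quartRep c = k • g • quartRep c
      rw [mul_smul, mul_smul, inv_smul_smul]
  have hrlt : ∀ c < 5, (quartCls.getD c (0, [])).1 < 220 := fun c hc => by
    have h := List.all_eq_true.1 quartCls_ok.1 c (List.mem_range.2 hc)
    simp only [idxOrbitOK, Bool.and_eq_true, Nat.blt_eq] at h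
    exact h.2.1.1
  have hmem : ∀ c < 5, k • quartRep c ∈ quartets d := fun c hc =>
    hkd ▸ quartets_smul k.2 (quartSem_mem (hrlt c hc))
  have hsz := quartCls_ok.2.1
  rw [show List.range 5 = [0, 1, 2, 3, 4] from rfl] at hsz
  simp only [List.map_cons, List.map_nil, List.cons.injEq, and_true,
    ← ncard_quartClassSet] at hsz
  refine ⟨_, hmem 1 (by norm_num), _, hmem 2 (by norm_num), _, hmem 3 (by norm_num), _,
    hmem 4 (by norm_num), ?_, ?_, ?_, ?_, ?_⟩
  · rw [horb 1 (by norm_num), Set.ncard_smul_set]; exact hsz.2.1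
  · rw [horb 2 (by norm_num), Set.ncard_smul_set]; exact hsz.2.2.1
  · rw [horb 3 (by norm_num), Set.ncard_smul_set]; exact hsz.2.2.2.1
  · rw [horb 4 (by norm_num), Set.ncard_smul_set]; exact hsz.2.2.2.2
  · rw [horb 1 (by norm_num), horb 2 (by norm_num), horb 3 (by norm_num), horb 4 (by norm_num)]
    have h0 : ({Q} : Set (Finset (Finset GolayPt))) = k • quartClassSet 0 := by
      obtain ⟨x, hx⟩ := Set.ncard_eq_one.1 hsz.1
      have hmem0 : quartSem 0 ∈ quartClassSet 0 := by
        refine ⟨0, by norm_num, ?_, rfl⟩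
        have h := List.all_eq_true.1 quartCls_ok.1 0 (by simp)
        simp only [Bool.and_eq_true, Nat.beq_eq] at h
        rw [← quartCls_ok.2.2.1]; exact h.1
      rw [hx, Set.mem_singleton_iff] at hmem0
      rw [hx, ← hmem0, Set.smul_set_singleton, ← hkQ]; rfl
    rw [h0, ← Set.smul_set_union, ← Set.smul_set_union, ← Set.smul_set_union,
      ← Set.smul_set_union]
    ext z
    rw [Set.mem_smul_set_iff_inv_smul_mem]
    have hz : z ∈ quartets d ↔ k⁻¹ • z ∈ quartets dset := by
      rw [← quartets_smul_iff k.2 (d := dset), hkd]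
      show _ ↔ (k • k⁻¹ • z) ∈ quartets d
      rw [smul_inv_smul]
    rw [hz]
    constructor
    · intro h
      obtain ⟨i, hi, he⟩ := exists_quartSem h
      have h5 := List.all_eq_true.1 quartCls_ok.2.2.2 i (List.mem_range.2 hi)
      rw [Nat.blt_eq] at h5
      obtain ⟨c, hc⟩ : ∃ c, quartClass i = c := ⟨_, rfl⟩
      have hin : k⁻¹ • z ∈ quartClassSet c := ⟨i, hi, hc, he⟩
      simp only [Set.mem_union]
      have hc5 : c < 5 := hc ▸ h5
      interval_cases c <;> simp [hin]
    · simp only [Set.mem_union]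
      rintro ((((⟨i, hi, -, he⟩ | ⟨i, hi, -, he⟩) | ⟨i, hi, -, he⟩) | ⟨i, hi, -, he⟩) |
        ⟨i, hi, -, he⟩) <;> exact he ▸ quartSem_mem hi

end CfsgLib.Spor
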