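import Cfsg.Agent.Lib.Spor.GenCert
import Cfsg.Agent.Lib.Spor.M24Points
import Cfsg.Agent.Lib.Spor.OrbitKit
import Cfsg.Agent.Lib.Spor.Quartet
import Cfsg.Agent.Lib.Spor.QuartetStab
import Cfsg.Agent.Lib.Spor.DodecadSubData

/-!
Subgroups of the stabiliser of a dodecad and one of its points: the stabilisers of a further
point or pair outside the dodecad, and the centraliser of an involution.
-/

set_option autoImplicit false
set_option maxRecDepth 100000

namespace CfsgLib.Spor

open Cfsg
open scoped Pointwise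

/-- the stabiliser of a dodecad and a point -/
abbrev dodPtStab (d : Finset GolayPt) (p : GolayPt) : Subgroup ↥M24 :=
  MulAction.stabilizer M24 d ⊓ MulAction.stabilizer M24 p

/-- the base dodecad -/
abbrev dod0 : Finset GolayPt := toSet dodec0

theorem pt0_mem_dod0 : pt 0 ∈ dod0 := by decide +kernel

/-- the first point outside -/
def outA : GolayPt := pt (elevenOut.getD 0 0)

/-- the second point outside -/
def outB : GolayPt := pt (elevenOut.getD 1 0)

theorem out_spec : outA ∉ dod0 ∧ outB ∉ dod0 ∧ outA ≠ outB := by decide +kernel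

/-- a packed element fixing the base dodecad and its first point -/
def baseOK (a : ℕ) : Bool :=
  isM24P a && Nat.beq (actP a dodec0) dodec0 && Nat.beq (getP a 0) 0

theorem exists_baseOK {a : ℕ} (h : baseOK a = true) :
    ∃ g : ↥M24, g ∈ dodPtStab dod0 (pt 0) ∧ Rep (g : Equiv.Perm GolayPt) a := by
  simp only [baseOK, Bool.and_eq_true, Nat.beq_eq] at h
  obtain ⟨σ, hσ, hσa⟩ := exists_rep_M24 h.1.1
  exact ⟨⟨σ, hσ⟩, ⟨hσa.smul_toSet_eq h.1.2, (hσa.fix_iff (by norm_num)).2 h.2⟩, hσa⟩

/-- the points of a dodecad and a point, moved to the base -/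
theorem exists_base {d : Finset GolayPt} (hd : d ∈ dodecads) {p q q' : GolayPt} (hp : p ∈ d)
    (hq : q ∉ d) (hq' : q' ∉ d) (hne : q ≠ q') :
    ∃ g : ↥M24, g • dod0 = d ∧ g • pt 0 = p ∧ g • outA = q ∧ g • outB = q' := by
  obtain ⟨a0, ha0, had⟩ := exists_smul_dodec0 hd
  obtain ⟨b, hb, hbd, hbp⟩ := exists_stab_dodecad_point hd (p := a0 (pt 0))
    (had ▸ Finset.smul_mem_smul_finset pt0_mem_dod0) hp
  have had' : (b * a0) • dod0 = d := by rw [mul_smul, had, hbd]
  have hout : ∀ r, r ∉ dod0 → (b * a0) r ∉ d := fun r hr h => hr (by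
    rw [← had'] at h
    exact (Finset.smul_mem_smul_finset_iff (b * a0)).1 h)
  obtain ⟨x3, hx3⟩ : ∃ r, r ∉ dod0 ∧ r ≠ outA ∧ r ≠ outB := by decide +kernel
  obtain ⟨r, hr, hr1, hr2⟩ : ∃ r, r ∉ d ∧ r ≠ q ∧ r ≠ q' := by
    have hcard : 3 ≤ (dᶜ : Finset GolayPt).card := by
      rw [Finset.card_compl, card_dodecad hd, card_golayPt]; norm_num
    obtain ⟨r, hr⟩ : ∃ r, r ∈ (dᶜ.erase q).erase q' := Finset.card_pos.1 (by
      have h1 := Finset.pred_card_le_card_erase (a := q) (s := dᶜ)
      have h2 := Finset.pred_card_le_card_erase (a := q') (s := dᶜ.erase q)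
      omega)
    simp only [Finset.mem_erase, Finset.mem_compl] at hr
    exact ⟨r, hr.2.2, hr.2.1, hr.1⟩
  obtain ⟨c, hc, hcd, hcp, hcx⟩ := exists_three_outside hd hp
    (x := ⟨![(b * a0) outA, (b * a0) outB, (b * a0) x3], by
      intro i j h
      fin_cases i <;> fin_cases j <;> simp_all [out_spec.2.2, out_spec.2.2.symm, hx3.2.1, hx3.2.2,
        Ne.symm hx3.2.1, Ne.symm hx3.2.2]⟩)
    (y := ⟨![q, q', r], by
      intro i j h
      fin_cases i <;> fin_cases j <;>
        simp_all [hne.symm, Ne.symm hr1, Ne.symm hr2]⟩)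
    (fun i => by fin_cases i; exacts [hout _ out_spec.1, hout _ out_spec.2.1, hout _ hx3.1])
    (fun i => by fin_cases i; exacts [hq, hq', hr])
  refine ⟨⟨c * (b * a0), mul_mem hc (mul_mem hb ha0)⟩, ?_, ?_, ?_, ?_⟩
  · show (c * (b * a0)) • dod0 = d
    rw [mul_smul, had', hcd]
  · show (c * (b * a0)) (pt 0) = p
    simp [hbp, hcp]
  · exact hcx 0
  · exact hcx 1

/-- the stabilisers of moved data are conjugate -/
noncomputable def dodPtStabEquiv {Y : Type*} [MulAction ↥M24 Y] {d : Finset GolayPt} {p : GolayPt}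
    {y y' : Y} {g : ↥M24} (h1 : g • dod0 = d) (h2 : g • pt 0 = p) (h3 : g • y = y') :
    ↥(dodPtStab dod0 (pt 0) ⊓ MulAction.stabilizer M24 y) ≃*
      ↥(dodPtStab d p ⊓ MulAction.stabilizer M24 y') :=
  ((dodPtStab dod0 (pt 0) ⊓ MulAction.stabilizer M24 y).equivMapOfInjective
      (MulAut.conj g).toMonoidHom (MulAut.conj g).injective).trans (MulEquiv.subgroupCongr (by
    subst h1 h2 h3
    simp only [dodPtStab, MulAction.stabilizer_smul_eq_stabilizer_map_conj]
    rw [Subgroup.map_inf _ _ _ (fun a b h => (MulAut.conj g).injective h),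
      Subgroup.map_inf _ _ _ (fun a b h => (MulAut.conj g).injective h)]))

/-! ### Orders -/

theorem natCard_dodPtStab_point :
    Nat.card ↥(dodPtStab dod0 (pt 0) ⊓ MulAction.stabilizer M24 outA) = 660 := by
  have h := natCard_inf_stabilizer (dodPtStab dod0 (pt 0)) outA
  have horb : MulAction.orbit ↥(dodPtStab dod0 (pt 0)) outA = ((dod0ᶜ : Finset GolayPt) : Set GolayPt) := by
    ext x
    rw [Finset.mem_coe, Finset.mem_compl]
    constructor
    · rintro ⟨⟨g, hgd, hgp⟩, rfl⟩ hx
      have hx' : (g : Equiv.Perm GolayPt) • outA ∈ (g : Equiv.Perm GolayPt) • dod0 := by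
        rw [show (g : Equiv.Perm GolayPt) • dod0 = dod0 from hgd]; exact hx
      exact out_spec.1 ((Finset.smul_mem_smul_finset_iff _).1 hx')
    · intro hx
      obtain ⟨y, hy, hyx⟩ : ∃ y, y ∉ dod0 ∧ y ≠ x := by
        by_cases e : x = outA
        · exact ⟨outB, out_spec.2.1, e ▸ out_spec.2.2.symm⟩
        · exact ⟨outA, out_spec.1, Ne.symm e⟩
      obtain ⟨g, h1, h2, h3, -⟩ := exists_base dodec0_mem pt0_mem_dod0 hx hy (Ne.symm hyx)
      exact ⟨⟨g, h1, h2⟩, h3⟩
  rw [horb, Set.ncard_coe_finset, Finset.card_compl, card_dodecad dodec0_mem, card_golayPt,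
    natCard_stab_dodecad_point dodec0_mem pt0_mem_dod0] at h
  omega

theorem natCard_dodPtStab_pair :
    Nat.card ↥(dodPtStab dod0 (pt 0) ⊓ MulAction.stabilizer M24 ({outA, outB} : Finset GolayPt))
      = 120 := by
  have h := natCard_inf_stabilizer (dodPtStab dod0 (pt 0)) ({outA, outB} : Finset GolayPt)
  have horb : MulAction.orbit ↥(dodPtStab dod0 (pt 0)) ({outA, outB} : Finset GolayPt)
      = ↑((dod0ᶜ : Finset GolayPt).powersetCard 2) := by
    ext s
    rw [Finset.mem_coe, Finset.mem_powersetCard]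
    constructor
    · rintro ⟨⟨g, hgd, hgp⟩, rfl⟩
      refine ⟨fun x hx => ?_, (Finset.card_smul_finset _ _).trans (Finset.card_pair out_spec.2.2)⟩
      obtain ⟨y, hy, rfl⟩ := Finset.mem_smul_finset.1 hx
      rw [Finset.mem_compl]
      intro hxd
      have hy' : y ∉ dod0 := by
        simp only [Finset.mem_insert, Finset.mem_singleton] at hy
        rcases hy with rfl | rfl
        exacts [out_spec.1, out_spec.2.1]
      have hx' : (g : Equiv.Perm GolayPt) • y ∈ (g : Equiv.Perm GolayPt) • dod0 := by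
        rw [show (g : Equiv.Perm GolayPt) • dod0 = dod0 from hgd]; exact hxd
      exact hy' ((Finset.smul_mem_smul_finset_iff _).1 hx')
    · rintro ⟨hs, hc⟩
      obtain ⟨x, y, hxy, rfl⟩ := Finset.card_eq_two.1 hc
      obtain ⟨g, h1, h2, h3, h4⟩ := exists_base dodec0_mem pt0_mem_dod0
        (Finset.mem_compl.1 (hs (Finset.mem_insert_self x _)))
        (Finset.mem_compl.1 (hs (Finset.mem_insert_of_mem (Finset.mem_singleton_self y)))) hxy
      refine ⟨⟨g, h1, h2⟩, ?_⟩
      show (g : Equiv.Perm GolayPt) • ({outA, outB} : Finset GolayPt) = _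
      rw [Finset.smul_finset_insert, Finset.smul_finset_singleton]
      exact congrArg₂ (fun u v => ({u, v} : Finset GolayPt)) h3 h4
  rw [horb, Set.ncard_coe_finset, Finset.card_powersetCard, Finset.card_compl,
    card_dodecad dodec0_mem, card_golayPt, show Nat.choose (24 - 12) 2 = 66 from rfl,
    natCard_stab_dodecad_point dodec0_mem pt0_mem_dod0] at h
  omega

/-! ### The stabiliser of a pair -/

/-- the five labelled points -/
def fivePt (i : Fin 5) : GolayPt := pt (pairFive.getD i.val 0)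

theorem fivePt_injective : Function.Injective fivePt := by decide +kernel

theorem pairGrp_ok : distinctP pairGrp = true ∧ pairGrp.length = 120 ∧
    (pairGrp.all fun a => baseOK a &&
      Nat.beq (actP a (2 ^ elevenOut.getD 0 0 ||| 2 ^ elevenOut.getD 1 0))
        (2 ^ elevenOut.getD 0 0 ||| 2 ^ elevenOut.getD 1 0) &&
      (pairFive.all fun x => pairFive.contains (getP a x)) &&
      (Nat.beq a (packL (List.range 24)) || pairFive.any fun x => !Nat.beq (getP a x) x)) = true ∧
    (pairSwaps.all fun a => pairGrp.contains a) = true ∧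
    toSet (2 ^ elevenOut.getD 0 0 ||| 2 ^ elevenOut.getD 1 0) = {outA, outB} ∧
    (∀ i j : Fin 5, i ≠ j → ∃ a ∈ pairSwaps, ∀ k : Fin 5,
      getP a (pairFive.getD k.val 0) = pairFive.getD ((Equiv.swap i j) k).val 0) ∧
    pairFive.length = 5 ∧ pairFive.all (fun x => Nat.blt x 24) = true := by decide +kernel

theorem repIn_pairGrp {a : ℕ} (ha : a ∈ pairGrp) :
    RepIn ((dodPtStab dod0 (pt 0) ⊓ MulAction.stabilizer M24
      ({outA, outB} : Finset GolayPt)).map M24.subtype) a := by
  have h := List.all_eq_true.1 pairGrp_ok.2.2.1 a ha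
  simp only [Bool.and_eq_true, Nat.beq_eq] at h
  obtain ⟨g, hg, hga⟩ := exists_baseOK h.1.1.1
  refine ⟨g, ⟨g, ⟨hg, ?_⟩, rfl⟩, hga⟩
  show (g : Equiv.Perm GolayPt) • ({outA, outB} : Finset GolayPt) = {outA, outB}
  rw [← pairGrp_ok.2.2.2.2.1]
  exact hga.smul_toSet_eq h.1.1.2

theorem pair_iso : Nonempty (↥(dodPtStab dod0 (pt 0) ⊓ MulAction.stabilizer M24
    ({outA, outB} : Finset GolayPt)) ≃* Equiv.Perm (Fin 5)) := by
  classical
  set K := dodPtStab dod0 (pt 0) ⊓ MulAction.stabilizer M24 ({outA, outB} : Finset GolayPt)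
  obtain ⟨hd, hlen, hall, hsub, -, hsw, h5, hlt⟩ := pairGrp_ok
  have hcard : Nat.card ↥(K.map M24.subtype) = 120 := by
    rw [← Nat.card_congr (K.equivMapOfInjective _ M24.subtype_injective).toEquiv]
    exact natCard_dodPtStab_pair
  have hrep : ∀ g : ↥K, ∃ a ∈ pairGrp, Rep ((g : M24) : Equiv.Perm GolayPt) a := fun g =>
    exists_rep_of_card hd (fun a ha => repIn_pairGrp ha) (by rw [hcard, hlen])
      ⟨(g : M24), g.2, rfl⟩
  have hlt' : ∀ i : Fin 5, pairFive.getD i.val 0 < 24 ∧ pairFive.getD i.val 0 ∈ pairFive := by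
    intro i
    have hm : pairFive.getD i.val 0 ∈ pairFive := by
      rw [List.getD_eq_getElem _ _ (by omega)]; exact List.getElem_mem _
    exact ⟨by simpa using List.all_eq_true.1 hlt _ hm, hm⟩
  have hle : K.map M24.subtype ≤ equivarSub fivePt (MonoidHom.id (Equiv.Perm (Fin 5))) := by
    rintro _ ⟨g, hg, rfl⟩
    obtain ⟨a, ha, hga⟩ := hrep ⟨g, hg⟩
    have h := List.all_eq_true.1 hall a ha
    simp only [Bool.and_eq_true, List.all_eq_true, List.contains_iff_mem] at h
    have key : ∀ i : Fin 5, ∃ j : Fin 5, (g : Equiv.Perm GolayPt) • fivePt i = fivePt j := by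
      intro i
      obtain ⟨k, hk, e⟩ := List.mem_iff_getElem.1 (h.1.2 _ (hlt' i).2)
      refine ⟨⟨k, by omega⟩, ?_⟩
      show (g : Equiv.Perm GolayPt) (pt _) = pt (pairFive.getD k 0)
      rw [List.getD_eq_getElem _ _ hk, e, hga _ (hlt' i).1, pt_idx]
    choose f hf using key
    have hfi : Function.Injective f := fun i j e =>
      fivePt_injective (smul_left_cancel _ ((hf i).trans ((congrArg fivePt e).trans (hf j).symm)))
    exact ⟨Equiv.ofBijective f (Finite.injective_iff_bijective.1 hfi), hf⟩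
  let φ := equivarHom fivePt_injective (ρ := MonoidHom.id (Equiv.Perm (Fin 5)))
    Function.injective_id (K.map M24.subtype) hle
  have hφ : Function.Bijective φ := by
    refine ⟨?_, ?_⟩
    · rw [injective_iff_map_eq_one]
      rintro ⟨_, g, hg, rfl⟩ h1
      obtain ⟨a, ha, hga⟩ := hrep ⟨g, hg⟩
      have h := List.all_eq_true.1 hall a ha
      simp only [Bool.and_eq_true, Bool.or_eq_true, Nat.beq_eq, List.any_eq_true,
        Bool.not_eq_true', Bool.eq_false_iff, ne_eq] at h
      rcases h.2 with rfl | ⟨x, hx, hne⟩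
      · exact Subtype.ext (hga.inj rep_one)
      · exfalso
        obtain ⟨k, hk, rfl⟩ := List.mem_iff_getElem.1 hx
        have hspec := equivarHom_spec fivePt_injective (ρ := MonoidHom.id (Equiv.Perm (Fin 5)))
          Function.injective_id _ hle ⟨_, g, hg, rfl⟩ ⟨k, by omega⟩
        change _ = fivePt ((φ _) _) at hspec
        rw [h1] at hspec
        apply hne
        have h24 := (hlt' ⟨k, by omega⟩).1
        have e : pairFive.getD k 0 = pairFive[k] := List.getD_eq_getElem _ _ hk
        rw [← e, hga _ h24]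
        exact (congrArg idx hspec).trans (idx_pt h24)
    · rw [← MonoidHom.range_eq_top, eq_top_iff, ← Equiv.Perm.closure_isSwap, Subgroup.closure_le]
      rintro e ⟨i, j, hij, rfl⟩
      obtain ⟨a, ha, hk⟩ := hsw i j hij
      obtain ⟨σ, hσ, hσa⟩ := repIn_pairGrp (List.contains_iff_mem.1 (List.all_eq_true.1 hsub a ha))
      refine ⟨⟨σ, hσ⟩, equivarHom_eq fivePt_injective Function.injective_id _ hle fun k => ?_⟩
      show σ (pt _) = pt (pairFive.getD ((Equiv.swap i j) k).val 0)
      rw [← hk k, hσa _ (hlt' k).1, pt_idx]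
  exact ⟨(K.equivMapOfInjective _ M24.subtype_injective).trans (MulEquiv.ofBijective φ hφ)⟩

/-! ### The centraliser of an involution -/

/-- the labelled points: nonzero vectors and the fixed point -/
def invPt (v : Fin 2 → ZMod 3) : GolayPt := pt (invVec.getD (vecIdx v) 0)

/-- the matrix of a listed centralising element -/
def centMat (e : ℕ × ℕ × ℕ × ℕ × ℕ) : Matrix (Fin 2) (Fin 2) (ZMod 3) :=
  Matrix.of ![![(e.2.1 : ZMod 3), (e.2.2.1 : ZMod 3)], ![(e.2.2.2.1 : ZMod 3), (e.2.2.2.2 : ZMod 3)]]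

theorem invPt_injective : Function.Injective invPt := by decide +kernel

theorem invCent_ok : distinctP (invCent.map Prod.fst) = true ∧ invCent.length = 48 ∧
    (invCent.all fun e => baseOK e.1 && Nat.beq (compP e.1 invElt) (compP invElt e.1)) = true ∧
    baseOK invElt = true ∧ Nat.beq (compP invElt invElt) (packL (List.range 24)) = true ∧
    (invBase.map fun b => getP invElt b) = [0, invBase.getD 2 0, invBase.getD 1 0,
      invBase.getD 4 0, invBase.getD 3 0] ∧
    invBase.length = 5 ∧ invBase.Nodup ∧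
    (invBase.all fun b => dodec0.testBit b && Nat.blt b 24) = true ∧ invBase.getD 0 0 = 0 ∧
    Nat.beq invElt (packL (List.range 24)) = false := by decide +kernel

theorem invCent_mat : (∀ e ∈ invCent, (centMat e).det ≠ 0) ∧
    (∀ e ∈ invCent, ∀ v : Fin 2 → ZMod 3,
      getP e.1 (invVec.getD (vecIdx v) 0) = invVec.getD (vecIdx ((centMat e).mulVec v)) 0) ∧
    invVec.all (fun x => Nat.blt x 24) = true ∧ invVec.length = 9 ∧
    (invCent.map fun e => (e.2.1, e.2.2.1, e.2.2.2.1, e.2.2.2.2)).Nodup ∧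
    (∀ e ∈ invCent, e.2.1 < 3 ∧ e.2.2.1 < 3 ∧ e.2.2.2.1 < 3 ∧ e.2.2.2.2 < 3) := by
  decide +kernel

theorem five_points_of_involution {d : Finset GolayPt} (hd : d ∈ dodecads) {p : GolayPt}
    (hp : p ∈ d) {g : ↥M24} (hg : g ∈ dodPtStab d p) (h2 : g * g = 1) (h1 : g ≠ 1) :
    ∃ a b c e : GolayPt, [p, a, b, c, e].Nodup ∧ (∀ x ∈ [p, a, b, c, e], x ∈ d) ∧
      g • a = b ∧ g • b = a ∧ g • c = e ∧ g • e = c := by
  classical
  have hmem : ∀ x ∈ d, g • x ∈ d := fun x hx => by
    have h := Finset.smul_mem_smul_finset (a := g) hx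
    rwa [show g • d = d from hg.1] at h
  have hinv : ∀ x : GolayPt, g • g • x = x := fun x => by rw [← mul_smul, h2, one_smul]
  have hgp : g • p = p := hg.2
  have key : ∀ F : Finset GolayPt, F ⊆ d → 5 ≤ F.card → (∀ x ∈ F, g • x = x) → False := by
    intro F hF hc hfix
    obtain ⟨F', hF', hc'⟩ := Finset.exists_subset_card_eq hc
    let x : Fin 5 ↪ GolayPt :=
      ((F'.equivFinOfCardEq hc').symm.toEmbedding).trans (Function.Embedding.subtype _)
    have hxF : ∀ i, x i ∈ F := fun i => hF' ((F'.equivFinOfCardEq hc').symm i).2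
    have hu := existsUnique_five_dodecad hd x x (fun i => hF (hxF i)) fun i => hF (hxF i)
    have e := hu.unique (y₁ := ⟨g, hg.1⟩) (y₂ := 1) (fun i => hfix _ (hxF i)) fun i => rfl
    exact h1 (congrArg Subtype.val e)
  have hcard : d.card = 12 := card_dodecad hd
  obtain ⟨a, ha, hab⟩ : ∃ a ∈ d, g • a ≠ a := by
    by_contra h
    push Not at h
    exact key d le_rfl (by omega) h
  obtain ⟨c, hc, hce⟩ : ∃ c ∈ (d.erase a).erase (g • a), g • c ≠ c := by
    by_contra h
    push Not at h
    refine key _ ((Finset.erase_subset _ _).trans (Finset.erase_subset _ _)) ?_ h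
    have h1 := Finset.pred_card_le_card_erase (a := g • a) (s := d.erase a)
    have h2 := Finset.pred_card_le_card_erase (a := a) (s := d)
    omega
  simp only [Finset.mem_erase] at hc
  refine ⟨a, g • a, c, g • c, ?_, ?_, rfl, hinv a, rfl, hinv c⟩
  · have hap : a ≠ p := fun e => hab (e ▸ hgp)
    have hbp : g • a ≠ p := fun e => hap (smul_left_cancel g (e.trans hgp.symm))
    have hcp : c ≠ p := fun e => hce (e ▸ hgp)
    have hep : g • c ≠ p := fun e => hcp (smul_left_cancel g (e.trans hgp.symm))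
    have hea : g • c ≠ a := fun e => hc.1 (by rw [← e, hinv])
    have heb : g • c ≠ g • a := fun e => hc.2.1 (smul_left_cancel g e)
    simp only [List.nodup_cons, List.mem_cons, List.not_mem_nil, or_false, not_or,
      List.nodup_nil, and_true, not_false_eq_true]
    exact ⟨⟨hap.symm, hbp.symm, hcp.symm, hep.symm⟩, ⟨Ne.symm hab, Ne.symm hc.2.1, hea.symm⟩,
      ⟨Ne.symm hc.1, heb.symm⟩, Ne.symm hce⟩
  · intro x hx
    simp only [List.mem_cons, List.not_mem_nil, or_false] at hx
    rcases hx with rfl | rfl | rfl | rfl | rfl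
    exacts [hp, ha, hmem a ha, hc.2.2, hmem c hc.2.2]

theorem involution_conj {d : Finset GolayPt} (hd : d ∈ dodecads) {p : GolayPt} (hp : p ∈ d)
    {g : ↥M24} (hg : g ∈ dodPtStab d p) (h2 : g * g = 1) (h1 : g ≠ 1) :
    ∃ k : ↥M24, k • dod0 = d ∧ k • pt 0 = p ∧
      ∀ t : ↥M24, Rep (t : Equiv.Perm GolayPt) invElt → k * t * k⁻¹ = g := by
  obtain ⟨a, b, c, e, hnd, hd5, ea, eb, ec, ee⟩ := five_points_of_involution hd hp hg h2 h1
  obtain ⟨-, -, -, ht, -, himg, hlen, hbnd, hb, hb0, -⟩ := invCent_ok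
  simp only [List.all_eq_true, Bool.and_eq_true, Nat.blt_eq] at hb
  let x : Fin 5 ↪ GolayPt := ⟨fun i => pt (invBase.getD i.val 0), fun i j h => by
    replace h : pt (invBase.getD i.val 0) = pt (invBase.getD j.val 0) := h
    rw [List.getD_eq_getElem _ _ (by omega), List.getD_eq_getElem _ _ (by omega)] at h
    have := congrArg idx h
    rw [idx_pt (hb _ (List.getElem_mem _)).2, idx_pt (hb _ (List.getElem_mem _)).2] at this
    exact Fin.ext (hbnd.getElem_inj_iff.1 this)⟩
  let y : Fin 5 ↪ GolayPt := ⟨fun i => [p, a, b, c, e].get i, hnd.injective_get⟩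
  obtain ⟨a0, ha0, had⟩ := exists_smul_dodec0 hd
  have hxd : ∀ i, x i ∈ dod0 := fun i => by
    have hm : invBase.getD i.val 0 ∈ invBase := by
      rw [List.getD_eq_getElem _ _ (by omega)]; exact List.getElem_mem _
    exact mem_toSet.2 (by
      show dodec0.testBit (idx (pt (invBase.getD i.val 0))) = true
      rw [idx_pt (hb _ hm).2]; exact (hb _ hm).1)
  let x' : Fin 5 ↪ GolayPt := x.trans ⟨a0, a0.injective⟩
  have hx' : ∀ i, x' i ∈ d := fun i => by
    rw [← had]; exact Finset.smul_mem_smul_finset (a := a0) (hxd i)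
  have hy : ∀ i, y i ∈ d := fun i => hd5 _ (List.get_mem _ _)
  obtain ⟨k0, hk0, hk0d, hk0x⟩ := exists_five_dodecad hd hx' hy
  let k : ↥M24 := ⟨k0 * a0, mul_mem hk0 ha0⟩
  have hkd : k • dod0 = d := by
    show (k0 * a0) • dod0 = d
    rw [mul_smul, had, hk0d]
  have hkx : ∀ i, k • x i = y i := hk0x
  have hkp : k • pt 0 = p := by
    have := hkx 0
    rwa [show x 0 = pt 0 from congrArg pt hb0] at this
  refine ⟨k, hkd, hkp, fun t htr => ?_⟩
  obtain ⟨t', ⟨ht'd, ht'p⟩, ht'r⟩ := exists_baseOK ht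
  obtain rfl : t' = t := Subtype.ext (ht'r.inj htr)
  have hmem : k * t' * k⁻¹ ∈ MulAction.stabilizer M24 d := by
    rw [MulAction.mem_stabilizer_iff, mul_smul, mul_smul, ← hkd, inv_smul_smul]
    exact congrArg (k • ·) ht'd
  have himg' : ∀ i : Fin 5, t' • x i = x ((![0, 2, 1, 4, 3] : Fin 5 → Fin 5) i) := by
    intro i
    have h24 : invBase.getD i.val 0 < 24 := by
      rw [List.getD_eq_getElem _ _ (by omega)]; exact (hb _ (List.getElem_mem _)).2
    have hg' : getP invElt (invBase.getD i.val 0) =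
        ([0, invBase.getD 2 0, invBase.getD 1 0, invBase.getD 4 0, invBase.getD 3 0] : List ℕ).getD
          i.val 0 := by
      rw [← himg, List.getD_eq_getElem _ _ (by omega), List.getD_eq_getElem _ _ (by simp; omega),
        List.getElem_map]
    show (t' : Equiv.Perm GolayPt) (pt _) = pt _
    rw [← pt_idx ((t' : Equiv.Perm GolayPt) _), ← htr _ h24, hg']
    refine congrArg pt ?_
    fin_cases i <;> first | exact hb0.symm | simp
  let y' : Fin 5 ↪ GolayPt :=
    (⟨![0, 2, 1, 4, 3], by decide⟩ : Fin 5 ↪ Fin 5).trans y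
  have hu := existsUnique_five_dodecad hd y y' hy fun i => hy _
  have e1 := hu.unique (y₁ := ⟨k * t' * k⁻¹, hmem⟩) (y₂ := ⟨g, hg.1⟩) (fun i => by
      show (k * t' * k⁻¹) • y i = y ((![0, 2, 1, 4, 3] : Fin 5 → Fin 5) i)
      rw [← hkx i, mul_smul, mul_smul, inv_smul_smul, himg', hkx])
    (fun i => by
      show g • y i = y ((![0, 2, 1, 4, 3] : Fin 5 → Fin 5) i)
      fin_cases i
      · exact hg.2
      · exact ea
      · exact eb
      · exact ec
      · exact ee)
  exact congrArg Subtype.val e1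

theorem repIn_invCent {e : ℕ × ℕ × ℕ × ℕ × ℕ} (he : e ∈ invCent) {t : ↥M24}
    (ht : Rep (t : Equiv.Perm GolayPt) invElt) :
    RepIn ((dodPtStab dod0 (pt 0) ⊓ Subgroup.centralizer {t}).map M24.subtype) e.1 := by
  have h := List.all_eq_true.1 invCent_ok.2.2.1 e he
  simp only [Bool.and_eq_true, Nat.beq_eq] at h
  obtain ⟨g, hg, hga⟩ := exists_baseOK h.1
  refine ⟨g, ⟨g, ⟨hg, Subgroup.mem_centralizer_singleton_iff.2 (Subtype.ext ?_)⟩, rfl⟩, hga⟩
  have h1 := hga.mul ht
  rw [h.2] at h1
  exact h1.inj (ht.mul hga)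

/-- a point and a further point moved by the involution, away from the first pair -/
def invPairOK (u v : ℕ) : Bool :=
  dodec0.testBit u && dodec0.testBit v && !Nat.beq (getP invElt u) u &&
    !Nat.beq (getP invElt v) v && !Nat.beq u v && !Nat.beq (getP invElt u) v

theorem invPairs_card :
    ((List.range 24 ×ˢ List.range 24).filter fun e => invPairOK e.1 e.2).length = 48 ∧
      invPairOK (invBase.getD 1 0) (invBase.getD 3 0) = true := by decide +kernel

theorem natCard_cent_le {t : ↥M24} (ht : Rep (t : Equiv.Perm GolayPt) invElt) :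
    Nat.card ↥(dodPtStab dod0 (pt 0) ⊓ Subgroup.centralizer {t}) ≤ 48 := by
  classical
  set C := dodPtStab dod0 (pt 0) ⊓ Subgroup.centralizer {t}
  obtain ⟨-, -, -, -, -, himg, hlen, hnd, hb, hb0, -⟩ := invCent_ok
  simp only [List.all_eq_true, Bool.and_eq_true, Nat.blt_eq] at hb
  have hb' : ∀ i, i < 5 → invBase.getD i 0 ∈ invBase := fun i hi => by
    rw [List.getD_eq_getElem _ _ (by omega)]; exact List.getElem_mem _
  have hp := invPairs_card.2
  simp only [invPairOK, Bool.and_eq_true, Bool.not_eq_true', Bool.eq_false_iff, ne_eq,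
    Nat.beq_eq] at hp
  let A := pt (invBase.getD 1 0)
  let C3 := pt (invBase.getD 3 0)
  let F : C → ℕ × ℕ := fun g => (idx ((g : ↥M24) • A), idx ((g : ↥M24) • C3))
  have hti : ∀ u < 24, idx (t • pt u) = getP invElt u := fun u hu => (ht u hu).symm
  have hcomm : ∀ (g : C) (z : GolayPt), t • (g : ↥M24) • z = (g : ↥M24) • t • z := fun g z => by
    rw [← mul_smul, ← mul_smul, Subgroup.mem_centralizer_singleton_iff.1 g.2.2]
  have hFmem : ∀ g : C,
      F g ∈ (List.range 24 ×ˢ List.range 24).filter fun e => invPairOK e.1 e.2 := by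
    intro g
    rw [List.mem_filter, List.mem_product, List.mem_range, List.mem_range]
    refine ⟨⟨idx_lt _, idx_lt _⟩, ?_⟩
    have hgd : (g : ↥M24) • dod0 = dod0 := g.2.1.1
    have hin : ∀ u ∈ invBase, dodec0.testBit (idx ((g : ↥M24) • pt u)) = true := fun u hu => by
      refine mem_toSet.1 ?_
      have h1 : pt u ∈ dod0 := mem_toSet.2 (by rw [idx_pt (hb u hu).2]; exact (hb u hu).1)
      have h2 := Finset.smul_mem_smul_finset (a := (g : ↥M24)) h1
      rwa [hgd] at h2
    have hget : ∀ u < 24, getP invElt (idx ((g : ↥M24) • pt u))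
        = idx ((g : ↥M24) • pt (getP invElt u)) := fun u hu => by
      rw [← hti _ (idx_lt _), pt_idx, hcomm, ← hti _ hu, pt_idx]
    have hi : ∀ u v, u < 24 → v < 24 → idx ((g : ↥M24) • pt u) = idx ((g : ↥M24) • pt v) → u = v :=
      fun u v hu hv h => by
        have := congrArg idx (smul_left_cancel _ ((pt_idx _).symm.trans
          ((congrArg pt h).trans (pt_idx _))))
        rwa [idx_pt hu, idx_pt hv] at this
    have h1 := hb _ (hb' 1 (by norm_num))
    have h3 := hb _ (hb' 3 (by norm_num))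
    have ht24 : ∀ u < 24, getP invElt u < 24 := fun u hu => by rw [← hti u hu]; exact idx_lt _
    simp only [invPairOK, Bool.and_eq_true, Bool.not_eq_true', Bool.eq_false_iff, ne_eq, Nat.beq_eq]
    refine ⟨⟨⟨⟨⟨hin _ (hb' 1 (by norm_num)), hin _ (hb' 3 (by norm_num))⟩, ?_⟩, ?_⟩, ?_⟩, ?_⟩
    · exact fun h => hp.1.1.1.2 (hi _ _ (ht24 _ h1.2) h1.2 ((hget _ h1.2).symm.trans h))
    · exact fun h => hp.1.1.2 (hi _ _ (ht24 _ h3.2) h3.2 ((hget _ h3.2).symm.trans h))
    · exact fun h => hp.1.2 (hi _ _ h1.2 h3.2 h)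
    · exact fun h => hp.2 (hi _ _ (ht24 _ h1.2) h3.2 ((hget _ h1.2).symm.trans h))
  have hinj : Function.Injective F := by
    intro g g' h
    obtain ⟨hA, hC⟩ := Prod.ext_iff.1 h
    replace hA : (g : ↥M24) • A = (g' : ↥M24) • A :=
      (pt_idx _).symm.trans ((congrArg pt hA).trans (pt_idx _))
    replace hC : (g : ↥M24) • C3 = (g' : ↥M24) • C3 :=
      (pt_idx _).symm.trans ((congrArg pt hC).trans (pt_idx _))
    have himg' : ∀ i, i < 5 → pt (getP invElt (invBase.getD i 0)) = t • pt (invBase.getD i 0) :=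
      fun i hi => by rw [← hti _ (hb _ (hb' i hi)).2, pt_idx]
    have h2 : t • A = pt (invBase.getD 2 0) := by
      show t • pt (invBase.getD 1 0) = _
      rw [← himg' 1 (by norm_num)]
      congr 1
    have h4 : t • C3 = pt (invBase.getD 4 0) := by
      show t • pt (invBase.getD 3 0) = _
      rw [← himg' 3 (by norm_num)]
      congr 1
    let x : Fin 5 ↪ GolayPt := ⟨fun i => pt (invBase.getD i.val 0), fun i j h => by
      replace h := congrArg idx h
      rw [idx_pt (hb _ (hb' _ i.isLt)).2, idx_pt (hb _ (hb' _ j.isLt)).2,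
        List.getD_eq_getElem _ _ (by omega), List.getD_eq_getElem _ _ (by omega)] at h
      exact Fin.ext (hnd.getElem_inj_iff.1 h)⟩
    have hxd : ∀ i, x i ∈ dod0 := fun i => mem_toSet.2 (by
      show dodec0.testBit (idx (pt (invBase.getD i.val 0))) = true
      rw [idx_pt (hb _ (hb' _ i.isLt)).2]; exact (hb _ (hb' _ i.isLt)).1)
    let y : Fin 5 ↪ GolayPt := x.trans ⟨fun z => (g : ↥M24) • z, fun _ _ h => smul_left_cancel _ h⟩
    have hyd : ∀ i, y i ∈ dod0 := fun i => by
      have h2 := Finset.smul_mem_smul_finset (a := (g : ↥M24)) (hxd i)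
      rwa [show (g : ↥M24) • dod0 = dod0 from g.2.1.1] at h2
    have e := (existsUnique_five_dodecad dodec0_mem x y hxd hyd).unique
      (y₁ := ⟨(g : ↥M24), g.2.1.1⟩) (y₂ := ⟨(g' : ↥M24), g'.2.1.1⟩) (fun i => rfl) (fun i => by
        show (g' : ↥M24) • pt (invBase.getD i.val 0) = (g : ↥M24) • pt (invBase.getD i.val 0)
        fin_cases i
        · show (g' : ↥M24) • pt (invBase.getD 0 0) = (g : ↥M24) • pt (invBase.getD 0 0)
          rw [hb0]
          exact (show (g' : ↥M24) • pt 0 = pt 0 from g'.2.1.2).trans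
            (show (g : ↥M24) • pt 0 = pt 0 from g.2.1.2).symm
        · exact hA.symm
        · show (g' : ↥M24) • pt (invBase.getD 2 0) = (g : ↥M24) • pt (invBase.getD 2 0)
          rw [← h2, ← hcomm, ← hcomm, hA]
        · exact hC.symm
        · show (g' : ↥M24) • pt (invBase.getD 4 0) = (g : ↥M24) • pt (invBase.getD 4 0)
          rw [← h4, ← hcomm, ← hcomm, hC])
    exact Subtype.ext (congrArg (fun z : ↥(MulAction.stabilizer M24 dod0) => (z : ↥M24)) e)
  calc Nat.card C ≤ Nat.card {e // e ∈ ((List.range 24 ×ˢ List.range 24).filter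
        fun e => invPairOK e.1 e.2).toFinset} :=
        Nat.card_le_card_of_injective (fun g => ⟨F g, List.mem_toFinset.2 (hFmem g)⟩)
          fun g g' h => hinj (congrArg Subtype.val h)
    _ ≤ 48 := by
        rw [Nat.card_eq_finsetCard]
        exact (List.toFinset_card_le _).trans invPairs_card.1.le

theorem cent_iso {t : ↥M24} (ht : Rep (t : Equiv.Perm GolayPt) invElt) :
    Nonempty (↥(dodPtStab dod0 (pt 0) ⊓ Subgroup.centralizer {t}) ≃* GL (Fin 2) (ZMod 3)) := by
  classical
  set K := dodPtStab dod0 (pt 0) ⊓ Subgroup.centralizer {t}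
  obtain ⟨hd, hlen, -⟩ := invCent_ok
  obtain ⟨hdet, hact, hv24, hv9, hnd, hlt3⟩ := invCent_mat
  have hvlt : ∀ v, invVec.getD (vecIdx v) 0 < 24 := fun v => by
    rw [List.getD_eq_getElem _ _ (hv9.symm ▸ vecIdx_lt v)]
    simpa using List.all_eq_true.1 hv24 _ (List.getElem_mem _)
  have hrep : ∀ g : ↥K, ∃ e ∈ invCent, Rep ((g : M24) : Equiv.Perm GolayPt) e.1 := fun g => by
    obtain ⟨a, ha, hr⟩ := exists_rep_of_card (G := K.map M24.subtype) (l := invCent.map Prod.fst) hd
      (fun a ha => by obtain ⟨e, he, rfl⟩ := List.mem_map.1 ha; exact repIn_invCent he ht)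
      (by rw [List.length_map, hlen, ← Nat.card_congr
        (K.equivMapOfInjective _ M24.subtype_injective).toEquiv]; exact natCard_cent_le ht)
      ⟨(g : M24), g.2, rfl⟩
    obtain ⟨e, he, rfl⟩ := List.mem_map.1 ha
    exact ⟨e, he, hr⟩
  have hstep : ∀ (g : ↥M24) (e : ℕ × ℕ × ℕ × ℕ × ℕ) (he : e ∈ invCent),
      Rep (g : Equiv.Perm GolayPt) e.1 → ∀ v, g • invPt v = invPt ((mulVecPerm (Fin 2) (ZMod 3)
        (Matrix.GeneralLinearGroup.mkOfDetNeZero _ (hdet e he))) v) := by
    intro g e he hg v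
    show (g : Equiv.Perm GolayPt) (pt _) = pt (invVec.getD (vecIdx ((centMat e).mulVec v)) 0)
    rw [← hact e he v, hg _ (hvlt v), pt_idx]
  have hle : K ≤ equivarSub invPt (mulVecPerm (Fin 2) (ZMod 3)) := fun g hg => by
    obtain ⟨e, he, hr⟩ := hrep ⟨g, hg⟩
    exact ⟨_, hstep g e he hr⟩
  let φ := equivarHom invPt_injective (mulVecPerm_injective _ _) K hle
  have hval : ∀ (g : K) e (he : e ∈ invCent), Rep ((g : ↥M24) : Equiv.Perm GolayPt) e.1 →
      φ g = Matrix.GeneralLinearGroup.mkOfDetNeZero _ (hdet e he) := fun g e he hr =>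
    equivarHom_eq invPt_injective (mulVecPerm_injective _ _) K hle (hstep g e he hr)
  have hinj : Function.Injective φ := by
    intro g g' h
    obtain ⟨e, he, hr⟩ := hrep g
    obtain ⟨e', he', hr'⟩ := hrep g'
    rw [hval g e he hr, hval g' e' he' hr'] at h
    have hm : centMat e = centMat e' := congrArg Units.val h
    obtain ⟨a, b, c, d, f⟩ := e
    obtain ⟨a', b', c', d', f'⟩ := e'
    have l1 := hlt3 _ he
    have l2 := hlt3 _ he'
    have key : ∀ x y : ℕ, x < 3 → y < 3 → (x : ZMod 3) = (y : ZMod 3) → x = y := by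
      intro x y hx hy hxy
      rw [ZMod.natCast_eq_natCast_iff'] at hxy
      omega
    have h00 := key _ _ l1.1 l2.1 (congrFun (congrFun hm 0) 0)
    have h01 := key _ _ l1.2.1 l2.2.1 (congrFun (congrFun hm 0) 1)
    have h10 := key _ _ l1.2.2.1 l2.2.2.1 (congrFun (congrFun hm 1) 0)
    have h11 := key _ _ l1.2.2.2 l2.2.2.2 (congrFun (congrFun hm 1) 1)
    simp only at h00 h01 h10 h11
    have := List.inj_on_of_nodup_map hnd he he' (by simp [h00, h01, h10, h11])
    obtain rfl : a = a' := congrArg Prod.fst this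
    exact Subtype.ext (Subtype.ext (hr.inj hr'))
  refine ⟨MulEquiv.ofBijective φ (hinj.bijective_of_nat_card_le ?_)⟩
  have hGL : Nat.card (GL (Fin 2) (ZMod 3)) = 48 := by
    rw [Matrix.card_GL_field]
    simp [Fin.prod_univ_two]
  rw [hGL]
  have hge : (invCent.map Prod.fst).toFinset.card ≤ Nat.card K := by
    have hex : ∀ a : {a // a ∈ (invCent.map Prod.fst).toFinset},
        RepIn (K.map M24.subtype) a.1 := fun a => by
      obtain ⟨e, he, hea⟩ := List.mem_map.1 (List.mem_toFinset.1 a.2)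
      exact hea ▸ repIn_invCent he ht
    choose f hf hr using hex
    rw [← Nat.card_eq_finsetCard, Nat.card_congr (K.equivMapOfInjective _
      M24.subtype_injective).toEquiv]
    exact Nat.card_le_card_of_injective (fun a => (⟨f a, hf a⟩ : K.map M24.subtype)) fun a b h =>
      Subtype.ext (distinctP_inj hd (List.mem_toFinset.1 a.2) (List.mem_toFinset.1 b.2) (hr a)
        (by rw [show f a = f b from congrArg Subtype.val h]; exact hr b))
  rwa [List.toFinset_card_of_nodup ((of_decide_eq_true hd :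
    ((invCent.map Prod.fst).map _).Nodup).of_map _), List.length_map, hlen] at hge

end CfsgLib.Spor
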