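import Cfsg.Agent.Lib.Spor.Transit

/-!
Indexed families of objects acted on by permutations of the 24 points: tables, orbit trees on
indices and counting by Boolean tests.
-/

set_option autoImplicit false

namespace CfsgLib.Spor

open Cfsg
open scoped Pointwise

/-- entry `i` of a table stored in chunks of 64 fields of `w` bits -/
def getT (w : ℕ) (tbl : List ℕ) (i : ℕ) : ℕ :=
  ((tbl.getD (i / 64) 0) >>> (w * (i % 64))) &&& (2 ^ w - 1)

/-- the bit set of a list of indices -/
def idxSet : List ℕ → ℕ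
  | [] => 0
  | i :: r => (1 <<< i) ||| idxSet r

theorem testBit_idxSet {l : List ℕ} {i : ℕ} : (idxSet l).testBit i = true ↔ i ∈ l := by
  induction l with
  | nil => simp [idxSet]
  | cons a r ih =>
    rw [idxSet, Nat.testBit_or, Bool.or_eq_true, ih, Nat.one_shiftLeft, Nat.testBit_two_pow]
    simp [eq_comm]

/-- depth-first check on indices: entry `(i, g, k)` drops `k` stack entries, and then generator
`g % 64` sends the top object to object `i`, with hint `g / 64` for the action test -/
def checkIdxTree (step : ℕ → ℕ → ℕ → ℕ → Bool) (n : ℕ) (gens : List ℕ) :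
    List (ℕ × ℕ × ℕ) → List ℕ → Bool
  | [], _ => true
  | (i, g, k) :: r, st =>
    match st.drop k with
    | [] => false
    | top :: rest =>
      Nat.blt (g % 64) gens.length && Nat.blt i n && step (gens.getD (g % 64) 0) (g / 64) top i
        && checkIdxTree step n gens r (i :: top :: rest)

/-- indices below `n` passing a test -/
def classList (n : ℕ) (test : ℕ → Bool) : List ℕ := (List.range n).filter test

/-- the tree from `i0` reaches every index passing the test -/
def idxOrbitOK (step : ℕ → ℕ → ℕ → ℕ → Bool) (n : ℕ) (gens : List ℕ) (i0 : ℕ)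
    (r : List (ℕ × ℕ × ℕ)) (test : ℕ → Bool) : Bool :=
  Nat.blt i0 n && checkIdxTree step n gens r [i0]
    && Nat.beq (idxSet (i0 :: r.map Prod.fst) &&& idxSet (classList n test))
        (idxSet (classList n test))

variable {X : Type*}

/-- an indexed enumeration, without repetition, of a set of objects -/
structure Indexing (S : Set X) where
  /-- number of objects -/
  n : ℕ
  /-- the object with a given index -/
  sem : ℕ → X
  mem : ∀ i < n, sem i ∈ S
  complete : ∀ x ∈ S, ∃ i < n, sem i = x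
  inj : ∀ i < n, ∀ j < n, sem i = sem j → i = j

theorem Indexing.ncard_setOf {S : Set X} (I : Indexing S) {P : X → Prop} {test : ℕ → Bool}
    (h : ∀ i < I.n, test i = true ↔ P (I.sem i)) :
    {x | x ∈ S ∧ P x}.ncard = (classList I.n test).length := by
  classical
  have hset : {x | x ∈ S ∧ P x} = ↑((classList I.n test).toFinset.image I.sem) := by
    ext x
    simp only [classList, Set.mem_setOf_eq, Finset.coe_image, Set.mem_image, Finset.mem_coe,
      List.mem_toFinset, List.mem_filter, List.mem_range]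
    constructor
    · rintro ⟨hx, hP⟩
      obtain ⟨i, hi, rfl⟩ := I.complete x hx
      exact ⟨i, ⟨hi, (h i hi).2 hP⟩, rfl⟩
    · rintro ⟨i, ⟨hi, ht⟩, rfl⟩
      exact ⟨I.mem i hi, (h i hi).1 ht⟩
  rw [hset, Set.ncard_coe_finset, Finset.card_image_of_injOn, List.toFinset_card_of_nodup]
  · exact List.nodup_range.filter _
  · intro i hi j hj hij
    simp only [classList, Finset.mem_coe, List.mem_toFinset, List.mem_filter,
      List.mem_range] at hi hj
    exact I.inj i hi.1 j hj.1 hij

theorem Indexing.ncard {S : Set X} (I : Indexing S) : S.ncard = I.n := by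
  have h := I.ncard_setOf (P := fun _ => True) (test := fun _ => true) (by simp)
  simpa [classList] using h

variable [MulAction (Equiv.Perm GolayPt) X]

/-- `step` soundly describes the action on the indexed objects -/
def StepOK {S : Set X} (I : Indexing S) (step : ℕ → ℕ → ℕ → ℕ → Bool) : Prop :=
  ∀ (σ : Equiv.Perm GolayPt) (a j top i : ℕ), σ ∈ M24 → Rep σ a → top < I.n → i < I.n →
    step a j top i = true → σ • I.sem top = I.sem i

theorem Indexing.orbit_of_tree {S : Set X} (I : Indexing S) {step : ℕ → ℕ → ℕ → ℕ → Bool}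
    (hstep : StepOK I step) {K : Subgroup (Equiv.Perm GolayPt)} {gens : List ℕ}
    (hK : K ≤ M24) (hgens : ∀ a ∈ gens, RepIn K a) {x0 : X} :
    ∀ (r : List (ℕ × ℕ × ℕ)) (st : List ℕ), checkIdxTree step I.n gens r st = true →
      (∀ i ∈ st, i < I.n ∧ ∃ g ∈ K, g • x0 = I.sem i) →
      ∀ e ∈ r, e.1 < I.n ∧ ∃ g ∈ K, g • x0 = I.sem e.1 := by
  intro r
  induction r with
  | nil => simp
  | cons x r ih =>
    obtain ⟨i, gi, k⟩ := x
    intro st hc hst
    simp only [checkIdxTree] at hc
    cases hd : st.drop k with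
    | nil => rw [hd] at hc; simp at hc
    | cons top rest =>
      rw [hd] at hc
      simp only [Bool.and_eq_true, Nat.blt_eq] at hc
      obtain ⟨⟨⟨hgi, hi⟩, hs⟩, hr⟩ := hc
      have hmem : ∀ y ∈ top :: rest, y < I.n ∧ ∃ g ∈ K, g • x0 = I.sem y := fun y hy =>
        hst y (List.mem_of_mem_drop (hd ▸ hy))
      obtain ⟨σ, hσ, hσa⟩ := hgens (gens.getD (gi % 64) 0)
        (by rw [List.getD_eq_getElem _ _ hgi]; exact List.getElem_mem hgi)
      obtain ⟨htop, g, hg, hgt⟩ := hmem top List.mem_cons_self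
      have hnew : i < I.n ∧ ∃ g ∈ K, g • x0 = I.sem i :=
        ⟨hi, σ * g, K.mul_mem hσ hg, by rw [mul_smul, hgt, hstep σ _ _ top i (hK hσ) hσa htop hi hs]⟩
      intro e he
      rcases List.mem_cons.1 he with rfl | he
      · exact hnew
      · exact ih _ hr (fun y hy => by
          rcases List.mem_cons.1 hy with rfl | hy
          · exact hnew
          · exact hmem y hy) e he

theorem Indexing.exists_smul {S : Set X} (I : Indexing S) {step : ℕ → ℕ → ℕ → ℕ → Bool}
    (hstep : StepOK I step) {K : Subgroup (Equiv.Perm GolayPt)} {gens : List ℕ}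
    (hK : K ≤ M24) (hgens : ∀ a ∈ gens, RepIn K a) {i0 : ℕ} {r : List (ℕ × ℕ × ℕ)} {test : ℕ → Bool}
    (h : idxOrbitOK step I.n gens i0 r test = true) {i : ℕ} (hi : i < I.n) (ht : test i = true) :
    ∃ g ∈ K, g • I.sem i0 = I.sem i := by
  simp only [idxOrbitOK, Bool.and_eq_true, Nat.blt_eq, Nat.beq_eq] at h
  obtain ⟨⟨h0, h1⟩, h2⟩ := h
  have hall := I.orbit_of_tree hstep hK hgens (x0 := I.sem i0) r [i0] h1
    (by simpa using ⟨h0, 1, K.one_mem, one_smul _ _⟩)
  have hbit : (idxSet (i0 :: r.map Prod.fst) &&& idxSet (classList I.n test)).testBit i = true := by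
    rw [h2, testBit_idxSet, classList, List.mem_filter, List.mem_range]
    exact ⟨hi, ht⟩
  rw [Nat.testBit_and, Bool.and_eq_true, testBit_idxSet] at hbit
  rcases List.mem_cons.1 hbit.1 with rfl | hv
  · exact ⟨1, K.one_mem, one_smul _ _⟩
  · obtain ⟨e, he, rfl⟩ := List.mem_map.1 hv
    exact (hall e he).2

/-- any two objects in an orbit class are related by an element of `K` -/
theorem Indexing.exists_smul_pair {S : Set X} (I : Indexing S) {step : ℕ → ℕ → ℕ → ℕ → Bool}
    (hstep : StepOK I step) {K : Subgroup (Equiv.Perm GolayPt)} {gens : List ℕ}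
    (hK : K ≤ M24) (hgens : ∀ a ∈ gens, RepIn K a) {i0 : ℕ} {r : List (ℕ × ℕ × ℕ)} {test : ℕ → Bool}
    (h : idxOrbitOK step I.n gens i0 r test = true) {P : X → Prop}
    (hP : ∀ i < I.n, test i = true ↔ P (I.sem i)) {x y : X} (hx : x ∈ S) (hPx : P x)
    (hy : y ∈ S) (hPy : P y) : ∃ g ∈ K, g • x = y := by
  obtain ⟨i, hi, rfl⟩ := I.complete x hx
  obtain ⟨j, hj, rfl⟩ := I.complete y hy
  obtain ⟨g, hg, h1⟩ := I.exists_smul hstep hK hgens h hi ((hP i hi).2 hPx)
  obtain ⟨k, hk, h2⟩ := I.exists_smul hstep hK hgens h hj ((hP j hj).2 hPy)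
  exact ⟨k * g⁻¹, K.mul_mem hk (K.inv_mem hg), by rw [mul_smul, ← h1, inv_smul_smul, h2]⟩

/-- the orbit of an object is exactly its class, for an invariant class -/
theorem Indexing.orbit_eq {S : Set X} (I : Indexing S) {step : ℕ → ℕ → ℕ → ℕ → Bool}
    (hstep : StepOK I step) {K : Subgroup (Equiv.Perm GolayPt)} {gens : List ℕ}
    (hK : K ≤ M24) (hgens : ∀ a ∈ gens, RepIn K a) {i0 : ℕ} {r : List (ℕ × ℕ × ℕ)} {test : ℕ → Bool}
    (h : idxOrbitOK step I.n gens i0 r test = true) {P : X → Prop}
    (hP : ∀ i < I.n, test i = true ↔ P (I.sem i))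
    (hinv : ∀ g ∈ K, ∀ x ∈ S, P x → g • x ∈ S ∧ P (g • x)) {x : X} (hx : x ∈ S) (hPx : P x) :
    {y | ∃ g ∈ K, g • x = y} = {y | y ∈ S ∧ P y} := by
  ext y
  constructor
  · rintro ⟨g, hg, rfl⟩
    exact hinv g hg x hx hPx
  · rintro ⟨hy, hPy⟩
    exact I.exists_smul_pair hstep hK hgens h hP hx hPx hy hPy

/-- all points listed in a table are recovered -/
theorem getT_map_eq {w n : ℕ} {tbl l : List ℕ} (h : (List.range n).map (getT w tbl) = l) :
    (∀ i < n, getT w tbl i ∈ l) ∧ (∀ m ∈ l, ∃ i < n, getT w tbl i = m) := by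
  subst h
  exact ⟨fun i hi => List.mem_map.2 ⟨i, List.mem_range.2 hi, rfl⟩,
    fun m hm => by simpa [List.mem_map] using hm⟩

theorem getT_inj {w n : ℕ} {tbl l : List ℕ} (h : (List.range n).map (getT w tbl) = l)
    (hl : l.Nodup) : ∀ i < n, ∀ j < n, getT w tbl i = getT w tbl j → i = j := by
  subst h
  intro i hi j hj hij
  exact List.inj_on_of_nodup_map hl (List.mem_range.2 hi) (List.mem_range.2 hj) hij

end CfsgLib.Spor
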