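import Mathlib
import Cfsg.Prelude.Def_SporadicB
import Cfsg.Agent.Lib.Involutions.Dihedral
import Cfsg.Agent.Lib.ThreeTransp.Basic

/-!
Elementary facts on 3-transpositions, 2-central involutions and Sylow 2-subgroups of involution
centralisers.
-/

set_option autoImplicit false

namespace CfsgLib.Spor

open Cfsg CfsgLib.Involutions CfsgLib.ThreeTransp

variable {G : Type*} [Group G]

theorem ts_commute_pair {E : Set G} (hE : IsThreeTranspositionSet E) {a b e : G} (ha : a ∈ E)
    (hb : b ∈ E) (he : e ∈ E) (hab : a ≠ b) (hc : Commute a b) :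
    Commute e (a * b) ↔ (Commute e a ∧ Commute e b) := by
  refine ⟨fun h => ?_, fun h => h.1.mul_right h.2⟩
  have hee := ts_mul_self hE he
  have hconj : e * (a * b) * e = a * b := commute_mul_self (hE.1 e he) h
  have key : ∀ a b : G, a ∈ E → b ∈ E → a ≠ b → Commute a b → e * (a * b) * e = a * b →
      Commute e a := by
    intro a b ha hb hab hc hconj
    by_contra hna
    by_cases hnb : Commute e b
    · have h1 : e * a * e * b = a * b := by
        rw [mul_assoc (e * a) e b, hnb.eq, ← mul_assoc, mul_assoc e a b]; exact hconj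
      have h2 : e * a * e = a := mul_right_cancel h1
      exact hna (by
        show e * a = a * e
        calc e * a = e * a * e * e := by rw [mul_assoc (e * a), ts_mul_self hE he, mul_one]
          _ = a * e := by rw [h2])
    · have hA : e * a * e = a * e * a := ts_braid hE he ha hna
      have hB : e * b * e = b * e * b := ts_braid hE he hb hnb
      have h1 : e * a * e * (e * b * e) = a * b := by
        rw [show e * a * e * (e * b * e) = e * (a * (e * e) * b) * e by group,
          ts_mul_self hE he, mul_one, hconj]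
      rw [hA, hB] at h1
      have h2 : e * (a * b) * e * b = b := by
        calc e * (a * b) * e * b = (a * a) * (e * (a * b) * e * b) := by
              rw [ts_mul_self hE ha, one_mul]
          _ = a * (a * e * a * (b * e * b)) := by simp only [mul_assoc]
          _ = a * (a * b) := by rw [h1]
          _ = b := by rw [← mul_assoc, ts_mul_self hE ha, one_mul]
      rw [hconj, mul_eq_right] at h2
      exact hab (by rw [← ts_inv hE ha, inv_eq_of_mul_eq_one_right h2])
  exact ⟨key a b ha hb hab hc hconj, key b a hb ha hab.symm hc.symm (by rw [← hc.eq, hconj])⟩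

theorem ts_commute_triple {E : Set G} (hE : IsThreeTranspositionSet E) {a b c e : G} (ha : a ∈ E)
    (hb : b ∈ E) (hc : c ∈ E) (he : e ∈ E) (hab : a ≠ b) (hac : a ≠ c) (hbc : b ≠ c)
    (h₁ : Commute a b) (h₂ : Commute a c) (h₃ : Commute b c) :
    Commute e (a * b * c) ↔ (Commute e a ∧ Commute e b ∧ Commute e c) := by
  refine ⟨fun h => ?_, fun h => (h.1.mul_right h.2.1).mul_right h.2.2⟩
  by_contra hall
  -- if `e` commutes with one of them it commutes with the product of the other two
  have one : ∀ a b c : G, a ∈ E → b ∈ E → a ≠ b → Commute a b →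
      Commute e (a * b * c) → Commute e c → Commute e a ∧ Commute e b := by
    intro a b c ha hb hab h₁ h hec
    have h' : Commute e (a * b) := by
      have := h.mul_right hec.inv_right
      rwa [mul_inv_cancel_right] at this
    exact (ts_commute_pair hE ha hb he hab h₁).1 h'
  by_cases hec : Commute e c
  · obtain ⟨x, y⟩ := one a b c ha hb hab h₁ h hec
    exact hall ⟨x, y, hec⟩
  by_cases heb : Commute e b
  · have h' : Commute e (a * c * b) := by rwa [mul_assoc, ← h₃.eq, ← mul_assoc]
    exact hec (one a c b ha hc hac h₂ h' heb).2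
  by_cases hea : Commute e a
  · have h' : Commute e (b * c * a) := by rwa [(h₁.symm.mul_left h₂.symm).eq, ← mul_assoc]
    exact hec (one b c a hb hc hbc h₃ h' hea).2
  -- none commutes
  have hp : a * b * c * (e * a * e) * (a * b * c) = e * a * e := by
    have h1 : Commute (a * b * c) (e * a * e) := by
      have ha' : Commute (a * b * c) a := by
        exact ((Commute.refl a).mul_left h₁.symm).mul_left h₂.symm
      exact (h.symm.mul_right ha').mul_right h.symm
    have hpp : a * b * c * (a * b * c) = 1 := by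
      have hab2 : (a * b) * (a * b) = 1 := by
        rw [show a * b * (a * b) = a * (b * a) * b by group, ← h₁.eq,
          show a * (a * b) * b = (a * a) * (b * b) by group, ts_mul_self hE ha, ts_mul_self hE hb,
          one_mul]
      rw [show a * b * c * (a * b * c) = (a * b) * (c * (a * b)) * c by group,
        ← (h₂.mul_left h₃).eq, show a * b * (a * b * c) * c = (a * b * (a * b)) * (c * c) by group,
        hab2, ts_mul_self hE hc, one_mul]
    rw [h1.eq, mul_assoc, hpp, mul_one]
  have hA : e * a * e = a * e * a := ts_braid hE he ha hea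
  have hB : e * b * e = b * e * b := ts_braid hE he hb heb
  have hC : e * c * e = c * e * c := ts_braid hE he hc hec
  -- `c e c = b (e a e) b`
  have h1 : c * e * c = b * (e * a * e) * b := by
    have hpa : a * b * c * (e * a * e) * (a * b * c) = b * c * e * (b * c) := by
      rw [hA]
      have e1 : a * b * c * a = b * c := by
        rw [← ((Commute.refl a).mul_right h₁).mul_right h₂ |>.eq, ← mul_assoc, ← mul_assoc,
          ts_mul_self hE ha, one_mul]
      have e2 : a * (a * b * c) = b * c := by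
        rw [← mul_assoc, ← mul_assoc, ts_mul_self hE ha, one_mul]
      calc a * b * c * (a * e * a) * (a * b * c) = a * b * c * a * e * (a * (a * b * c)) := by
            simp only [mul_assoc]
        _ = b * c * e * (b * c) := by rw [e1, e2]
    rw [hp] at hpa
    rw [hpa, show b * (b * c * e * (b * c)) * b = (b * b) * c * e * ((b * c) * b) by group,
      ts_mul_self hE hb, one_mul]
    congr 1
    rw [mul_assoc, ← h₃.eq, ← mul_assoc, ts_mul_self hE hb, one_mul]
  have h2 : c * e * c = a * (e * b * e) * a := by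
    rw [h1, hA, hB, show b * (a * e * a) * b = (b * a) * e * (a * b) by group, ← h₁.eq, h₁.eq]
    rw [show b * a = a * b from h₁.eq.symm]
    simp only [mul_assoc]
    rw [← h₁.eq]
  have h3 : c * e * c = c := by
    have hx : e * (c * e * c) * e = c := by
      rw [← hC, show e * (e * c * e) * e = (e * e) * c * (e * e) by group, ts_mul_self hE he,
        one_mul, mul_one]
    have hy : e * (a * (e * b * e) * a) * e = a * (e * b * e) * a := by
      calc e * (a * (e * b * e) * a) * e = (e * a * e) * b * (e * a * e) := by group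
        _ = (a * e * a) * b * (a * e * a) := by rw [hA]
        _ = a * e * (a * b * a) * e * a := by group
        _ = a * e * b * e * a := by rw [commute_mul_self (hE.1 a ha) h₁]
        _ = a * (e * b * e) * a := by group
    rw [h2] at hx
    rw [hy] at hx
    rw [h2, hx]
  have h4 : e = c := by
    calc e = (c * c) * e * (c * c) := by rw [ts_mul_self hE hc, one_mul, mul_one]
      _ = c * (c * e * c) * c := by group
      _ = c := by rw [h3, ts_mul_self hE hc, one_mul]
  exact hec (h4 ▸ Commute.refl c)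

theorem dihedralHom_injective {x y : G} (hx : orderOf x = 2) (hy : orderOf y = 2)
    (h : ¬ Commute x y) : Function.Injective (dihedralHom hx hy) := by
  rw [injective_iff_map_eq_one]
  rintro (i | i) hi
  · have h1 : (x * y) ^ (i.cast : ℤ) = 1 := hi
    rw [← orderOf_dvd_iff_zpow_eq_one, ← ZMod.intCast_zmod_eq_zero_iff_dvd,
      ZMod.intCast_zmod_cast] at h1
    rw [h1]; rfl
  · have h1 : x * (x * y) ^ (i.cast : ℤ) = 1 := hi
    refine absurd ?_ h
    have hxz : x = ((x * y) ^ (i.cast : ℤ))⁻¹ := eq_inv_of_mul_eq_one_left h1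
    have hcomm : Commute x (x * y) := Eq.mpr (congrArg (fun t => Commute t (x * y)) hxz)
      ((Commute.refl (x * y)).zpow_left _).inv_left
    have := (Commute.refl x).inv_right.mul_right hcomm
    rwa [inv_mul_cancel_left] at this

theorem closure_pair_iso_dihedral {x y : G} (hx : orderOf x = 2) (hy : orderOf y = 2)
    (h : ¬ Commute x y) :
    Nonempty (DihedralGroup (orderOf (x * y)) ≃* Subgroup.closure ({x, y} : Set G)) := by
  have hr : (dihedralHom hx hy).range = Subgroup.closure ({x, y} : Set G) := by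
    ext d
    rw [mem_closure_pair_iff hx hy, MonoidHom.mem_range]
    constructor
    · rintro ⟨(i | i), rfl⟩
      · exact ⟨_, Or.inl rfl⟩
      · exact ⟨_, Or.inr rfl⟩
    · rintro ⟨k, rfl | rfl⟩
      · refine ⟨DihedralGroup.r (k : ZMod _), ?_⟩
        show (x * y) ^ ((k : ZMod (orderOf (x * y))).cast : ℤ) = (x * y) ^ k
        rw [← orderOf_dvd_sub_iff_zpow_eq_zpow, ← ZMod.intCast_eq_intCast_iff_dvd_sub,
          ZMod.intCast_zmod_cast]
      · refine ⟨DihedralGroup.sr (k : ZMod _), ?_⟩
        show x * (x * y) ^ ((k : ZMod (orderOf (x * y))).cast : ℤ) = x * (x * y) ^ k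
        congr 1
        rw [← orderOf_dvd_sub_iff_zpow_eq_zpow, ← ZMod.intCast_eq_intCast_iff_dvd_sub,
          ZMod.intCast_zmod_cast]
  exact ⟨(MonoidHom.ofInjective (dihedralHom_injective hx hy h)).trans
    (MulEquiv.subgroupCongr hr)⟩

theorem closure_pair_iso_perm_three {E : Set G} (hE : IsThreeTranspositionSet E) {d e : G}
    (hd : d ∈ E) (he : e ∈ E) (h : ¬ Commute d e) :
    Nonempty (Subgroup.closure ({d, e} : Set G) ≃* Equiv.Perm (Fin 3)) := by
  have h0 : orderOf (Equiv.swap (0 : Fin 3) 1) = 2 := orderOf_eq_prime (by decide) (by decide)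
  have h1 : orderOf (Equiv.swap (1 : Fin 3) 2) = 2 := orderOf_eq_prime (by decide) (by decide)
  have hn : ¬ Commute (Equiv.swap (0 : Fin 3) 1) (Equiv.swap 1 2) := by
    unfold Commute SemiconjBy; decide
  have h3 : orderOf (Equiv.swap (0 : Fin 3) 1 * Equiv.swap 1 2) = 3 := by
    have : Fact (Nat.Prime 3) := ⟨by norm_num⟩
    exact orderOf_eq_prime (by decide) (by decide)
  have htop : Subgroup.closure ({Equiv.swap (0 : Fin 3) 1, Equiv.swap 1 2} : Set _) = ⊤ := by
    rw [eq_top_iff]
    intro σ _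
    rw [mem_closure_pair_iff h0 h1]
    have : ∀ τ : Equiv.Perm (Fin 3), ∃ k : Fin 3,
        τ = (Equiv.swap (0 : Fin 3) 1 * Equiv.swap 1 2) ^ (k : ℕ) ∨
        τ = Equiv.swap (0 : Fin 3) 1 * (Equiv.swap (0 : Fin 3) 1 * Equiv.swap 1 2) ^ (k : ℕ) := by
      decide
    obtain ⟨k, hk⟩ := this σ
    exact ⟨((k : ℕ) : ℤ), by simpa using hk⟩
  obtain ⟨f⟩ := closure_pair_iso_dihedral (hE.1 d hd) (hE.1 e he) h
  obtain ⟨g⟩ := closure_pair_iso_dihedral h0 h1 hn
  rw [ts_orderOf_three hE hd he h] at f
  rw [h3] at g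
  exact ⟨f.symm.trans (g.trans ((MulEquiv.subgroupCongr htop).trans Subgroup.topEquiv))⟩

theorem exists_fixed_transposition {E : Set G} (hE : IsThreeTranspositionSet E)
    (hconj : ∀ g : G, ∀ d ∈ E, g * d * g⁻¹ ∈ E) (x : G ≃* G) (hx : ∀ g : G, x (x g) = g)
    (hxE : ∀ d ∈ E, x d ∈ E) {a : G} (ha : a ∈ E) (h : ¬ Commute a (x a)) :
    ∃ d ∈ E, x d = d := by
  refine ⟨a * x a * a, ?_, ?_⟩
  · have := hconj a (x a) (hxE a ha)
    rwa [ts_inv hE ha] at this
  · rw [map_mul, map_mul, hx]
    exact (ts_braid hE ha (hxE a ha) h).symm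

theorem swaps_threeTranspositionSet (n : ℕ) :
    IsThreeTranspositionSet {σ : Equiv.Perm (Fin n) | σ.IsSwap} := by
  constructor
  · rintro d ⟨a, b, hab, rfl⟩
    exact (Equiv.Perm.IsSwap.orderOf ⟨a, b, hab, rfl⟩)
  · rintro d ⟨a, b, hab, rfl⟩ e ⟨c, f, hcf, rfl⟩
    have key : ∀ p q r : Fin n, p ≠ q → p ≠ r →
        (Equiv.swap p q * Equiv.swap p r) ^ 2 = 1 ∨ (Equiv.swap p q * Equiv.swap p r) ^ 3 = 1 := by
      intro p q r hpq hpr
      by_cases hqr : q = r
      · subst hqr; left; rw [Equiv.swap_mul_self, one_pow]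
      · right
        rw [← (Equiv.Perm.isThreeCycle_swap_mul_swap_same hpq hpr hqr).orderOf]
        exact pow_orderOf_eq_one _
    by_cases h1 : a = c
    · subst h1; exact key a b f hab hcf
    by_cases h2 : a = f
    · subst h2; rw [Equiv.swap_comm c a]; exact key a b c hab (Ne.symm hcf)
    by_cases h3 : b = c
    · subst h3; rw [Equiv.swap_comm a b]; exact key b a f (Ne.symm hab) hcf
    by_cases h4 : b = f
    · subst h4
      rw [Equiv.swap_comm a b, Equiv.swap_comm c b]
      exact key b a c (Ne.symm hab) (Ne.symm hcf)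
    left
    have hd : Equiv.Perm.Disjoint (Equiv.swap a b) (Equiv.swap c f) := by
      intro z
      by_cases hza : z = a
      · subst hza; right; exact Equiv.swap_apply_of_ne_of_ne h1 h2
      by_cases hzb : z = b
      · subst hzb; right; exact Equiv.swap_apply_of_ne_of_ne h3 h4
      left; exact Equiv.swap_apply_of_ne_of_ne hza hzb
    rw [hd.commute.mul_pow, sq, sq, Equiv.swap_mul_self, Equiv.swap_mul_self, one_mul]

theorem swaps_threeTranspositionClass {n : ℕ} (hn : 2 ≤ n) :
    IsThreeTranspositionClass {σ : Equiv.Perm (Fin n) | σ.IsSwap} := by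
  refine ⟨swaps_threeTranspositionSet n, ?_, Equiv.Perm.closure_isSwap⟩
  have h01 : (⟨0, by omega⟩ : Fin n) ≠ ⟨1, by omega⟩ := by simp
  refine ⟨Equiv.swap ⟨0, by omega⟩ ⟨1, by omega⟩, ⟨_, _, h01, rfl⟩, ?_⟩
  ext σ
  show σ.IsSwap ↔ σ ∈ conjugatesOf _
  rw [show σ ∈ conjugatesOf (Equiv.swap (⟨0, by omega⟩ : Fin n) ⟨1, by omega⟩) ↔ IsConj (Equiv.swap (⟨0, by omega⟩ : Fin n) ⟨1, by omega⟩) σ from Iff.rfl]
  constructor
  · rintro ⟨a, b, hab, rfl⟩
    exact Equiv.Perm.isConj_swap h01 hab
  · intro h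
    obtain ⟨g, rfl⟩ := isConj_iff.1 h
    refine ⟨g ⟨0, by omega⟩, g ⟨1, by omega⟩, g.injective.ne h01, ?_⟩
    rw [Equiv.swap_apply_apply]

/-- The involution centraliser trick. -/
theorem bray_trick (a g : G) (ha : orderOf a = 2) :
    (∀ m : ℕ, orderOf (a * (g⁻¹ * a * g)) = 2 * m + 1 →
      Commute (g * (a * (g⁻¹ * a * g)) ^ m) a) ∧
    (∀ m : ℕ, orderOf (a * (g⁻¹ * a * g)) = 2 * m →
      Commute ((a * (g⁻¹ * a * g)) ^ m) a ∧ Commute ((a * (g * a * g⁻¹)) ^ m) a) := by
  have haa := invol_mul_self ha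
  have hsemi : ∀ h : G, h * h = 1 → SemiconjBy a (a * h) (a * h)⁻¹ := by
    intro h hh
    show a * (a * h) = (a * h)⁻¹ * a
    rw [mul_inv_rev, invol_inv ha, inv_eq_of_mul_eq_one_right hh, ← mul_assoc, haa, one_mul,
      mul_assoc, haa, mul_one]
  have half : ∀ h : G, h * h = 1 → ∀ m, orderOf (a * h) = 2 * m →
      Commute ((a * h) ^ m) a := by
    intro h hh m hm
    have h1 := (hsemi h hh).pow_right m
    have h2 : ((a * h)⁻¹) ^ m = (a * h) ^ m := by
      rw [inv_pow, inv_eq_iff_mul_eq_one, ← pow_add, ← two_mul, ← hm, pow_orderOf_eq_one]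
    rw [h2] at h1
    exact h1.eq.symm
  have hconj : ∀ k : G, (k⁻¹ * a * k) * (k⁻¹ * a * k) = 1 := by
    intro k
    rw [show (k⁻¹ * a * k) * (k⁻¹ * a * k) = k⁻¹ * (a * a) * k by group, haa, mul_one,
      inv_mul_cancel]
  refine ⟨fun m hm => ?_, fun m hm => ⟨half _ (hconj g) m hm, ?_⟩⟩
  · generalize hx : a * (g⁻¹ * a * g) = x at hm
    have h1 : SemiconjBy a x x⁻¹ := hx ▸ hsemi _ (hconj g)
    have h2 : a * x ^ m = (x ^ m)⁻¹ * a := by rw [← inv_pow]; exact (h1.pow_right m).eq
    have h3 : g⁻¹ * a * g = a * x := by rw [← hx, ← mul_assoc, haa, one_mul]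
    have h4 : x = (x ^ m)⁻¹ * (x ^ m)⁻¹ := by
      rw [← mul_inv_rev, eq_inv_iff_mul_eq_one, ← pow_add, ← pow_succ', ← two_mul, ← hm,
        pow_orderOf_eq_one]
    show g * x ^ m * a = a * (g * x ^ m)
    calc g * x ^ m * a = g * ((x ^ m) * a) := mul_assoc _ _ _
      _ = g * (a * (x ^ m)⁻¹) := by
          congr 1
          have := congrArg (fun t => x ^ m * t * (x ^ m)⁻¹) h2
          simpa [mul_assoc] using this
      _ = g * ((a * x) * x ^ m) := by
          congr 1
          rw [mul_assoc]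
          congr 1
          nth_rewrite 2 [h4]
          rw [mul_assoc, inv_mul_cancel, mul_one]
      _ = a * (g * x ^ m) := by rw [← h3]; group
  · have hk : (g * a * g⁻¹) * (g * a * g⁻¹) = 1 := by simpa using hconj g⁻¹
    refine half _ hk m ?_
    rw [← hm]
    have e1 : a * (g * a * g⁻¹) = (g * (a * (g⁻¹ * a * g)) * g⁻¹)⁻¹ := by
      rw [show g * (a * (g⁻¹ * a * g)) * g⁻¹ = (g * a * g⁻¹) * a by group, mul_inv_rev,
        invol_inv ha, inv_eq_of_mul_eq_one_right hk]
    rw [e1, orderOf_inv, orderOf_conj_eq]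

theorem mem_sylow_of_le_centralizer {p : ℕ} [Fact p.Prime] (P : Sylow p G) {t : G}
    (ht : orderOf t = p) (h : (P : Subgroup G) ≤ Subgroup.centralizer ({t} : Set G)) :
    t ∈ (P : Subgroup G) := by
  have hz : IsPGroup p (Subgroup.zpowers t) := by
    refine IsPGroup.of_card (n := 1) ?_
    rw [Nat.card_zpowers, ht, pow_one]
  have hn : (P : Subgroup G) ≤ Subgroup.normalizer (Subgroup.zpowers t : Set G) :=
    h.trans (fun x hx => by
      have hx' : x * t = t * x := Subgroup.mem_centralizer_singleton_iff.1 hx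
      rw [Subgroup.mem_normalizer_iff]
      intro u
      constructor
      · rintro ⟨k, rfl⟩
        refine ⟨k, ?_⟩
        have : Commute x (t ^ k) := (show Commute x t from hx').zpow_right k
        show t ^ k = x * t ^ k * x⁻¹
        rw [this.eq, mul_inv_cancel_right]
      · rintro ⟨k, hk⟩
        refine ⟨k, ?_⟩
        have : Commute x (t ^ k) := (show Commute x t from hx').zpow_right k
        have hk' : t ^ k = x * u * x⁻¹ := hk
        show t ^ k = u
        calc t ^ k = x⁻¹ * (x * t ^ k) := by group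
          _ = x⁻¹ * (t ^ k * x) := by rw [this.eq]
          _ = x⁻¹ * (x * u * x⁻¹ * x) := by rw [hk']
          _ = u := by group)
  have hsup := IsPGroup.to_sup_of_normal_right' P.isPGroup' hz hn
  have := P.is_maximal' hsup le_sup_left
  rw [← this]
  exact Subgroup.mem_sup_right (Subgroup.mem_zpowers t)

theorem isTwoCentralInvolution_iff {t : G} (ht : orderOf t = 2) :
    IsTwoCentralInvolution t ↔
      ∃ P : Sylow 2 G, (P : Subgroup G) ≤ Subgroup.centralizer ({t} : Set G) := by
  constructor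
  · rintro ⟨-, P, -, hP⟩
    exact ⟨P, fun x hx => Subgroup.mem_centralizer_singleton_iff.2 (hP x hx)⟩
  · rintro ⟨P, hP⟩
    exact ⟨ht, P, mem_sylow_of_le_centralizer P ht hP,
      fun x hx => Subgroup.mem_centralizer_singleton_iff.1 (hP hx)⟩

theorem exists_twoCentral [Finite G] (h : Even (Nat.card G)) :
    ∃ t : G, IsTwoCentralInvolution t := by
  let P : Sylow 2 G := default
  have hne : Nontrivial (P : Subgroup G) := by
    rw [Subgroup.nontrivial_iff_ne_bot]
    intro hbot
    have := P.not_dvd_index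
    rw [hbot, Subgroup.index_bot] at this
    exact this h.two_dvd
  have hc := P.isPGroup'.center_nontrivial
  obtain ⟨k, hk⟩ := (P.isPGroup'.to_subgroup (Subgroup.center (P : Subgroup G))).exists_card_eq
  have h2 : 2 ∣ Nat.card (Subgroup.center (P : Subgroup G)) := by
    rw [hk]
    refine dvd_pow_self 2 fun h0 => ?_
    rw [h0, pow_zero] at hk
    exact absurd hk (Nat.ne_of_gt (Finite.one_lt_card_iff_nontrivial.2 hc))
  obtain ⟨u, hu⟩ := exists_prime_orderOf_dvd_card' 2 h2
  refine ⟨((u : (P : Subgroup G)) : G), ?_, P, (u : (P : Subgroup G)).2, fun x hx => ?_⟩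
  · rw [Subgroup.orderOf_coe, Subgroup.orderOf_coe, hu]
  · exact congrArg Subtype.val (Subgroup.mem_center_iff.1 u.2 ⟨x, hx⟩)

/-- A Sylow subgroup of the centraliser of `z` in whose centre `z` is the only nontrivial element
is Sylow in the whole group. -/
theorem sylow_of_centralizer [Finite G] {p : ℕ} [Fact p.Prime] {z : G} (hz1 : z ≠ 1)
    (T : Subgroup G) (hTC : T ≤ Subgroup.centralizer ({z} : Set G)) (hT : IsPGroup p T)
    (hzT : z ∈ T)
    (hmax : ∀ U : Subgroup G, U ≤ Subgroup.centralizer ({z} : Set G) → IsPGroup p U → T ≤ U →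
      U = T)
    (hcen : ∀ u ∈ T, (∀ x ∈ T, x * u = u * x) → u = 1 ∨ u = z) :
    ∃ P : Sylow p G, (P : Subgroup G) = T := by
  obtain ⟨P, hP⟩ := hT.exists_le_sylow
  refine ⟨P, ?_⟩
  by_contra hne
  have hlt : T.subgroupOf (P : Subgroup G) < ⊤ := by
    rw [lt_top_iff_ne_top]
    intro htop
    exact hne (le_antisymm (Subgroup.subgroupOf_eq_top.1 htop) hP)
  have : Group.IsNilpotent (P : Subgroup G) := P.isPGroup'.isNilpotent
  obtain ⟨n, hn, hnT⟩ := Set.exists_of_ssubset
    (Group.normalizerCondition_of_isNilpotent _ hlt :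
      T.subgroupOf (P : Subgroup G) < Subgroup.normalizer (T.subgroupOf (P : Subgroup G) : Set _))
  have hconjmem : ∀ x ∈ T, (n : G) * x * (n : G)⁻¹ ∈ T := by
    intro x hx
    have := (Subgroup.mem_normalizer_iff.1 hn ⟨x, hP hx⟩).1
      (show (⟨x, hP hx⟩ : (P : Subgroup G)) ∈ T.subgroupOf _ from hx)
    exact this
  have hconjmem' : ∀ x ∈ T, (n : G)⁻¹ * x * (n : G) ∈ T := by
    intro x hx
    have := (Subgroup.mem_normalizer_iff.1 hn ⟨(n : G)⁻¹ * x * n,
      mul_mem (mul_mem (inv_mem n.2) (hP hx)) n.2⟩).2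
      (show (n : G) * ((n : G)⁻¹ * x * n) * (n : G)⁻¹ ∈ T by
        rw [show (n : G) * ((n : G)⁻¹ * x * n) * (n : G)⁻¹ = x by group]; exact hx)
    exact this
  have hfix : (n : G) * z * (n : G)⁻¹ = z := by
    refine (hcen _ (hconjmem z hzT) fun x hx => ?_).resolve_left fun h1 => hz1 ?_
    · have hc := Subgroup.mem_centralizer_singleton_iff.1 (hTC (hconjmem' x hx))
      calc x * ((n : G) * z * (n : G)⁻¹) = n * ((n : G)⁻¹ * x * n * z) * (n : G)⁻¹ := by group
        _ = n * (z * ((n : G)⁻¹ * x * n)) * (n : G)⁻¹ := by rw [hc]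
        _ = (n : G) * z * (n : G)⁻¹ * x := by group
    · exact conj_eq_one_iff.1 h1
  have hnC : (n : G) ∈ Subgroup.centralizer ({z} : Set G) := by
    rw [Subgroup.mem_centralizer_singleton_iff]
    calc (n : G) * z = (n : G) * z * (n : G)⁻¹ * n := (inv_mul_cancel_right _ _).symm
      _ = z * n := by rw [hfix]
  have hU : (T ⊔ Subgroup.zpowers (n : G)) ≤ (P : Subgroup G) :=
    sup_le hP (Subgroup.zpowers_le.2 n.2)
  have := hmax _ (sup_le hTC (Subgroup.zpowers_le.2 hnC)) (P.isPGroup'.to_le hU) le_sup_left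
  exact hnT (show (n : G) ∈ T from this ▸ Subgroup.mem_sup_right (Subgroup.mem_zpowers _))

theorem large_two_central [Finite G] {z : G} (hz : orderOf z = 2) (Q : Subgroup G)
    (hQC : Q ≤ Subgroup.centralizer ({z} : Set G))
    (hQ2 : IsPGroup 2 Q) (hZ : Nat.card (Subgroup.center Q) = 2)
    (hlarge : Subgroup.centralizer (Q : Set G) ≤ Q) :
    (∃ P : Sylow 2 G, (P : Subgroup G) ≤ Subgroup.centralizer ({z} : Set G)) ∧
      ∀ u : G, orderOf u = 2 →
        (∃ P : Sylow 2 G, (P : Subgroup G) ≤ Subgroup.centralizer ({u} : Set G)) → IsConj z u := by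
  have hzc : z ∈ Subgroup.centralizer (Q : Set G) := by
    rw [Subgroup.mem_centralizer_iff]
    exact fun q hq => Subgroup.mem_centralizer_singleton_iff.1 (hQC hq)
  have hzQ : z ∈ Q := hlarge hzc
  have hcen : ∀ u : G, (∀ q ∈ Q, q * u = u * q) → u = 1 ∨ u = z := by
    intro u hu
    have huQ : u ∈ Q := hlarge (Subgroup.mem_centralizer_iff.2 hu)
    have huc : (⟨u, huQ⟩ : Q) ∈ Subgroup.center Q :=
      Subgroup.mem_center_iff.2 fun q => Subtype.ext (hu q q.2)
    have hzc' : (⟨z, hzQ⟩ : Q) ∈ Subgroup.center Q :=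
      Subgroup.mem_center_iff.2 fun q =>
        Subtype.ext (Subgroup.mem_centralizer_singleton_iff.1 (hQC q.2))
    obtain ⟨a, b, hab, huniv⟩ := Nat.card_eq_two_iff.1 hZ
    have hall : ∀ w : Subgroup.center Q, w = 1 ∨ w = ⟨⟨z, hzQ⟩, hzc'⟩ := by
      intro w
      have hmem : ∀ v : Subgroup.center Q, v = a ∨ v = b := fun v => by
        have : v ∈ ({a, b} : Set _) := huniv ▸ Set.mem_univ v
        simpa using this
      have hne : (⟨⟨z, hzQ⟩, hzc'⟩ : Subgroup.center Q) ≠ 1 := fun h =>
        invol_ne_one hz (congrArg (fun v : Subgroup.center Q => ((v : Q) : G)) h)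
      rcases hmem w with rfl | rfl <;> rcases hmem 1 with h1 | h1 <;>
        rcases hmem ⟨⟨z, hzQ⟩, hzc'⟩ with h2 | h2 <;>
        first
        | exact Or.inl h1.symm
        | exact Or.inr h2.symm
        | exact absurd (h2.trans h1.symm) hne
    rcases hall ⟨_, huc⟩ with h | h
    · exact Or.inl (congrArg (fun v : Subgroup.center Q => ((v : Q) : G)) h)
    · exact Or.inr (congrArg (fun v : Subgroup.center Q => ((v : Q) : G)) h)
  let C := Subgroup.centralizer ({z} : Set G)
  obtain ⟨T, hT⟩ := (IsPGroup.of_equiv hQ2 (Subgroup.subgroupOfEquivOfLe hQC).symm :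
    IsPGroup 2 (Q.subgroupOf C)).exists_le_sylow
  let T' : Subgroup G := (T : Subgroup C).map C.subtype
  have hT'C : T' ≤ C := Subgroup.map_subtype_le _
  have hQT : Q ≤ T' := fun q hq => ⟨⟨q, hQC hq⟩, hT hq, rfl⟩
  obtain ⟨P, hP⟩ := sylow_of_centralizer (invol_ne_one hz) T' hT'C (T.isPGroup'.map _) (hQT hzQ)
    (fun U hUC hU hTU => by
      have h1 : U.subgroupOf C = (T : Subgroup C) := by
        refine T.is_maximal' (IsPGroup.of_equiv hU (Subgroup.subgroupOfEquivOfLe hUC).symm) ?_
        intro x hx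
        exact hTU ⟨x, hx, rfl⟩
      show U = (T : Subgroup C).map C.subtype
      rw [← h1, Subgroup.subgroupOf_map_subtype, inf_eq_left.2 hUC])
    (fun u _ hu => hcen u fun q hq => hu q (hQT hq))
  refine ⟨⟨P, hP ▸ hT'C⟩, fun u hu hex => ?_⟩
  obtain ⟨P', hP'⟩ := hex
  obtain ⟨g, hg⟩ := MulAction.exists_smul_eq G P' P
  refine IsConj.symm (isConj_iff.2 ⟨g, (hcen (g * u * g⁻¹) fun q hq => ?_).resolve_left
    fun h1 => invol_ne_one hu (conj_eq_one_iff.1 h1)⟩)
  have hqP : q ∈ ((g • P' : Sylow 2 G) : Subgroup G) := by rw [hg, hP]; exact hQT hq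
  have hx : g⁻¹ * q * g ∈ (P' : Subgroup G) := by
    rw [Sylow.coe_subgroup_smul, Subgroup.mem_pointwise_smul_iff_inv_smul_mem] at hqP
    simpa [MulAut.smul_def] using hqP
  have hc := Subgroup.mem_centralizer_singleton_iff.1 (hP' hx)
  calc q * (g * u * g⁻¹) = g * (g⁻¹ * q * g * u) * g⁻¹ := by group
    _ = g * (u * (g⁻¹ * q * g)) * g⁻¹ := by rw [hc]
    _ = g * u * g⁻¹ * q := by group

end CfsgLib.Spor
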