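import Cfsg.Agent.Lib.Spor.SimpleCrit

/-!
Simplicity from a self-centralising element of prime order `p` dividing the group order once:
a normal subgroup of order prime to `p` is acted on without fixed points, so each of its Sylow
subgroups has order congruent to `1` modulo `p`.
-/

set_option autoImplicit false

namespace CfsgLib.Spor.FpfSimple

open Subgroup

variable {G : Type*} [Group G] [Finite G] {p : ℕ} [hpf : Fact p.Prime]

/-- The Sylow subgroup generated by an element of order `p`, when `p` divides the order once. -/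
noncomputable def primeSylow (z : G) (hz : orderOf z = p) (hsq : ¬ p * p ∣ Nat.card G) :
    Sylow p G :=
  Sylow.ofCard (zpowers z) (by
    have h1 : p ∣ Nat.card G := hz ▸ orderOf_dvd_natCard z
    have h0 : Nat.card G ≠ 0 := Nat.card_pos.ne'
    have hlo : 1 ≤ (Nat.card G).factorization p :=
      (hpf.out.dvd_iff_one_le_factorization h0).1 h1
    have hhi : (Nat.card G).factorization p < 2 := by
      by_contra hh
      push Not at hh
      exact hsq (pow_two p ▸ (hpf.out.pow_dvd_iff_le_factorization h0).2 hh)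
    rw [Nat.card_zpowers, hz, show (Nat.card G).factorization p = 1 by omega, pow_one])

theorem coe_primeSylow (z : G) (hz : orderOf z = p) (hsq : ¬ p * p ∣ Nat.card G) :
    (primeSylow z hz hsq : Subgroup G) = zpowers z := rfl

/-- A subgroup normalised by a self-centralising element of order `p`, and not containing it, has
order congruent to `1` modulo `p`. -/
theorem card_mod_eq_one {z : G} (hz : orderOf z = p)
    (hC : ∀ g : G, g * z = z * g → g ∈ zpowers z) {R : Subgroup G}
    (hR : ∀ x ∈ R, z * x * z⁻¹ ∈ R) (hdis : ¬ p ∣ Nat.card R) : Nat.card R % p = 1 := by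
  have hRR : ∀ k ∈ zpowers z, ∀ x ∈ R, k * x * k⁻¹ ∈ R := by
    intro k hk x hx
    obtain ⟨i, rfl⟩ := (isOfFinOrder_of_finite z).mem_powers_iff_mem_zpowers.2 hk
    dsimp only
    induction i with
    | zero => simpa using hx
    | succ i ih =>
      have e : z ^ (i + 1) * x * (z ^ (i + 1))⁻¹ = z * (z ^ i * x * (z ^ i)⁻¹) * z⁻¹ := by
        rw [pow_succ']; group
      rw [e]
      exact hR _ (ih (Submonoid.mem_powers_iff _ _ |>.2 ⟨i, rfl⟩ |> fun h =>
        (isOfFinOrder_of_finite z).mem_powers_iff_mem_zpowers.1 h))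
  letI : MulAction ↥(zpowers z) ↥R :=
    { smul := fun k x => ⟨(k : G) * x * (k : G)⁻¹, hRR k k.2 x x.2⟩
      one_smul := fun x => Subtype.ext (show (1 : G) * x * (1 : G)⁻¹ = x by simp)
      mul_smul := fun a b x => Subtype.ext
        (show ((a : G) * b) * x * ((a : G) * b)⁻¹ = a * (b * x * (b : G)⁻¹) * (a : G)⁻¹ by group) }
  have hp : IsPGroup p ↥(zpowers z) := IsPGroup.of_card (n := 1) (by
    rw [Nat.card_zpowers, hz, pow_one])
  have hfix : MulAction.fixedPoints ↥(zpowers z) ↥R = {1} := by
    ext x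
    constructor
    · intro hx
      have h1 : z * (x : G) * z⁻¹ = x := congrArg Subtype.val (hx ⟨z, mem_zpowers z⟩)
      have h2 : (x : G) * z = z * x := by
        conv_lhs => rw [← h1]
        group
      have h3 := hC _ h2
      have h4 : orderOf (x : G) ∣ p := hz ▸ orderOf_dvd_of_mem_zpowers h3
      rcases (Nat.dvd_prime hpf.out).1 h4 with h | h
      · exact Subtype.ext (orderOf_eq_one_iff.1 h)
      · exact absurd (h ▸ (Subgroup.orderOf_coe x).symm ▸ orderOf_dvd_natCard x) hdis
    · rintro rfl k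
      exact Subtype.ext (show (k : G) * 1 * (k : G)⁻¹ = 1 by simp)
  have h := hp.card_modEq_card_fixedPoints ↥R
  rw [hfix, Nat.card_eq_fintype_card (α := ({1} : Set ↥R))] at h
  simpa [Nat.ModEq, Nat.mod_eq_of_lt hpf.out.one_lt] using h

/-- A normal subgroup of order prime to `p` has all its prime-power parts congruent to `1`. -/
theorem sylow_mod_eq_one {z : G} (hz : orderOf z = p) (hsq : ¬ p * p ∣ Nat.card G)
    (hC : ∀ g : G, g * z = z * g → g ∈ zpowers z) {N : Subgroup G} (hN : N.Normal)
    (hpN : ¬ p ∣ Nat.card N) (r : ℕ) [Fact r.Prime] :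
    r ^ (Nat.card N).factorization r % p = 1 := by
  obtain ⟨R⟩ := (inferInstance : Nonempty (Sylow r N))
  set R' : Subgroup G := (R : Subgroup N).map N.subtype with hR'
  have hcard : Nat.card R' = r ^ (Nat.card N).factorization r := by
    rw [hR', card_map_of_injective N.subtype_injective, R.card_eq_multiplicity]
  have hfr : normalizer (R' : Set G) ⊔ N = ⊤ := Sylow.normalizer_sup_eq_top R
  have hpR : p ∣ Nat.card (normalizer (R' : Set G)) := by
    have h1 : Nat.card G = Nat.card N * N.index := (card_mul_index N).symm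
    have h2 : p ∣ N.index := by
      have h3 : p ∣ Nat.card G := hz ▸ orderOf_dvd_natCard z
      rw [h1] at h3
      exact (hpf.out.dvd_mul.1 h3).resolve_left hpN
    have h4 : N.index = N.relIndex (normalizer (R' : Set G)) := by
      rw [← relIndex_top_right, ← hfr, relIndex_sup_right]
    exact h2.trans (h4 ▸ index_dvd_card _)
  obtain ⟨y, hy⟩ := exists_prime_orderOf_dvd_card' p hpR
  have hy' : orderOf (y : G) = p := by rw [orderOf_coe, hy]
  obtain ⟨g, hg⟩ := MulAction.exists_smul_eq G (primeSylow (y : G) hy' hsq) (primeSylow z hz hsq)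
  have hgy : z ∈ zpowers (g * (y : G) * g⁻¹) := by
    have h : z ∈ (primeSylow z hz hsq : Subgroup G) := mem_zpowers z
    rw [← hg] at h
    obtain ⟨w, hw, rfl⟩ := h
    obtain ⟨i, rfl⟩ := hw
    refine ⟨i, ?_⟩
    simp [conj_zpow]
  have hzn : ∀ x ∈ R'.map (MulAut.conj g).toMonoidHom,
      z * x * z⁻¹ ∈ R'.map (MulAut.conj g).toMonoidHom := by
    intro x hx
    obtain ⟨i, rfl⟩ := hgy
    obtain ⟨w, hw, rfl⟩ := hx
    refine ⟨(y : G) ^ i * w * ((y : G) ^ i)⁻¹, ?_, ?_⟩
    · exact (mem_normalizer_iff.1 (zpow_mem y.2 i) w).1 hw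
    · show g * ((y : G) ^ i * w * ((y : G) ^ i)⁻¹) * g⁻¹ =
        (g * (y : G) * g⁻¹) ^ i * (g * w * g⁻¹) * ((g * (y : G) * g⁻¹) ^ i)⁻¹
      rw [conj_zpow]
      group
  have hcard' : Nat.card (R'.map (MulAut.conj g).toMonoidHom) = Nat.card R' :=
    card_map_of_injective (MulAut.conj g).injective
  have h := card_mod_eq_one hz hC hzn (fun hd => hpN ((hcard' ▸ hd).trans
    (hcard ▸ Nat.ordProj_dvd _ _)))
  rwa [hcard', hcard] at h

/-- A prime with no positive power in the group order congruent to `1` does not divide a normal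
subgroup of order prime to `p`. -/
theorem not_dvd_of_arith {z : G} (hz : orderOf z = p) (hsq : ¬ p * p ∣ Nat.card G)
    (hC : ∀ g : G, g * z = z * g → g ∈ zpowers z) {N : Subgroup G} (hN : N.Normal)
    (hpN : ¬ p ∣ Nat.card N) {r : ℕ} (hr : r.Prime) {b : ℕ} (hb : ¬ r ^ (b + 1) ∣ Nat.card G)
    (harith : ∀ e ≤ b, e ≠ 0 → r ^ e % p ≠ 1) : ¬ r ∣ Nat.card N := by
  haveI := Fact.mk hr
  intro hd
  have h0 : Nat.card N ≠ 0 := Nat.card_pos.ne'
  have h1 := (hr.dvd_iff_one_le_factorization h0).1 hd
  refine harith _ ?_ (by omega) (sylow_mod_eq_one hz hsq hC hN hpN r)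
  by_contra hlt
  push Not at hlt
  exact hb ((pow_dvd_pow r hlt).trans ((Nat.ordProj_dvd _ _).trans (card_subgroup_dvd_card N)))

/-- The criterion. -/
theorem isSimpleGroup_of_cyclic_centralizer {z : G} (hz : orderOf z = p) {n q : ℕ}
    (hG : Nat.card G = n) (hsq : ¬ p * p ∣ n) (hC : ∀ g : G, g * z = z * g → g ∈ zpowers z)
    (hq : q.Prime) (hbig : p * q < n)
    (harith : ∀ j < p, j ∣ p - 1 → p * j ∣ n → n / (p * j) % p = 1 → j = q)
    (hsmall : ∀ N : Subgroup G, N.Normal → ¬ p ∣ Nat.card N → N = ⊥) : IsSimpleGroup G := by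
  subst hG
  set P := primeSylow z hz hsq
  have hP : Nat.card (P : Subgroup G) = p := by rw [coe_primeSylow, Nat.card_zpowers, hz]
  have hcent : Nat.card (centralizer ((P : Subgroup G) : Set G)) ≤ p * 1 := by
    rw [mul_one]
    refine le_trans (Nat.card_mono (Set.toFinite ((zpowers z : Subgroup G) : Set G)) ?_)
      (le_of_eq (hz ▸ Nat.card_zpowers z))
    intro g hg
    exact hC g ((mem_centralizer_iff.1 hg) z (mem_zpowers z)).symm
  have hN := natCard_normalizer_sylow (q := q) (k := 1) P hP rfl hcent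
    (fun a ha j hj hjd hdvd hmod => by
      rcases Nat.le_one_iff_eq_zero_or_eq_one.1 ha with rfl | rfl
      · simp at hdvd
        exact absurd hdvd Nat.card_pos.ne'
      · rw [mul_one] at hdvd hmod
        rw [one_mul, harith j hj hjd hdvd hmod])
  exact isSimpleGroup_of_sylow_normalizer hq P hP hN hbig fun N hNn hne => by
    by_contra h
    exact hne (hsmall N hNn h)

end CfsgLib.Spor.FpfSimple
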