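import Cfsg.Agent.Lib.Spor.Bits

/-!
The binary Golay code `Cfsg.golayCode` in bit-mask form: a systematic basis, the test `inCode`,
the list of all 4096 words and of the 759 octads.
-/

set_option autoImplicit false

namespace CfsgLib.Spor

open Cfsg

/-- systematic basis of the code: the i-th vector is `2^i` plus bits 12..23 -/
def golayBasis : List ℕ :=
  [0xc75001, 0x49f002, 0xd4b004, 0x6e3008, 0x9b3010, 0xb66020, 0xecc040, 0x1ed080, 0x3da100,
   0x7b4200, 0xb1d400, 0xe3a800]

/-- a mask is in the code iff it meets every basis word evenly -/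
def inCode (m : ℕ) : Bool := golayBasis.all fun b => Nat.beq (pop (m &&& b) % 2) 0

/-- all sums of subfamilies of a list of masks -/
def spanList : List ℕ → List ℕ
  | [] => [0]
  | b :: bs => spanList bs ++ (spanList bs).map (b ^^^ ·)

/-- the 4096 code words -/
def codeList : List ℕ := spanList golayBasis.reverse

/-- the combination of basis words with coefficient bits `c` -/
def enc : List ℕ → ℕ → ℕ
  | [], _ => 0
  | b :: bs, c => (if c.testBit 0 then b else 0) ^^^ enc bs (c / 2)

theorem enc_mem_spanList (l : List ℕ) (c : ℕ) : enc l c ∈ spanList l := by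
  induction l generalizing c with
  | nil => simp [enc, spanList]
  | cons b bs ih =>
    by_cases h : c.testBit 0
    · simp only [enc, spanList, h, if_true, List.mem_append, List.mem_map]
      exact Or.inr ⟨_, ih _, rfl⟩
    · rw [Bool.not_eq_true] at h
      simp only [enc, spanList, h, Bool.false_eq_true, if_false, Nat.zero_xor, List.mem_append]
      exact Or.inl (ih _)

theorem spanList_induction {P : ℕ → Prop} {l : List ℕ} (h0 : P 0) (hb : ∀ b ∈ l, P b)
    (hx : ∀ a b, P a → P b → P (a ^^^ b)) : ∀ m ∈ spanList l, P m := by
  induction l with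
  | nil => simpa [spanList] using h0
  | cons b bs ih =>
    intro m hm
    have ih' := ih (fun c hc => hb c (List.mem_cons_of_mem _ hc))
    simp only [spanList, List.mem_append, List.mem_map] at hm
    rcases hm with hm | ⟨a, ha, rfl⟩
    · exact ih' m hm
    · exact hx _ _ (hb b List.mem_cons_self) (ih' a ha)

/-! ### Parity of intersections as a dot product -/

theorem natCast_pop_and (a b : ℕ) :
    ((pop (a &&& b) : ℕ) : ZMod 2) = ∑ p, word a p * word b p := by
  rw [← card_toSet, toSet, Finset.natCast_card_filter]
  refine Finset.sum_congr rfl fun p _ => ?_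
  simp only [Nat.testBit_and, Bool.and_eq_true, word]
  cases a.testBit (idx p) <;> cases b.testBit (idx p) <;> simp

theorem inCode_iff {m : ℕ} :
    inCode m = true ↔ ∀ b ∈ golayBasis, ∑ p, word m p * word b p = 0 := by
  simp only [inCode, List.all_eq_true, Nat.beq_eq, beq_iff_eq]
  refine forall₂_congr fun b _ => ?_
  rw [← natCast_pop_and, ZMod.natCast_eq_zero_iff_even, Nat.even_iff]

theorem inCode_xor {a b : ℕ} (ha : inCode a = true) (hb : inCode b = true) :
    inCode (a ^^^ b) = true := by
  rw [inCode_iff] at *
  intro c hc
  simp only [word_xor, Pi.add_apply, add_mul, Finset.sum_add_distrib, ha c hc, hb c hc, add_zero]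

theorem inCode_of_mem_codeList {m : ℕ} (h : m ∈ codeList) : inCode m = true := by
  refine spanList_induction (P := fun m => inCode m = true) ?_ ?_ (fun a b => inCode_xor) m h
  · decide +kernel
  · decide +kernel

theorem lt_of_mem_codeList {m : ℕ} (h : m ∈ codeList) : m < 2 ^ 24 := by
  refine spanList_induction (P := fun m => m < 2 ^ 24) (by norm_num) ?_
    (fun a b ha hb => Nat.xor_lt_two_pow ha hb) m h
  decide +kernel

set_option maxRecDepth 100000 in
theorem codeList_low : (codeList.map fun m => m % 4096) = List.range 4096 := by
  decide +kernel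

theorem exists_low {c : ℕ} (h : c < 4096) : ∃ v ∈ codeList, v % 4096 = c := by
  have : c ∈ codeList.map fun m => m % 4096 := codeList_low ▸ List.mem_range.2 h
  simpa [List.mem_map] using this

theorem codeList_nodup : codeList.Nodup :=
  List.Nodup.of_map (fun m => m % 4096) (codeList_low ▸ List.nodup_range)

set_option maxRecDepth 100000 in
theorem high_check : ∀ u < 4096, inCode (u * 4096) = true → u = 0 := by
  decide +kernel

theorem mem_codeList_of_inCode {m : ℕ} (hm : m < 2 ^ 24) (h : inCode m = true) :
    m ∈ codeList := by
  obtain ⟨v, hv, hvm⟩ := exists_low (Nat.mod_lt m (by norm_num : 4096 > 0))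
  have hu := inCode_xor h (inCode_of_mem_codeList hv)
  have hlow : (m ^^^ v) % 4096 = 0 := by
    rw [show (4096 : ℕ) = 2 ^ 12 by norm_num, Nat.xor_mod_two_pow]
    rw [show (2:ℕ) ^ 12 = 4096 by norm_num, hvm, Nat.xor_self]
  have hlt : m ^^^ v < 2 ^ 24 := Nat.xor_lt_two_pow hm (lt_of_mem_codeList hv)
  have hd : m ^^^ v = (m ^^^ v) / 4096 * 4096 := by
    have := Nat.div_add_mod (m ^^^ v) 4096; omega
  have hq := high_check ((m ^^^ v) / 4096) (by omega) (by rw [← hd]; exact hu)
  have hz : m ^^^ v = 0 := by omega
  have : m = v := by
    have := congrArg (· ^^^ v) hz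
    simpa [Nat.xor_assoc] using this
  rw [this]; exact hv

theorem mem_codeList_iff {m : ℕ} : m ∈ codeList ↔ m < 2 ^ 24 ∧ inCode m = true :=
  ⟨fun h => ⟨lt_of_mem_codeList h, inCode_of_mem_codeList h⟩,
    fun h => mem_codeList_of_inCode h.1 h.2⟩

/-! ### Comparison with `Cfsg.golayCode` -/

theorem qr_one_mem_codeList : mask Finset.univ ∈ codeList ∧
    ∀ t : ZMod 23, mask (support₂ (qrWord t)) ∈ codeList := by
  rw [mem_codeList_iff]
  refine ⟨⟨mask_lt _, by decide +kernel⟩, fun t => ?_⟩
  rw [mem_codeList_iff]
  exact ⟨mask_lt _, by revert t; decide +kernel⟩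

theorem mask_support₂_add (v w : GolayPt → ZMod 2) :
    mask (support₂ (v + w)) = mask (support₂ v) ^^^ mask (support₂ w) := by
  have h : word (mask (support₂ v) ^^^ mask (support₂ w)) = v + w := by
    rw [word_xor, word_mask_support₂, word_mask_support₂]
  have h2 := congrArg support₂ h
  rw [support₂_word] at h2
  rw [← h2, mask_toSet (Nat.xor_lt_two_pow (mask_lt _) (mask_lt _))]

theorem mask_mem_of_mem_golayCode {w : GolayPt → ZMod 2} (hw : w ∈ golayCode) :
    mask (support₂ w) ∈ codeList := by
  induction hw using Submodule.span_induction with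
  | mem x hx =>
    rcases hx with ⟨t, rfl⟩ | hx
    · exact qr_one_mem_codeList.2 t
    · rw [Set.mem_singleton_iff] at hx
      subst hx
      have : support₂ (1 : GolayPt → ZMod 2) = Finset.univ := by
        ext p; simp [support₂]
      rw [this]; exact qr_one_mem_codeList.1
  | zero =>
    have : support₂ (0 : GolayPt → ZMod 2) = ∅ := by ext p; simp [support₂]
    rw [this, mask_empty]; decide +kernel
  | add x y _ _ hx hy =>
    rw [mem_codeList_iff] at *
    rw [mask_support₂_add]
    exact ⟨Nat.xor_lt_two_pow hx.1 hy.1, inCode_xor hx.2 hy.2⟩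
  | smul a x _ hx =>
    rcases (show ∀ a : ZMod 2, a = 0 ∨ a = 1 by decide) a with rfl | rfl
    · have : support₂ ((0 : ZMod 2) • x) = ∅ := by ext p; simp [support₂]
      rw [this, mask_empty]; decide +kernel
    · rwa [one_smul]

/-- the generators of the code as an indexed list: 23 translates, then the all-one word -/
def genList : List ℕ := [340831, 681662, 1363324, 2726648, 5453296, 2517985, 5035970, 1683333, 3366666, 6733332, 5078057, 1767507, 3535014, 7070028, 5751449, 3114291, 6228582, 4068557, 8137114, 7885621, 7382635, 6376663, 4364719, 16777215]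

/-- how each basis word is a sum of generators -/
def basisCoeff : List ℕ := [8390313, 280, 8389785, 1400, 8390330, 8390551, 8390093, 2000, 1347, 101, 8390243, 8390181]

theorem genList_spec : genList = ((List.range 23).map fun t => mask (support₂ (qrWord (t : ZMod 23))))
    ++ [mask Finset.univ] := by
  decide +kernel

theorem golayBasis_spec : golayBasis = basisCoeff.map (enc genList) := by
  decide +kernel

theorem word_mem_golayCode_of_mem_genList {g : ℕ} (hg : g ∈ genList) : word g ∈ golayCode := by
  rw [genList_spec] at hg
  simp only [List.mem_append, List.mem_map, List.mem_singleton] at hg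
  rcases hg with ⟨t, _, rfl⟩ | rfl
  · rw [word_mask_support₂]
    exact Submodule.subset_span (Or.inl ⟨_, rfl⟩)
  · have : word (mask (Finset.univ : Finset GolayPt)) = 1 := by
      funext p; simp [word, testBit_mask]
    rw [this]
    exact Submodule.subset_span (Or.inr rfl)

theorem word_mem_of_mem_spanList {l : List ℕ} (h : ∀ b ∈ l, word b ∈ golayCode) :
    ∀ m ∈ spanList l, word m ∈ golayCode :=
  spanList_induction (P := fun m => word m ∈ golayCode) (by rw [word_zero]; exact zero_mem _) h
    (fun a b ha hb => by rw [word_xor]; exact add_mem ha hb)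

theorem word_mem_of_mem_codeList {m : ℕ} (h : m ∈ codeList) : word m ∈ golayCode := by
  refine word_mem_of_mem_spanList (fun b hb => ?_) m h
  rw [List.mem_reverse] at hb
  rw [golayBasis_spec, List.mem_map] at hb
  obtain ⟨c, _, rfl⟩ := hb
  exact word_mem_of_mem_spanList (fun g hg => word_mem_golayCode_of_mem_genList hg) _
    (enc_mem_spanList _ _)

theorem mem_golayCode_iff {w : GolayPt → ZMod 2} :
    w ∈ golayCode ↔ mask (support₂ w) ∈ codeList :=
  ⟨mask_mem_of_mem_golayCode, fun h => word_mask_support₂ w ▸ word_mem_of_mem_codeList h⟩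

theorem mem_supports_iff {s : Finset GolayPt} :
    s ∈ supports (golayCode : Set (GolayPt → ZMod 2)) ↔ mask s ∈ codeList := by
  constructor
  · rintro ⟨w, hw, rfl⟩; exact mask_mem_of_mem_golayCode hw
  · intro h
    exact ⟨word (mask s), word_mem_of_mem_codeList h, by rw [support₂_word, toSet_mask]⟩

theorem mem_supports_iff_inCode {s : Finset GolayPt} :
    s ∈ supports (golayCode : Set (GolayPt → ZMod 2)) ↔ inCode (mask s) = true := by
  rw [mem_supports_iff, mem_codeList_iff]
  exact and_iff_right (mask_lt s)

theorem toSet_mem_supports {m : ℕ} (h : m ∈ codeList) :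
    toSet m ∈ supports (golayCode : Set (GolayPt → ZMod 2)) := by
  rw [mem_supports_iff, mask_toSet (lt_of_mem_codeList h)]; exact h

/-- strictly increasing test, for cheap `Nodup` -/
def ascending : List ℕ → Bool
  | [] => true
  | [_] => true
  | a :: b :: l => Nat.blt a b && ascending (b :: l)

theorem nodup_of_ascending : ∀ {l : List ℕ}, ascending l = true → l.Nodup := by
  intro l h
  have : l.IsChain (· < ·) := by
    induction l with
    | nil => exact List.IsChain.nil
    | cons a l ih =>
      cases l with
      | nil => exact List.IsChain.singleton a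
      | cons b l =>
        simp only [ascending, Bool.and_eq_true, Nat.blt_eq] at h
        exact List.IsChain.cons_cons h.1 (ih h.2)
  exact (List.isChain_iff_pairwise.1 this).imp (fun h => Nat.ne_of_lt h)

set_option maxRecDepth 100000 in
theorem codeList_length : codeList.length = 4096 := by decide +kernel

theorem ncard_of_mask_list {S : Set (Finset GolayPt)} (l : List ℕ) (hn : l.Nodup)
    (hS : ∀ s, s ∈ S ↔ mask s ∈ l) (hl : ∀ m ∈ l, m < 2 ^ 24) : S.ncard = l.length := by
  classical
  have : S = ↑(l.toFinset.image toSet) := by
    ext s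
    simp only [hS, Finset.coe_image, Set.mem_image, Finset.mem_coe, List.mem_toFinset]
    constructor
    · exact fun h => ⟨_, h, toSet_mask s⟩
    · rintro ⟨m, hm, rfl⟩; rwa [mask_toSet (hl m hm)]
  rw [this, Set.ncard_coe_finset, Finset.card_image_of_injOn, List.toFinset_card_of_nodup hn]
  intro a ha b hb h
  simp only [Finset.mem_coe, List.mem_toFinset] at ha hb
  exact toSet_injOn (hl a ha) (hl b hb) h

theorem mem_wordsOfWeight_iff {n : ℕ} {s : Finset GolayPt} :
    s ∈ wordsOfWeight (golayCode : Set (GolayPt → ZMod 2)) n ↔
      mask s ∈ codeList ∧ pop (mask s) = n := by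
  simp only [wordsOfWeight, Set.mem_setOf_eq, mem_supports_iff, pop_mask]

theorem mem_octads_iff {s : Finset GolayPt} :
    s ∈ octads ↔ mask s ∈ codeList ∧ pop (mask s) = 8 := mem_wordsOfWeight_iff

theorem mem_dodecads_iff {s : Finset GolayPt} :
    s ∈ dodecads ↔ mask s ∈ codeList ∧ pop (mask s) = 12 := mem_wordsOfWeight_iff

set_option maxRecDepth 100000 in
theorem weight_check :
    (codeList.all fun m => Nat.beq (pop m) 0 || Nat.beq (pop m) 8 || Nat.beq (pop m) 12
      || Nat.beq (pop m) 16 || Nat.beq (pop m) 24) = true := by
  decide +kernel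

theorem pop_of_mem_codeList {m : ℕ} (h : m ∈ codeList) :
    pop m = 0 ∨ pop m = 8 ∨ pop m = 12 ∨ pop m = 16 ∨ pop m = 24 := by
  have := List.all_eq_true.1 weight_check m h
  simp only [Bool.or_eq_true, Nat.beq_eq, or_assoc] at this
  exact this

def octadList : List ℕ :=
  [5279, 10558, 15777, 18147, 21116, 31554, 36294, 39257, 42232, 45159, 52005, 57883, 63108, 69395, 72588, 75309, 78514, 84464, 90318, 95313, 99029, 104010, 115766, 118953, 126216, 133817, 138790, 140167, 145176, 150618, 153797, 157028, 168928, 175681, 180636, 185603, 190626, 198058, 201013, 208020, 210955, 213833, 231532, 237906, 252432, 262637, 267634, 272595, 277580, 280334, 283537, 290352, 298027, 301236, 304405, 307594, 314056, 334433, 337856, 346141, 351362, 352547, 361272, 371206, 381252, 396116, 402026, 416040, 418953, 421910, 427666, 430605, 442481, 459847, 463064, 475812, 493953, 504864, 525274, 530245, 535268, 542009, 545190, 551943, 555160, 560668, 563843, 567074, 580704, 582081, 593097, 596054, 602472, 608810, 615188, 622863, 628112, 632881, 657763, 663645, 668866, 675712, 684577, 689317, 692282,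 702724, 705094, 722544, 737427, 742412, 762504, 786999, 792232, 797449, 804052, 806987, 832080, 837906, 843820, 855332, 861210, 864389, 884962, 902657, 919694, 924689, 926128, 951624, 987906, 1009728, 1050548, 1053483, 1060490, 1063445, 1065303, 1070536, 1075305, 1084018, 1090380, 1100945, 1103886, 1110320, 1116327, 1121336, 1122713, 1127686, 1134148, 1148257, 1161408, 1164162, 1182989, 1186194, 1188915, 1192108, 1204944, 1212619, 1217620, 1230376, 1245726, 1250945, 1256224, 1265762, 1302533, 1312345, 1315526, 1327290, 1332261, 1337732, 1351424, 1352353, 1369154, 1378634, 1384564, 1405448, 1410188, 1413139, 1445088, 1454401, 1460739, 1474854, 1484824, 1525008, 1573998, 1577201, 1584464, 1589901, 1594898, 1608104, 1613974, 1618953, 1647171, 1661185, 1664160, 1675812, 1687640, 1710664, 1722420, 1728778, 1737489, 1769924, 1805314, 1836419, 1839388, 1849378, 1852256, 1869893, 1903248, 1975812, 2019456, 2031657, 2101096, 2106966, 2110153, 2115979, 2120980, 2121909, 2126890, 2130606, 2135601, 2141072, 2147405, 2150610, 2162811, 2168036, 2173253, 2180760, 2183687, 2201890, 2204803,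 2207772, 2220640, 2229713, 2232654, 2242672, 2245426, 2255372, 2263063, 2268296, 2269481, 2296514, 2313249, 2322816, 2328324, 2363013, 2365978, 2372388, 2377830, 2384216, 2392899, 2409888, 2422785, 2425238, 2430217, 2435240, 2460752, 2491452, 2494627, 2501890, 2512448, 2531524, 2564625, 2605066, 2624690, 2627629, 2631052, 2634003, 2640465, 2654580, 2664522, 2675464, 2687905, 2702848, 2704706, 2738308, 2754059, 2757268, 2769128, 2810896, 2820376, 2826278, 2854977, 2890176, 2892897, 2908802, 2916505, 2921478, 2949708, 2969648, 3031301, 3050016, 3147996, 3152963, 3154402, 3168928, 3172097, 3179802, 3182981, 3189796, 3216208, 3227948, 3237906, 3246601, 3277413, 3294342, 3297305, 3322370, 3328320, 3351624, 3375280, 3410225, 3416079, 3421328, 3444840, 3457556, 3474978, 3489985, 3539848, 3610628, 3672838, 3678776, 3698756, 3704512, 3719203, 3736597, 3739786, 3806496, 3811457, 3951624, 4038912, 4063314, 4196943, 4202192, 4203377, 4213932, 4216883, 4220306, 4223245, 4229001, 4231958, 4241960, 4243818, 4253780, 4261212, 4264387, 4271202, 4282144, 4287105, 4294810, 4299781, 4301220,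 4325622, 4330601, 4336072, 4343317, 4346506, 4361520, 4367374, 4370577, 4403780, 4409606, 4415544, 4424227, 4441280, 4459426, 4465308, 4470275, 4476225, 4485344, 4490852, 4505735, 4510744, 4523185, 4526126, 4536592, 4538962, 4563017, 4587803, 4593028, 4597797, 4626498, 4645632, 4656648, 4721045, 4726026, 4726955, 4731956, 4744776, 4752467, 4755660, 4768432, 4785798, 4788761, 4800613, 4819776, 4845570, 4850476, 4860434, 4870480, 4900873, 4921504, 4924673, 4982904, 4989254, 5003780, 5017889, 5024896, 5063048, 5112513, 5129250, 5210132, 5249380, 5252293, 5255258, 5262104, 5268006, 5275709, 5280930, 5286147, 5296705, 5309160, 5325835, 5329044, 5350928, 5375810, 5390753, 5405696, 5409412, 5441617, 5476616, 5508118, 5511305, 5514536, 5538256, 5571333, 5621792, 5640752, 5652556, 5709954, 5770785, 5780352, 5785794, 5817604, 5833010, 5842956, 5899416, 5902343, 5939296, 6053905, 6062602, 6100032, 6292775, 6295992, 6302745, 6305926, 6308804, 6326497, 6337856, 6344194, 6359604, 6365962, 6379592, 6406417, 6429441, 6432416, 6447171, 6455896, 6475812, 6488205, 6493202, 6554826, 6557781,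 6570537, 6588684, 6594610, 6644740, 6656640, 6703248, 6750560, 6820450, 6832158, 6837377, 6842656, 6857221, 6889680, 6915112, 6949956, 6979970, 7079696, 7145475, 7221256, 7340691, 7345676, 7357552, 7397512, 7409024, 7417889, 7438406, 7473194, 7479572, 7612992, 7622914, 7767041, 7864649, 7903248, 8077824, 8126628, 8391797, 8394986, 8398155, 8401364, 8407702, 8412681, 8414120, 8421811, 8426796, 8431757, 8436754, 8439632, 8455014, 8464984, 8471941, 8474906, 8484900, 8490656, 8499969, 8505411, 8521420, 8524371, 8536111, 8541360, 8546577, 8555274, 8561204, 8581192, 8592704, 8593633, 8611330, 8619033, 8622214, 8654232, 8657159, 8660134, 8663097, 8675909, 8683614, 8688833, 8694112, 8704546, 8716939, 8721940, 8733800, 8773776, 8783649, 8796800, 8798658, 8834052, 8849458, 8855820, 8919856, 8922769, 8925710, 8931660, 8937586, 8946281, 8963210, 8966165, 8978620, 8983587, 8989058, 8999616, 9020484, 9045270, 9048457, 9055272, 9078992, 9112069, 9158944, 9178690, 9193633, 9204992, 9208708, 9240913, 9279496, 9310308, 9323032, 9347075, 9440193, 9451104, 9456930, 9462812, 9465987, 9471495,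 9474712, 9486564, 9503954, 9506893, 9519665, 9537812, 9543722, 9568632, 9578566, 9589508, 9607201, 9610624, 9652360, 9701932, 9708306, 9721936, 9748745, 9769376, 9776129, 9830549, 9835530, 9929280, 9963547, 9968772, 9969957, 9998658, 10021376, 10028808, 10093218, 10110017, 10170384, 10232008, 10257456, 10305542, 10486557, 10491778, 10496547, 10506593, 10513600, 10525252, 10537016, 10543366, 10554382, 10557585, 10560816, 10584520, 10619300, 10625178, 10630149, 10650722, 10666625, 10687016, 10698836, 10748656, 10765331, 10768524, 10790408, 10825794, 10832640, 10846245, 10881097, 10916112, 11010247, 11015256, 11028004, 11046145, 11055264, 11100169, 11108882, 11150144, 11163650, 11272490, 11282452, 11469952, 11535529, 11538486, 11548936, 11551306, 11575377, 11608708, 11654144, 11669008, 11731203, 11797828, 11831426, 11952160, 12075408, 12126304, 12222476, 12325377, 12584506, 12587685, 12594948, 12599513, 12604486, 12624578, 12638592, 12641313, 12650793, 12656663, 12661896, 12685424, 12698124, 12717187, 12720156, 12726562, 12733024, 12747077, 12780432, 12849992, 12861748, 12871690,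 12880401, 12912836, 12944642, 12985424, 13009064, 13062145, 13108704, 13121601, 13124355, 13142054, 13148440, 13192208, 13262980, 13276672, 13303882, 13370381, 13373586, 13443616, 13631886, 13636881, 13641904, 13667400, 13703682, 13721920, 13771273, 13811730, 13829156, 13893731, 13911680, 13938692, 14156372, 14176296, 14254209, 14551296, 14682450, 14688364, 14709264, 14714004, 14716939, 14747201, 14762146, 14828808, 14919680, 14949408, 14950785, 15073798, 15207048, 15274244, 15335473, 15515712, 15747077, 15762208, 15864000, 16056344, 16262146]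

set_option maxRecDepth 100000 in
theorem octadList_spec : (octadList.all fun m => inCode m && Nat.beq (pop m) 8 && Nat.blt m 16777216) = true
    ∧ ascending octadList = true
    ∧ (codeList.filter fun m => Nat.beq (pop m) 8).length = 759 ∧ octadList.length = 759 := by
  decide +kernel

theorem octadList_nodup : octadList.Nodup := nodup_of_ascending octadList_spec.2.1

theorem mem_octadList_iff {m : ℕ} : m ∈ octadList ↔ m ∈ codeList ∧ pop m = 8 := by
  have hsub : octadList ⊆ codeList.filter fun m => Nat.beq (pop m) 8 := by
    intro x hx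
    have := List.all_eq_true.1 octadList_spec.1 x hx
    simp only [Bool.and_eq_true, Nat.beq_eq, Nat.blt_eq] at this
    simp only [List.mem_filter, Nat.beq_eq, mem_codeList_iff]
    exact ⟨⟨this.2, this.1.1⟩, this.1.2⟩
  have hperm := (List.subperm_of_subset octadList_nodup hsub).perm_of_length_le
    (by rw [octadList_spec.2.2.1, octadList_spec.2.2.2])
  rw [hperm.mem_iff]
  simp [List.mem_filter]

theorem lt_of_mem_octadList {m : ℕ} (h : m ∈ octadList) : m < 2 ^ 24 :=
  lt_of_mem_codeList (mem_octadList_iff.1 h).1

theorem mem_octads {s : Finset GolayPt} : s ∈ octads ↔ mask s ∈ octadList := by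
  rw [mem_octads_iff, mem_octadList_iff]

/-- the masks of the dodecads -/
def dodecadList : List ℕ := codeList.filter fun m => Nat.beq (pop m) 12

theorem mem_dodecads {s : Finset GolayPt} : s ∈ dodecads ↔ mask s ∈ dodecadList := by
  simp [mem_dodecads_iff, dodecadList, List.mem_filter]

theorem lt_of_mem_dodecadList {m : ℕ} (h : m ∈ dodecadList) : m < 2 ^ 24 :=
  lt_of_mem_codeList (List.mem_filter.1 h).1

theorem dodecadList_nodup : dodecadList.Nodup := codeList_nodup.filter _

set_option maxRecDepth 100000 in
theorem dodecadList_length : dodecadList.length = 2576 := by decide +kernel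

end CfsgLib.Spor
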