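import Cfsg.Agent.Lib.KnownA.SteinerUnique.Systems
import Cfsg.Agent.Lib.Spor.SteinerGraph22
import Cfsg.Prelude.Def_Sporadic_a
import Mathlib.Combinatorics.SimpleGraph.StronglyRegular

/-!
A strongly regular graph with parameters (100, 22, 0, 6) is the point-block graph of a Steiner
system S(3, 6, 22), so there is only one up to isomorphism.

For a vertex `o` the matrix with entries 11 on the diagonal, -4 on edges and 1 elsewhere is fifty
times a projection, so the vectors attached to the vertices satisfy every linear relation whose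
Gram norm vanishes.  The relation expressing a non-neighbour of `o` through the neighbours of
`o` shows that the traces on the neighbourhood of `o` meet in 0 or 2 points, according as the two
vertices are adjacent or not.
-/

set_option autoImplicit false
set_option linter.unusedSectionVars false

namespace CfsgLib.HSUnique

open Cfsg Finset

variable {V : Type*} [Fintype V] [DecidableEq V] {G : SimpleGraph V} [DecidableRel G.Adj]

/-- fifty times the projection onto the eigenspace of eigenvalue -8 -/
def gram (G : SimpleGraph V) [DecidableRel G.Adj] (x y : V) : ℤ :=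
  1 + 10 * (if x = y then 1 else 0) - 5 * (if G.Adj x y then 1 else 0)

theorem gram_comm (x y : V) : gram G x y = gram G y x := by
  simp only [gram, eq_comm (a := x) (b := y), G.adj_comm x y]

theorem sum_adj (hG : G.IsSRGWith 100 22 0 6) (x : V) :
    ∑ z, (if G.Adj x z then (1 : ℤ) else 0) = 22 := by
  rw [Finset.sum_boole, ← SimpleGraph.neighborFinset_eq_filter,
    SimpleGraph.card_neighborFinset_eq_degree, hG.regular x]
  rfl

theorem sum_adj_adj (hG : G.IsSRGWith 100 22 0 6) (x y : V) :
    ∑ z, (if G.Adj x z then (1 : ℤ) else 0) * (if G.Adj z y then 1 else 0) =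
      6 + 16 * (if x = y then 1 else 0) - 6 * (if G.Adj x y then 1 else 0) := by
  by_cases hxy : x = y
  · subst hxy
    have : ∀ z, (if G.Adj x z then (1 : ℤ) else 0) * (if G.Adj z x then 1 else 0)
        = if G.Adj x z then 1 else 0 := fun z => by
      by_cases h : G.Adj x z <;> simp [h, G.adj_comm z x]
    rw [Finset.sum_congr rfl fun z _ => this z, sum_adj hG]
    simp
  · have hz : ∀ z, (if G.Adj x z then (1 : ℤ) else 0) * (if G.Adj z y then 1 else 0)
        = if z ∈ G.commonNeighbors x y then 1 else 0 := fun z => by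
      simp only [SimpleGraph.mem_commonNeighbors, G.adj_comm y z]
      by_cases h : G.Adj x z <;> simp [h]
    rw [Finset.sum_congr rfl fun z _ => hz z, Finset.sum_boole, ← Fintype.card_subtype]
    by_cases ha : G.Adj x y
    · rw [hG.of_adj x y ha]; simp [hxy, ha]
    · rw [hG.of_not_adj hxy ha]; simp [hxy, ha]

theorem gram_mul (hG : G.IsSRGWith 100 22 0 6) (x y : V) :
    ∑ z, gram G x z * gram G z y = 50 * gram G x y := by
  have he : ∀ z, gram G x z * gram G z y =
      1 + 10 * (if z = y then 1 else 0) + 10 * (if x = z then 1 else 0)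
        - 5 * (if G.Adj z y then 1 else 0) - 5 * (if G.Adj x z then 1 else 0)
        + 100 * ((if x = z then 1 else 0) * (if z = y then 1 else 0))
        - 50 * ((if x = z then 1 else 0) * (if G.Adj z y then 1 else 0))
        - 50 * ((if G.Adj x z then 1 else 0) * (if z = y then 1 else 0))
        + 25 * ((if G.Adj x z then 1 else 0) * (if G.Adj z y then 1 else 0)) := fun z => by
    simp only [gram]; ring
  rw [Finset.sum_congr rfl fun z _ => he z]
  have h1 : ∑ z, (if G.Adj z y then (1 : ℤ) else 0) = 22 := by
    rw [← sum_adj hG y]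
    simp only [G.adj_comm y]
  have h2 : ∑ z, (if x = z then (1 : ℤ) else 0) * (if z = y then 1 else 0)
      = if x = y then 1 else 0 := by simp
  have h3 : ∑ z, (if x = z then (1 : ℤ) else 0) * (if G.Adj z y then 1 else 0)
      = if G.Adj x y then 1 else 0 := by
    rw [Finset.sum_eq_single x (fun z _ hz => by simp [Ne.symm hz]) (by simp)]
    simp
  have h4 : ∑ z, (if G.Adj x z then (1 : ℤ) else 0) * (if z = y then 1 else 0)
      = if G.Adj x y then 1 else 0 := by
    rw [Finset.sum_eq_single y (fun z _ hz => by simp [hz]) (by simp)]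
    simp
  simp only [Finset.sum_add_distrib, Finset.sum_sub_distrib, ← Finset.mul_sum, h1, h2, h3, h4,
    sum_adj hG, sum_adj_adj hG, Finset.sum_ite_eq, Finset.sum_ite_eq', Finset.mem_univ, if_true,
    Finset.sum_const, Finset.card_univ, hG.card, gram]
  ring

variable (G) in
/-- the neighbours of `o` adjacent to `w` -/
def trace (o w : V) : Finset {x : V // G.Adj o x} :=
  Finset.univ.filter fun p => G.Adj w p.1

theorem trace_card (hG : G.IsSRGWith 100 22 0 6) {o w : V} (hw : o ≠ w) (hn : ¬ G.Adj o w) :
    (trace G o w).card = 6 := by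
  rw [← hG.of_not_adj hw hn, trace, ← Fintype.card_subtype]
  exact Fintype.card_congr ⟨fun p => ⟨p.1.1, p.1.2, p.2⟩,
    fun q => ⟨⟨q.1, q.2.1⟩, q.2.2⟩, fun _ => rfl, fun _ => rfl⟩

theorem card_nbrs (hG : G.IsSRGWith 100 22 0 6) (o : V) :
    Fintype.card {x : V // G.Adj o x} = 22 := by
  rw [Fintype.card_subtype, ← SimpleGraph.neighborFinset_eq_filter,
    SimpleGraph.card_neighborFinset_eq_degree, hG.regular o]

theorem sum_gram (S : Finset V) (z : V) :
    ∑ x ∈ S, gram G x z =
      S.card + 10 * (if z ∈ S then 1 else 0) - 5 * (S.filter fun x => G.Adj x z).card := by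
  simp only [gram, Finset.sum_sub_distrib, Finset.sum_add_distrib, ← Finset.mul_sum,
    Finset.sum_ite_eq', Finset.sum_boole, Finset.sum_const, nsmul_eq_mul, mul_one]

theorem trace_meet (hG : G.IsSRGWith 100 22 0 6) {o w w' : V} (hw : o ≠ w) (hn : ¬ G.Adj o w)
    (hw' : o ≠ w') (hn' : ¬ G.Adj o w') (hne : w ≠ w') :
    ((trace G o w ∩ trace G o w').card = 0 ∧ G.Adj w w') ∨
      ((trace G o w ∩ trace G o w').card = 2 ∧ ¬ G.Adj w w') := by
  classical
  set P := G.neighborFinset o with hP
  set T := P.filter fun x => G.Adj w x with hT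
  have hPcard : P.card = 22 := by
    rw [hP, SimpleGraph.card_neighborFinset_eq_degree, hG.regular o]
  have hTmap : ∀ S : Finset {x : V // G.Adj o x}, ∀ U : Finset V,
      (∀ x, x ∈ U ↔ ∃ h : G.Adj o x, ⟨x, h⟩ ∈ S) → U.card = S.card := fun S U h => by
    rw [← Finset.card_map (Function.Embedding.subtype fun x => G.Adj o x)]
    congr 1
    ext x
    rw [h]
    simp
  have hT6 : ∀ v, o ≠ v → ¬ G.Adj o v → (P.filter fun x => G.Adj x v).card = 6 := fun v h1 h2 => by
    rw [← trace_card hG h1 h2]
    refine hTmap _ _ fun x => ?_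
    simp [hP, trace, G.adj_comm x v]
  have hTcard : T.card = 6 := by
    rw [← hT6 w hw hn, hT]
    exact congrArg Finset.card (Finset.filter_congr fun x _ => G.adj_comm w x)
  have hindep : ∀ p ∈ P, ∀ q ∈ P, ¬ G.Adj p q := by
    intro p hp q hq hpq
    rw [hP, SimpleGraph.mem_neighborFinset] at hp hq
    have h0 := hG.of_adj o p hp
    rw [Fintype.card_eq_zero_iff] at h0
    exact h0.false ⟨q, hq, hpq⟩
  set u : V → ℤ := fun x => 8 * (if x = w then 1 else 0) - (if x ∈ P then 1 else 0)
    + 4 * (if x ∈ T then 1 else 0) with hu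
  set f : V → ℤ := fun z => ∑ x, u x * gram G x z with hf
  have hfz : ∀ z, f z = 8 * gram G w z - ∑ x ∈ P, gram G x z + 4 * ∑ x ∈ T, gram G x z := by
    intro z
    simp only [hf, hu, add_mul, sub_mul, mul_assoc, ite_mul, one_mul, zero_mul,
      Finset.sum_add_distrib, Finset.sum_sub_distrib, ← Finset.mul_sum, Finset.sum_ite_eq',
      Finset.mem_univ, if_true, Finset.sum_ite_mem, Finset.univ_inter]
  have hwP : w ∉ P := by simp [hP, hn]
  have hfP : ∀ p ∈ P, f p = 0 := by
    intro p hp
    have e1 : (P.filter fun x => G.Adj x p) = ∅ :=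
      Finset.filter_false_of_mem fun q hq => hindep q hq p hp
    have e2 : (T.filter fun x => G.Adj x p) = ∅ :=
      Finset.filter_false_of_mem fun q hq => hindep q (Finset.mem_filter.1 hq).1 p hp
    have hwp : w ≠ p := fun h => hwP (h ▸ hp)
    rw [hfz, sum_gram, sum_gram, e1, e2, hPcard, hTcard, if_pos hp]
    simp only [gram, if_neg hwp]
    have : p ∈ T ↔ G.Adj w p := by simp [hT, hp]
    by_cases ha : G.Adj w p <;> simp [this, ha]
  have hfw : f w = 0 := by
    have e2 : (T.filter fun x => G.Adj x w) = T :=
      Finset.filter_true_of_mem fun q hq => (Finset.mem_filter.1 hq).2.symm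
    have hwT : w ∉ T := fun h => hwP (Finset.mem_filter.1 h).1
    rw [hfz, sum_gram, sum_gram, e2, hT6 w hw hn, hPcard, hTcard, if_neg hwP, if_neg hwT]
    simp [gram]
  have hf0 : ∀ z, f z = 0 := by
    have hsq : ∑ z, f z * f z = 0 := by
      calc ∑ z, f z * f z = ∑ z, ∑ x, u x * (gram G x z * f z) := by
            refine Finset.sum_congr rfl fun z _ => ?_
            conv_lhs => arg 1; rw [hf]
            rw [Finset.sum_mul]
            exact Finset.sum_congr rfl fun x _ => by ring
        _ = ∑ x, u x * ∑ y, u y * ∑ z, gram G x z * gram G z y := by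
            rw [Finset.sum_comm]
            refine Finset.sum_congr rfl fun x _ => ?_
            rw [← Finset.mul_sum]
            congr 1
            simp only [hf, Finset.mul_sum]
            rw [Finset.sum_comm]
            refine Finset.sum_congr rfl fun y _ => Finset.sum_congr rfl fun z _ => ?_
            rw [gram_comm y z]
            ring
        _ = ∑ x, 50 * (u x * f x) := by
            refine Finset.sum_congr rfl fun x _ => ?_
            simp only [gram_mul hG, hf, Finset.mul_sum]
            refine Finset.sum_congr rfl fun y _ => ?_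
            rw [gram_comm y x]
            ring
        _ = 0 := by
            refine Finset.sum_eq_zero fun x _ => ?_
            by_cases h1 : x = w
            · rw [h1, hfw]; simp
            by_cases h2 : x ∈ P
            · rw [hfP x h2]; simp
            have h3 : x ∉ T := fun h => h2 (Finset.mem_filter.1 h).1
            simp [hu, h1, h2, h3]
    intro z
    have := (Finset.sum_eq_zero_iff_of_nonneg fun i _ => mul_self_nonneg (f i)).1 hsq z
      (Finset.mem_univ z)
    exact mul_self_eq_zero.1 this
  have hi : (T.filter fun x => G.Adj x w').card = (trace G o w ∩ trace G o w').card := by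
    refine hTmap _ _ fun x => ?_
    simp [hT, hP, trace, G.adj_comm x w', and_assoc]
    tauto
  have key := hf0 w'
  have hw'P : w' ∉ P := by simp [hP, hn']
  have hw'T : w' ∉ T := fun h => hw'P (Finset.mem_filter.1 h).1
  rw [hfz, sum_gram, sum_gram, hT6 w' hw' hn', hi, hPcard, hTcard, if_neg hw'P, if_neg hw'T] at key
  simp only [gram, if_neg hne] at key
  by_cases ha : G.Adj w w'
  · rw [if_pos ha] at key
    left
    exact ⟨by omega, ha⟩
  · rw [if_neg ha] at key
    right
    exact ⟨by omega, ha⟩

/-- an isomorphism of families of subsets gives one of the point-block graphs -/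
theorem pointBlockGraph_iso {α β : Type*} [DecidableEq β] {B : Set (Finset α)}
    {B' : Set (Finset β)} (h : SetSystemIso B B') :
    Nonempty (pointBlockGraph B ≃g pointBlockGraph B') := by
  classical
  obtain ⟨e, he⟩ := h
  subst he
  let F : ↥B ≃ ↥((fun b => b.image e) '' B) :=
    Equiv.Set.image (fun b => b.image e) B (Finset.image_injective e.injective)
  have hF : ∀ b : ↥B, (F b : Finset β) = (b : Finset α).image e := fun b => rfl
  let E : Option (α ⊕ ↥B) ≃ Option (β ⊕ ↥((fun b => b.image e) '' B)) :=
    Equiv.optionCongr (Equiv.sumCongr e F)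
  refine ⟨⟨E, fun {u v} => ?_⟩⟩
  have hrel : ∀ x y, pointBlockRel _ (E x) (E y) ↔ pointBlockRel B x y := by
    intro x y
    rcases x with _ | (a | b) <;> rcases y with _ | (a' | b') <;>
      simp [E, pointBlockRel, hF, Finset.disjoint_image e.injective, -Finset.mem_image]
    exact ⟨fun h => by
      obtain ⟨c, hc, hce⟩ := Finset.mem_image.1 h
      exact e.injective hce ▸ hc, fun h => Finset.mem_image_of_mem e h⟩
  simp only [pointBlockGraph, SimpleGraph.fromRel_adj, hrel, E.injective.ne_iff]

/-- a graph with these parameters is the point-block graph of a Steiner system -/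
theorem exists_steiner {V : Type*} [Fintype V] {G : SimpleGraph V} [DecidableRel G.Adj]
    (hG : G.IsSRGWith 100 22 0 6) :
    ∃ o : V, ∃ B : Set (Finset {x : V // G.Adj o x}),
      IsSteinerSystem 3 6 B ∧ Nonempty (G ≃g pointBlockGraph B) := by
  classical
  obtain ⟨o⟩ := Fintype.card_pos_iff.1 (show 0 < Fintype.card V by rw [hG.card]; norm_num)
  let W := {w : V // o ≠ w ∧ ¬ G.Adj o w}
  let t : W → Finset {x : V // G.Adj o x} := fun w => trace G o w.1
  have h6 : ∀ w : W, (t w).card = 6 := fun w => trace_card hG w.2.1 w.2.2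
  have hmeet : ∀ w w' : W, w ≠ w' → ((t w ∩ t w').card = 0 ∧ G.Adj w.1 w'.1) ∨
      ((t w ∩ t w').card = 2 ∧ ¬ G.Adj w.1 w'.1) := fun w w' h =>
    trace_meet hG w.2.1 w.2.2 w'.2.1 w'.2.2 fun e => h (Subtype.ext e)
  have hinj : Function.Injective t := by
    intro w w' h
    by_contra hne
    have := hmeet w w' hne
    rw [h, Finset.inter_self, h6] at this
    omega
  have huniq : ∀ w w' : W, ∀ s : Finset {x : V // G.Adj o x}, s.card = 3 → s ⊆ t w → s ⊆ t w' →
      w = w' := by
    intro w w' s hs h1 h2
    by_contra hne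
    have := Finset.card_le_card (Finset.subset_inter h1 h2)
    rcases hmeet w w' hne with ⟨h, -⟩ | ⟨h, -⟩ <;> omega
  have hW : Fintype.card W = 77 := by
    rw [Fintype.card_subtype]
    have e : (Finset.univ.filter fun w => o ≠ w ∧ ¬ G.Adj o w)
        = (insert o (G.neighborFinset o))ᶜ := by
      ext w
      simp [eq_comm]
    rw [e, Finset.card_compl, Finset.card_insert_of_notMem (by simp),
      SimpleGraph.card_neighborFinset_eq_degree, hG.regular o, hG.card]
  have hcov : (Finset.univ : Finset W).biUnion (fun w => (t w).powersetCard 3)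
      = Finset.univ.powersetCard 3 := by
    refine Finset.eq_of_subset_of_card_le (fun s hs => ?_) ?_
    · obtain ⟨w, -, hw⟩ := Finset.mem_biUnion.1 hs
      exact Finset.mem_powersetCard.2 ⟨Finset.subset_univ _, (Finset.mem_powersetCard.1 hw).2⟩
    · rw [Finset.card_biUnion]
      · simp only [Finset.card_powersetCard, Finset.card_univ, h6, Finset.sum_const, hW,
          card_nbrs hG]
        decide
      · intro w _ w' _ hne
        refine Finset.disjoint_left.2 fun s hs hs' => hne ?_
        rw [Finset.mem_powersetCard] at hs hs'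
        exact huniq w w' s hs.2 hs.1 hs'.1
  refine ⟨o, Set.range t, ⟨?_, ?_⟩, ?_⟩
  · rintro _ ⟨w, rfl⟩
    exact h6 w
  · intro s hs
    have : s ∈ (Finset.univ : Finset W).biUnion (fun w => (t w).powersetCard 3) := by
      rw [hcov]
      exact Finset.mem_powersetCard.2 ⟨Finset.subset_univ _, hs⟩
    obtain ⟨w, -, hw⟩ := Finset.mem_biUnion.1 this
    refine ⟨t w, ⟨⟨w, rfl⟩, (Finset.mem_powersetCard.1 hw).1⟩, ?_⟩
    rintro _ ⟨⟨w', rfl⟩, hw'⟩
    rw [huniq w' w s hs hw' (Finset.mem_powersetCard.1 hw).1]
  · let E1 : Option ({x : V // G.Adj o x} ⊕ W) ≃ Option ({x : V // G.Adj o x} ⊕ ↥(Set.range t)) :=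
      Equiv.optionCongr (Equiv.sumCongr (Equiv.refl _) (Equiv.ofInjective t hinj))
    let F : Option ({x : V // G.Adj o x} ⊕ W) → V
      | none => o
      | some (Sum.inl p) => p.1
      | some (Sum.inr w) => w.1
    have hF : Function.Bijective F := by
      refine ⟨?_, fun x => ?_⟩
      · rintro (_ | (p | w)) (_ | (p' | w')) h <;> simp only [F] at h
        · rfl
        · exact absurd h p'.2.ne
        · exact absurd h w'.2.1
        · exact absurd h.symm p.2.ne
        · rw [Subtype.ext h]
        · exact absurd (h ▸ p.2) w'.2.2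
        · exact absurd h.symm w.2.1
        · exact absurd (h ▸ p'.2) w.2.2
        · rw [Subtype.ext h]
      · by_cases h1 : o = x
        · exact ⟨none, h1⟩
        by_cases h2 : G.Adj o x
        · exact ⟨some (Sum.inl ⟨x, h2⟩), rfl⟩
        · exact ⟨some (Sum.inr ⟨x, h1, h2⟩), rfl⟩
    have hindep : ∀ p q : {x : V // G.Adj o x}, ¬ G.Adj p.1 q.1 := by
      intro p q hpq
      have h0 := hG.of_adj o p.1 p.2
      rw [Fintype.card_eq_zero_iff] at h0
      exact h0.false ⟨q.1, q.2, hpq⟩
    have hdisj : ∀ w w' : W, (E1 (some (Sum.inr w)) ≠ E1 (some (Sum.inr w')) ∧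
        (Disjoint (t w) (t w') ∨ Disjoint (t w') (t w))) ↔ G.Adj w.1 w'.1 := by
      intro w w'
      rw [disjoint_comm (a := t w'), or_self, E1.injective.ne_iff]
      by_cases hne : w = w'
      · subst hne; simp
      rw [Finset.disjoint_iff_inter_eq_empty, ← Finset.card_eq_zero]
      rcases hmeet w w' hne with ⟨h, ha⟩ | ⟨h, ha⟩ <;> simp [hne, h, ha]
    have hmem : ∀ (p : {x : V // G.Adj o x}) (w : W), p ∈ t w ↔ G.Adj w.1 p.1 := fun p w => by
      simp [t, trace]
    have key : ∀ u v, (pointBlockGraph (Set.range t)).Adj (E1 u) (E1 v) ↔ G.Adj (F u) (F v) := by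
      intro u v
      rw [pointBlockGraph, SimpleGraph.fromRel_adj]
      rcases u with _ | (p | w) <;> rcases v with _ | (p' | w')
      · simp
      · simpa [E1, pointBlockRel, F] using p'.2
      · simpa [E1, pointBlockRel, F] using w'.2.2
      · simpa [E1, pointBlockRel, F] using p.2.symm
      · simpa [E1, pointBlockRel, F] using hindep p p'
      · simp [E1, pointBlockRel, F, hmem, G.adj_comm p.1]
      · simpa [E1, pointBlockRel, F] using fun h : G.Adj w.1 o => w.2.2 h.symm
      · simp [E1, pointBlockRel, F, hmem]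
      · exact hdisj w w'
    let e2 := Equiv.ofBijective F hF
    refine ⟨⟨e2.symm.trans E1, fun {a b} => ?_⟩⟩
    have h := key (e2.symm a) (e2.symm b)
    rwa [show F (e2.symm a) = a from e2.apply_symm_apply a,
      show F (e2.symm b) = b from e2.apply_symm_apply b] at h

theorem srg100_unique {V W : Type*} [Fintype V] [Fintype W] {G : SimpleGraph V}
    {H : SimpleGraph W} [DecidableRel G.Adj] [DecidableRel H.Adj]
    (hG : G.IsSRGWith 100 22 0 6) (hH : H.IsSRGWith 100 22 0 6) : Nonempty (G ≃g H) := by
  classical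
  obtain ⟨o, B, hB, ⟨e⟩⟩ := exists_steiner hG
  obtain ⟨o', B', hB', ⟨e'⟩⟩ := exists_steiner hH
  obtain ⟨f⟩ := pointBlockGraph_iso (SteinerUnique.Labelled.iso (by norm_num)
    (SteinerUnique.labelled22 (card_nbrs hG o) hB) (SteinerUnique.labelled22 (card_nbrs hH o') hB'))
  exact ⟨(e.trans f).trans e'.symm⟩

end CfsgLib.HSUnique
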