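import Cfsg.Agent.Lib.Spor.HSGraphAut
import Cfsg.Agent.Lib.Spor.HSGraphUnique
import Cfsg.Agent.Lib.Spor.SteinerGraph22
import Cfsg.Agent.Lib.Spor.HSIso
import Cfsg.Agent.Lib.KnownA.MathieuOut.Main
import Mathlib.GroupTheory.Perm.Cycle.Type

/-!
Recognition of the Higman-Sims group as a rank 3 group of degree 100 with subdegrees 1, 22, 77 and
point stabiliser of order 443520: the orbital graph of valency 22 has parameters (100, 22, 0, 6),
so it is the Higman-Sims graph, in whose automorphism group the simple subgroup of index 2 is the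
only subgroup of its order.
-/

set_option autoImplicit false

namespace CfsgLib.Spor.HSRecog

open Cfsg CfsgLib.Spor CfsgLib.Spor.HSGraph CfsgLib.Spor.HSConfig

section graph

variable {V : Type*} [Fintype V] [DecidableEq V] {G : SimpleGraph V} [DecidableRel G.Adj]
  {n k l m : ℕ}

/-- the ordered triangles are permuted freely by rotation -/
theorem three_dvd (h : G.IsSRGWith n k l m) : 3 ∣ n * k * l := by
  classical
  let T := {p : V × V × V // G.Adj p.1 p.2.1 ∧ G.Adj p.2.1 p.2.2 ∧ G.Adj p.2.2 p.1}
  let r : Equiv.Perm T :=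
    { toFun := fun p => ⟨(p.1.2.1, p.1.2.2, p.1.1), p.2.2.1, p.2.2.2, p.2.1⟩
      invFun := fun p => ⟨(p.1.2.2, p.1.1, p.1.2.1), p.2.2.2, p.2.1, p.2.2.1⟩
      left_inv := fun _ => rfl
      right_inv := fun _ => rfl }
  have hr : r ^ 3 ^ 1 = 1 := Equiv.ext fun _ => rfl
  haveI : Fact (Nat.Prime 3) := ⟨Nat.prime_three⟩
  have hs : r.supportᶜ.card = 0 := by
    rw [Finset.card_eq_zero, Finset.eq_empty_iff_forall_notMem]
    intro p hp
    rw [Finset.mem_compl, Equiv.Perm.notMem_support] at hp
    have h1 : p.1.2.1 = p.1.1 := congrArg (fun q : T => q.1.1) hp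
    exact G.loopless.irrefl _ (h1 ▸ p.2.1)
  have h1 := Equiv.Perm.card_compl_support_modEq hr
  rw [hs] at h1
  let e : T ≃ Σ x : V, Σ y : G.neighborSet x, G.commonNeighbors x y :=
    { toFun := fun p => ⟨p.1.1, ⟨p.1.2.1, p.2.1⟩, p.1.2.2, p.2.2.2.symm, p.2.2.1⟩
      invFun := fun q => ⟨(q.1, q.2.1.1, q.2.2.1), q.2.1.2, q.2.2.2.2, q.2.2.2.1.symm⟩
      left_inv := fun _ => rfl
      right_inv := fun _ => rfl }
  have hc : Fintype.card T = n * k * l := by
    rw [Fintype.card_congr e, Fintype.card_sigma]
    have h2 : ∀ x : V, Fintype.card (Σ y : G.neighborSet x, G.commonNeighbors x y) = k * l := by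
      intro x
      rw [Fintype.card_sigma, Finset.sum_congr rfl fun (y : G.neighborSet x) _ => h.of_adj x y.1 y.2, Finset.sum_const,
        Finset.card_univ, SimpleGraph.card_neighborSet_eq_degree, h.regular x, smul_eq_mul]
    rw [Finset.sum_congr rfl fun x _ => h2 x, Finset.sum_const, Finset.card_univ, h.card,
      smul_eq_mul, mul_assoc]
  rw [← hc]
  exact (Nat.modEq_zero_iff_dvd).1 h1.symm

/-- without paths of length 2 between non-adjacent vertices the graph splits into cliques -/
theorem succ_dvd (h : G.IsSRGWith n k l 0) (hl : l + 1 = k) : k + 1 ∣ n := by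
  classical
  let f : V → Finset V := fun x => insert x (G.neighborFinset x)
  have htr : ∀ x y z, G.Adj x y → G.Adj y z → x ≠ z → G.Adj x z := by
    intro x y z hxy hyz hne
    by_contra hn
    have h0 := h.of_not_adj hne hn
    haveI : IsEmpty (G.commonNeighbors x z) := Fintype.card_eq_zero_iff.1 h0
    exact isEmptyElim (⟨y, hxy, hyz.symm⟩ : G.commonNeighbors x z)
  have hmem : ∀ x y, y ∈ f x ↔ x = y ∨ G.Adj x y := fun x y => by
    simp [f, eq_comm (a := x)]
  have hf : ∀ x y, y ∈ f x → f y = f x := by
    intro x y hy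
    ext z
    rw [hmem, hmem]
    rcases (hmem x y).1 hy with rfl | hxy
    · rfl
    constructor
    · rintro (rfl | hyz)
      · exact Or.inr hxy
      · exact (eq_or_ne x z).imp_right (htr x y z hxy hyz)
    · rintro (rfl | hxz)
      · exact Or.inr hxy.symm
      · exact (eq_or_ne y z).imp_right (htr y x z hxy.symm hxz)
  have hfc : ∀ x, (f x).card = k + 1 := fun x => by
    rw [Finset.card_insert_of_notMem (by simp), SimpleGraph.card_neighborFinset_eq_degree,
      h.regular x]
  have hfib : ∀ S ∈ Finset.univ.image f, (Finset.univ.filter fun x => f x = S).card = k + 1 := by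
    intro S hS
    obtain ⟨x, -, rfl⟩ := Finset.mem_image.1 hS
    rw [show (Finset.univ.filter fun z => f z = f x) = f x from ?_, hfc]
    ext z
    simp only [Finset.mem_filter, Finset.mem_univ, true_and]
    exact ⟨fun he => he ▸ (hmem z z).2 (Or.inl rfl), fun he => hf x z he⟩
  rw [← h.card, ← Finset.card_univ, Finset.card_eq_sum_card_image f Finset.univ,
    Finset.sum_congr rfl hfib, Finset.sum_const, smul_eq_mul]
  exact dvd_mul_left _ _

/-- the parameters of degree 100 and valency 22 -/
theorem params (h : G.IsSRGWith 100 22 l m) (hl : l ≤ 21) : l = 0 ∧ m = 6 := by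
  have h1 := SimpleGraph.IsSRGWith.param_eq G h (by norm_num)
  have h2 : l = 0 ∧ m = 6 ∨ l = 7 ∨ l = 14 ∨ l = 21 ∧ m = 0 := by omega
  rcases h2 with h2 | rfl | rfl | ⟨rfl, rfl⟩
  · exact h2
  · have := three_dvd h; norm_num at this
  · have := three_dvd h; norm_num at this
  · have := succ_dvd h rfl; norm_num at this

end graph

variable {Ω : Type*} [Fintype Ω] [DecidableEq Ω] (hΩ : Fintype.card Ω = 100)
  (G : Subgroup (Equiv.Perm Ω)) [MulAction.IsPretransitive G Ω] (a b c : Ω)

/-- the orbital relation -/
def rel (x y : Ω) : Prop := ∃ g : G, g • a = x ∧ g • b = y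

theorem rel_smul (g : G) (x y : Ω) : rel G a b (g • x) (g • y) ↔ rel G a b x y := by
  constructor
  · rintro ⟨h, hx, hy⟩
    exact ⟨g⁻¹ * h, by rw [mul_smul, hx, inv_smul_smul], by rw [mul_smul, hy, inv_smul_smul]⟩
  · rintro ⟨h, hx, hy⟩
    exact ⟨g * h, by rw [mul_smul, hx], by rw [mul_smul, hy]⟩

theorem rel_base (y : Ω) :
    rel G a b a y ↔ y ∈ MulAction.orbit (MulAction.stabilizer G a) b :=
  ⟨fun ⟨g, h1, h2⟩ => ⟨⟨g, h1⟩, h2⟩, fun ⟨g, h2⟩ => ⟨g.1, g.2, h2⟩⟩

variable {G a b c}

theorem orbit_base (p : Ω) : MulAction.orbit (MulAction.stabilizer G p) p = {p} := by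
  ext w
  constructor
  · rintro ⟨g, hg⟩
    exact hg.symm.trans g.2
  · rintro rfl
    exact MulAction.mem_orbit_self _

theorem ncard_out (hb : (MulAction.orbit (MulAction.stabilizer G a) b).ncard = 22) (x : Ω) :
    {y | rel G a b x y}.ncard = 22 := by
  obtain ⟨g, rfl⟩ := MulAction.exists_smul_eq G a x
  have e : {y | rel G a b (g • a) y} =
      (g • ·) '' MulAction.orbit (MulAction.stabilizer G a) b := by
    ext y
    rw [Set.mem_setOf_eq, ← smul_inv_smul g y, rel_smul, rel_base]
    exact ⟨fun h => ⟨_, h, rfl⟩, fun ⟨z, hz, he⟩ => by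
      rw [show g⁻¹ • y = z by rw [← (MulAction.injective g) he]]; exact hz⟩
  rw [e, Set.ncard_image_of_injective _ (MulAction.injective g), hb]

include hΩ in
theorem cover (hb : (MulAction.orbit (MulAction.stabilizer G a) b).ncard = 22)
    (hc : (MulAction.orbit (MulAction.stabilizer G a) c).ncard = 77) (x : Ω) :
    x = a ∨ x ∈ MulAction.orbit (MulAction.stabilizer G a) b ∨
      x ∈ MulAction.orbit (MulAction.stabilizer G a) c := by
  set K := MulAction.stabilizer G a
  have ha : MulAction.orbit K a = {a} := orbit_base a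
  have hd : ∀ {p q : Ω}, (MulAction.orbit K p).ncard ≠ (MulAction.orbit K q).ncard →
      Disjoint (MulAction.orbit K p) (MulAction.orbit K q) := fun {p q} hne =>
    Set.disjoint_left.2 fun z hp hq => hne
      (by rw [← MulAction.orbit_eq_iff.2 hp, ← MulAction.orbit_eq_iff.2 hq])
  have hall : MulAction.orbit K a ∪ (MulAction.orbit K b ∪ MulAction.orbit K c) = Set.univ := by
    rw [Set.eq_univ_iff_ncard, Set.ncard_union_eq, Set.ncard_union_eq
      (hd (by omega)), ha, Set.ncard_singleton, hb, hc, Nat.card_eq_fintype_card, hΩ]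
    rw [Set.disjoint_union_right]
    exact ⟨hd (by rw [ha, Set.ncard_singleton]; omega), hd (by rw [ha, Set.ncard_singleton]; omega)⟩
  have hx := hall.ge (Set.mem_univ x)
  rw [ha] at hx
  exact hx

include hΩ in
theorem rel_symm (hb : (MulAction.orbit (MulAction.stabilizer G a) b).ncard = 22)
    (hc : (MulAction.orbit (MulAction.stabilizer G a) c).ncard = 77) {x y : Ω}
    (h : rel G a b x y) : rel G a b y x := by
  classical
  set K := MulAction.stabilizer G a
  set I : Set Ω := {z | rel G a b z a}
  have hin : ∀ u, {z | rel G a b z u}.ncard = I.ncard := by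
    intro u
    obtain ⟨g, rfl⟩ := MulAction.exists_smul_eq G a u
    have e : {z | rel G a b z (g • a)} = (g • ·) '' I := by
      ext z
      rw [Set.mem_setOf_eq, ← smul_inv_smul g z, rel_smul]
      exact ⟨fun h => ⟨_, h, rfl⟩, fun ⟨w, hw, he⟩ => by
        rw [show g⁻¹ • z = w by rw [← (MulAction.injective g) he]]; exact hw⟩
    rw [e, Set.ncard_image_of_injective _ (MulAction.injective g)]
  have hI : I.ncard = 22 := by
    have h1 := Finset.sum_card_bipartiteAbove_eq_sum_card_bipartiteBelow (rel G a b)
      (s := Finset.univ) (t := Finset.univ)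
    have e1 : ∀ u : Ω, (Finset.bipartiteAbove (rel G a b) Finset.univ u).card = 22 := fun u => by
      rw [← ncard_out hb u, Set.ncard_eq_toFinset_card']
      congr 1
      ext; simp [Finset.bipartiteAbove]
    have e2 : ∀ u : Ω, (Finset.bipartiteBelow (rel G a b) Finset.univ u).card = I.ncard :=
      fun u => by
      rw [← hin u, Set.ncard_eq_toFinset_card']
      congr 1
      ext; simp [Finset.bipartiteBelow]
    simp only [e1, e2, Finset.sum_const, Finset.card_univ, hΩ, smul_eq_mul] at h1
    omega
  have hinv : ∀ (k : K), ∀ z ∈ I, k • z ∈ I := by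
    intro k z hz
    have h1 := (rel_smul G a b (k : G) z a).2 hz
    rw [show (k : G) • a = a from k.2] at h1
    exact h1
  have hsub : I ⊆ MulAction.orbit K b := by
    intro z hz
    rcases cover hΩ hb hc z with rfl | hz' | hz'
    · obtain ⟨g, h1, h2⟩ := hz
      have e : b = z := MulAction.injective g (h2.trans h1.symm)
      subst e
      have h3 : MulAction.orbit K b = {b} := orbit_base b
      rw [h3, Set.ncard_singleton] at hb
      omega
    · exact hz'
    · exfalso
      have h1 : MulAction.orbit K c ⊆ I := by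
        intro w hw
        rw [← MulAction.orbit_eq_iff.2 hz'] at hw
        obtain ⟨k, rfl⟩ := hw
        exact hinv k z hz
      have := Set.ncard_le_ncard h1 (Set.toFinite _)
      omega
  have heq : I = MulAction.orbit K b :=
    Set.eq_of_subset_of_ncard_le hsub (by omega) (Set.toFinite _)
  obtain ⟨g, rfl, rfl⟩ := h
  rw [rel_smul]
  exact (show b ∈ I by rw [heq]; exact MulAction.mem_orbit_self b)

/-- the orbital graph -/
def orbGraph (hsymm : ∀ x y, rel G a b x y → rel G a b y x) (hne : a ≠ b) : SimpleGraph Ω where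
  Adj := rel G a b
  symm := ⟨hsymm⟩
  loopless := ⟨fun x ⟨g, h1, h2⟩ => hne (MulAction.injective g (h1.trans h2.symm))⟩

include hΩ in
theorem isoHS_of_rank_three (a : Ω) (hK : Nat.card (MulAction.stabilizer G a) = 443520) (b c : Ω)
    (hb : (MulAction.orbit (MulAction.stabilizer G a) b).ncard = 22)
    (hc : (MulAction.orbit (MulAction.stabilizer G a) c).ncard = 77) :
    Spor.IsoHS G := by
  classical
  set K := MulAction.stabilizer G a with hKdef
  have hne : a ≠ b := by
    rintro rfl
    have h3 : MulAction.orbit K a = {a} := orbit_base a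
    rw [h3, Set.ncard_singleton] at hb
    omega
  let Γ := orbGraph (fun x y h => rel_symm hΩ hb hc h) hne
  let act : G →* (Γ ≃g Γ) :=
    { toFun := fun g => ⟨MulAction.toPerm g, fun {x y} => rel_smul G a b g x y⟩
      map_one' := RelIso.ext fun x => one_smul G x
      map_mul' := fun g h => RelIso.ext fun x => mul_smul g h x }
  have hact : Function.Injective act := fun g h e => Subtype.ext (Equiv.ext fun x =>
    congrArg (fun f : Γ ≃g Γ => f x) e)
  have hdeg : Γ.IsRegularOfDegree 22 := fun x => by
    rw [← SimpleGraph.card_neighborFinset_eq_degree, ← ncard_out hb x,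
      Set.ncard_eq_toFinset_card']
    rfl
  have hcn : ∀ (g : G) (x y : Ω), Fintype.card (Γ.commonNeighbors (g • x) (g • y)) =
      Fintype.card (Γ.commonNeighbors x y) := fun g x y =>
    (Fintype.card_congr ((MulAction.toPerm g).subtypeEquiv fun z => by
      show rel G a b x z ∧ rel G a b y z ↔ rel G a b (g • x) (g • z) ∧ rel G a b (g • y) (g • z)
      rw [rel_smul, rel_smul])).symm
  have hab : Γ.Adj a b := ⟨1, one_smul _ _, one_smul _ _⟩
  have hsrg : Γ.IsSRGWith 100 22 (Fintype.card (Γ.commonNeighbors a b))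
      (Fintype.card (Γ.commonNeighbors a c)) := by
    refine ⟨hΩ, hdeg, ?_, fun x y hxy hn => ?_⟩
    · rintro _ _ ⟨g, rfl, rfl⟩
      exact hcn g a b
    · obtain ⟨g, rfl⟩ := MulAction.exists_smul_eq G a x
      rw [← smul_inv_smul g y] at hxy hn ⊢
      rw [hcn]
      rcases cover hΩ hb hc (g⁻¹ • y) with h | h | ⟨k, hk⟩
      · exact absurd (congrArg (g • ·) h.symm) hxy
      · exact absurd ((rel_smul G a b g a _).2 ((rel_base G a b _).2 h)) hn
      · rw [show g⁻¹ • y = (k : G) • c from hk.symm]
        exact (Fintype.card_congr (Equiv.setCongr (show Γ.commonNeighbors a ((k : G) • c) =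
          Γ.commonNeighbors ((k : G) • a) ((k : G) • c) by
            rw [show (k : G) • a = a from k.2]))).trans (hcn (k : G) a c)
  have hl : Fintype.card (Γ.commonNeighbors a b) ≤ 21 := by
    have := hab.card_commonNeighbors_lt_degree
    rw [hdeg a] at this
    omega
  obtain ⟨e0, e6⟩ := params hsrg hl
  rw [e0, e6] at hsrg
  obtain ⟨φ⟩ := exists_graph_iso CfsgLib.SteinerUnique.card_P22
    CfsgLib.SteinerUnique.model22_isSteiner
  haveI := Fintype.ofFinite
    ↥(CfsgLib.SteinerUnique.model CfsgLib.SteinerUnique.P22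
      {CfsgLib.SteinerUnique.pInf, CfsgLib.SteinerUnique.pTwo} 6)
  obtain ⟨η⟩ := CfsgLib.HSUnique.srg100_unique
    (pointBlockGraph_srg CfsgLib.SteinerUnique.card_P22 CfsgLib.SteinerUnique.model22_isSteiner)
    hsrg
  let ψ : vecGraph ≃g Γ := φ.symm.trans η
  let f : G →* (vecGraph ≃g vecGraph) := (autCongr ψ).toMonoidHom.comp act
  have hf : Function.Injective f := (autCongr ψ).injective.comp hact
  have hA : Nat.card (vecGraph ≃g vecGraph) = 88704000 := by
    rw [Nat.card_congr (autCongr φ).toEquiv]
    exact natCard_aut CfsgLib.SteinerUnique.card_P22 CfsgLib.SteinerUnique.model22_isSteiner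
  have hG : Nat.card G = 44352000 := by
    rw [← Subgroup.card_mul_index K, hK, MulAction.index_stabilizer_of_transitive,
      Nat.card_eq_fintype_card, hΩ]
  have hR : Nat.card f.range = 44352000 := by
    rw [← Nat.card_congr (MonoidHom.ofInjective hf).toEquiv, hG]
  have hP : Nat.card toVecAut.range = 44352000 := by
    rw [← Nat.card_congr (MonoidHom.ofInjective toVecAut_injective).toEquiv]
    exact ConwaySimple.natCard_hsStd
  haveI : Finite (vecGraph ≃g vecGraph) := Nat.finite_of_card_ne_zero (by omega)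
  have hidx : f.range.index = 2 := by
    have := f.range.card_mul_index
    rw [hR, hA] at this
    omega
  haveI := Subgroup.normal_of_index_eq_two hidx
  haveI : IsSimpleGroup pairStab := ConwaySimple.isSimple_hs
  have hle : toVecAut.range ≤ f.range := by
    rcases (Subgroup.Normal.comap (inferInstance : f.range.Normal) toVecAut).eq_bot_or_eq_top
      with h | h
    · exfalso
      have h1 := Subgroup.index_comap f.range toVecAut
      rw [h, Subgroup.index_bot] at h1
      have h2 := Subgroup.relIndex_dvd_index_of_normal f.range toVecAut.range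
      rw [hidx, ← h1, show Nat.card pairStab = 44352000 from ConwaySimple.natCard_hsStd] at h2
      norm_num at h2
    · rintro _ ⟨x, rfl⟩
      exact (h.ge (Subgroup.mem_top x) :)
  have heq : toVecAut.range = f.range :=
    Subgroup.eq_of_le_of_card_ge hle (by omega)
  obtain ⟨i⟩ := HSIso.pairStab_equiv_hs
  exact ⟨(MonoidHom.ofInjective hf).trans ((MulEquiv.subgroupCongr heq.symm).trans
    ((MonoidHom.ofInjective toVecAut_injective).symm.trans i))⟩

end CfsgLib.Spor.HSRecog
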