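import Cfsg.Agent.Lib.Spor.Co0CensusParts
import Cfsg.Agent.Lib.Spor.Co0Split

/-!
The standard vectors for the configurations related to the Higman-Sims group.
-/

set_option autoImplicit false
set_option Elab.async false
set_option maxRecDepth 100000
set_option maxHeartbeats 0

namespace CfsgLib.Spor.HSConfig

open Cfsg
open CfsgLib.Spor
open CfsgLib.Spor.Config

/-- a lattice vector given by its coordinate list -/
def mkV (l : List ℤ) (h : inLeechB (lOf (vOf l)) = true) : leechLattice :=
  ⟨vOf l, mem_leech_of_inLeechB h⟩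

/-- the standard vector of norm 48 -/
abbrev bigV : leechLattice := Cfsg.Spor.leechV

/-- `4` at the extra point and `-4` at the point `0` -/
def x0 : leechLattice :=
  mkV [-4, 0, 0, 0, 0, 0, 0, 0, 0, 0, 0, 0, 0, 0, 0, 0, 0, 0, 0, 0, 0, 0, 0, 4] (by decide +kernel)

/-- the partner `-(V + x0)` -/
def bigW : leechLattice :=
  mkV [5, 1, 1, 1, 1, 1, 1, 1, 1, 1, 1, 1, 1, 1, 1, 1, 1, 1, 1, 1, 1, 1, 1, 1] (by decide +kernel)

theorem norm_V : sqNorm (bigV : GolayPt → ℤ) = 48 := by decide +kernel

theorem norm_x0 : sqNorm (x0 : GolayPt → ℤ) = 32 := by decide +kernel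

theorem dot_V_x0 : dotInt (bigV : GolayPt → ℤ) (x0 : GolayPt → ℤ) = -16 := by decide +kernel

theorem W_eq : bigW = -(bigV + x0) :=
  Subtype.ext (lOf_inj (by decide +kernel))

/-- class of `V` -/
def cV : Census.Cls := [(-1, 8388607), (-5, 8388608)]

/-- class of the partner -/
def cW : Census.Cls := [(1, 16777214), (5, 1)]

/-- inner product of coordinate lists -/
def dotL (a b : List ℤ) : ℤ := ((List.range 24).map fun j => a.getD j 0 * b.getD j 0).sum

theorem dotInt_eq_dotL (x y : GolayPt → ℤ) : dotInt x y = dotL (lOf x) (lOf y) := by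
  rw [dotInt, sum_pt, dotL]
  exact congrArg List.sum (List.map_congr_left fun j hj => by
    rw [lOf_getD _ (List.mem_range.1 hj), lOf_getD _ (List.mem_range.1 hj)])

theorem x0_mem : x0 ∈ cfgSet [(bigV, -16)] := mem_cfgSet_one.2 ⟨norm_x0, dot_V_x0⟩

theorem stabV_fix (a : ℤ) :
    ∀ g ∈ MulAction.stabilizer Co0 bigV, ∀ q ∈ [(bigV, a)], g • q.1 = q.1 := by
  intro g hg q hq
  simp only [List.mem_cons, List.not_mem_nil, or_false] at hq
  subst hq
  exact hg

end CfsgLib.Spor.HSConfig
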