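import Cfsg.Agent.Lib.Spor.HSConfig
import Cfsg.Agent.Lib.Spor.ConwaySimple
import Cfsg.Agent.Lib.KnownA.SteinerUnique.Systems

/-!
The Higman-Sims group inside the automorphism group of the graph of a system `S(3,6,22)`: the graph
is that of the 100 short vectors, adjacency being inner product 8; the list of these vectors is
ordered as apex, blocks in the standard labelling, points.
-/

set_option autoImplicit false
set_option maxRecDepth 100000

namespace CfsgLib.Spor.HSGraph

open Cfsg CfsgLib.Spor CfsgLib.Spor.Config CfsgLib.Spor.HSConfig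

/-- the standard blocks -/
abbrev std : List ℕ := CfsgLib.SteinerUnique.std22

/-- list inner product -/
def dotG (l m : List ℤ) : ℤ := ((List.range 24).map fun i => l.getD i 0 * m.getD i 0).sum

/-- the `i`-th vector of the list -/
def lst (i : ℕ) : List ℤ := hsList.getD i []

/-- adjacency on indices -/
def adjI (i j : ℕ) : Bool := dotG (lst i) (lst j) == 8

theorem dotG_lOf (x y : GolayPt → ℤ) : dotG (lOf x) (lOf y) = dotInt x y := by
  have e : ∀ i ∈ List.range 24, (lOf x).getD i 0 * (lOf y).getD i 0 = x (pt i) * y (pt i) := by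
    intro i hi
    rw [lOf_getD x (List.mem_range.1 hi), lOf_getD y (List.mem_range.1 hi)]
  rw [dotG, List.map_congr_left e]
  have h : ((List.range 24).map pt).toFinset = Finset.univ := by decide +kernel
  have hn : ((List.range 24).map pt).Nodup := by decide +kernel
  show _ = ∑ p, x p * y p
  rw [← h, List.sum_toFinset _ hn, List.map_map]
  rfl

theorem check_apex : adjI 0 0 = false ∧ (∀ i < 22, adjI 0 (78 + i) = true) ∧
    ∀ k < 77, adjI 0 (k + 1) = false := by decide +kernel

theorem check_pts : ∀ i < 22, ∀ j < 22, adjI (78 + i) (78 + j) = false := by decide +kernel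

theorem check_mixed : ∀ i < 22, ∀ k < 77, adjI (78 + i) (k + 1) = (std.getD k 0).testBit i := by
  decide +kernel

theorem check_blocks : ∀ k < 77, ∀ l < 77,
    adjI (k + 1) (l + 1) = Nat.beq (std.getD k 0 &&& std.getD l 0) 0 := by decide +kernel

theorem check_pos : ∀ k < 77, std.getD k 0 ≠ 0 := by decide +kernel

theorem std_length : std.length = 77 := by decide +kernel

theorem std_nodup : std.Nodup := by decide +kernel

theorem adjI_symm (i j : ℕ) : adjI i j = adjI j i := by
  unfold adjI dotG
  simp only [mul_comm]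

/-- the 100 vectors -/
abbrev Pts : Type := {x : leechLattice // x ∈ cfgSet [(bigV, 24), (bigW, -24)]}

theorem lst_mem {i : ℕ} (hi : i < 100) : lst i ∈ hsList := by
  rw [lst, List.getD_eq_getElem _ _ (by rw [hsList_length]; exact hi)]
  exact List.getElem_mem _

/-- the vector of an index -/
def vecAt (i : ℕ) (hi : i < 100) : Pts :=
  ⟨⟨vOf (lst i), mem_leech_of_inLeechB (hsList_spec _ (lst_mem hi)).1⟩,
    mem_cfgSet_two.2 ⟨(hsList_spec _ (lst_mem hi)).2.2.1, (hsList_spec _ (lst_mem hi)).2.2.2.1,
      (hsList_spec _ (lst_mem hi)).2.2.2.2.1⟩⟩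

theorem lOf_vecAt (i : ℕ) (hi : i < 100) : lOf ((vecAt i hi).1 : GolayPt → ℤ) = lst i :=
  (hsList_spec _ (lst_mem hi)).2.1

theorem vecAt_bijective : Function.Bijective fun i : Fin 100 => vecAt i.1 i.2 := by
  refine ⟨fun i j h => ?_, fun x => ?_⟩
  · have h1 : lst i.1 = lst j.1 :=
      (lOf_vecAt i.1 i.2).symm.trans ((congrArg (fun z : Pts => lOf (z.1 : GolayPt → ℤ)) h).trans
        (lOf_vecAt j.1 j.2))
    have hi : i.1 < hsList.length := by rw [hsList_length]; exact i.2
    have hj : j.1 < hsList.length := by rw [hsList_length]; exact j.2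
    rw [lst, lst, List.getD_eq_getElem _ _ hi, List.getD_eq_getElem _ _ hj] at h1
    exact Fin.ext ((hsList_nodup.getElem_inj_iff).1 h1)
  · obtain ⟨i, hi, he⟩ := List.mem_iff_getElem.1 (mem_hsList x.2)
    have hi' : i < 100 := by rw [← hsList_length]; exact hi
    refine ⟨⟨i, hi'⟩, Subtype.ext (coe_inj_of_lOf (l := lst i) (lOf_vecAt i hi') ?_)⟩
    rw [lst, List.getD_eq_getElem _ _ hi, he]

/-- the graph on the 100 vectors -/
def vecGraph : SimpleGraph Pts where
  Adj x y := dotInt (x.1 : GolayPt → ℤ) (y.1 : GolayPt → ℤ) = 8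
  symm := ⟨fun x y h => by rw [dot_comm]; exact h⟩
  loopless := ⟨fun x h => by rw [dot_self, (mem_cfgSet_two.1 x.2).1] at h; norm_num at h⟩

theorem vecGraph_adj {i j : ℕ} (hi : i < 100) (hj : j < 100) :
    vecGraph.Adj (vecAt i hi) (vecAt j hj) ↔ adjI i j = true := by
  show dotInt _ _ = 8 ↔ _
  rw [← dotG_lOf, lOf_vecAt, lOf_vecAt]
  simp [adjI]

/-- the action of the pair stabiliser on the vectors -/
def ptPerm (g : pairStab) (x : Pts) : Pts :=
  ⟨(g : Co0) • x.1, by
    have h := smul_mem_cfgSet (g := (g : Co0)) x.2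
    simp only [List.map_cons, List.map_nil,
      show (g : Co0) • bigV = bigV from MulAction.mem_stabilizer_iff.1 g.2.1,
      show (g : Co0) • bigW = bigW from MulAction.mem_stabilizer_iff.1 g.2.2] at h
    exact h⟩

/-- as graph automorphisms -/
def toVecAut : pairStab →* (vecGraph ≃g vecGraph) where
  toFun g :=
    { toFun := ptPerm g
      invFun := ptPerm g⁻¹
      left_inv := fun x => Subtype.ext (inv_smul_smul (g : Co0) x.1)
      right_inv := fun x => Subtype.ext (smul_inv_smul (g : Co0) x.1)
      map_rel_iff' := fun {a b} => by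
        show dotInt (((g : Co0) • a.1 : leechLattice) : GolayPt → ℤ)
          (((g : Co0) • b.1 : leechLattice) : GolayPt → ℤ) = 8 ↔ _
        rw [dot_smul]
        rfl }
  map_one' := RelIso.ext fun x => Subtype.ext (one_smul Co0 x.1)
  map_mul' g h := RelIso.ext fun x => Subtype.ext (mul_smul (g : Co0) (h : Co0) x.1)

theorem toVecAut_injective : Function.Injective toVecAut := by
  haveI : IsSimpleGroup pairStab := ConwaySimple.isSimple_hs
  rcases (toVecAut.normal_ker).eq_bot_or_eq_top with h | h
  · exact (MonoidHom.ker_eq_bot_iff _).1 h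
  · exfalso
    obtain ⟨g, hg, -, hfix⟩ := exists_invo
    have h1 : (⟨g, hg⟩ : pairStab) ∈ toVecAut.ker := h ▸ Subgroup.mem_top _
    exact hfix p100 p100_mem
      (congrArg (fun a : vecGraph ≃g vecGraph => (a ⟨p100, p100_mem⟩).1) (MonoidHom.mem_ker.1 h1))

/-- conjugating automorphisms by an isomorphism of graphs -/
def autCongr {V W : Type*} {G : SimpleGraph V} {H : SimpleGraph W} (φ : G ≃g H) :
    (H ≃g H) ≃* (G ≃g G) where
  toFun a := (φ.trans a).trans φ.symm
  invFun b := (φ.symm.trans b).trans φ
  left_inv a := RelIso.ext fun x => by simp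
  right_inv b := RelIso.ext fun x => by simp
  map_mul' a b := RelIso.ext fun x => by simp [RelIso.mul_apply]

variable {α : Type*} [Fintype α]

theorem exists_graph_iso (hα : Fintype.card α = 22) {B : Set (Finset α)}
    (hB : IsSteinerSystem 3 6 B) : Nonempty (pointBlockGraph B ≃g vecGraph) := by
  classical
  obtain ⟨E, hE⟩ := CfsgLib.SteinerUnique.labelled22 hα hB
  set en : Finset α → ℕ := CfsgLib.SteinerUnique.enc E with hen
  have hmem : ∀ b : B, en b.1 ∈ std := fun b =>
    (Set.ext_iff.1 hE (en b.1)).1 ⟨b.1, b.2, rfl⟩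
  let pos : B → Fin 77 := fun b =>
    ⟨std.idxOf (en b.1), (List.idxOf_lt_length_iff.2 (hmem b)).trans_eq std_length⟩
  have hpos : ∀ b : B, std.getD (pos b).1 0 = en b.1 := fun b => by
    rw [List.getD_eq_getElem _ _ (List.idxOf_lt_length_iff.2 (hmem b))]
    exact List.getElem_idxOf _
  let ix : Option (α ⊕ B) → Fin 100 := fun v => match v with
    | none => ⟨0, by norm_num⟩
    | some (Sum.inl a) => ⟨78 + (E a).1, by have := (E a).2; omega⟩
    | some (Sum.inr b) => ⟨(pos b).1 + 1, by have := (pos b).2; omega⟩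
  have hbij : Function.Bijective ix := by
    refine ⟨?_, fun i => ?_⟩
    · rintro (_ | a | b) (_ | a' | b') h <;> simp only [ix, Fin.mk.injEq] at h
      · rfl
      · omega
      · omega
      · omega
      · rw [show a = a' from E.injective (Fin.ext (by omega))]
      · have := (pos b').2; omega
      · omega
      · have := (pos b).2; omega
      · have h1 : en b.1 = en b'.1 := by rw [← hpos b, ← hpos b', show (pos b).1 = (pos b').1 by omega]
        rw [show b = b' from Subtype.ext (CfsgLib.SteinerUnique.enc_injective (by norm_num) E h1)]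
    · rcases Nat.lt_or_ge i.1 78 with hi | hi
      · rcases Nat.eq_zero_or_pos i.1 with h0 | h0
        · exact ⟨none, Fin.ext h0.symm⟩
        · have hk : i.1 - 1 < std.length := by rw [std_length]; omega
          obtain ⟨b, hb, hbe⟩ := (Set.ext_iff.1 hE (std[i.1 - 1])).2 (List.getElem_mem hk)
          refine ⟨some (Sum.inr ⟨b, hb⟩), Fin.ext ?_⟩
          show std.idxOf (en b) + 1 = i.1
          rw [show en b = std[i.1 - 1] from hbe, std_nodup.idxOf_getElem _ hk]
          omega
      · refine ⟨some (Sum.inl (E.symm ⟨i.1 - 78, by have := i.2; omega⟩)), Fin.ext ?_⟩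
        show 78 + (E (E.symm _)).1 = i.1
        rw [Equiv.apply_symm_apply]
        show 78 + (i.1 - 78) = i.1
        omega
  let φ : Option (α ⊕ B) ≃ Pts :=
    (Equiv.ofBijective ix hbij).trans (Equiv.ofBijective _ vecAt_bijective)
  have hbit : ∀ (a : α) (b : B), (en b.1).testBit (E a).1 = true ↔ a ∈ b.1 := by
    intro a b
    rw [hen, CfsgLib.SteinerUnique.testBit_enc (by norm_num)]
    constructor
    · rintro ⟨a', ha', he⟩
      rwa [E.injective (Fin.ext he)] at ha'
    · exact fun h => ⟨a, h, rfl⟩
  have hdis : ∀ b c : B, Nat.beq (en b.1 &&& en c.1) 0 = true ↔ Disjoint b.1 c.1 := by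
    intro b c
    rw [Nat.beq_eq, Finset.disjoint_left]
    constructor
    · intro h a hb hc
      have := congrArg (fun m : ℕ => m.testBit (E a).1) h
      simp only [Nat.testBit_and, (hbit a b).2 hb, (hbit a c).2 hc, Bool.and_self,
        Nat.zero_testBit] at this
      exact Bool.noConfusion this
    · intro h
      refine Nat.eq_of_testBit_eq fun j => ?_
      rw [Nat.testBit_and, Nat.zero_testBit, Bool.and_eq_false_iff]
      by_contra hne
      rw [not_or, Bool.not_eq_false, Bool.not_eq_false] at hne
      have hj : j < 22 := CfsgLib.SteinerUnique.lt_of_testBit_enc (by norm_num) E b.1 hne.1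
      refine h ((hbit (E.symm ⟨j, hj⟩) b).1 ?_) ((hbit (E.symm ⟨j, hj⟩) c).1 ?_) <;>
        rw [Equiv.apply_symm_apply] <;> simp [hne]
  refine ⟨⟨φ, fun {v w} => ?_⟩⟩
  show vecGraph.Adj (vecAt (ix v).1 (ix v).2) (vecAt (ix w).1 (ix w).2) ↔ _
  rw [vecGraph_adj, pointBlockGraph, SimpleGraph.fromRel_adj]
  rcases v with _ | a | b <;> rcases w with _ | a' | b' <;>
    simp only [ix, pointBlockRel, ne_eq, reduceCtorEq, not_false_eq_true, not_true, true_and,
      false_and, or_false, false_or, or_self, iff_false, iff_true, Option.some.injEq,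
      Sum.inl.injEq, Sum.inr.injEq, and_false]
  · simp [check_apex.1]
  · simp [check_apex.2.1 _ (E a').2]
  · simp [check_apex.2.2 _ (pos b').2]
  · rw [adjI_symm]; simp [check_apex.2.1 _ (E a).2]
  · simp [check_pts _ (E a).2 _ (E a').2]
  · rw [check_mixed _ (E a).2 _ (pos b').2, hpos, hbit]
  · rw [adjI_symm]; simp [check_apex.2.2 _ (pos b).2]
  · rw [adjI_symm, check_mixed _ (E a').2 _ (pos b).2, hpos, hbit]
  · rw [check_blocks _ (pos b).2 _ (pos b').2, hpos, hpos, hdis]
    constructor
    · intro h
      refine ⟨fun e => ?_, Or.inl h⟩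
      have h2 := (hdis b b').2 h
      rw [← e, Nat.beq_eq, Nat.and_self, ← hpos b] at h2
      exact check_pos _ (pos b).2 h2
    · rintro ⟨-, h | h⟩
      exacts [h, h.symm]

theorem exists_hs (hα : Fintype.card α = 22) {B : Set (Finset α)} (hB : IsSteinerSystem 3 6 B) :
    ∃ H : Subgroup (pointBlockGraph B ≃g pointBlockGraph B), IsHS H := by
  obtain ⟨φ⟩ := exists_graph_iso hα hB
  let f : pairStab →* (pointBlockGraph B ≃g pointBlockGraph B) :=
    (autCongr φ).toMonoidHom.comp toVecAut
  have hf : Function.Injective f := (autCongr φ).injective.comp toVecAut_injective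
  refine ⟨f.range, ?_, ?_⟩
  · exact (MonoidHom.ofInjective hf).isSimpleGroup_congr.1 ConwaySimple.isSimple_hs
  · rw [← Nat.card_congr (MonoidHom.ofInjective hf).toEquiv]
    exact ConwaySimple.natCard_hsStd

end CfsgLib.Spor.HSGraph
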