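import Cfsg.Agent.Lib.Spor.HSGraph
import Cfsg.Agent.Lib.KnownA.SteinerUnique.AutLarge

/-!
The full automorphism group of the graph of a system `S(3,6,22)`: transitive on the 100 vertices,
with stabiliser of the apex the automorphism group of the system.
-/

set_option autoImplicit false

namespace CfsgLib.Spor.HSGraph

open Cfsg CfsgLib.Spor CfsgLib.Spor.Config CfsgLib.Spor.HSConfig
open scoped Pointwise

variable {α : Type*} [DecidableEq α] {B : Set (Finset α)}

/-- the apex -/
abbrev apex : Option (α ⊕ B) := none

theorem adj_apex {v : Option (α ⊕ B)} :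
    (pointBlockGraph B).Adj none v ↔ ∃ a, v = some (Sum.inl a) := by
  rw [pointBlockGraph, SimpleGraph.fromRel_adj]
  rcases v with _ | a | b <;> simp [pointBlockRel]

theorem adj_point_block (a : α) (b : B) :
    (pointBlockGraph B).Adj (some (Sum.inl a)) (some (Sum.inr b)) ↔ a ∈ b.1 := by
  rw [pointBlockGraph, SimpleGraph.fromRel_adj]
  simp [pointBlockRel]

/-- the map of vertices induced by an automorphism of the system -/
def liftFun (σ : setSystemAut B) : Option (α ⊕ B) → Option (α ⊕ B)
  | none => none
  | some (Sum.inl a) => some (Sum.inl ((σ : Equiv.Perm α) a))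
  | some (Sum.inr b) => some (Sum.inr ⟨(σ : Equiv.Perm α) • b.1,
      (MulAction.mem_stabilizer_iff.1 σ.2).le (Set.smul_mem_smul_set b.2)⟩)

theorem liftFun_mul (σ τ : setSystemAut B) (v : Option (α ⊕ B)) :
    liftFun (σ * τ) v = liftFun σ (liftFun τ v) := by
  rcases v with _ | a | b <;> simp [liftFun, mul_smul]

theorem liftFun_one (v : Option (α ⊕ B)) : liftFun (1 : setSystemAut B) v = v := by
  rcases v with _ | a | b <;> simp [liftFun]

/-- the automorphism of the graph induced by an automorphism of the system -/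
def liftAut (σ : setSystemAut B) : pointBlockGraph B ≃g pointBlockGraph B where
  toFun := liftFun σ
  invFun := liftFun σ⁻¹
  left_inv v := by rw [← liftFun_mul, inv_mul_cancel, liftFun_one]
  right_inv v := by rw [← liftFun_mul, mul_inv_cancel, liftFun_one]
  map_rel_iff' := fun {v w} => by
    show (pointBlockGraph B).Adj (liftFun σ v) (liftFun σ w) ↔ _
    rw [pointBlockGraph, SimpleGraph.fromRel_adj, SimpleGraph.fromRel_adj]
    have hd : ∀ b c : Finset α, Disjoint ((σ : Equiv.Perm α) • b) ((σ : Equiv.Perm α) • c) ↔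
        Disjoint b c := fun b c => by
      simp [Finset.disjoint_iff_inter_eq_empty, ← Finset.smul_finset_inter]
    rcases v with _ | a | b <;> rcases w with _ | a' | b' <;>
      simp [liftFun, pointBlockRel, Subtype.ext_iff, hd, ← Equiv.Perm.smul_def,
        Finset.smul_mem_smul_finset_iff]

theorem exists_point_image {k : pointBlockGraph B ≃g pointBlockGraph B} (hk : k none = none)
    (a : α) : ∃ a', k (some (Sum.inl a)) = some (Sum.inl a') := by
  have h := k.map_rel_iff.2 (adj_apex.2 ⟨a, rfl⟩ : (pointBlockGraph B).Adj none (some (Sum.inl a)))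
  rw [hk] at h
  exact adj_apex.1 h

/-- the stabiliser of the apex is the group of the system -/
theorem exists_sys_aut [Finite α]
    {k : pointBlockGraph B ≃g pointBlockGraph B} (hk : k none = none) :
    ∃ σ : setSystemAut B, ∀ v, k v = liftAut σ v := by
  classical
  choose f hf using exists_point_image hk
  have hfinj : Function.Injective f := fun a a' h => by
    have h1 : k (some (Sum.inl a)) = k (some (Sum.inl a')) := by rw [hf, hf, h]
    simpa using k.injective h1
  haveI := Fintype.ofFinite α
  let σ : Equiv.Perm α := Equiv.ofBijective f (Finite.injective_iff_bijective.1 hfinj)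
  have hblk : ∀ b : B, ∃ b' : B, k (some (Sum.inr b)) = some (Sum.inr b') ∧ b'.1 = σ • b.1 := by
    intro b
    rcases hkb : k (some (Sum.inr b)) with _ | a | b'
    · have := k.injective (hkb.trans hk.symm)
      simp at this
    · obtain ⟨a0, ha0⟩ := σ.surjective a
      have h1 : k (some (Sum.inl a0)) = k (some (Sum.inr b)) := by
        rw [hf, hkb]
        exact congrArg (fun x => some (Sum.inl x)) ha0
      have := k.injective h1
      simp at this
    · refine ⟨b', rfl, ?_⟩
      ext x
      obtain ⟨a, rfl⟩ := σ.surjective x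
      rw [← Equiv.Perm.smul_def, Finset.smul_mem_smul_finset_iff, ← adj_point_block a b,
        ← adj_point_block, ← k.map_rel_iff (a := some (Sum.inl a)) (b := some (Sum.inr b)), hkb, hf]
      rfl
  have hσ : σ ∈ setSystemAut B := by
    haveI : Finite B := inferInstance
    refine MulAction.mem_stabilizer_iff.2 (Set.eq_of_subset_of_ncard_le ?_ ?_ (Set.toFinite _))
    · rintro _ ⟨b, hb, rfl⟩
      obtain ⟨b', -, hb'⟩ := hblk ⟨b, hb⟩
      show σ • b ∈ B
      rw [show σ • b = b'.1 from hb'.symm]
      exact b'.2
    · rw [← Set.image_smul, Set.ncard_image_of_injective _ (MulAction.injective σ)]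
  refine ⟨⟨σ, hσ⟩, fun v => ?_⟩
  rcases v with _ | a | b
  · exact hk
  · exact hf a
  · obtain ⟨b', h1, h2⟩ := hblk b
    rw [h1]
    exact congrArg (fun x => some (Sum.inr x)) (Subtype.ext h2)

theorem natCard_aut [Fintype α] (hα : Fintype.card α = 22) (hB : IsSteinerSystem 3 6 B) :
    Nat.card (pointBlockGraph B ≃g pointBlockGraph B) = 88704000 := by
  classical
  obtain ⟨φ⟩ := exists_graph_iso hα hB
  have htrans : ∀ v : Option (α ⊕ B), ∃ g : pointBlockGraph B ≃g pointBlockGraph B, g none = v := by
    intro v
    have h1 : (φ none).1 ∈ MulAction.orbit pairStab p100 := orbit_100.ge (φ none).2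
    have h2 : (φ v).1 ∈ MulAction.orbit pairStab p100 := orbit_100.ge (φ v).2
    obtain ⟨g1, hg1⟩ := h1
    obtain ⟨g2, hg2⟩ := h2
    refine ⟨autCongr φ (toVecAut (g2 * g1⁻¹)), ?_⟩
    show φ.symm (ptPerm (g2 * g1⁻¹) (φ none)) = v
    rw [RelIso.symm_apply_eq]
    refine Subtype.ext ?_
    show ((g2 * g1⁻¹ : pairStab) : Co0) • (φ none).1 = (φ v).1
    rw [← hg1, ← hg2]
    show ((g2 * g1⁻¹ : pairStab) : Co0) • ((g1 : Co0) • p100) = (g2 : Co0) • p100
    rw [← mul_smul]
    simp
  choose sec hsec using htrans
  let Ψ : Option (α ⊕ B) × setSystemAut B → (pointBlockGraph B ≃g pointBlockGraph B) :=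
    fun q => sec q.1 * liftAut q.2
  have hΨ : Function.Bijective Ψ := by
    refine ⟨fun q q' h => ?_, fun g => ?_⟩
    · have h1 := congrArg (fun a : pointBlockGraph B ≃g pointBlockGraph B => a none) h
      have h0 : q.1 = q'.1 := by
        simp only [Ψ, RelIso.mul_apply] at h1
        exact (hsec q.1).symm.trans (h1.trans (hsec q'.1))
      have h2 : liftAut q.2 = liftAut q'.2 := mul_left_cancel (a := sec q.1) (by
        have h3 : sec q.1 * liftAut q.2 = sec q'.1 * liftAut q'.2 := h
        rwa [← h0] at h3)
      refine Prod.ext h0 (Subtype.ext (Equiv.ext fun a => ?_))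
      have h3 := congrArg (fun a' : pointBlockGraph B ≃g pointBlockGraph B => a' (some (Sum.inl a))) h2
      simpa [liftAut, liftFun] using h3
    · obtain ⟨σ, hσ⟩ := exists_sys_aut
        (k := (sec (g none))⁻¹ * g) (by
          rw [RelIso.mul_apply]
          conv_rhs => rw [← RelIso.inv_apply_self (sec (g none)) none, hsec])
      refine ⟨(g none, σ), ?_⟩
      show sec (g none) * liftAut σ = g
      rw [← (RelIso.ext hσ : (sec (g none))⁻¹ * g = liftAut σ), mul_inv_cancel_left]
  rw [← Nat.card_congr (Equiv.ofBijective Ψ hΨ), Nat.card_prod,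
    (CfsgLib.SteinerUnique.aut22 hα hB).1, Nat.card_congr φ.toEquiv,
    Nat.card_congr (Equiv.ofBijective _ vecAt_bijective).symm, Nat.card_eq_fintype_card,
    Fintype.card_fin]

end CfsgLib.Spor.HSGraph
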