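import Cfsg.Agent.Lib.Spor.HSPairTrans
import Cfsg.Agent.Lib.Spor.HSPairCensus

/-!
The 100 points and the orbits of a point stabiliser.
-/

set_option autoImplicit false
set_option Elab.async false
set_option maxRecDepth 100000
set_option maxHeartbeats 0

namespace CfsgLib.Spor.HSConfig

open Cfsg
open CfsgLib.Spor
open CfsgLib.Spor.Config

/-- generators -/
def hsGens : List (List Stp) := [
  [.mono 976892803640115359196261012650561600 0],
  [.mono 972522884067382520667343965041038944 0],
  [.mono 968868690875208462722767009301564928 0],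
  [.mono 930052845141239069725739826262946964 4706738, .xi, .mono 172711066722535201686756403757505037 5530571, .xi, .mono 188265431688025897814142916225178286 8107140],
  [.mono 377099839727625644508370155173446342 1352353, .xi, .mono 979281816507172637897883853213860866 75309, .xi, .mono 706209548806554503474536745906348418 2232654],
  [.mono 852481606344333691452652842658060364 9934559, .xi, .mono 797406130324642531297993889944713317 9268876, .xi, .mono 672932690829408042839108325690037792 6984989]]

/-- start -/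
def hsStart0 : List ℤ := [-4, 0, 0, 0, 0, 0, 0, 0, 0, 0, 0, 0, 0, 0, 0, 0, 0, 0, 0, 0, 0, 0, 0, -4]

/-- walk with 100 points: base, length, digits -/
def hsWalk0 : ℕ × ℕ × ℕ := (7, 198, 0x892812f31483e1312f90f3c0267274d79159b8149442575a1158e454dcaa24e7a13d6c19d87f18c6020ad78fd28ef751a7a65fb4b3a7f003db39eab0a12fcb623877f4c0)

/-- generators -/
def hsPtGens : List (List Stp) := [
  [.mono 976892803640115359196261012650561600 0],
  [.mono 972522884067382520667343965041038944 0],
  [.mono 968868690875208462722767009301564928 0],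
  [.mono 381852748072125853274455493222829092 8230638, .xi, .mono 893096712028913438466571031625898227 7409024, .xi, .mono 97501610455180748540827419403500809 2732998],
  [.mono 460884449597507145156350688720734537 16381099, .xi, .mono 855072251078893613349883532949334319 8840506, .xi, .mono 504349571378396562635885867632798135 160251]]

/-- start -/
def hsPtStart0 : List ℤ := [-2, 0, -2, 0, -2, -2, -2, 0, 0, 0, -2, -2, 0, 0, 0, 0, 0, 0, 0, 0, 0, 0, 0, -2]

/-- walk with 77 points: base, length, digits -/
def hsPtWalk0 : ℕ × ℕ × ℕ := (6, 152, 0x30ae8993446aee7082253ecd6294f7c563ee4ebfb40f8ffebed7637e3d3743452c3fd0bf20bda15420462f2bca4bf96b)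

/-- start -/
def hsPtStart1 : List ℤ := [-1, 3, -1, -1, -1, -1, -1, -1, -1, -1, -1, -1, -1, -1, -1, -1, -1, -1, -1, -1, -1, -1, -1, -1]

/-- walk with 22 points: base, length, digits -/
def hsPtWalk1 : ℕ × ℕ × ℕ := (6, 42, 0x5dbcc97568f682f04d27f895b)

/-! ### The 100 points -/

/-- the stabiliser of the pair of norm 48 vectors -/
abbrev pairStab : Subgroup Co0 := MulAction.stabilizer Co0 bigV ⊓ MulAction.stabilizer Co0 bigW

theorem pairStab_fix (a b : ℤ) : ∀ g ∈ pairStab, ∀ q ∈ [(bigV, a), (bigW, b)], g • q.1 = q.1 := by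
  rintro g ⟨h1, h2⟩ q hq
  simp only [List.mem_cons, List.not_mem_nil, or_false] at hq
  rcases hq with rfl | rfl <;> [exact h1; exact h2]

/-- a point of the 100 -/
def p100 : leechLattice := mkV hsStart0 (by decide +kernel)

theorem gens_pair : Gens pairStab hsGens :=
  Gens.of_fixesB (cfg := [lOf (bigV : GolayPt → ℤ), lOf (bigW : GolayPt → ℤ)]) (by decide +kernel)
    fun _ h => ⟨MulAction.mem_stabilizer_iff.2 (h bigV (by simp)),
      MulAction.mem_stabilizer_iff.2 (h bigW (by simp))⟩

theorem p100_mem : p100 ∈ cfgSet [(bigV, 24), (bigW, -24)] :=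
  mem_cfgSet_two.2 ⟨by decide +kernel, by decide +kernel, by decide +kernel⟩

theorem orbit_100 : MulAction.orbit pairStab p100 = cfgSet [(bigV, 24), (bigW, -24)] :=
  orbit_eq_cfgSet (pairStab_fix 24 (-24)) p100_mem ncard_100
    (gens_pair.le_orbit (start := hsStart0) (w := hsWalk0) (by decide +kernel) (by decide +kernel)
      (by decide +kernel))

theorem exists_std_100 {v w x : leechLattice} (hv : sqNorm (v : GolayPt → ℤ) = 48)
    (hw : sqNorm (w : GolayPt → ℤ) = 48)
    (hvw : dotInt (v : GolayPt → ℤ) (w : GolayPt → ℤ) = -32)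
    (hx : x ∈ cfgSet [(v, 24), (w, -24)]) :
    ∃ g : Co0, g • v = bigV ∧ g • w = bigW ∧ g • x = p100 := by
  obtain ⟨g, h1, h2⟩ := exists_std_pair hv hw hvw
  have h3 := smul_mem_cfgSet (g := g) hx
  simp only [List.map_cons, List.map_nil, h1, h2, ← orbit_100] at h3
  obtain ⟨⟨k, hk1, hk2⟩, hk⟩ := h3
  change k • p100 = g • x at hk
  refine ⟨k⁻¹ * g, ?_, ?_, ?_⟩ <;>
    rw [mul_smul, inv_smul_eq_iff]
  · rw [h1]; exact hk1.symm
  · rw [h2]; exact hk2.symm
  · exact hk.symm

/-- stabiliser of the pair and a point of the 100 -/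
abbrev stab100 : Subgroup Co0 := pairStab ⊓ MulAction.stabilizer Co0 p100

theorem gens_100 : Gens stab100 hsPtGens :=
  Gens.of_fixesB (cfg := [lOf (bigV : GolayPt → ℤ), lOf (bigW : GolayPt → ℤ),
    lOf (p100 : GolayPt → ℤ)]) (by decide +kernel)
    fun _ h => ⟨⟨MulAction.mem_stabilizer_iff.2 (h bigV (by simp)),
      MulAction.mem_stabilizer_iff.2 (h bigW (by simp))⟩,
      MulAction.mem_stabilizer_iff.2 (h p100 (by simp))⟩

/-- representatives in the 100 -/
def q100 : Fin 2 → leechLattice :=
  ![mkV hsPtStart0 (by decide +kernel), mkV hsPtStart1 (by decide +kernel)]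

/-- The suborbits of a point of the 100: 77 and 22. -/
theorem classes_100 :
    (∀ i, MulAction.orbit stab100 (q100 i) =
        cfgSet [(bigV, 24), (bigW, -24), (p100, ![16, 8] i)] ∧
      (cfgSet [(bigV, 24), (bigW, -24), (p100, ![16, 8] i)]).ncard = ![77, 22] i) ∧
    ∀ z ∈ cfgSet [(bigV, 24), (bigW, -24)], z = p100 ∨
      ∃ i : Fin 2, dotInt (p100 : GolayPt → ℤ) (z : GolayPt → ℤ) = ![16, 8] i := by
  have h := classes_of_bounds (K := stab100) (x := p100)
    (fun g hg => pairStab_fix 24 (-24) g hg.1) (fun g hg => hg.2) p100_mem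
    (![16, 8] : Fin 2 → ℤ) (by decide) (by decide) q100 ![77, 22]
    (by
      intro i
      rw [mem_cfgSet_two]
      fin_cases i <;>
        exact ⟨⟨by decide +kernel, by decide +kernel, by decide +kernel⟩, by decide +kernel⟩)
    (by
      intro i
      fin_cases i
      · exact gens_100.le_orbit (start := hsPtStart0) (w := hsPtWalk0) (by decide +kernel)
          (by decide +kernel) (by decide +kernel)
      · exact gens_100.le_orbit (start := hsPtStart1) (w := hsPtWalk1) (by decide +kernel)
          (by decide +kernel) (by decide +kernel))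
    (by rw [ncard_100, Fin.sum_univ_two]; rfl)
  refine ⟨fun i => ?_, h.2⟩
  have h1 := h.1 i
  rwa [classSet_eq, List.cons_append, List.cons_append, List.nil_append] at h1

end CfsgLib.Spor.HSConfig
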