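import Cfsg.Agent.Lib.Spor.HSVxClasses

/-!
Norm 48 vectors with a short vector at inner product `-16` form one orbit.
-/

set_option autoImplicit false
set_option Elab.async false
set_option maxRecDepth 100000
set_option maxHeartbeats 0

namespace CfsgLib.Spor.HSConfig

open Cfsg
open CfsgLib.Spor
open CfsgLib.Spor.Config

/-- programs fixing `V` that move `x0` into each class -/
def hsMoves : List (List Stp) := [
  [.mono 963587148359722110751894033639456452 0],
  [.mono 963587148359722110751894033639456452 0, .mono 438001788744671324395210584545624583 1935190, .xi, .mono 266331304083339977196359570879517172 6134150, .xi, .mono 113554046199900343436369445300941251 8772913, .xi, .mono 24997015287469736587343577376065194 4785798, .mono 978809148405534018826197376841457120 0, .mono 978809148405534018826197376841457120 0, .mono 963587148359722110751894033639456452 0],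
  [.mono 963587148359722110751894033639456452 0, .mono 438001788744671324395210584545624583 1935190, .xi, .mono 266331304083339977196359570879517172 6134150, .xi, .mono 113554046199900343436369445300941251 8772913, .xi, .mono 24997015287469736587343577376065194 4785798],
  [.mono 438001788744671324395210584545624583 1935190, .xi, .mono 266331304083339977196359570879517172 6134150, .xi, .mono 113554046199900343436369445300941251 8772913, .xi, .mono 24997015287469736587343577376065194 4785798]]

theorem gens_moves : Gens (MulAction.stabilizer Co0 bigV) hsMoves :=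
  Gens.of_fixesB (cfg := [lOf (bigV : GolayPt → ℤ)]) (by decide +kernel)
    fun _ h => MulAction.mem_stabilizer_iff.2 (h bigV (by simp))

theorem moves_check : ∀ i : Fin 4,
    dotL (lOf (x0 : GolayPt → ℤ)) (runP (hsMoves.getD i.val []) (lOf (x0 : GolayPt → ℤ))) =
      ![16, -8, 0, 8] i := by decide +kernel

theorem moves_length : hsMoves.length = 4 := rfl

theorem orbit_11178 : MulAction.orbit (MulAction.stabilizer Co0 bigV) x0 = cfgSet [(bigV, -16)] := by
  refine Set.Subset.antisymm (orbit_subset (stabV_fix (-16)) x0_mem) fun z hz => ?_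
  rcases classes_11178.2 z hz with rfl | ⟨i, hi⟩
  · exact MulAction.mem_orbit_self _
  have hlt : i.val < hsMoves.length := by rw [moves_length]; exact i.isLt
  obtain ⟨-, g, hg, hga⟩ := gens_moves.spec (hsMoves.getD i.val []) (by
    rw [List.getD_eq_getElem _ _ hlt]; exact List.getElem_mem hlt)
  have hy : g • x0 ∈ MulAction.orbit (MulAction.stabilizer Co0 bigV) x0 := ⟨⟨g, hg⟩, rfl⟩
  have hcl : ∀ y : leechLattice, y ∈ cfgSet [(bigV, -16)] →
      dotInt (x0 : GolayPt → ℤ) (y : GolayPt → ℤ) = ![16, -8, 0, 8] i →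
      y ∈ MulAction.orbit stabVx (q11178 i) := fun y h h' => by
    rw [(classes_11178.1 i).1]
    exact mem_cfgSet_two.2 ⟨h.1, (mem_cfgSet_one.1 h).2, h'⟩
  have h1 := hcl _ (orbit_subset (stabV_fix (-16)) x0_mem hy)
    (by rw [dotInt_eq_dotL, hga, moves_check i])
  rw [← MulAction.orbit_eq_iff.2 h1] at hcl
  obtain ⟨⟨k, hk⟩, hkz⟩ := hcl z hz hi
  exact ⟨⟨k, hk.1⟩ * ⟨g, hg⟩, (mul_smul k g x0).trans hkz⟩

theorem exists_std {u x : leechLattice} (hu : sqNorm (u : GolayPt → ℤ) = 48)
    (hx : x ∈ cfgSet [(u, -16)]) : ∃ g : Co0, g • u = bigV ∧ g • x = x0 := by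
  obtain ⟨g, hg⟩ := exists_map (n := 48) (by norm_num) u bigV hu norm_V
  have h3 := smul_mem_cfgSet (g := g) hx
  simp only [List.map_cons, List.map_nil, hg, ← orbit_11178] at h3
  obtain ⟨⟨k, hk'⟩, hk⟩ := h3
  change k • x0 = g • x at hk
  refine ⟨k⁻¹ * g, ?_, ?_⟩ <;> rw [mul_smul, inv_smul_eq_iff]
  · rw [hg]; exact hk'.symm
  · exact hk.symm

/-- The short vector determined by two norm 48 vectors with inner product `-32`. -/
theorem neg_add_mem {v w : leechLattice} (hv : sqNorm (v : GolayPt → ℤ) = 48)
    (hw : sqNorm (w : GolayPt → ℤ) = 48)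
    (hvw : dotInt (v : GolayPt → ℤ) (w : GolayPt → ℤ) = -32) :
    -(v + w) ∈ cfgSet [(v, -16)] := by
  rw [mem_cfgSet_one]
  have e : ((-(v + w) : leechLattice) : GolayPt → ℤ) =
      (0 - (v : GolayPt → ℤ)) - (w : GolayPt → ℤ) := by
    rw [NegMemClass.coe_neg, AddSubgroup.coe_add]; abel
  have h0 : sqNorm (0 - (v : GolayPt → ℤ)) = 48 := by
    rw [← hv]; simp [sqNorm]
  have h1 : dotInt (0 - (v : GolayPt → ℤ)) (w : GolayPt → ℤ) = 32 := by
    rw [dot_sub_left, hvw]; simp [dotInt]
  constructor
  · rw [e, sqNorm_sub, h0, hw, h1]; norm_num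
  · rw [e, dot_comm, dot_sub_left, dot_sub_left, dot_comm (w : GolayPt → ℤ), hvw, dot_self, hv]
    simp [dotInt]

theorem exists_std_pair {v w : leechLattice} (hv : sqNorm (v : GolayPt → ℤ) = 48)
    (hw : sqNorm (w : GolayPt → ℤ) = 48)
    (hvw : dotInt (v : GolayPt → ℤ) (w : GolayPt → ℤ) = -32) :
    ∃ g : Co0, g • v = bigV ∧ g • w = bigW := by
  obtain ⟨g, h1, h2⟩ := exists_std hv (neg_add_mem hv hw hvw)
  refine ⟨g, h1, ?_⟩
  have e : w = -(v + -(v + w)) := by abel
  rw [W_eq, ← h1, ← h2, ← coe_smul_add]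
  have hn : ∀ a : leechLattice, g • (-a) = -(g • a) := fun a =>
    eq_neg_of_add_eq_zero_left (by rw [← coe_smul_add, neg_add_cancel]; exact map_zero (co0Hom g))
  rw [← hn, ← e]

end CfsgLib.Spor.HSConfig
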