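import Cfsg.Agent.Lib.Spor.HSBase

/-!
The 11178 short vectors with inner product `-16` with a norm 48 vector.
-/

set_option autoImplicit false
set_option Elab.async false
set_option maxRecDepth 100000
set_option maxHeartbeats 0

namespace CfsgLib.Spor.HSConfig

open Cfsg
open CfsgLib.Spor
open CfsgLib.Spor.Config

theorem ncard_11178 : (cfgSet [(bigV, -16)]).ncard = 11178 := by
  rw [cfgSet_eq_censusSet (C := [(cV, -16)]) (by decide +kernel), Census.ncard_censusSet]
  rw [Census.count_of_parts (a := 23) (B := [96, 96, 96, 96, 96, 1496, 2016, 1827])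
    (D := [1200, 816, 816, 480, 816, 480, 480, 248]) (by decide +kernel) ?_ ?_]
  · rfl
  · refine ⟨?_, ?_, ?_, ?_, ?_, ?_, ?_, ?_, Census.Parts.nil ?_⟩ <;>
      decide +kernel
  · refine ⟨?_, ?_, ?_, ?_, ?_, ?_, ?_, ?_, Census.Parts.nil ?_⟩ <;>
      decide +kernel

end CfsgLib.Spor.HSConfig
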