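import Mathlib
import Cfsg.Prelude.Def_SporadicCombinatorics

/-!
The hexacode over a field of order four, through a concrete model of that field.
-/

set_option autoImplicit false

namespace CfsgLib.Spor.Hexa

open Cfsg

/-- addition of the model: `0, 1, 2 = ω, 3 = ω²` -/
def qAdd : Fin 4 → Fin 4 → Fin 4 :=
  ![![0, 1, 2, 3], ![1, 0, 3, 2], ![2, 3, 0, 1], ![3, 2, 1, 0]]

/-- multiplication of the model -/
def qMul : Fin 4 → Fin 4 → Fin 4 :=
  ![![0, 0, 0, 0], ![0, 1, 2, 3], ![0, 2, 3, 1], ![0, 3, 1, 2]]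

/-- the systematic basis -/
def hexE : Fin 3 → Fin 6 → Fin 4 := ![![1, 0, 0, 1, 3, 2], ![0, 1, 0, 1, 2, 3], ![0, 0, 1, 1, 1, 1]]

/-- the defining generators -/
def hexG : Fin 3 → Fin 6 → Fin 4 := ![![2, 3, 3, 2, 3, 2], ![3, 2, 2, 3, 3, 2], ![3, 2, 3, 2, 2, 3]]

/-- the coordinates of the systematic basis in the generators -/
def hexEG : Fin 3 → Fin 3 → Fin 4 := ![![2, 3, 0], ![3, 3, 1], ![0, 1, 1]]

/-- the word with given first three entries -/
def hexEnc (d : Fin 3 → Fin 4) (i : Fin 6) : Fin 4 :=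
  qAdd (qAdd (qMul (d 0) (hexE 0 i)) (qMul (d 1) (hexE 1 i))) (qMul (d 2) (hexE 2 i))

/-- membership in the concrete code -/
def inHexB (y : Fin 6 → Fin 4) : Prop := y = hexEnc ![y 0, y 1, y 2]

instance instDecidableInHexB (y : Fin 6 → Fin 4) : Decidable (inHexB y) :=
  inferInstanceAs (Decidable (_ = _))

theorem hexEnc_first : ∀ d : Fin 3 → Fin 4,
    (![hexEnc d 0, hexEnc d 1, hexEnc d 2] : Fin 3 → Fin 4) = d := by decide +kernel

theorem inHexB_iff {y : Fin 6 → Fin 4} : inHexB y ↔ ∃ d, hexEnc d = y := by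
  refine ⟨fun h => ⟨_, h.symm⟩, ?_⟩
  rintro ⟨d, rfl⟩
  rw [inHexB, hexEnc_first]

section
variable {F : Type*} [Field F] (ω : F)

/-- the embedding of the model -/
def emb : Fin 4 → F := ![0, 1, ω, ω ^ 2]

variable {ω}

theorem two_eq_zero [Fintype F] (hF : Fintype.card F = 4) : (2 : F) = 0 := by
  have h := FiniteField.cast_card_eq_zero F
  rw [hF] at h
  have : (2 : F) * 2 = 0 := by rw [← h]; norm_num
  exact (mul_self_eq_zero.1 this)

variable (h2 : (2 : F) = 0) (hω : ω ^ 2 + ω + 1 = 0)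

include h2 hω

theorem emb_add (a b : Fin 4) : emb ω (qAdd a b) = emb ω a + emb ω b := by
  have e : ∀ x : F, x + x = 0 := fun x => by rw [← two_mul, h2, zero_mul]
  fin_cases a <;> fin_cases b <;> simp [emb, qAdd] <;>
    first
    | exact (e _).symm
    | linear_combination hω - (1 + ω) * h2
    | linear_combination hω - (1 + ω ^ 2) * h2
    | linear_combination hω - (ω + ω ^ 2) * h2

omit h2 in
theorem emb_mul (a b : Fin 4) : emb ω (qMul a b) = emb ω a * emb ω b := by
  have h3 : ω ^ 3 = 1 := by linear_combination (ω - 1) * hω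
  fin_cases a <;> fin_cases b <;> simp [emb, qMul] <;>
    first
    | ring1
    | linear_combination -h3
    | linear_combination -ω * h3

theorem emb_injective : Function.Injective (emb ω) := by
  have h1 : ω ≠ 0 := fun h => by subst h; simp at hω
  have hne : ∀ c : Fin 4, c ≠ 0 → emb ω c ≠ 0 := by
    intro c hc
    fin_cases c <;> simp [emb, h1] at hc ⊢
  have e : ∀ x : F, x + x = 0 := fun x => by rw [← two_mul, h2, zero_mul]
  have key : ∀ a b : Fin 4, qAdd a b = 0 → a = b := by decide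
  intro a b h
  by_contra hab
  exact hne _ (fun h0 => hab (key a b h0)) (by rw [emb_add h2 hω, h, e])

theorem emb_surjective [Fintype F] (hF : Fintype.card F = 4) : Function.Surjective (emb ω) :=
  ((Fintype.bijective_iff_injective_and_card _).2 ⟨emb_injective h2 hω, by simp [hF]⟩).2

omit h2 hω in
theorem gen_eq :
    ({![ω, ω ^ 2, ω ^ 2, ω, ω ^ 2, ω], ![ω ^ 2, ω, ω, ω ^ 2, ω ^ 2, ω],
      ![ω ^ 2, ω, ω ^ 2, ω, ω, ω ^ 2]} : Set (Fin 6 → F)) =
      Set.range fun k => emb ω ∘ hexG k := by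
  have e0 : emb ω ∘ hexG 0 = ![ω, ω ^ 2, ω ^ 2, ω, ω ^ 2, ω] := by
    funext i; fin_cases i <;> rfl
  have e1 : emb ω ∘ hexG 1 = ![ω ^ 2, ω, ω, ω ^ 2, ω ^ 2, ω] := by
    funext i; fin_cases i <;> rfl
  have e2 : emb ω ∘ hexG 2 = ![ω ^ 2, ω, ω ^ 2, ω, ω, ω ^ 2] := by
    funext i; fin_cases i <;> rfl
  ext x
  constructor
  · rintro (rfl | rfl | rfl)
    exacts [⟨0, e0⟩, ⟨1, e1⟩, ⟨2, e2⟩]
  · rintro ⟨k, rfl⟩
    fin_cases k
    exacts [Or.inl e0, Or.inr (Or.inl e1), Or.inr (Or.inr e2)]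

theorem emb_comp_enc (d : Fin 3 → Fin 4) :
    emb ω ∘ hexEnc d = ∑ k, emb ω (d k) • (emb ω ∘ hexE k) := by
  funext i
  simp [hexEnc, Fin.sum_univ_three, emb_add h2 hω, emb_mul hω]

omit h2 hω in
theorem hexE_spec : ∀ (j : Fin 3) (i : Fin 6), hexE j i =
    qAdd (qAdd (qMul (hexEG j 0) (hexG 0 i)) (qMul (hexEG j 1) (hexG 1 i)))
      (qMul (hexEG j 2) (hexG 2 i)) := by decide

theorem mem_hexacode [Fintype F] (hF : Fintype.card F = 4) {x : Fin 6 → F} :
    x ∈ hexacode F ω ↔ ∃ d, emb ω ∘ hexEnc d = x := by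
  rw [hexacode, gen_eq]
  have hE : ∀ j, emb ω ∘ hexE j ∈ Submodule.span F (Set.range fun k => emb ω ∘ hexG k) := by
    intro j
    rw [show emb ω ∘ hexE j = ∑ k, emb ω (hexEG j k) • (emb ω ∘ hexG k) from funext fun i => by
      simp [hexE_spec j i, Fin.sum_univ_three, emb_add h2 hω, emb_mul hω]]
    exact Submodule.sum_mem _ fun k _ => Submodule.smul_mem _ _ (Submodule.subset_span ⟨k, rfl⟩)
  have hG : ∀ k, ∃ d, hexEnc d = hexG k := fun k => ⟨![hexG k 0, hexG k 1, hexG k 2], by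
    revert k; decide⟩
  constructor
  · intro hx
    induction hx using Submodule.span_induction with
    | mem y hy =>
      obtain ⟨k, rfl⟩ := hy
      obtain ⟨d, hd⟩ := hG k
      exact ⟨d, by rw [hd]⟩
    | zero => exact ⟨fun _ => 0, funext fun i => by
        simp [hexEnc, emb_add h2 hω, emb_mul hω]; simp [emb]⟩
    | add y z _ _ hy hz =>
      obtain ⟨d, rfl⟩ := hy
      obtain ⟨e, rfl⟩ := hz
      refine ⟨fun k => qAdd (d k) (e k), ?_⟩
      simp only [emb_comp_enc h2 hω, emb_add h2 hω, add_smul, Finset.sum_add_distrib]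
    | smul a y _ hy =>
      obtain ⟨d, rfl⟩ := hy
      obtain ⟨b, rfl⟩ := emb_surjective h2 hω hF a
      refine ⟨fun k => qMul b (d k), ?_⟩
      simp only [emb_comp_enc h2 hω, emb_mul hω, Finset.smul_sum, smul_smul]
  · rintro ⟨d, rfl⟩
    rw [emb_comp_enc h2 hω]
    exact Submodule.sum_mem _ fun k _ => Submodule.smul_mem _ _ (hE k)

theorem emb_mem_hexacode [Fintype F] (hF : Fintype.card F = 4) {y : Fin 6 → Fin 4} :
    emb ω ∘ y ∈ hexacode F ω ↔ inHexB y := by
  rw [mem_hexacode h2 hω hF, inHexB_iff]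
  exact ⟨fun ⟨d, hd⟩ => ⟨d, (emb_injective h2 hω).comp_left hd⟩, fun ⟨d, hd⟩ => ⟨d, by rw [hd]⟩⟩

end

theorem hexWeights : ∀ d : Fin 3 → Fin 4, d = 0 ∨
    (Finset.univ.filter fun i => hexEnc d i ≠ 0).card = 4 ∨
    (Finset.univ.filter fun i => hexEnc d i ≠ 0).card = 6 := by decide +kernel

theorem hexCount :
    (Finset.univ.filter fun d : Fin 3 → Fin 4 =>
      (Finset.univ.filter fun i => hexEnc d i ≠ 0).card = 4).card = 45 ∧
    (Finset.univ.filter fun d : Fin 3 → Fin 4 =>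
      (Finset.univ.filter fun i => hexEnc d i ≠ 0).card = 6).card = 18 := by decide +kernel

theorem card_weights (F : Type*) [Field F] [Fintype F] [DecidableEq F] (hF : Fintype.card F = 4)
    (ω : F) (hω : ω ^ 2 + ω + 1 = 0) :
    Nat.card ↥(hexacode F ω) = 64 ∧
    (∀ x ∈ hexacode F ω, x ≠ 0 → (Finset.univ.filter fun i => x i ≠ 0).card = 4 ∨
      (Finset.univ.filter fun i => x i ≠ 0).card = 6) ∧
    {x : Fin 6 → F | x ∈ hexacode F ω ∧
      (Finset.univ.filter fun i => x i ≠ 0).card = 4}.ncard = 45 ∧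
    {x : Fin 6 → F | x ∈ hexacode F ω ∧
      (Finset.univ.filter fun i => x i ≠ 0).card = 6}.ncard = 18 := by
  have h2 := two_eq_zero hF
  have hinj := emb_injective h2 hω
  have hw : ∀ d, (Finset.univ.filter fun i => (emb ω ∘ hexEnc d) i ≠ 0) =
      Finset.univ.filter fun i => hexEnc d i ≠ 0 := fun d =>
    Finset.filter_congr fun i _ => not_congr (hinj.eq_iff' rfl)
  have hencinj : Function.Injective fun d => emb ω ∘ hexEnc d := fun d e h => by
    rw [← hexEnc_first d, ← hexEnc_first e]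
    simp only [hinj (congrFun h 0), hinj (congrFun h 1), hinj (congrFun h 2)]
  have hn : ∀ n, {x : Fin 6 → F | x ∈ hexacode F ω ∧
      (Finset.univ.filter fun i => x i ≠ 0).card = n}.ncard =
      (Finset.univ.filter fun d : Fin 3 → Fin 4 =>
        (Finset.univ.filter fun i => hexEnc d i ≠ 0).card = n).card := by
    intro n
    rw [← Finset.card_image_of_injective _ hencinj, ← Set.ncard_coe_finset]
    congr 1
    ext x
    simp only [Finset.coe_image, Finset.coe_filter, Finset.mem_univ, true_and, Set.mem_image]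
    constructor
    · rintro ⟨hx, hc⟩
      obtain ⟨d, rfl⟩ := (mem_hexacode h2 hω hF).1 hx
      exact ⟨d, by rw [Set.mem_ofPred_eq, ← hw d]; exact hc, rfl⟩
    · rintro ⟨d, hd, rfl⟩
      exact ⟨(mem_hexacode h2 hω hF).2 ⟨d, rfl⟩, by rw [hw d]; exact hd⟩
  refine ⟨?_, fun x hx hx0 => ?_, (hn 4).trans hexCount.1, (hn 6).trans hexCount.2⟩
  · rw [← Nat.card_congr (Equiv.ofBijective
      (fun d => (⟨emb ω ∘ hexEnc d, (mem_hexacode h2 hω hF).2 ⟨d, rfl⟩⟩ : ↥(hexacode F ω)))
      ⟨fun d e h => hencinj (congrArg Subtype.val h), fun x => by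
        obtain ⟨d, hd⟩ := (mem_hexacode h2 hω hF).1 x.2; exact ⟨d, Subtype.ext hd⟩⟩),
      Nat.card_eq_fintype_card]
    simp
  · obtain ⟨d, rfl⟩ := (mem_hexacode h2 hω hF).1 hx
    rw [hw d]
    refine (hexWeights d).resolve_left fun h => hx0 ?_
    subst h
    funext i
    simp [hexEnc, emb_add h2 hω, emb_mul hω]
    simp [emb]

/-! ### Monomial automorphisms -/

/-- the concrete monomial map -/
def hexMono (σ : Equiv.Perm (Fin 6)) (c : Fin 6 → Fin 4) (y : Fin 6 → Fin 4) (i : Fin 6) : Fin 4 :=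
  qMul (c i) (y (σ.symm i))

/-- the concrete monomial map preserves the code -/
def hexOK (σ : Equiv.Perm (Fin 6)) (c : Fin 6 → Fin 4) : Prop :=
  ∀ k, inHexB (hexMono σ c (hexE k))

instance instDecidableHexOK (σ : Equiv.Perm (Fin 6)) (c : Fin 6 → Fin 4) : Decidable (hexOK σ c) :=
  inferInstanceAs (Decidable (∀ k, inHexB (hexMono σ c (hexE k))))

/-- inverse in the model -/
def qInv : Fin 4 → Fin 4 := ![0, 1, 3, 2]

/-- the only possible multipliers with given first entries -/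
def hexC (σ : Equiv.Perm (Fin 6)) (a b : Fin 4) : Fin 6 → Fin 4 :=
  let y := hexEnc ![qMul 1 (hexG 0 (σ.symm 0)), qMul a (hexG 0 (σ.symm 1)),
    qMul b (hexG 0 (σ.symm 2))]
  fun i => qMul (y i) (qInv (hexG 0 (σ.symm i)))

theorem hex_exists : ∀ σ : Equiv.Perm (Fin 6), Equiv.Perm.sign σ = 1 →
    ∃ a b : Fin 4, (∀ i, hexC σ a b i ≠ 0) ∧ hexOK σ (hexC σ a b) := by decide +kernel

/-- a vector of nonzero entries from its index -/
def hexV (a b : Fin 27) (i : Fin 6) : Fin 4 :=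
  ⟨1 + (if (i : ℕ) < 3 then (a : ℕ) / 3 ^ (i : ℕ) % 3 else (b : ℕ) / 3 ^ ((i : ℕ) - 3) % 3), by
    split <;> omega⟩

theorem exists_hexV (c : Fin 6 → Fin 4) (hc : ∀ i, c i ≠ 0) : ∃ a b, hexV a b = c := by
  have h : ∀ i, 1 ≤ (c i : ℕ) := fun i => Nat.one_le_iff_ne_zero.2 fun h => hc i (Fin.ext h)
  have hlt : ∀ i, (c i : ℕ) < 4 := fun i => (c i).2
  refine ⟨⟨((c 0 : ℕ) - 1) + 3 * ((c 1 : ℕ) - 1) + 9 * ((c 2 : ℕ) - 1), ?_⟩,
    ⟨((c 3 : ℕ) - 1) + 3 * ((c 4 : ℕ) - 1) + 9 * ((c 5 : ℕ) - 1), ?_⟩, funext fun i => ?_⟩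
  · have := hlt 0; have := hlt 1; have := hlt 2; omega
  · have := hlt 3; have := hlt 4; have := hlt 5; omega
  · have := h i; have := hlt i
    have := hlt 0; have := hlt 1; have := hlt 2; have := hlt 3; have := hlt 4; have := hlt 5
    have := h 0; have := h 1; have := h 2; have := h 3; have := h 4; have := h 5
    fin_cases i <;> apply Fin.ext <;> simp [hexV] <;> omega

theorem hex_kernel : ∀ a b : Fin 27, hexOK 1 (hexV a b) →
    ∀ i, hexV a b i = hexV a b 0 := by decide +kernel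

theorem hex_swap : ∀ a b : Fin 27, ¬ hexOK (Equiv.swap 0 1) (hexV a b) := by decide +kernel

theorem hexE_inHexB : ∀ k, inHexB (hexE k) := by decide +kernel

section
variable {F : Type*} [Field F] {ω : F}

/-- a monomial map preserving the code -/
def Preserves (F : Type*) [Field F] (ω : F) (σ : Equiv.Perm (Fin 6)) (c : Fin 6 → Fˣ) : Prop :=
  ∀ x ∈ hexacode F ω, monomialMap σ c x ∈ hexacode F ω

variable (h2 : (2 : F) = 0) (hω : ω ^ 2 + ω + 1 = 0)

include h2 hω

omit h2 in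
theorem monomialMap_emb (σ : Equiv.Perm (Fin 6)) (c : Fin 6 → Fˣ) (c' y : Fin 6 → Fin 4)
    (hc : ∀ i, emb ω (c' i) = c i) :
    monomialMap σ c (emb ω ∘ y) = emb ω ∘ hexMono σ c' y := by
  funext i
  simp [monomialMap, hexMono, emb_mul hω, hc]

theorem preserves_iff [Fintype F] (hF : Fintype.card F = 4) (σ : Equiv.Perm (Fin 6))
    (c : Fin 6 → Fˣ) (c' : Fin 6 → Fin 4) (hc : ∀ i, emb ω (c' i) = c i) :
    Preserves F ω σ c ↔ hexOK σ c' := by
  constructor
  · intro h k
    rw [← emb_mem_hexacode h2 hω hF, ← monomialMap_emb hω σ c c' _ hc]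
    exact h _ ((emb_mem_hexacode h2 hω hF).2 (hexE_inHexB k))
  · intro h x hx
    obtain ⟨d, rfl⟩ := (mem_hexacode h2 hω hF).1 hx
    have e : monomialMap σ c (emb ω ∘ hexEnc d) =
        ∑ k, emb ω (d k) • (emb ω ∘ hexMono σ c' (hexE k)) := by
      rw [emb_comp_enc h2 hω]
      funext i
      simp only [monomialMap, Finset.sum_apply, Pi.smul_apply, smul_eq_mul, Finset.mul_sum,
        Function.comp_apply, hexMono, emb_mul hω, hc]
      exact Finset.sum_congr rfl fun k _ => by ring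
    rw [e]
    exact Submodule.sum_mem _ fun k _ => Submodule.smul_mem _ _
      ((emb_mem_hexacode h2 hω hF).2 (h k))

omit h2 hω in
theorem preserves_comp {σ τ : Equiv.Perm (Fin 6)} {c d : Fin 6 → Fˣ}
    (h : Preserves F ω σ c) (h' : Preserves F ω τ d) :
    Preserves F ω (σ * τ) fun i => c i * d (σ.symm i) := by
  intro x hx
  have e : monomialMap (σ * τ) (fun i => c i * d (σ.symm i)) x =
      monomialMap σ c (monomialMap τ d x) := by
    funext i
    simp [monomialMap, mul_assoc, Equiv.Perm.mul_def]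
  rw [e]
  exact h _ (h' _ hx)

omit h2 hω in
theorem monomialMap_injective (σ : Equiv.Perm (Fin 6)) (c : Fin 6 → Fˣ) :
    Function.Injective (monomialMap σ c) := by
  intro x y h
  funext j
  have := congrFun h (σ j)
  simp only [monomialMap, Equiv.symm_apply_apply] at this
  exact mul_left_cancel₀ (c (σ j)).ne_zero this

theorem exists_lift [Fintype F] (hF : Fintype.card F = 4) (c : Fin 6 → Fˣ) :
    ∃ c' : Fin 6 → Fin 4, (∀ i, emb ω (c' i) = c i) ∧ ∀ i, c' i ≠ 0 := by
  choose c' hc' using fun i => emb_surjective h2 hω hF (c i : F)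
  exact ⟨c', hc', fun i h => (c i).ne_zero (by rw [← hc' i, h]; rfl)⟩

theorem preserves_kernel [Fintype F] (hF : Fintype.card F = 4) {c : Fin 6 → Fˣ}
    (h : Preserves F ω 1 c) : ∀ i, c i = c 0 := by
  obtain ⟨c', hc', hne⟩ := exists_lift h2 hω hF c
  obtain ⟨a, b, rfl⟩ := exists_hexV c' hne
  intro i
  apply Units.ext
  rw [← hc' i, ← hc' 0, hex_kernel a b ((preserves_iff h2 hω hF 1 c _ hc').1 h) i]

theorem preserves_even [Fintype F] (hF : Fintype.card F = 4) {σ : Equiv.Perm (Fin 6)}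
    (hσ : Equiv.Perm.sign σ = 1) : ∃ c, Preserves F ω σ c := by
  obtain ⟨a, b, hne, hok⟩ := hex_exists σ hσ
  refine ⟨fun i => Units.mk0 (emb ω (hexC σ a b i)) fun h => hne i ?_,
    (preserves_iff h2 hω hF σ _ _ fun i => rfl).2 hok⟩
  exact emb_injective h2 hω (h.trans rfl)

theorem preserves_sign [Fintype F] (hF : Fintype.card F = 4) {σ : Equiv.Perm (Fin 6)}
    {c : Fin 6 → Fˣ} (h : Preserves F ω σ c) : Equiv.Perm.sign σ = 1 := by
  rcases Int.units_eq_one_or (Equiv.Perm.sign σ) with hs | hs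
  · exact hs
  · exfalso
    obtain ⟨d, hd⟩ := preserves_even h2 hω hF (σ := σ⁻¹ * Equiv.swap 0 1) (by
      rw [map_mul, Equiv.Perm.sign_inv, hs, Equiv.Perm.sign_swap (by decide)]; rfl)
    have hsw := preserves_comp h hd
    rw [mul_inv_cancel_left] at hsw
    obtain ⟨c', hc', hne⟩ := exists_lift h2 hω hF (fun i => c i * d (σ.symm i))
    obtain ⟨a, b, rfl⟩ := exists_hexV c' hne
    exact hex_swap a b ((preserves_iff h2 hω hF _ _ _ hc').1 hsw)

omit h2 hω in
theorem preserves_smul {σ : Equiv.Perm (Fin 6)} {c : Fin 6 → Fˣ} (h : Preserves F ω σ c)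
    (t : Fˣ) : Preserves F ω σ fun i => t * c i := by
  intro x hx
  have e : monomialMap σ (fun i => t * c i) x = (t : F) • monomialMap σ c x := by
    funext i; simp [monomialMap, mul_assoc]
  rw [e]
  exact Submodule.smul_mem _ _ (h x hx)

theorem preserves_unique [Fintype F] (hF : Fintype.card F = 4) {σ : Equiv.Perm (Fin 6)}
    {c c' : Fin 6 → Fˣ} (h : Preserves F ω σ c) (h' : Preserves F ω σ c') :
    ∃ t : Fˣ, c' = fun i => t * c i := by
  have hsurj : Function.Surjective fun y : ↥(hexacode F ω) =>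
      (⟨monomialMap σ c y, h y y.2⟩ : ↥(hexacode F ω)) :=
    Finite.injective_iff_surjective.1 fun y z hyz =>
      Subtype.ext (monomialMap_injective σ c (congrArg Subtype.val hyz))
  have hk : Preserves F ω 1 fun i => c' i / c i := by
    intro x hx
    obtain ⟨y, hy⟩ := hsurj ⟨x, hx⟩
    have e : monomialMap 1 (fun i => c' i / c i) x = monomialMap σ c' y := by
      have hx' : monomialMap σ c y = x := congrArg Subtype.val hy
      rw [← hx']
      funext i
      have h1 : (1 : Equiv.Perm (Fin 6)).symm i = i := rfl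
      simp [monomialMap, div_eq_mul_inv, mul_assoc, h1]
    rw [e]
    exact h' y y.2
  refine ⟨c' 0 / c 0, funext fun i => ?_⟩
  rw [← preserves_kernel h2 hω hF hk i, div_mul_cancel]

end

theorem monomial_automorphisms (F : Type*) [Field F] [Fintype F] [DecidableEq F]
    (hF : Fintype.card F = 4) (ω : F) (hω : ω ^ 2 + ω + 1 = 0) :
    Nat.card {f : Equiv.Perm (Fin 6) × (Fin 6 → Fˣ) //
      (∀ x ∈ hexacode F ω, monomialMap f.1 f.2 x ∈ hexacode F ω)} = 1080 ∧
    (∀ c : Fin 6 → Fˣ, (∀ x ∈ hexacode F ω, monomialMap 1 c x ∈ hexacode F ω) →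
      ∀ i j, c i = c j) ∧
    {σ : Equiv.Perm (Fin 6) | ∃ c : Fin 6 → Fˣ,
      (∀ x ∈ hexacode F ω, monomialMap σ c x ∈ hexacode F ω)} =
      (alternatingGroup (Fin 6) : Set (Equiv.Perm (Fin 6))) := by
  have h2 := two_eq_zero hF
  refine ⟨?_, fun c h i j => by rw [preserves_kernel h2 hω hF h i, preserves_kernel h2 hω hF h j],
    ?_⟩
  · choose c hc using fun σ : alternatingGroup (Fin 6) =>
      preserves_even h2 hω hF (σ := (σ : Equiv.Perm (Fin 6))) (Equiv.Perm.mem_alternatingGroup.1 σ.2)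
    have e : Function.Bijective fun p : alternatingGroup (Fin 6) × Fˣ =>
        (⟨((p.1 : Equiv.Perm (Fin 6)), fun i => p.2 * c p.1 i), preserves_smul (hc p.1) p.2⟩ :
          {f : Equiv.Perm (Fin 6) × (Fin 6 → Fˣ) //
            ∀ x ∈ hexacode F ω, monomialMap f.1 f.2 x ∈ hexacode F ω}) := by
      constructor
      · rintro ⟨σ, t⟩ ⟨σ', t'⟩ h
        have h1 := congrArg (fun q => q.val.1) h
        have h2' := congrArg (fun q => q.val.2 0) h
        obtain rfl : σ = σ' := Subtype.ext h1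
        exact Prod.ext rfl (mul_right_cancel h2')
      · rintro ⟨⟨σ, d⟩, hd⟩
        have hs := Equiv.Perm.mem_alternatingGroup.2 (preserves_sign h2 hω hF hd)
        obtain ⟨t, ht⟩ := preserves_unique h2 hω hF (hc ⟨σ, hs⟩) hd
        exact ⟨(⟨σ, hs⟩, t), Subtype.ext (Prod.ext rfl ht.symm)⟩
    rw [← Nat.card_congr (Equiv.ofBijective _ e), Nat.card_prod, Nat.card_units,
      Nat.card_eq_fintype_card (α := F), hF, nat_card_alternatingGroup]
    simp [Nat.factorial]
  · ext σ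
    exact ⟨fun ⟨c, hc⟩ => Equiv.Perm.mem_alternatingGroup.2 (preserves_sign h2 hω hF hc),
      fun h => preserves_even h2 hω hF (Equiv.Perm.mem_alternatingGroup.1 h)⟩

end CfsgLib.Spor.Hexa
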