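import Cfsg.Agent.Lib.Spor.Classes
import Cfsg.Prelude.Def_Spor_Mathieu

/-!
The two point stabilisers in the smaller five-transitive group, and the outer element of the
two-point stabiliser.
-/

set_option autoImplicit false
set_option maxRecDepth 100000

namespace CfsgLib.Spor

open Cfsg
open scoped Pointwise

theorem smul_compl_eq_iff (g : Equiv.Perm GolayPt) (s : Finset GolayPt) :
    g • sᶜ = sᶜ ↔ g • s = s := by
  rw [smul_compl_finset, compl_inj_iff]

theorem mem_M12_iff {g : Equiv.Perm GolayPt} :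
    g ∈ Cfsg.Spor.M12 ↔ g ∈ M24 ∧ g • Cfsg.Spor.squareDodecad = Cfsg.Spor.squareDodecad := Iff.rfl

theorem mem_M11_iff {g : Equiv.Perm GolayPt} :
    g ∈ Cfsg.Spor.M11 ↔
      (g ∈ M24 ∧ g • Cfsg.Spor.squareDodecad = Cfsg.Spor.squareDodecad) ∧ g (some 0) = some 0 :=
  Iff.rfl

theorem squareDodecad_facts : Cfsg.Spor.squareDodecad ∈ dodecads ∧
    (some 0 : GolayPt) ∈ Cfsg.Spor.squareDodecad ∧ none ∉ Cfsg.Spor.squareDodecad := by
  refine ⟨?_, by decide +kernel, by decide +kernel⟩
  rw [mem_dodecads]; decide +kernel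

theorem exists_outer : ∃ g ∈ M24, g • Cfsg.Spor.squareDodecad = Cfsg.Spor.squareDodecadᶜ ∧
    g (some 0) = none := by
  obtain ⟨hd, h0, hnone⟩ := squareDodecad_facts
  have hdc := compl_mem_dodecads hd
  obtain ⟨g, hg, hgd⟩ := exists_smul_dodecad hd hdc
  have hz : g (some 0) ∈ Cfsg.Spor.squareDodecadᶜ := hgd ▸ Finset.smul_mem_smul_finset h0
  obtain ⟨k, hk, hkd, hkz⟩ := exists_stab_dodecad_point hdc hz (Finset.mem_compl.2 hnone)
  exact ⟨k * g, mul_mem hk hg, by rw [mul_smul, hgd, hkd], hkz⟩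

theorem conj_M11 {g : Equiv.Perm GolayPt} (hg : g ∈ M24)
    (hgd : g • Cfsg.Spor.squareDodecad = Cfsg.Spor.squareDodecadᶜ) (hg0 : g (some 0) = none) :
    MulAut.conj g • Cfsg.Spor.M11 =
      Cfsg.Spor.M12 ⊓ MulAction.stabilizer (Equiv.Perm GolayPt) (none : GolayPt) := by
  ext x
  rw [Subgroup.mem_pointwise_smul_iff_inv_smul_mem, Subgroup.mem_inf, mem_M12_iff,
    MulAction.mem_stabilizer_iff, mem_M11_iff]
  have e : (MulAut.conj g)⁻¹ • x = g⁻¹ * x * g := by simp [MulAut.smul_def]
  rw [e]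
  have h1 : g⁻¹ * x * g ∈ M24 ↔ x ∈ M24 := by
    rw [M24.mul_mem_cancel_right hg, M24.mul_mem_cancel_left (M24.inv_mem hg)]
  have h2 : (g⁻¹ * x * g) • Cfsg.Spor.squareDodecad = Cfsg.Spor.squareDodecad ↔
      x • Cfsg.Spor.squareDodecad = Cfsg.Spor.squareDodecad := by
    rw [mul_smul, mul_smul, inv_smul_eq_iff, hgd, smul_compl_eq_iff]
  have h3 : (g⁻¹ * x * g) (some 0) = some 0 ↔ x • (none : GolayPt) = none := by
    show g⁻¹ (x (g (some 0))) = some 0 ↔ x none = none
    rw [Equiv.Perm.inv_eq_iff_eq, hg0]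
  rw [h1, h2, h3]
  rfl

theorem not_conj_in_M12 : ¬ ∃ k ∈ Cfsg.Spor.M12, MulAut.conj k • Cfsg.Spor.M11 =
    Cfsg.Spor.M12 ⊓ MulAction.stabilizer (Equiv.Perm GolayPt) (none : GolayPt) := by
  rintro ⟨k, hk, he⟩
  obtain ⟨hd, h0, hnone⟩ := squareDodecad_facts
  set y := k (some 0) with hy
  have hyd : y ∈ Cfsg.Spor.squareDodecad := by
    have h := Finset.smul_mem_smul_finset (a := k) h0
    rwa [hk.2] at h
  obtain ⟨y', hy', hne⟩ := Finset.exists_mem_ne
    (show 1 < Cfsg.Spor.squareDodecad.card by rw [card_dodecad hd]; norm_num) y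
  obtain ⟨y'', hy'', hne''⟩ : ∃ z ∈ Cfsg.Spor.squareDodecad, z ∉ ({y, y'} : Finset GolayPt) :=
    Finset.exists_mem_notMem_of_card_lt_card (by
      rw [card_dodecad hd]; exact lt_of_le_of_lt Finset.card_le_two (by norm_num))
  simp only [Finset.mem_insert, Finset.mem_singleton, not_or] at hne''
  have hxi : Function.Injective ![y, y', y''] := by
    intro i j h
    fin_cases i <;> fin_cases j <;> simp_all [Ne.symm hne, Ne.symm hne''.1, Ne.symm hne''.2]
  have hyi : Function.Injective ![y', y, y''] := by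
    intro i j h
    fin_cases i <;> fin_cases j <;> simp_all [Ne.symm hne, Ne.symm hne''.1, Ne.symm hne''.2]
  obtain ⟨m, hm, hmd, hmn, h3⟩ := exists_three_outside (compl_mem_dodecads hd)
    (Finset.mem_compl.2 hnone) (x := ⟨_, hxi⟩) (y := ⟨_, hyi⟩)
    (fun i => by fin_cases i <;> simp [hyd, hy', hy''])
    (fun i => by fin_cases i <;> simp [hyd, hy', hy''])
  have hmem : m ∈ Cfsg.Spor.M12 ⊓ MulAction.stabilizer (Equiv.Perm GolayPt) (none : GolayPt) :=
    ⟨⟨hm, (smul_compl_eq_iff m _).1 hmd⟩, hmn⟩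
  rw [← he, Subgroup.mem_pointwise_smul_iff_inv_smul_mem] at hmem
  have h := (mem_M11_iff.1 hmem).2
  simp only [MulAut.smul_def] at h
  change k⁻¹ (m (k⁻¹⁻¹ (some 0))) = some 0 at h
  rw [inv_inv, Equiv.Perm.inv_eq_iff_eq, ← hy] at h
  exact hne ((h3 0).symm.trans h)

theorem exists_move_fixing_two {p q : GolayPt} (hp : p ≠ none ∧ p ≠ some 0)
    (hq : q ≠ none ∧ q ≠ some 0) : ∃ g ∈ Cfsg.Spor.M22, g p = q := by
  have h3 := isMultiplyPretransitive_le_five (k := 3) (by norm_num)
  have hx : ∀ r : GolayPt, r ≠ none ∧ r ≠ some 0 →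
      Function.Injective ![none, some (0 : ZMod 23), r] := by
    intro r hr i j h
    fin_cases i <;> fin_cases j <;> simp_all [Ne.symm hr.1, Ne.symm hr.2]
  obtain ⟨⟨g, hg⟩, h⟩ := MulAction.isMultiplyPretransitive_iff.1 h3 ⟨_, hx p hp⟩ ⟨_, hx q hq⟩
  exact ⟨g, ⟨⟨hg, DFunLike.congr_fun h 0⟩, DFunLike.congr_fun h 1⟩, DFunLike.congr_fun h 2⟩

theorem centralizer_M22 {c : Equiv.Perm GolayPt} (hc : c ∈ M24)
    (hcomm : ∀ x ∈ Cfsg.Spor.M22, c * x = x * c) : c = 1 := by
  have hfix : ∀ p : GolayPt, p ≠ none → p ≠ some 0 → c p = p := by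
    intro p h1 h2
    by_contra hne
    have hout : c p ≠ none ∧ c p ≠ some 0 := by
      -- the image is moved by the group, as p is
      obtain ⟨p', hp'⟩ : ∃ p' : GolayPt, p' ∉ ({none, some 0, p} : Finset GolayPt) := by
        obtain ⟨z, -, hz⟩ := Finset.exists_mem_notMem_of_card_lt_card
          (s := ({none, some 0, p} : Finset GolayPt)) (t := Finset.univ)
          (lt_of_le_of_lt Finset.card_le_three (by rw [Finset.card_univ, card_golayPt]; norm_num))
        exact ⟨z, hz⟩
      simp only [Finset.mem_insert, Finset.mem_singleton, not_or] at hp'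
      obtain ⟨x, hx, hxp⟩ := exists_move_fixing_two ⟨h1, h2⟩ ⟨hp'.1, hp'.2.1⟩
      have e : x (c p) = c p' := by
        rw [← hxp]; exact (Equiv.congr_fun (hcomm x hx) p).symm
      constructor <;> intro e' <;> rw [e'] at e
      · exact hp'.2.2 (c.injective (e'.trans (hx.1.2.symm.trans e))).symm
      · exact hp'.2.2 (c.injective (e'.trans (hx.2.symm.trans e))).symm
    -- an element fixing p and moving the image
    obtain ⟨r, hr⟩ : ∃ r : GolayPt, r ∉ ({none, some 0, p, c p} : Finset GolayPt) := by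
      obtain ⟨z, -, hz⟩ := Finset.exists_mem_notMem_of_card_lt_card
        (s := ({none, some 0, p, c p} : Finset GolayPt)) (t := Finset.univ)
        (lt_of_le_of_lt Finset.card_le_four (by rw [Finset.card_univ, card_golayPt]; norm_num))
      exact ⟨z, hz⟩
    simp only [Finset.mem_insert, Finset.mem_singleton, not_or] at hr
    have h4 := isMultiplyPretransitive_le_five (k := 4) (by norm_num)
    have hx : ∀ s : GolayPt, s ≠ none ∧ s ≠ some 0 ∧ s ≠ p →
        Function.Injective ![none, some (0 : ZMod 23), p, s] := by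
      intro s hs i j h
      fin_cases i <;> fin_cases j <;>
        simp_all [Ne.symm hs.1, Ne.symm hs.2.1, Ne.symm hs.2.2, Ne.symm h1, Ne.symm h2]
    obtain ⟨⟨x, hxM⟩, hx'⟩ := MulAction.isMultiplyPretransitive_iff.1 h4
      ⟨_, hx (c p) ⟨hout.1, hout.2, hne⟩⟩ ⟨_, hx r ⟨hr.1, hr.2.1, hr.2.2.1⟩⟩
    have hmem : x ∈ Cfsg.Spor.M22 :=
      ⟨⟨hxM, DFunLike.congr_fun hx' 0⟩, DFunLike.congr_fun hx' 1⟩
    have e : c (x p) = x (c p) := Equiv.congr_fun (hcomm x hmem) p
    have e2 : x p = p := DFunLike.congr_fun hx' 2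
    have e3 : x (c p) = r := DFunLike.congr_fun hx' 3
    rw [e2, e3] at e
    exact hr.2.2.2 e.symm
  by_contra h1
  have hsq : c * c = 1 := by
    refine Equiv.ext fun p => ?_
    show c (c p) = p
    by_cases hp : p = none ∨ p = some 0
    · have key : ∀ z, z = none ∨ z = some 0 → c z = none ∨ c z = some 0 := fun z hz => by
        by_contra hcon
        rw [not_or] at hcon
        have e := c.injective (hfix _ hcon.1 hcon.2)
        rcases hz with rfl | rfl
        · exact hcon.1 e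
        · exact hcon.2 e
      rcases key p hp with e | e <;> rcases hp with rfl | rfl <;> rw [e]
      · exact e
      · by_contra hne
        rcases key none (Or.inl rfl) with e' | e'
        · exact absurd (c.injective (e.trans e'.symm)) (by simp)
        · exact hne e'
      · by_contra hne
        rcases key (some 0) (Or.inr rfl) with e' | e'
        · exact hne e'
        · exact absurd (c.injective (e.trans e'.symm)) (by simp)
      · exact e
    · rw [not_or] at hp
      rw [hfix p hp.1 hp.2, hfix p hp.1 hp.2]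
  haveI : Fact (Nat.Prime 2) := ⟨Nat.prime_two⟩
  have ho : orderOf c = 2 := orderOf_eq_prime (by rw [pow_two, hsq]) h1
  have hle : 22 ≤ (Finset.univ.filter fun p => c p = p).card := by
    refine le_trans ?_ (Finset.card_le_card (s := (Finset.univ.erase none).erase (some 0)) fun p hp => ?_)
    · rw [Finset.card_erase_of_mem (by simp), Finset.card_erase_of_mem (by simp), Finset.card_univ,
        card_golayPt]
    · simp only [Finset.mem_erase] at hp
      exact Finset.mem_filter.2 ⟨Finset.mem_univ _, hfix p hp.2.1 hp.1⟩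
  rcases exists_invol hc ho with ⟨_, -, -, e, -⟩ | ⟨_, -, -, e, -⟩ <;> omega

theorem M22_outer {g : Equiv.Perm GolayPt} (hg : g ∈ M24) (h₁ : g none = some 0)
    (h₂ : g (some 0) = none) :
    Cfsg.Spor.M22.relIndex (M24 ⊓ MulAction.stabilizer (Equiv.Perm GolayPt)
        ({none, some 0} : Finset GolayPt)) = 2 ∧
      (∀ x ∈ Cfsg.Spor.M22, g * x * g⁻¹ ∈ Cfsg.Spor.M22) ∧
      ¬ ∃ h ∈ Cfsg.Spor.M22, ∀ x ∈ Cfsg.Spor.M22, g * x * g⁻¹ = h * x * h⁻¹ := by
  have hgs : g • ({none, some 0} : Finset GolayPt) = {none, some 0} := by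
    rw [Finset.smul_finset_insert, Finset.smul_finset_singleton, Equiv.Perm.smul_def,
      Equiv.Perm.smul_def, h₁, h₂, Finset.pair_comm]
  have hgi1 : g⁻¹ none = some 0 := by rw [Equiv.Perm.inv_eq_iff_eq, h₂]
  have hgi2 : g⁻¹ (some 0) = none := by rw [Equiv.Perm.inv_eq_iff_eq, h₁]
  refine ⟨?_, fun x hx => ?_, ?_⟩
  · rw [Subgroup.relIndex, Subgroup.index_eq_two_iff]
    refine ⟨⟨g, hg, hgs⟩, fun b => ?_⟩
    simp only [Subgroup.mem_subgroupOf, Subgroup.coe_mul]
    have hmem' : ∀ (k : Equiv.Perm GolayPt) (A : Finset GolayPt), k • A = A → ∀ p ∈ A, k p ∈ A :=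
      fun k A h p hp => by
        have := Finset.smul_mem_smul_finset (a := k) hp
        rwa [h] at this
    have hb1 := hmem' _ _ b.2.2 none (by simp)
    have hb2 := hmem' _ _ b.2.2 (some 0) (by simp)
    simp only [Finset.mem_insert, Finset.mem_singleton] at hb1 hb2
    have hne : (b : Equiv.Perm GolayPt) none ≠ (b : Equiv.Perm GolayPt) (some 0) :=
      fun e => by simpa using (b : Equiv.Perm GolayPt).injective e
    rcases hb1 with e1 | e1
    · have e2 := hb2.resolve_left fun e => hne (e1.trans e.symm)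
      refine Or.inr ⟨⟨⟨b.2.1, e1⟩, e2⟩, fun h => ?_⟩
      have := h.1.2
      change (b : Equiv.Perm GolayPt) (g none) = none at this
      rw [h₁, e2] at this
      simp at this
    · have e2 := hb2.resolve_right fun e => hne (e1.trans e.symm)
      refine Or.inl ⟨⟨⟨M24.mul_mem b.2.1 hg, ?_⟩, ?_⟩, fun h => ?_⟩
      · show (b : Equiv.Perm GolayPt) (g none) = none
        rw [h₁, e2]
      · show (b : Equiv.Perm GolayPt) (g (some 0)) = some 0
        rw [h₂, e1]
      · have := h.1.2
        change (b : Equiv.Perm GolayPt) none = none at this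
        rw [e1] at this
        simp at this
  · obtain ⟨⟨hx, hx1⟩, hx2⟩ := hx
    change x none = none at hx1
    change x (some 0) = some 0 at hx2
    refine ⟨⟨M24.mul_mem (M24.mul_mem hg hx) (M24.inv_mem hg), ?_⟩, ?_⟩
    · show g (x (g⁻¹ none)) = none
      rw [hgi1, hx2, h₂]
    · show g (x (g⁻¹ (some 0))) = some 0
      rw [hgi2, hx1, h₁]
  · rintro ⟨h, hh, he⟩
    have hc : h⁻¹ * g = 1 := by
      refine centralizer_M22 (mul_mem (inv_mem hh.1.1) hg) fun x hx => ?_
      have e := he x hx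
      calc h⁻¹ * g * x = h⁻¹ * (g * x * g⁻¹) * g := by group
        _ = h⁻¹ * (h * x * h⁻¹) * g := by rw [e]
        _ = x * (h⁻¹ * g) := by group
    have e : h = g := by rw [← mul_inv_cancel_left h g, hc, mul_one]
    have := hh.1.2
    change h none = none at this
    rw [e, h₁] at this
    simp at this

end CfsgLib.Spor
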