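import Cfsg.Agent.Lib.Spor.SixPoints

/-!
The action induced on a set of six points.
-/

set_option autoImplicit false

namespace CfsgLib.Spor

open Cfsg
open scoped Pointwise

theorem exists_six_enum {E : Finset GolayPt} (hE : E.card = 6) :
    ∃ x : Fin 6 ↪ GolayPt, Finset.univ.map x = E := by
  refine ⟨(E.equivFinOfCardEq hE).symm.toEmbedding.trans (Function.Embedding.subtype _), ?_⟩
  ext p
  simp only [Finset.mem_map, Finset.mem_univ, true_and, Function.Embedding.trans_apply]
  exact ⟨fun ⟨i, hi⟩ => hi ▸ ((E.equivFinOfCardEq hE).symm i).2,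
    fun hp => ⟨E.equivFinOfCardEq hE ⟨p, hp⟩, by simp⟩⟩

theorem six_induces {E : Finset GolayPt} (hE : E.card = 6) (σ : Equiv.Perm ↥E) :
    ∃ g ∈ M24, ∀ p : ↥E, g p = σ p := by
  let e := E.equivFinOfCardEq hE
  let x : Fin 6 ↪ GolayPt := e.symm.toEmbedding.trans (Function.Embedding.subtype _)
  let y : Fin 6 ↪ GolayPt := (e.symm.trans σ).toEmbedding.trans (Function.Embedding.subtype _)
  have hx : Finset.univ.map x = E := by
    refine Finset.eq_of_subset_of_card_le (fun p hp => ?_) (by simp [hE])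
    obtain ⟨i, -, rfl⟩ := Finset.mem_map.1 hp
    exact (e.symm i).2
  have hy : Finset.univ.map y = E := by
    refine Finset.eq_of_subset_of_card_le (fun p hp => ?_) (by simp [hE])
    obtain ⟨i, -, rfl⟩ := Finset.mem_map.1 hp
    exact (σ (e.symm i)).2
  obtain ⟨g, hg, h⟩ := exists_six_map (x := x) (y := y) (by rw [hx, hy])
  refine ⟨g, hg, fun p => ?_⟩
  have := h (e p)
  simpa [x, y] using this

open Classical in
theorem natCard_six_fix_set {E : Finset GolayPt} (hE : E.card = 6) :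
    Nat.card {g : Equiv.Perm GolayPt // g ∈ M24 ∧ ∀ p ∈ E, g p = p} =
      if (∃ o ∈ octads, E ⊆ o) then 16 else 3 := by
  obtain ⟨x, rfl⟩ := exists_six_enum hE
  rw [← natCard_six_fix x]
  refine Nat.card_congr (Equiv.subtypeEquivRight fun g => and_congr_right fun _ => ?_)
  simp

theorem natCard_six_stab {E : Finset GolayPt} (hE : E.card = 6) :
    Nat.card ↥(MulAction.stabilizer ↥M24 E) =
      720 * Nat.card {g : Equiv.Perm GolayPt // g ∈ M24 ∧ ∀ p ∈ E, g p = p} := by
  have hmem' : ∀ (k : Equiv.Perm GolayPt) (A : Finset GolayPt), k • A = A → ∀ p, k p ∈ A ↔ p ∈ A :=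
    fun k A h p => by
      conv_lhs => rw [← h]
      exact Finset.smul_mem_smul_finset_iff k
  have hmem : ∀ (m : ↥(MulAction.stabilizer ↥M24 E)) (p : GolayPt),
      (m.1 : Equiv.Perm GolayPt) p ∈ E ↔ p ∈ E := fun m => hmem' _ E m.2
  let ρ : ↥(MulAction.stabilizer ↥M24 E) →* Equiv.Perm ↥E :=
    { toFun := fun m => (m.1 : Equiv.Perm GolayPt).subtypePerm (p := fun p => p ∈ E) (hmem m)
      map_one' := Equiv.ext fun p => Subtype.ext rfl
      map_mul' := fun a b => Equiv.ext fun p => Subtype.ext rfl }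
  have hsur : Function.Surjective ρ := by
    intro σ
    obtain ⟨g, hg, h⟩ := six_induces hE σ
    have hgE : g • E = E := Finset.eq_of_subset_of_card_le (fun p hp => by
      obtain ⟨q, hq, rfl⟩ := Finset.mem_smul_finset.1 hp
      rw [Equiv.Perm.smul_def, h ⟨q, hq⟩]
      exact (σ ⟨q, hq⟩).2) (Finset.card_smul_finset _ _).ge
    exact ⟨⟨⟨g, hg⟩, hgE⟩, Equiv.ext fun p => Subtype.ext (h p)⟩
  have hker : Nat.card ρ.ker =
      Nat.card {g : Equiv.Perm GolayPt // g ∈ M24 ∧ ∀ p ∈ E, g p = p} :=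
    Nat.card_congr
      { toFun := fun m => ⟨(m.1.1 : Equiv.Perm GolayPt), m.1.1.2, fun p hp =>
          congrArg Subtype.val (Equiv.congr_fun m.2 ⟨p, hp⟩)⟩
        invFun := fun g => ⟨⟨⟨g.1, g.2.1⟩, Finset.eq_of_subset_of_card_le (fun p hp => by
            obtain ⟨q, hq, rfl⟩ := Finset.mem_smul_finset.1 hp
            show g.1 q ∈ E
            rw [g.2.2 q hq]; exact hq) (Finset.card_smul_finset _ _).ge⟩,
          Equiv.ext fun p => Subtype.ext (g.2.2 p p.2)⟩
        left_inv := fun m => rfl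
        right_inv := fun g => rfl }
  have h := ρ.ker.card_mul_index
  rw [Subgroup.index_ker, MonoidHom.range_eq_top.2 hsur, Subgroup.card_top] at h
  rw [← h, hker, mul_comm, Nat.card_perm, Nat.card_eq_fintype_card, Fintype.card_coe, hE]
  rfl

end CfsgLib.Spor
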