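import Cfsg.Agent.Lib.Spor.OctadFixCentral
import Cfsg.Agent.Lib.Spor.TransvectionFive
import Cfsg.Agent.Lib.Spor.OrbitKit
import Cfsg.Agent.Lib.Spor.Orb.TransOct

/-!
The centraliser in M24 of an involution fixing an octad pointwise, as a matrix group.
-/

set_option autoImplicit false

namespace CfsgLib.Spor

open Cfsg Tv5
open scoped Pointwise

/-- affine matrix from a linear part and a translation -/
def affOpt (A : Matrix (Fin 4) (Fin 4) (ZMod 2)) (t : Fin 4 → ZMod 2) :
    Matrix (Option (Fin 4)) (Option (Fin 4)) (ZMod 2)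
  | some i, some j => A i j
  | some i, none => t i
  | none, some _ => 0
  | none, none => 1

theorem affOpt_mul (A B : Matrix (Fin 4) (Fin 4) (ZMod 2)) (t u : Fin 4 → ZMod 2) :
    affOpt A t * affOpt B u = affOpt (A * B) (Matrix.mulVec A u + t) := by
  ext i j
  rw [Matrix.mul_apply, Fintype.sum_option]
  cases i <;> cases j <;> simp [affOpt, Matrix.mul_apply, Matrix.mulVec, dotProduct, add_comm]

/-- positions of the five coordinates -/
def affIdx : Fin 5 ≃ Option (Fin 4) where
  toFun := ![some 0, none, some 1, some 2, some 3]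
  invFun x := match x with
    | none => 1
    | some i => (![0, 2, 3, 4] : Fin 4 → Fin 5) i
  left_inv := by decide
  right_inv := by decide

/-- affine matrix of degree five -/
def affFive (A : Matrix (Fin 4) (Fin 4) (ZMod 2)) (t : Fin 4 → ZMod 2) :
    Matrix (Fin 5) (Fin 5) (ZMod 2) := (affOpt A t).submatrix affIdx affIdx

theorem affFive_mul (A B : Matrix (Fin 4) (Fin 4) (ZMod 2)) (t u : Fin 4 → ZMod 2) :
    affFive A t * affFive B u = affFive (A * B) (Matrix.mulVec A u + t) := by
  rw [affFive, affFive, affFive, Matrix.submatrix_mul_equiv, affOpt_mul]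

theorem affFive_one : affFive 1 0 = 1 := by
  rw [affFive, show affOpt 1 0 = 1 from ?_, Matrix.submatrix_one_equiv]
  ext i j
  cases i <;> cases j <;> simp [affOpt, Matrix.one_apply]

theorem affFive_inj {A B : Matrix (Fin 4) (Fin 4) (ZMod 2)} {t u : Fin 4 → ZMod 2}
    (h : affFive A t = affFive B u) : A = B ∧ t = u := by
  constructor
  · ext i j
    simpa [affFive, affOpt] using congrFun (congrFun h (affIdx.symm (some i))) (affIdx.symm (some j))
  · funext i
    simpa [affFive, affOpt] using congrFun (congrFun h (affIdx.symm (some i))) (affIdx.symm none)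

/-- the octad stabiliser inside M24 -/
def octStab (o : Finset GolayPt) : Subgroup (Equiv.Perm GolayPt) :=
  M24 ⊓ MulAction.stabilizer (Equiv.Perm GolayPt) o

theorem natCard_octStab {o : Finset GolayPt} (ho : o ∈ octads) :
    Nat.card (octStab o) = 322560 := by
  rw [← octK.natCard_stab transOct_ok ho (k := 322560) (by decide +kernel)]
  exact Nat.card_congr
    { toFun := fun g => ⟨⟨g.1, (Subgroup.mem_inf.1 g.2).1⟩, (Subgroup.mem_inf.1 g.2).2⟩
      invFun := fun g => ⟨g.1.1, Subgroup.mem_inf.2 ⟨g.1.2, g.2⟩⟩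
      left_inv := fun _ => rfl
      right_inv := fun _ => rfl }

theorem conj_fixM24 {o : Finset GolayPt} {g e : Equiv.Perm GolayPt} (hg : g ∈ octStab o)
    (he : e ∈ fixM24 o) : g * e * g⁻¹ ∈ fixM24 o := by
  obtain ⟨hg1, hg2⟩ := Subgroup.mem_inf.1 hg
  obtain ⟨h1, h2⟩ := mem_fixM24.1 he
  refine mem_fixM24.2 ⟨mul_mem (mul_mem hg1 h1) (inv_mem hg1), fun p hp => ?_⟩
  have hp' : g⁻¹ p ∈ o := by
    have h := Finset.smul_mem_smul_finset (a := g⁻¹) hp
    rwa [show g⁻¹ • o = o from inv_smul_eq_iff.2 hg2.symm] at h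
  show g (e (g⁻¹ p)) = p
  rw [h2 _ hp']
  simp

theorem centralizer_le_octStab {o : Finset GolayPt} {z g : Equiv.Perm GolayPt}
    (hfix : ∀ p, p ∈ o ↔ z p = p) (hg : g ∈ M24) (hc : g * z = z * g) : g ∈ octStab o := by
  refine Subgroup.mem_inf.2 ⟨hg, ?_⟩
  show g • o = o
  refine Finset.eq_of_subset_of_card_le (fun x hx => ?_) (Finset.card_smul_finset _ _).ge
  obtain ⟨p, hp, rfl⟩ := Finset.mem_smul_finset.1 hx
  rw [hfix] at hp ⊢
  show z (g p) = g p
  rw [← Equiv.Perm.mul_apply, ← hc, Equiv.Perm.mul_apply, hp]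

/-- the centraliser in M24 as a group of permutations -/
def cenOct (z : Equiv.Perm GolayPt) : Subgroup (Equiv.Perm GolayPt) :=
  M24 ⊓ Subgroup.centralizer {z}

theorem natCard_cenOct_ge {o : Finset GolayPt} {z : Equiv.Perm GolayPt} (ho : o ∈ octads)
    (hz : z ∈ fixM24 o) (hz1 : z ≠ 1) : 21504 ≤ Nat.card (cenOct z) := by
  let H := octStab o
  letI act : MulAction ↥H (Equiv.Perm GolayPt) :=
    MulAction.compHom (Equiv.Perm GolayPt) ((MulAut.conj : Equiv.Perm GolayPt →* _).comp H.subtype)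
  have horb : MulAction.orbit ↥H z ⊆ (fixM24 o : Set (Equiv.Perm GolayPt)) \ {1} := by
    rintro x ⟨g, rfl⟩
    refine ⟨conj_fixM24 g.2 hz, fun h => hz1 ?_⟩
    exact conj_eq_one_iff.1 (h : g.1 * z * g.1⁻¹ = 1)
  have hcard : (MulAction.orbit ↥H z).ncard ≤ 15 := by
    refine (Set.ncard_le_ncard horb (Set.toFinite _)).trans ?_
    rw [Set.ncard_sdiff_singleton_of_mem (one_mem (fixM24 o)), ← Nat.card_coe_set_eq]
    exact (Nat.sub_le_sub_right (le_of_eq (octad_pointwise_stabilizer ho).1) 1)
  have hle : Nat.card (MulAction.stabilizer ↥H z) ≤ Nat.card (cenOct z) := by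
    refine Nat.card_le_card_of_injective (fun g => ⟨g.1.1, ?_⟩) fun a b e =>
      Subtype.ext (Subtype.ext (congrArg (fun t : ↥(cenOct z) => t.1) e))
    rw [cenOct, Subgroup.mem_inf, Subgroup.mem_centralizer_singleton_iff]
    refine ⟨(Subgroup.mem_inf.1 g.1.2).1, ?_⟩
    have h : g.1.1 * z * g.1.1⁻¹ = z := g.2
    calc g.1.1 * z = g.1.1 * z * g.1.1⁻¹ * g.1.1 := by group
      _ = z * g.1.1 := by rw [h]
  have key := (MulAction.stabilizer ↥H z).card_mul_index
  rw [MulAction.index_stabilizer, natCard_octStab ho] at key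
  have := Nat.mul_le_mul hle hcard
  omega

/-- the centraliser of an involution with fixed octad is the centraliser of a transvection -/
theorem octad_invol_iso {o : Finset GolayPt} {z : Equiv.Perm GolayPt} (ho : o ∈ octads)
    (hz : z ∈ fixM24 o) (hz1 : z ≠ 1) (hfix : ∀ p, p ∈ o ↔ z p = p) (s : SL5)
    (hs : (s : Matrix (Fin 5) (Fin 5) (ZMod 2)) = tvMat) :
    ∃ e : ↥(cenOct z) ≃* ↥(Subgroup.centralizer ({s} : Set SL5)),
      ∀ g : ↥(cenOct z), (g : Equiv.Perm GolayPt) = z → (e g : SL5) = s := by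
  classical
  let E := fixM24 o
  have hcard : Nat.card E = 16 := (octad_pointwise_stabilizer ho).1
  have hsq : ∀ k ∈ E, k * k = 1 := (octad_pointwise_stabilizer ho).2
  letI instE : CommGroup ↥E :=
    { (inferInstance : Group ↥E) with
      mul_comm := fun a b => Subtype.ext (fixM24_comm ho a.2 b.2) }
  letI modE : Module (ZMod 2) (Additive ↥E) := AddCommGroup.zmodModule fun x => by
    rw [two_nsmul]
    exact congrArg Additive.ofMul (Subtype.ext (hsq _ x.toMul.2) : x.toMul * x.toMul = 1)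
  haveI : Finite (Additive ↥E) := (inferInstance : Finite ↥E)
  haveI : Fintype (Additive ↥E) := Fintype.ofFinite _
  have hrank : Module.finrank (ZMod 2) (Additive ↥E) = 4 := by
    have h := Module.card_eq_pow_finrank (K := ZMod 2) (V := Additive ↥E)
    rw [← Nat.card_eq_fintype_card, ZMod.card, show Nat.card (Additive ↥E) = 16 from hcard] at h
    exact (Nat.pow_right_injective le_rfl (show 2 ^ 4 = 2 ^ _ from h)).symm
  let Z : Additive ↥E := Additive.ofMul ⟨z, hz⟩
  have hZ : Z ≠ 0 := fun h => hz1 (congrArg (fun x : Additive ↥E => (x.toMul : Equiv.Perm GolayPt)) h)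
  obtain ⟨b, hb⟩ : ∃ b : Module.Basis (Fin 4) (ZMod 2) (Additive ↥E), b 0 = Z := by
    have hli : LinearIndepOn (ZMod 2) id ({Z} : Set (Additive ↥E)) := LinearIndepOn.singleton hZ
    let B := Module.Basis.extend hli
    haveI : Fintype (hli.extend (Set.subset_univ _)) := Fintype.ofFinite _
    have hc : Fintype.card (hli.extend (Set.subset_univ _)) = 4 := by
      rw [← Module.finrank_eq_card_basis B, hrank]
    let e0 := Fintype.equivFinOfCardEq hc
    let iz : hli.extend (Set.subset_univ _) := ⟨Z, hli.subset_extend _ rfl⟩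
    refine ⟨B.reindex (e0.trans (Equiv.swap (e0 iz) 0)), ?_⟩
    rw [Module.Basis.reindex_apply, show (e0.trans (Equiv.swap (e0 iz) 0)).symm 0 = iz by
      rw [Equiv.symm_apply_eq]; simp]
    exact Module.Basis.extend_apply_self hli iz
  obtain ⟨p0, hp0⟩ : ∃ p, p ∉ o := by
    by_contra h
    push Not at h
    have := Finset.card_le_card (fun x _ => h x : (Finset.univ : Finset GolayPt) ⊆ o)
    rw [Finset.card_univ, card_golayPt, card_octad ho] at this
    omega
  have hC : ∀ g : ↥(cenOct z), (g : Equiv.Perm GolayPt) ∈ octStab o ∧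
      (g : Equiv.Perm GolayPt) * z = z * g := fun g => by
    obtain ⟨h1, h2⟩ := Subgroup.mem_inf.1 g.2
    rw [Subgroup.mem_centralizer_singleton_iff] at h2
    exact ⟨centralizer_le_octStab hfix h1 h2, h2⟩
  have hout : ∀ g : ↥(cenOct z), (g : Equiv.Perm GolayPt) p0 ∉ o := fun g hm => hp0 (by
    rw [hfix] at hm ⊢
    have := (hC g).2
    apply (g : Equiv.Perm GolayPt).injective
    rw [← Equiv.Perm.mul_apply, this, Equiv.Perm.mul_apply, hm])
  have htr : ∀ g : ↥(cenOct z), ∃ e : ↥E, (e : Equiv.Perm GolayPt) p0 = (g : Equiv.Perm GolayPt) p0 :=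
    fun g => by
      obtain ⟨e, he, hep⟩ := exists_fixM24_map ho hp0 (hout g)
      exact ⟨⟨e, he⟩, hep⟩
  choose tr htr using htr
  have huniq : ∀ e f : ↥E, (e : Equiv.Perm GolayPt) p0 = (f : Equiv.Perm GolayPt) p0 → e = f := by
    intro e f h
    refine inv_mul_eq_one.1 (Subtype.ext (eq_one_of_fixM24_fix ho ((e⁻¹ * f : ↥E)).2 hp0 ?_))
    simp only [Subgroup.coe_mul, Subgroup.coe_inv, Equiv.Perm.mul_apply]
    rw [← h]
    simp
  let L : ↥(cenOct z) → (Additive ↥E →ₗ[ZMod 2] Additive ↥E) := fun g =>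
    (MonoidHom.toAdditive (MonoidHom.mk' (fun e : ↥E =>
      (⟨(g : Equiv.Perm GolayPt) * e * (g : Equiv.Perm GolayPt)⁻¹, conj_fixM24 (hC g).1 e.2⟩ : ↥E))
      fun a b => Subtype.ext (by simp [mul_assoc]))).toZModLinearMap 2
  have hL : ∀ g (x : Additive ↥E), ((L g x).toMul : Equiv.Perm GolayPt) =
      (g : Equiv.Perm GolayPt) * (x.toMul : Equiv.Perm GolayPt) * (g : Equiv.Perm GolayPt)⁻¹ :=
    fun g x => rfl
  have hLmul : ∀ g h, L (g * h) = L g ∘ₗ L h := fun g h => by
    refine LinearMap.ext fun x => Additive.toMul.injective (Subtype.ext ?_)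
    rw [LinearMap.comp_apply, hL, hL, hL, Subgroup.coe_mul]
    group
  have hLone : L 1 = LinearMap.id := by
    refine LinearMap.ext fun x => Additive.toMul.injective (Subtype.ext ?_)
    rw [hL, Subgroup.coe_one]
    simp
  have htrmul : ∀ g h, Additive.ofMul (tr (g * h)) =
      L g (Additive.ofMul (tr h)) + Additive.ofMul (tr g) := by
    intro g h
    refine congrArg Additive.ofMul (huniq _ _ ?_ : tr (g * h) = (L g (Additive.ofMul (tr h))).toMul * tr g)
    rw [htr, Subgroup.coe_mul, Subgroup.coe_mul, hL]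
    simp [htr]
  have htr1 : tr 1 = 1 := huniq _ _ (by rw [htr]; simp)
  let M : ↥(cenOct z) → Matrix (Fin 5) (Fin 5) (ZMod 2) := fun g =>
    affFive (LinearMap.toMatrix b b (L g)) (b.repr (Additive.ofMul (tr g)))
  have hMmul : ∀ g h, M (g * h) = M g * M h := fun g h => by
    show affFive _ _ = affFive _ _ * affFive _ _
    rw [affFive_mul, hLmul, LinearMap.toMatrix_comp b b b, htrmul, map_add, Finsupp.coe_add,
      LinearMap.toMatrix_mulVec_repr]
  have hM1 : M 1 = 1 := by
    show affFive _ _ = 1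
    rw [hLone, LinearMap.toMatrix_id, htr1, ofMul_one, map_zero]
    exact affFive_one
  have hdet : ∀ g, (M g).det = 1 := fun g => det_eq_one_of_ne_zero fun h0 => by
    have h := congrArg Matrix.det (hMmul g g⁻¹)
    rw [mul_inv_cancel, hM1, Matrix.det_one, Matrix.det_mul, h0, zero_mul] at h
    exact one_ne_zero h
  have hmem : ∀ g, (⟨M g, hdet g⟩ : SL5) ∈ Subgroup.centralizer ({s} : Set SL5) := by
    intro g
    refine (comm_iff s hs _).2 ?_
    have hcol : ∀ i : Fin 4, LinearMap.toMatrix b b (L g) i 0 = if i = 0 then 1 else 0 := by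
      intro i
      rw [LinearMap.toMatrix_apply, hb]
      have hzz : L g Z = Z := congrArg Additive.ofMul (Subtype.ext (by
        show (g : Equiv.Perm GolayPt) * z * (g : Equiv.Perm GolayPt)⁻¹ = z
        rw [(hC g).2]; group))
      rw [hzz, ← hb, b.repr_self, Finsupp.single_apply]
      exact if_congr ⟨Eq.symm, Eq.symm⟩ rfl rfl
    show (∀ i, i ≠ 0 → M g i 0 = 0) ∧ (∀ j, j ≠ 1 → M g 1 j = 0) ∧ M g 0 0 = M g 1 1
    refine ⟨fun i hi => ?_, fun j hj => ?_, ?_⟩
    · fin_cases i <;> simp [M, affFive, affIdx, affOpt, hcol] at hi ⊢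
    · fin_cases j <;> simp [M, affFive, affIdx, affOpt] at hj ⊢
    · simp [M, affFive, affIdx, affOpt, hcol]
  let F : ↥(cenOct z) →* ↥(Subgroup.centralizer ({s} : Set SL5)) :=
    MonoidHom.mk' (fun g => ⟨⟨M g, hdet g⟩, hmem g⟩) fun g h =>
      Subtype.ext (Subtype.ext (hMmul g h))
  have hinj : Function.Injective F := by
    rw [injective_iff_map_eq_one]
    intro g hg
    have h : M g = 1 := congrArg (fun x : ↥(Subgroup.centralizer ({s} : Set SL5)) => x.1.1) hg
    rw [← affFive_one] at h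
    obtain ⟨hA, ht⟩ := affFive_inj h
    have hA' : L g = LinearMap.id := by
      apply (LinearMap.toMatrix b b).injective
      rw [hA, LinearMap.toMatrix_id]
    have ht' : Additive.ofMul (tr g) = 0 :=
      b.repr.injective (by rw [map_zero]; exact Finsupp.ext fun i => congrFun ht i)
    have hgE : (g : Equiv.Perm GolayPt) ∈ E := by
      refine mem_fixM24_of_commute ho (Subgroup.mem_inf.1 g.2).1 fun e he => ?_
      have h2 := hL g (Additive.ofMul ⟨e, he⟩)
      rw [hA'] at h2
      have h3 : e = (g : Equiv.Perm GolayPt) * e * (g : Equiv.Perm GolayPt)⁻¹ := h2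
      calc e * (g : Equiv.Perm GolayPt) = (g : Equiv.Perm GolayPt) * e * (g : Equiv.Perm GolayPt)⁻¹ * g := by rw [← h3]
        _ = (g : Equiv.Perm GolayPt) * e := by group
    refine Subtype.ext (eq_one_of_fixM24_fix ho hgE hp0 ?_)
    rw [← htr, show tr g = 1 from Additive.ofMul.injective ht']
    rfl
  have himg : ∀ g : ↥(cenOct z), (g : Equiv.Perm GolayPt) = z → (F g : SL5) = s := by
    intro g hg
    refine Subtype.ext ((?_ : M g = tvMat).trans hs.symm)
    have h1 : L g = LinearMap.id := by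
      refine LinearMap.ext fun x => Additive.toMul.injective (Subtype.ext ?_)
      rw [hL, hg, LinearMap.id_apply, ← fixM24_comm ho x.toMul.2 hz]
      group
    have h2 : Additive.ofMul (tr g) = Z := congrArg Additive.ofMul (huniq _ ⟨z, hz⟩ (by rw [htr, hg]))
    show affFive _ _ = _
    rw [h1, LinearMap.toMatrix_id, h2, ← hb, b.repr_self, Finsupp.single_eq_pi_single]
    decide +kernel
  refine ⟨MulEquiv.ofBijective F ((Nat.bijective_iff_injective_and_card _).2
    ⟨hinj, le_antisymm (Nat.card_le_card_of_injective F hinj) ?_⟩), himg⟩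
  rw [natCard_centralizer s hs]
  exact natCard_cenOct_ge ho hz hz1

end CfsgLib.Spor
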