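import Cfsg.Agent.Lib.Spor.GenCert
import Cfsg.Agent.Lib.Spor.OrbitKit
import Cfsg.Agent.Lib.Spor.StabCertData
import Cfsg.Agent.Lib.Spor.Orb.TransSex
import Cfsg.Agent.Lib.Spor.Orb.TransTrio

/-!
The stabilisers of a sextet and of a trio: the induced groups and the normal subgroup of order 64.
-/

set_option autoImplicit false
set_option maxRecDepth 100000

namespace CfsgLib.Spor

open Cfsg
open scoped Pointwise

/-! ### Families fixed by packed permutations -/

/-- a packed permutation maps the first family into the second, member by member -/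
def mapsP (a : ℕ) (P Q : List ℕ) : Bool :=
  Nat.beq P.length Q.length && partsOK P && partsOK Q && P.all fun m => Q.contains (actP a m)

theorem Rep.smul_toFam {σ : Equiv.Perm GolayPt} {a : ℕ} (h : Rep σ a) {P Q : List ℕ}
    (hpq : mapsP a P Q = true) : σ • toFam P = toFam Q := by
  simp only [mapsP, Bool.and_eq_true, List.all_eq_true, List.contains_iff_mem, Nat.beq_eq] at hpq
  obtain ⟨⟨⟨hl, hP⟩, hQ⟩, hm⟩ := hpq
  refine Finset.eq_of_subset_of_card_le ?_ (le_of_eq ?_)
  · intro x hx
    obtain ⟨y, hy, rfl⟩ := Finset.mem_smul_finset.1 hx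
    obtain ⟨m, hmP, rfl⟩ := List.mem_map.1 (List.mem_toFinset.1 hy)
    exact List.mem_toFinset.2 (List.mem_map.2 ⟨_, hm m hmP, h.toSet_actP m⟩)
  · rw [Finset.card_smul_finset, toFam, List.toFinset_card_of_nodup (map_toSet_nodup hQ), toFam,
      List.toFinset_card_of_nodup (map_toSet_nodup hP), List.length_map, List.length_map, hl]

/-- the stabiliser of a base object as a generated subgroup -/
theorem map_stab_eq_genSub {x : Finset (Finset GolayPt)} {P : List ℕ} (hx : x = toFam P)
    {gens : List ℕ} {r : List (ℕ × ℕ × ℕ)} {L : List (ℕ × List ℕ)} {n : ℕ}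
    (h : genOrderOK gens r L n = true) (hn : Nat.card (MulAction.stabilizer M24 x) = n)
    (hgens : (gens.all fun a => isM24P a && mapsP a P P) = true) :
    (MulAction.stabilizer M24 x).map M24.subtype = permGenSub gens := by
  symm
  refine genSub_eq h ?_ fun a ha => ?_
  · rw [← hn, ← Nat.card_congr ((MulAction.stabilizer M24 x).equivMapOfInjective _
      M24.subtype_injective).toEquiv]
  · have h' := List.all_eq_true.1 hgens a ha
    simp only [Bool.and_eq_true] at h'
    obtain ⟨σ, hσ, hσa⟩ := exists_rep_M24 h'.1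
    exact ⟨σ, ⟨⟨σ, hσ⟩, MulAction.mem_stabilizer_iff.2 (hx ▸ hσa.smul_toFam h'.2), rfl⟩, hσa⟩

/-- a listed subgroup inside a stabiliser: normal, of the listed order, of exponent two -/
theorem exists_listed_normal {x : Finset (Finset GolayPt)} {gens l : List ℕ}
    (he : (MulAction.stabilizer M24 x).map M24.subtype = permGenSub gens)
    (hc : listClosed l = true) (hd : distinctP l = true) (hg : gens.all isPermP = true)
    (hn : normalisedBy gens l = true)
    (hl : ∀ a ∈ l, RepIn (permGenSub gens) a)
    (h2 : (l.all fun a => Nat.beq (compP a a) (packL (List.range 24))) = true) :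
    ∃ N : Subgroup ↥(MulAction.stabilizer M24 x), N.Normal ∧ Nat.card N = l.length ∧
      (∀ y ∈ N, y * y = 1) ∧
      ∀ y, y ∈ N ↔ ∃ a ∈ l, Rep ((y : M24) : Equiv.Perm GolayPt) a := by
  let f : ↥(MulAction.stabilizer M24 x) →* Equiv.Perm GolayPt :=
    M24.subtype.comp (MulAction.stabilizer M24 x).subtype
  have hf : Function.Injective f := fun a b h => Subtype.ext (Subtype.ext h)
  have hrange : ∀ y, f y ∈ permGenSub gens := fun y => he ▸ ⟨(y : M24), y.2, rfl⟩
  have hle : listSub hc ≤ f.range := by
    rintro σ ⟨a, ha, hσ⟩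
    have h1 : σ ∈ permGenSub gens := mem_of_repIn (hl a ha) hσ
    rw [← he] at h1
    obtain ⟨g, hgx, rfl⟩ := h1
    exact ⟨⟨g, hgx⟩, rfl⟩
  refine ⟨(listSub hc).comap f, ?_, ?_, ?_, fun y => Iff.rfl⟩
  · refine ⟨fun y hy g => ?_⟩
    show f (g * y * g⁻¹) ∈ listSub hc
    rw [map_mul, map_mul, map_inv]
    exact genSub_le_normalizer hc (List.all_eq_true.1 hg) hn _ (hrange g) _ hy
  · rw [← natCard_listSub hc hd, Nat.card_congr (((listSub hc).comap f).equivMapOfInjective f hf).toEquiv,
      Subgroup.map_comap_eq_self hle]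
  · rintro y ⟨a, ha, hy⟩
    refine hf ?_
    rw [map_mul, map_one]
    have h1 := hy.mul hy
    rw [Nat.eq_of_beq_eq_true (List.all_eq_true.1 h2 a ha)] at h1
    exact h1.inj rep_one

/-! ### The base sextet -/

/-- the first sextet -/
noncomputable def sex0 : Finset (Finset GolayPt) := sexK.ix.sem 0

/-- the masks of the first sextet -/
def sexP0 : List ℕ := sextetParts (getT 144 sexTbl 0)

theorem sex0_eq : sex0 = toFam sexP0 := rfl

theorem natCard_stab_sextet {S : Finset (Finset GolayPt)} (hS : S ∈ sextets) :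
    Nat.card (MulAction.stabilizer M24 S) = 138240 :=
  sexK.natCard_stab transSex_ok hS (by
    show 138240 * 1771 = 244823040
    norm_num)

theorem natCard_stab_trio {T : Finset (Finset GolayPt)} (hT : T ∈ trios) :
    Nat.card (MulAction.stabilizer M24 T) = 64512 :=
  trioK.natCard_stab transTrio_ok hT (by
    show 64512 * 3795 = 244823040
    norm_num)

theorem sexStab_ok : (sexStabGens.all fun a => isM24P a && mapsP a sexP0 sexP0) = true ∧
    sexStabGens.all isPermP = true ∧
    genOrderOK sexStabGens sexStabSLP sexStabChain 138240 = true := by decide +kernel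

theorem map_stab_sex0 : (MulAction.stabilizer M24 sex0).map M24.subtype = permGenSub sexStabGens :=
  map_stab_eq_genSub sex0_eq sexStab_ok.2.2
    (natCard_stab_sextet (sexK.ix.mem 0 (by decide +kernel))) sexStab_ok.1

theorem sexNormal_ok : listClosed sexStabSixtyFour = true ∧ distinctP sexStabSixtyFour = true ∧
    normalisedBy sexStabGens sexStabSixtyFour = true ∧ sexStabSixtyFour.length = 64 ∧
    (sexStabSixtyFour.all fun a => Nat.beq (compP a a) (packL (List.range 24))) = true ∧
    (sexStabSixtyFour.all fun a => isM24P a && mapsP a sexP0 sexP0) = true := by decide +kernel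

theorem exists_sextet_normal : ∃ N : Subgroup ↥(MulAction.stabilizer M24 sex0),
    N.Normal ∧ Nat.card N = 64 ∧ ∀ y ∈ N, y * y = 1 := by
  obtain ⟨hc, hd, hn, h64, h2, hm⟩ := sexNormal_ok
  obtain ⟨N, h1, h2', h3, -⟩ := exists_listed_normal map_stab_sex0 hc hd sexStab_ok.2.1 hn
    (fun a ha => by
      have h' := List.all_eq_true.1 hm a ha
      simp only [Bool.and_eq_true] at h'
      obtain ⟨σ, hσ, hσa⟩ := exists_rep_M24 h'.1
      refine ⟨σ, map_stab_sex0 ▸ ⟨⟨σ, hσ⟩, ?_, rfl⟩, hσa⟩
      exact MulAction.mem_stabilizer_iff.2 (sex0_eq ▸ hσa.smul_toFam h'.2)) h2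
  exact ⟨N, h1, h2'.trans h64, h3⟩

/-- the elements inducing the fifteen transpositions of the tetrads -/
def swapsOK : Bool :=
  (sexStabSwaps.all fun a => isM24P a && mapsP a sexP0 sexP0) &&
    (List.range 6).all fun i => (List.range 6).all fun j => Nat.beq i j || sexStabSwaps.any fun a =>
      (List.range 6).all fun k => Nat.beq (actP a (sexP0.getD k 0))
        (sexP0.getD (if k = i then j else if k = j then i else k) 0)

theorem swaps_ok : swapsOK = true ∧ sexP0.length = 6 := by decide +kernel

/-- the permutation of the tetrads induced by an element of the stabiliser -/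
noncomputable def memberPerm (S : Finset (Finset GolayPt)) :
    ↥(MulAction.stabilizer M24 S) →* Equiv.Perm ↥S :=
  haveI : MulAction ↥(MulAction.stabilizer M24 S) ↥S :=
    { smul := fun g t => ⟨((g : M24) : Equiv.Perm GolayPt) • (t : Finset GolayPt), by
        have h : ((g : M24) : Equiv.Perm GolayPt) • S = S := g.2
        have h2 := Finset.smul_mem_smul_finset (a := ((g : M24) : Equiv.Perm GolayPt)) t.2
        rwa [h] at h2⟩
      one_smul := fun t => Subtype.ext (one_smul _ _)
      mul_smul := fun g h t => Subtype.ext (mul_smul _ _ _) }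
  MulAction.toPermHom _ _

theorem memberPerm_apply {S : Finset (Finset GolayPt)} (g : ↥(MulAction.stabilizer M24 S))
    (t : ↥S) : ((memberPerm S g t : ↥S) : Finset GolayPt) =
      ((g : M24) : Equiv.Perm GolayPt) • (t : Finset GolayPt) := rfl

theorem memberPerm_sex0_surjective : Function.Surjective (memberPerm sex0) := by
  rw [← MonoidHom.range_eq_top, eq_top_iff, ← Equiv.Perm.closure_isSwap, Subgroup.closure_le]
  rintro e ⟨x, y, hxy, rfl⟩
  obtain ⟨hok, hlen⟩ := swaps_ok
  simp only [swapsOK, Bool.and_eq_true, List.all_eq_true, List.any_eq_true, Bool.or_eq_true,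
    List.mem_range, Nat.beq_eq] at hok
  obtain ⟨hM, hsw⟩ := hok
  have hidx : ∀ t : ↥sex0, ∃ i < 6, (t : Finset GolayPt) = toSet (sexP0.getD i 0) := by
    intro t
    have ht := t.2
    have ht' : (t : Finset GolayPt) ∈ toFam sexP0 := sex0_eq ▸ ht
    rw [toFam, List.mem_toFinset, List.mem_map] at ht'
    obtain ⟨m, hm, e⟩ := ht'
    obtain ⟨i, hi, rfl⟩ := List.mem_iff_getElem.1 hm
    exact ⟨i, by omega, by rw [← e, List.getD_eq_getElem _ _ hi]⟩
  obtain ⟨i, hi, hxi⟩ := hidx x
  obtain ⟨j, hj, hyj⟩ := hidx y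
  have hij : i ≠ j := by
    rintro rfl
    exact hxy (Subtype.ext (hxi.trans hyj.symm))
  obtain ⟨a, ha, hk⟩ := (hsw i hi j hj).resolve_left hij
  obtain ⟨σ, hσ, hσa⟩ := exists_rep_M24 (hM a ha).1
  refine ⟨⟨⟨σ, hσ⟩, MulAction.mem_stabilizer_iff.2 (sex0_eq ▸ hσa.smul_toFam (hM a ha).2)⟩,
    Equiv.ext fun t => Subtype.ext ?_⟩
  obtain ⟨k, hk6, htk⟩ := hidx t
  rw [memberPerm_apply]
  show σ • (t : Finset GolayPt) = _
  rw [htk, ← hσa.toSet_actP, hk k hk6]
  by_cases h1 : k = i
  · subst h1
    rw [if_pos rfl, show t = x from Subtype.ext (htk.trans hxi.symm), Equiv.swap_apply_left, ← hyj]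
  by_cases h2 : k = j
  · subst h2
    rw [if_neg h1, if_pos rfl, show t = y from Subtype.ext (htk.trans hyj.symm),
      Equiv.swap_apply_right, ← hxi]
  rw [if_neg h1, if_neg h2, Equiv.swap_apply_of_ne_of_ne, ← htk]
  · rintro rfl
    exact h1 (getD_inj_of_toSet hk6 hi (htk.symm.trans hxi))
  · rintro rfl
    exact h2 (getD_inj_of_toSet hk6 hj (htk.symm.trans hyj))
where
  getD_inj_of_toSet {k i : ℕ} (hk : k < 6) (hi : i < 6)
      (h : toSet (sexP0.getD k 0) = toSet (sexP0.getD i 0)) : k = i := by
    have hn := map_toSet_nodup (P := sexP0) (by decide +kernel)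
    have hl := swaps_ok.2
    rw [List.getD_eq_getElem _ _ (by omega), List.getD_eq_getElem _ _ (by omega)] at h
    exact (hn.getElem_inj_iff (i := k) (j := i) (hi := by simp [hl, hk]) (hj := by simp [hl, hi])).1
      (by simpa using h)

theorem natCard_memberPerm_ker {S : Finset (Finset GolayPt)} (hS : S ∈ sextets)
    (hs : Function.Surjective (memberPerm S)) :
    Nat.card (memberPerm S).ker = 192 := by
  have h := Subgroup.card_mul_index (memberPerm S).ker
  rw [Subgroup.index_ker, MonoidHom.range_eq_top.2 hs, Subgroup.card_top, Nat.card_perm,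
    Nat.card_eq_finsetCard, hS.1, natCard_stab_sextet hS] at h
  change _ * 720 = 138240 at h
  omega

/-- conjugation carries the three properties to every sextet -/
theorem sextet_stabilizer {S : Finset (Finset GolayPt)} (hS : S ∈ sextets) :
    Function.Surjective (memberPerm S) ∧ Nat.card (memberPerm S).ker = 192 ∧
      ∃ N : Subgroup ↥(MulAction.stabilizer M24 S), N.Normal ∧ Nat.card N = 64 ∧
        ∀ y ∈ N, y * y = 1 := by
  obtain ⟨g, hg⟩ := sexK.exists_trans transSex_ok (sexK.ix.mem 0 (by decide +kernel)) hS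
  change g • sex0 = S at hg
  subst hg
  have hsurj : Function.Surjective (memberPerm (g • sex0)) := by
    intro e
    let c : ↥sex0 ≃ ↥(g • sex0) :=
      { toFun := fun t => ⟨(g : Equiv.Perm GolayPt) • (t : Finset GolayPt),
          Finset.smul_mem_smul_finset t.2⟩
        invFun := fun t => ⟨(g : Equiv.Perm GolayPt)⁻¹ • (t : Finset GolayPt),
          Finset.inv_smul_mem_iff.2 t.2⟩
        left_inv := fun t => Subtype.ext (inv_smul_smul _ _)
        right_inv := fun t => Subtype.ext (smul_inv_smul _ _) }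
    obtain ⟨h, hh⟩ := memberPerm_sex0_surjective ((c.trans e).trans c.symm)
    have hm : g * (h : M24) * g⁻¹ ∈ MulAction.stabilizer M24 (g • sex0) := by
      rw [MulAction.mem_stabilizer_iff, mul_smul, mul_smul, inv_smul_smul]
      exact congrArg (g • ·) h.2
    refine ⟨⟨_, hm⟩, Equiv.ext fun t => Subtype.ext ?_⟩
    have h1 := congrArg (fun t' : ↥sex0 => (g : Equiv.Perm GolayPt) • (t' : Finset GolayPt))
      (DFunLike.congr_fun hh (c.symm t))
    rw [memberPerm_apply]
    simp only [memberPerm_apply, Equiv.trans_apply, Equiv.apply_symm_apply] at h1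
    refine Eq.trans ?_ (h1.trans ?_)
    · show ((g : Equiv.Perm GolayPt) * ((h : M24) : Equiv.Perm GolayPt) *
        (g : Equiv.Perm GolayPt)⁻¹) • (t : Finset GolayPt) = _
      rw [mul_smul, mul_smul]; rfl
    · exact congrArg Subtype.val (c.apply_symm_apply (e t))
  refine ⟨hsurj, natCard_memberPerm_ker hS hsurj, ?_⟩
  obtain ⟨N, hN, h64, h2⟩ := exists_sextet_normal
  let e := MulAction.stabilizerEquivStabilizer (g := g) (a := sex0) (b := g • sex0) rfl
  refine ⟨N.map e.toMonoidHom, hN.map _ e.surjective, ?_, ?_⟩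
  · rw [← h64, Nat.card_congr (N.equivMapOfInjective e.toMonoidHom e.injective).toEquiv]
  · rintro _ ⟨y, hy, rfl⟩
    rw [← map_mul, h2 y hy, map_one]

end CfsgLib.Spor
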