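import Cfsg.Agent.Lib.Spor.SubgroupTools
import Cfsg.Agent.Lib.Spor.SubgroupData
import Cfsg.Agent.Lib.Spor.Syl2
import Cfsg.Agent.Lib.Spor.StabCert

/-!
A subgroup fixing a point and containing a Sylow 2-subgroup of the stabiliser of that point fixes
an octad, a tetrad, a pair of points, or has order divisible by 11 or 23.
-/

set_option autoImplicit false
set_option maxRecDepth 100000

namespace CfsgLib.Spor.Subgp

open Cfsg CfsgLib.MathieuOut
open scoped Pointwise

/-- orbit of the 2-group of order 128 of size 16 -/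
def mA16 : ℕ := 16771936
/-- the invariant octad -/
def mOct : ℕ := 5279
/-- orbit of size 2 -/
def mTwo : ℕ := 20
/-- orbit of size 4 -/
def mFour : ℕ := 5250
/-- the invariant tetrad -/
def mTet : ℕ := 29
/-- the tetrads of its sextet -/
def mSex : List ℕ := [29, 5250, 346112, 663616, 5275680, 10486528]

theorem spCls_ok : clsOK spGens [8, mTwo, mFour, mA16] 16777214 = true := by decide +kernel

theorem sylCls_ok : clsOK syl2Gens [mOct, mA16] 16777215 = true := by decide +kernel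

theorem sp_lev_ok : levCertOK spGens spRows spLev = true ∧
    (spLev.map fun l => l.2.length).prod = 128 := by decide +kernel

theorem mpt_lev_ok : levCertOK sevenGens mptRows mptLev = true ∧
    (mptLev.map fun l => l.2.length).prod = 20160 := by decide +kernel

theorem big_lev_ok : levCertOK (sevenGens ++ syl2Gens) bigRows bigLev = true ∧
    (bigLev.map fun l => l.2.length).prod = 1275120 := by decide +kernel

theorem spGens_ok : (spGens.all fun a => inStabP [] [0] a) = true ∧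
    spGens = spIdx.map (getT 120 syl2Tbl) ∧ (spIdx.all fun i => Nat.blt i 1024) = true := by
  decide +kernel

theorem sevenGens_ok : (sevenGens.all fun a => inStabP [] [0, 2, 4] a &&
    eqP (MathieuOut.powP a 7) MathieuOut.idP) = true := by decide +kernel

theorem syl2Gens_ok : (syl2Gens.all fun a => isM24P a && Nat.beq (actP a mOct) mOct &&
    mSex.any (Nat.beq (actP a mTet))) = true := by decide +kernel

theorem mSex_ok : (mSex.all fun u => Nat.beq u mTet ||
    (inCode (mTet ||| u) && Nat.beq (pop (mTet ||| u)) 8 && Nat.beq (mTet &&& u) 0)) = true := by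
  decide +kernel

/-- the Sylow 2-subgroup -/
def sylS : Subgroup (Equiv.Perm GolayPt) := genGroup syl2Gens

theorem natCard_sylS : Nat.card sylS = 1024 := natCard_genGroup syl2_listed

theorem sylS_le : sylS ≤ M24 := genGroup_le _

theorem repIn_sylS {a : ℕ} (ha : a ∈ syl2Gens) : RepIn sylS a := by
  obtain ⟨σ, hσ, hr⟩ := exists_rep_M24 (a := a)
    ((by
      have := List.all_eq_true.1 syl2Gens_ok a ha
      simp only [Bool.and_eq_true] at this
      exact this.1.1) : isM24P a = true)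
  exact ⟨σ, Subgroup.subset_closure ⟨hσ, a, ha, hr⟩, hr⟩

theorem repIn_spGens {a : ℕ} (ha : a ∈ spGens) : RepIn (sylS ⊓ ptStab (pt 0)) a := by
  have ha' := ha
  rw [spGens_ok.2.1] at ha'
  obtain ⟨i, hi, rfl⟩ := List.mem_map.1 ha'
  have hi' : i < 1024 := by simpa [Nat.blt_eq] using List.all_eq_true.1 spGens_ok.2.2 i hi
  obtain ⟨σ, hσ, hr⟩ := listed_mem syl2_listed hi'
  refine ⟨σ, ⟨hσ, ?_⟩, hr⟩
  obtain ⟨τ, hτ, hτr⟩ := repIn_of_inStabP (by simp) (List.all_eq_true.1 spGens_ok.1 _ ha)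
  rw [hr.inj hτr]
  exact hτ.2.2 0 (by simp)

/-- the 2-group of order 128 fixing the first point -/
def sylP : Subgroup (Equiv.Perm GolayPt) :=
  Subgroup.closure {σ | σ ∈ sylS ⊓ ptStab (pt 0) ∧ ∃ a ∈ spGens, Rep σ a}

theorem sylP_le : sylP ≤ sylS ⊓ ptStab (pt 0) := (Subgroup.closure_le _).2 fun _ h => h.1

theorem repIn_sylP {a : ℕ} (ha : a ∈ spGens) : RepIn sylP a := by
  obtain ⟨σ, hσ, hr⟩ := repIn_spGens ha
  exact ⟨σ, Subgroup.subset_closure ⟨hσ, a, ha, hr⟩, hr⟩

theorem natCard_point_zero : Nat.card ↥(M24 ⊓ ptStab (pt 0)) = 10200960 :=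
  (natCard_inf_stab (pt 0)).trans (natCard_stab_point _)

theorem natCard_sylP : Nat.card sylP = 128 := by
  have h1 : 128 ≤ Nat.card sylP := sp_lev_ok.2 ▸ le_natCard_of_levCert sp_lev_ok.1
    fun a ha => repIn_sylP ha
  have h2 : Nat.card sylP ∣ 2 ^ 10 := by
    rw [show (2 : ℕ) ^ 10 = 1024 by norm_num, ← natCard_sylS]
    exact Subgroup.card_dvd_of_le (sylP_le.trans inf_le_left)
  have h3 : Nat.card sylP ∣ 10200960 := natCard_point_zero ▸
    Subgroup.card_dvd_of_le (sylP_le.trans (inf_le_inf_right _ sylS_le))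
  obtain ⟨k, hk, hk'⟩ := (Nat.dvd_prime_pow Nat.prime_two).1 h2
  rw [hk'] at h1 h3 ⊢
  exact (by decide : ∀ k ≤ 10, 128 ≤ 2 ^ k → 2 ^ k ∣ 10200960 → 2 ^ k = 128) k hk h1 h3

theorem gens_smul_of_le {K : Subgroup (Equiv.Perm GolayPt)} {gens : List ℕ}
    (hK : ∀ a ∈ gens, RepIn K a) {T : Finset GolayPt} (hT : ∀ g ∈ K, g • T = T) :
    ∀ g ∈ gens, ∃ σ, Rep σ g ∧ σ • T = T := fun g hg => by
  obtain ⟨σ, hσ, hr⟩ := hK g hg
  exact ⟨σ, hr, hT σ hσ⟩

theorem toSet_or_list (p : GolayPt) (a b : ℕ) :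
    p ∈ toSet (a ||| b) ↔ p ∈ toSet a ∨ p ∈ toSet b := by rw [toSet_or, Finset.mem_union]

theorem mOct_mem : toSet mOct ∈ octads :=
  toSet_mem_octads (by decide +kernel) (by decide +kernel) (by decide +kernel)

theorem mTet_card : (toSet mTet).card = 4 := by rw [card_toSet]; decide +kernel

/-- candidates for the orbit containing the 16-orbit -/
def tCands : List ℕ :=
  [mA16, mA16 ||| 8, mA16 ||| mTwo, mA16 ||| (8 ||| mTwo), mA16 ||| mFour,
    mA16 ||| (8 ||| mFour), mA16 ||| (mTwo ||| mFour), mA16 ||| (8 ||| (mTwo ||| mFour))]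

/-- what follows from the size of the orbit containing the 16-orbit -/
def tCandOK (m : ℕ) : Bool :=
  (Nat.ble 5 (pop (16777215 ^^^ m)) && Nat.beq ((16777215 ^^^ m) &&& mOct) (16777215 ^^^ m))
    || Nat.beq (16777215 ^^^ m) mTet || Nat.beq (16777215 ^^^ m) 21
    || Nat.beq (pop m) 22 || Nat.beq (pop m) 23

theorem tCands_ok : tCands.all tCandOK = true := by decide +kernel

theorem eq_or_mem_cls {p : GolayPt} :
    p = pt 0 ∨ ∃ c ∈ [8, mTwo, mFour, mA16], p ∈ toSet c := by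
  by_cases h : p ∈ toSet 16777214
  · exact Or.inr (exists_cls spCls_ok h)
  · left
    have h0 : ∀ q : GolayPt, q ∈ toSet 16777214 ∨ q = pt 0 := by decide +kernel
    exact (h0 p).resolve_left h

theorem exists_tCand {T : Finset GolayPt}
    (hT : ∀ g ∈ spGens, ∃ σ, Rep σ g ∧ σ • T = T) (h5 : pt 5 ∈ T) (h0 : pt 0 ∉ T) :
    ∃ m ∈ tCands, T = toSet m := by
  classical
  have hall : ∀ c ∈ [8, mTwo, mFour, mA16], toSet c ⊆ T ∨ Disjoint (toSet c) T := by
    intro c hc
    by_cases h : ∃ p ∈ toSet c, p ∈ T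
    · obtain ⟨p, hp, hpT⟩ := h
      exact Or.inl (subset_of_cls spCls_ok hT hc hp hpT)
    · exact Or.inr (Finset.disjoint_left.2 fun p hp hpT => h ⟨p, hp, hpT⟩)
  have hA : toSet mA16 ⊆ T :=
    subset_of_cls spCls_ok hT (by simp) (p := pt 5) (by decide +kernel) h5
  have build : ∀ a b c : ℕ,
      ((a = 0 ∧ Disjoint (toSet 8) T) ∨ (a = 8 ∧ toSet 8 ⊆ T)) →
      ((b = 0 ∧ Disjoint (toSet mTwo) T) ∨ (b = mTwo ∧ toSet mTwo ⊆ T)) →
      ((c = 0 ∧ Disjoint (toSet mFour) T) ∨ (c = mFour ∧ toSet mFour ⊆ T)) →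
      T = toSet (mA16 ||| (a ||| (b ||| c))) := by
    intro a b c ha hb hc
    ext p
    simp only [toSet_or_list]
    constructor
    · intro hp
      rcases eq_or_mem_cls (p := p) with rfl | ⟨d, hd, hpd⟩
      · exact absurd hp h0
      · simp only [List.mem_cons, List.not_mem_nil, or_false] at hd
        rcases hd with rfl | rfl | rfl | rfl
        · rcases ha with ⟨-, h⟩ | ⟨rfl, -⟩
          · exact absurd hp (Finset.disjoint_left.1 h hpd)
          · exact Or.inr (Or.inl hpd)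
        · rcases hb with ⟨-, h⟩ | ⟨rfl, -⟩
          · exact absurd hp (Finset.disjoint_left.1 h hpd)
          · exact Or.inr (Or.inr (Or.inl hpd))
        · rcases hc with ⟨-, h⟩ | ⟨rfl, -⟩
          · exact absurd hp (Finset.disjoint_left.1 h hpd)
          · exact Or.inr (Or.inr (Or.inr hpd))
        · exact Or.inl hpd
    · rintro (h | h | h | h)
      · exact hA h
      · rcases ha with ⟨rfl, -⟩ | ⟨rfl, h'⟩
        · simp at h
        · exact h' h
      · rcases hb with ⟨rfl, -⟩ | ⟨rfl, h'⟩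
        · simp at h
        · exact h' h
      · rcases hc with ⟨rfl, -⟩ | ⟨rfl, h'⟩
        · simp at h
        · exact h' h
  rcases hall 8 (by simp) with ha | ha <;> rcases hall mTwo (by simp) with hb | hb <;>
    rcases hall mFour (by simp) with hc | hc <;>
    first
    | exact ⟨_, by decide +kernel, build 0 0 0 (Or.inl ⟨rfl, ha⟩) (Or.inl ⟨rfl, hb⟩) (Or.inl ⟨rfl, hc⟩)⟩
    | exact ⟨_, by decide +kernel, build 0 0 _ (Or.inl ⟨rfl, ha⟩) (Or.inl ⟨rfl, hb⟩) (Or.inr ⟨rfl, hc⟩)⟩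
    | exact ⟨_, by decide +kernel, build 0 _ 0 (Or.inl ⟨rfl, ha⟩) (Or.inr ⟨rfl, hb⟩) (Or.inl ⟨rfl, hc⟩)⟩
    | exact ⟨_, by decide +kernel, build 0 _ _ (Or.inl ⟨rfl, ha⟩) (Or.inr ⟨rfl, hb⟩) (Or.inr ⟨rfl, hc⟩)⟩
    | exact ⟨_, by decide +kernel, build _ 0 0 (Or.inr ⟨rfl, ha⟩) (Or.inl ⟨rfl, hb⟩) (Or.inl ⟨rfl, hc⟩)⟩
    | exact ⟨_, by decide +kernel, build _ 0 _ (Or.inr ⟨rfl, ha⟩) (Or.inl ⟨rfl, hb⟩) (Or.inr ⟨rfl, hc⟩)⟩
    | exact ⟨_, by decide +kernel, build _ _ 0 (Or.inr ⟨rfl, ha⟩) (Or.inr ⟨rfl, hb⟩) (Or.inl ⟨rfl, hc⟩)⟩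
    | exact ⟨_, by decide +kernel, build _ _ _ (Or.inr ⟨rfl, ha⟩) (Or.inr ⟨rfl, hb⟩) (Or.inr ⟨rfl, hc⟩)⟩

/-- the five cases for a point stabiliser containing the 2-group of order 128 -/
theorem core {K : Subgroup (Equiv.Perm GolayPt)} (hK : K ≤ M24 ⊓ ptStab (pt 0))
    (hP : sylP ≤ K) :
    (∀ g ∈ K, g • toSet mOct = toSet mOct) ∨
    ((∀ g ∈ K, g • toSet mTet = toSet mTet) ∧ ∃ g ∈ K, g (pt 1) = pt 5) ∨
    ((∀ g ∈ K, g • toSet mTwo = toSet mTwo) ∧ 21 ∣ Nat.card K) ∨
    11 ∣ Nat.card K ∨ 23 ∣ Nat.card K := by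
  classical
  set T := orbF K (pt 5) with hT
  have hinv : ∀ g ∈ K, g • T = T := fun g hg => smul_orbF hg
  have hfix : ∀ g ∈ K, g (pt 0) = pt 0 := fun g hg => (hK hg).2
  have h0 : pt 0 ∉ T := by
    intro h
    obtain ⟨g, hg, e⟩ := mem_orbF.1 h
    have h' : pt 5 = pt 0 := g.injective (e.trans (hfix g hg).symm)
    exact absurd h' (by decide +kernel)
  obtain ⟨m, hm, hTm⟩ := exists_tCand
    (gens_smul_of_le (fun a ha => (repIn_sylP ha).imp fun σ h => ⟨hP h.1, h.2⟩) hinv)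
    (self_mem_orbF K _) h0
  have hcompl : ∀ g ∈ K, g • toSet (16777215 ^^^ m) = toSet (16777215 ^^^ m) := by
    intro g hg
    rw [toSet_compl, ← hTm]
    ext x
    rw [← Finset.inv_smul_mem_iff, Finset.mem_compl, Finset.mem_compl, Finset.inv_smul_mem_iff,
      hinv g hg]
  have hdvd : T.card ∣ Nat.card K := ⟨_, natCard_eq_orbF_mul K (pt 5)⟩
  have hcard : T.card = pop m := by rw [hTm, card_toSet]
  have hok := List.all_eq_true.1 tCands_ok m hm
  simp only [tCandOK, Bool.or_eq_true, Bool.and_eq_true, Nat.ble_eq, Nat.beq_eq] at hok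
  rcases hok with ((((⟨h5, hsub⟩ | htet) | hthree) | h22) | h23)
  · refine Or.inl fun g hg => octad_eq_of_five (smul_octad_mem (hK hg).1 mOct_mem) mOct_mem ?_
    have hsub' : toSet (16777215 ^^^ m) ⊆ toSet mOct := by
      rw [← hsub, toSet_and]; exact Finset.inter_subset_right
    have hsub'' : toSet (16777215 ^^^ m) ⊆ g • toSet mOct := by
      rw [← hcompl g hg]; exact Finset.smul_finset_subset_smul_finset hsub'
    refine le_trans ?_ (Finset.card_le_card (Finset.subset_inter hsub'' hsub'))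
    rwa [card_toSet]
  · refine Or.inr (Or.inl ⟨fun g hg => htet ▸ hcompl g hg, ?_⟩)
    have h1 : pt 1 ∈ T := by
      have h' : pt 1 ∉ toSet mTet := by decide +kernel
      rw [← htet, toSet_compl, ← hTm, Finset.mem_compl, not_not] at h'
      exact h'
    obtain ⟨g, hg, e⟩ := mem_orbF.1 h1
    exact ⟨g⁻¹, inv_mem hg, by rw [← e]; simp⟩
  · refine Or.inr (Or.inr (Or.inl ⟨fun g hg => ?_, ?_⟩))
    · have h21 : toSet mTwo = toSet 21 \ {pt 0} := by decide +kernel
      have hs : g • ({pt 0} : Finset GolayPt) = {pt 0} := by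
        rw [Finset.smul_finset_singleton, Equiv.Perm.smul_def, hfix g hg]
      rw [h21, Finset.smul_finset_sdiff, hs, ← hthree, hcompl g hg]
    · have h3 : (toSet (16777215 ^^^ m)).card = 3 := by rw [hthree, card_toSet]; decide +kernel
      rw [toSet_compl, ← hTm, Finset.card_compl, card_golayPt] at h3
      have : T.card = 21 := by have := T.card_le_univ; rw [card_golayPt] at this; omega
      exact this ▸ hdvd
  · exact Or.inr (Or.inr (Or.inr (Or.inl ((by norm_num : 11 ∣ 22).trans (h22 ▸ hcard ▸ hdvd)))))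
  · exact Or.inr (Or.inr (Or.inr (Or.inr (h23 ▸ hcard ▸ hdvd))))

end CfsgLib.Spor.Subgp
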