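import Cfsg.Prelude.Def_SporadicCombinatorics
import Cfsg.Agent.Lib.Spor.GolayFacts

/-!
The Leech lattice: normal form `m + 2 c + 4 y`, minimum, evenness, index, congruences modulo two.
-/

set_option autoImplicit false

namespace CfsgLib.Spor

open Cfsg
open scoped Pointwise

/-- `0` or `1` as an integer -/
def bitZ (a : ZMod 2) : ℤ := (a.val : ℤ)

@[simp] theorem bitZ_zero : bitZ 0 = 0 := rfl

@[simp] theorem bitZ_one : bitZ 1 = 1 := rfl

theorem bitZ_add : ∀ a b : ZMod 2, bitZ (a + b) + 2 * bitZ (a * b) = bitZ a + bitZ b := by decide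

theorem bitZ_cast : ∀ a : ZMod 2, ((bitZ a : ℤ) : ZMod 2) = a := by decide

theorem bitZ_cases : ∀ a : ZMod 2, (a = 0 ∧ bitZ a = 0) ∨ (a = 1 ∧ bitZ a = 1) := by decide

theorem sum_bitZ (c : GolayPt → ZMod 2) : ∑ i, bitZ (c i) = (hammingNorm c : ℤ) := by
  rw [hammingNorm, Finset.natCast_card_filter]
  refine Finset.sum_congr rfl fun i _ => ?_
  rcases bitZ_cases (c i) with ⟨h, h'⟩ | ⟨h, h'⟩ <;> rw [h'] <;> simp [h]

theorem four_dvd_sum_bitZ {c : GolayPt → ZMod 2} (hc : c ∈ golayCode) :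
    (4 : ℤ) ∣ ∑ i, bitZ (c i) := by
  rw [sum_bitZ]
  rcases weight_cases hc with h | h | h | h | h <;> rw [h] <;> decide

theorem two_dvd_sum_bitZ_mul {c d : GolayPt → ZMod 2} (hc : c ∈ golayCode) (hd : d ∈ golayCode) :
    (2 : ℤ) ∣ ∑ i, bitZ (c i * d i) := by
  have h : ((∑ i, bitZ (c i * d i) : ℤ) : ZMod 2) = 0 := by
    rw [Int.cast_sum]
    simp only [bitZ_cast]
    exact orth hc hd
  exact_mod_cast (ZMod.intCast_zmod_eq_zero_iff_dvd _ 2).1 h

/-- the normal form of a lattice vector -/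
def lvec (m : ℤ) (c : GolayPt → ZMod 2) (y : GolayPt → ℤ) : GolayPt → ℤ :=
  fun i => m + 2 * bitZ (c i) + 4 * y i

/-- the Leech lattice as a subgroup, by normal forms -/
def leechNF : AddSubgroup (GolayPt → ℤ) where
  carrier := {x | ∃ m c y, c ∈ golayCode ∧ x = lvec m c y ∧ (2 : ℤ) ∣ ∑ i, y i - m}
  zero_mem' := ⟨0, 0, 0, Submodule.zero_mem _, funext fun i => by simp [lvec], by simp⟩
  add_mem' := by
    rintro _ _ ⟨m, c, y, hc, rfl, h⟩ ⟨n, d, z, hd, rfl, h'⟩
    refine ⟨m + n, c + d, fun i => y i + z i + bitZ (c i * d i), Submodule.add_mem _ hc hd,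
      funext fun i => ?_, ?_⟩
    · have := bitZ_add (c i) (d i)
      simp only [lvec, Pi.add_apply]
      linarith
    · have h2 := two_dvd_sum_bitZ_mul hc hd
      rw [Finset.sum_add_distrib, Finset.sum_add_distrib]
      omega
  neg_mem' := by
    rintro _ ⟨m, c, y, hc, rfl, h⟩
    refine ⟨-m, c, fun i => -y i - bitZ (c i), hc, funext fun i => ?_, ?_⟩
    · simp only [lvec, Pi.neg_apply]; ring
    · have h4 := four_dvd_sum_bitZ hc
      rw [Finset.sum_sub_distrib, Finset.sum_neg_distrib]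
      omega

theorem mem_leechNF {x : GolayPt → ℤ} :
    x ∈ leechNF ↔ ∃ m c y, c ∈ golayCode ∧ x = lvec m c y ∧ (2 : ℤ) ∣ ∑ i, y i - m := Iff.rfl

theorem sum_lvec (m : ℤ) (c : GolayPt → ZMod 2) (y : GolayPt → ℤ) :
    ∑ i, lvec m c y i = 24 * m + 2 * ∑ i, bitZ (c i) + 4 * ∑ i, y i := by
  simp only [lvec, Finset.sum_add_distrib, Finset.sum_const, Finset.card_univ, card_golayPt,
    ← Finset.mul_sum]
  ring

theorem mem_supports_of_code {c : GolayPt → ZMod 2} (hc : c ∈ golayCode) :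
    support₂ c ∈ supports (golayCode : Set (GolayPt → ZMod 2)) := ⟨c, hc, rfl⟩

theorem one_mem_golayCode : (1 : GolayPt → ZMod 2) ∈ golayCode :=
  Submodule.subset_span (Set.mem_union_right _ rfl)

theorem mem_leechSet_iff {x : GolayPt → ℤ} : x ∈ leechSet ↔ x ∈ leechNF := by
  constructor
  · rintro ⟨m, hpar, hsum, hres⟩
    obtain ⟨c, hc, hcs⟩ := hres (m + 2)
    refine mem_leechNF.2 ⟨m, c, fun i => (x i - m - 2 * bitZ (c i)) / 4, hc, ?_⟩
    have key : ∀ i, x i = m + 2 * bitZ (c i) + 4 * ((x i - m - 2 * bitZ (c i)) / 4) := by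
      intro i
      have h2 := hpar i
      unfold Int.ModEq at h2
      rcases bitZ_cases (c i) with ⟨h, h'⟩ | ⟨h, h'⟩
      · have hn : ¬ x i ≡ m + 2 [ZMOD 4] := fun hh => by
          have : i ∈ support₂ c := by rw [hcs]; simp [hh]
          simp [support₂, h] at this
        unfold Int.ModEq at hn
        rw [h']; omega
      · have hy : i ∈ support₂ c := by simp [support₂, h]
        rw [hcs] at hy
        simp only [Finset.mem_filter, Finset.mem_univ, true_and] at hy
        unfold Int.ModEq at hy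
        rw [h']; omega
    refine ⟨funext key, ?_⟩
    unfold Int.ModEq at hsum
    rw [Finset.sum_congr rfl fun i _ => key i] at hsum
    have := sum_lvec m c fun i => (x i - m - 2 * bitZ (c i)) / 4
    simp only [lvec] at this
    rw [this] at hsum
    have h4 := four_dvd_sum_bitZ hc
    beta_reduce at hsum ⊢
    omega
  · rintro ⟨m, c, y, hc, rfl, hpar⟩
    refine ⟨m, fun i => ?_, ?_, fun k => ?_⟩
    · simp only [lvec, Int.ModEq]; omega
    · rw [sum_lvec]
      have h4 := four_dvd_sum_bitZ hc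
      simp only [Int.ModEq]; omega
    · have hb : ∀ i, lvec m c y i ≡ k [ZMOD 4] ↔ (m + 2 * bitZ (c i)) % 4 = k % 4 := fun i => by
        simp only [lvec, Int.ModEq]; omega
      by_cases h0 : m % 4 = k % 4
      · convert mem_supports_of_code (Submodule.add_mem _ hc one_mem_golayCode) using 1
        ext i
        simp only [Finset.mem_filter, Finset.mem_univ, true_and, support₂, hb, Pi.add_apply,
          Pi.one_apply]
        rcases bitZ_cases (c i) with ⟨h, h'⟩ | ⟨h, h'⟩ <;> rw [h'] <;>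
          simp [h, CharTwo.add_self_eq_zero] <;> omega
      · by_cases h2 : (m + 2) % 4 = k % 4
        · convert mem_supports_of_code hc using 1
          ext i
          simp only [Finset.mem_filter, Finset.mem_univ, true_and, support₂, hb]
          rcases bitZ_cases (c i) with ⟨h, h'⟩ | ⟨h, h'⟩ <;> rw [h'] <;> simp [h] <;> omega
        · convert mem_supports_of_code (Submodule.zero_mem golayCode) using 1
          ext i
          simp only [Finset.mem_filter, Finset.mem_univ, true_and, hb, support₂, Pi.zero_apply, ne_eq, not_true_eq_false,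
            iff_false]
          rcases bitZ_cases (c i) with ⟨h, h'⟩ | ⟨h, h'⟩ <;> rw [h'] <;> omega

theorem leechLattice_eq : leechLattice = leechNF := by
  have : leechSet = (leechNF : Set (GolayPt → ℤ)) := Set.ext fun x => mem_leechSet_iff
  rw [leechLattice, this, AddSubgroup.closure_eq]

theorem mem_leechLattice {x : GolayPt → ℤ} :
    x ∈ leechLattice ↔ ∃ m c y, c ∈ golayCode ∧ x = lvec m c y ∧ (2 : ℤ) ∣ ∑ i, y i - m := by
  rw [leechLattice_eq]; exact mem_leechNF

theorem leechSet_closed : ∃ L : AddSubgroup (GolayPt → ℤ), (L : Set (GolayPt → ℤ)) = leechSet :=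
  ⟨leechNF, Set.ext fun _ => mem_leechSet_iff.symm⟩

theorem sum_smul_fun {σ : Equiv.Perm GolayPt} (y : GolayPt → ℤ) : ∑ i, y (σ i) = ∑ i, y i :=
  Equiv.sum_comp σ y

theorem code_comp_mem {σ : Equiv.Perm GolayPt} (hσ : σ ∈ M24) {c : GolayPt → ZMod 2}
    (hc : c ∈ golayCode) : (fun i => c (σ i)) ∈ golayCode := by
  have h : σ⁻¹ • support₂ c ∈ supports (golayCode : Set (GolayPt → ZMod 2)) := by
    have hinv : σ⁻¹ • supports (golayCode : Set (GolayPt → ZMod 2)) =
        supports (golayCode : Set (GolayPt → ZMod 2)) := MulAction.mem_stabilizer_iff.1 (inv_mem hσ)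
    exact hinv ▸ Set.smul_mem_smul_set (mem_supports_of_code hc)
  obtain ⟨d, hd, he⟩ := h
  have : d = fun i => c (σ i) := support₂_injective (by
    rw [he]
    ext i
    simp [← Finset.inv_smul_mem_iff, support₂])
  exact this ▸ hd

theorem perm_mem_leech {σ : Equiv.Perm GolayPt} (hσ : σ ∈ M24) {x : GolayPt → ℤ}
    (hx : x ∈ leechLattice) : (fun i => x (σ i)) ∈ leechLattice := by
  obtain ⟨m, c, y, hc, rfl, h⟩ := mem_leechLattice.1 hx
  exact mem_leechLattice.2 ⟨m, fun i => c (σ i), fun i => y (σ i), code_comp_mem hσ hc, rfl,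
    by rwa [sum_smul_fun]⟩

theorem sign_mem_leech {c : Finset GolayPt}
    (hc : c ∈ supports (golayCode : Set (GolayPt → ZMod 2))) {x : GolayPt → ℤ}
    (hx : x ∈ leechLattice) : (fun i => if i ∈ c then -x i else x i) ∈ leechLattice := by
  obtain ⟨d, hd, rfl⟩ := hc
  obtain ⟨m, e, y, he, rfl, h⟩ := mem_leechLattice.1 hx
  rcases Int.even_or_odd m with ⟨t, ht⟩ | ⟨t, ht⟩
  · refine mem_leechLattice.2 ⟨m, e, fun i => y i + bitZ (d i) * (-t - bitZ (e i) - 2 * y i), he,
      funext fun i => ?_, ?_⟩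
    · subst ht
      rcases bitZ_cases (d i) with ⟨hdi, -⟩ | ⟨hdi, -⟩ <;>
        simp [lvec, support₂, hdi] <;> ring
    · rw [Finset.sum_add_distrib]
      have h4 := four_dvd_sum_bitZ hd
      have h2 := two_dvd_sum_bitZ_mul hd he
      have hmul : ∑ i, bitZ (d i) * (-t - bitZ (e i) - 2 * y i) =
          -t * (∑ i, bitZ (d i)) - (∑ i, bitZ (d i * e i)) - 2 * ∑ i, bitZ (d i) * y i := by
        rw [Finset.mul_sum, Finset.mul_sum, ← Finset.sum_sub_distrib, ← Finset.sum_sub_distrib]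
        refine Finset.sum_congr rfl fun i _ => ?_
        rcases bitZ_cases (d i) with ⟨hdi, -⟩ | ⟨hdi, -⟩ <;> simp [hdi] <;> ring
      have h5 : (2 : ℤ) ∣ t * ∑ i, bitZ (d i) :=
        Dvd.dvd.mul_left (dvd_trans (by norm_num) h4) t
      rw [hmul, neg_mul]
      omega
  · refine mem_leechLattice.2 ⟨m, e + d,
      fun i => y i + bitZ (d i) * (-t - 1 - 2 * y i), Submodule.add_mem _ he hd,
      funext fun i => ?_, ?_⟩
    · subst ht
      rcases bitZ_cases (d i) with ⟨hdi, -⟩ | ⟨hdi, -⟩ <;>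
        rcases bitZ_cases (e i) with ⟨hei, -⟩ | ⟨hei, -⟩ <;>
        simp [lvec, support₂, hdi, hei, CharTwo.add_self_eq_zero] <;> ring
    · rw [Finset.sum_add_distrib]
      have h4 := four_dvd_sum_bitZ hd
      have hmul : ∑ i, bitZ (d i) * (-t - 1 - 2 * y i) =
          (-t - 1) * (∑ i, bitZ (d i)) - 2 * ∑ i, bitZ (d i) * y i := by
        rw [Finset.mul_sum, Finset.mul_sum, ← Finset.sum_sub_distrib]
        exact Finset.sum_congr rfl fun i _ => by ring
      have h5 : (2 : ℤ) ∣ (-t - 1) * ∑ i, bitZ (d i) :=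
        Dvd.dvd.mul_left (dvd_trans (by norm_num) h4) _
      rw [hmul]
      omega

theorem sqNorm_lvec (m : ℤ) (c : GolayPt → ZMod 2) (y : GolayPt → ℤ) :
    sqNorm (lvec m c y) = 24 * m ^ 2 + (4 * m + 4) * ∑ i, bitZ (c i) + 8 * m * ∑ i, y i +
      16 * ∑ i, (bitZ (c i) * y i + y i ^ 2) := by
  have key : ∀ i, lvec m c y i ^ 2 = m ^ 2 + (4 * m + 4) * bitZ (c i) + 8 * m * y i +
      16 * (bitZ (c i) * y i + y i ^ 2) := fun i => by
    rcases bitZ_cases (c i) with ⟨h, h'⟩ | ⟨h, h'⟩ <;> simp only [lvec, h'] <;> ring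
  simp only [sqNorm, key, Finset.sum_add_distrib, Finset.sum_const, Finset.card_univ, card_golayPt,
    ← Finset.mul_sum]
  ring

theorem sixteen_dvd_sqNorm {x : GolayPt → ℤ} (hx : x ∈ leechLattice) : (16 : ℤ) ∣ sqNorm x := by
  obtain ⟨m, c, y, hc, rfl, ⟨k, hk⟩⟩ := mem_leechLattice.1 hx
  obtain ⟨j, hj⟩ := four_dvd_sum_bitZ hc
  rw [sqNorm_lvec, hj, show ∑ i, y i = m + 2 * k by linarith]
  exact ⟨2 * m ^ 2 + (m + 1) * j + m * k + ∑ i, (bitZ (c i) * y i + y i ^ 2), by ring⟩

theorem sqNorm_nonneg (x : GolayPt → ℤ) : 0 ≤ sqNorm x :=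
  Finset.sum_nonneg fun i _ => sq_nonneg _

theorem mul_card_le_sqNorm {x : GolayPt → ℤ} {s : Finset GolayPt} {k : ℤ}
    (h : ∀ i ∈ s, k ≤ x i ^ 2) : k * s.card ≤ sqNorm x := by
  calc k * s.card = ∑ _i ∈ s, k := by rw [Finset.sum_const, nsmul_eq_mul, mul_comm]
    _ ≤ ∑ i ∈ s, x i ^ 2 := Finset.sum_le_sum h
    _ ≤ sqNorm x := Finset.sum_le_univ_sum_of_nonneg fun i => sq_nonneg _

theorem le_sq_of_le_abs {k a : ℤ} (hk : 0 ≤ k) (h : k ≤ a ∨ a ≤ -k) : k ^ 2 ≤ a ^ 2 := by
  rcases h with h | h <;> nlinarith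

theorem min_norm {x : GolayPt → ℤ} (hx : x ∈ leechLattice) (h0 : x ≠ 0) : 32 ≤ sqNorm x := by
  have h16 := sixteen_dvd_sqNorm hx
  obtain ⟨m, c, y, hc, rfl, hpar⟩ := mem_leechLattice.1 hx
  rcases Int.even_or_odd m with ⟨t, ht⟩ | ⟨t, ht⟩
  · by_cases hall : ∀ i, (4 : ℤ) ∣ lvec m c y i
    · obtain ⟨j, hj⟩ : ∃ j, lvec m c y j ≠ 0 := by
        by_contra h; push Not at h; exact h0 (funext h)
      by_cases hone : ∀ i, i ≠ j → lvec m c y i = 0
      · -- a single coordinate, divisible by eight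
        have hs : ∑ i, lvec m c y i = lvec m c y j :=
          Finset.sum_eq_single j (fun i _ hi => hone i hi) (by simp)
        have h4 := four_dvd_sum_bitZ hc
        rw [sum_lvec] at hs
        have h8 : (8 : ℤ) ∣ lvec m c y j := by omega
        have := mul_card_le_sqNorm (x := lvec m c y) (s := {j}) (k := 8 ^ 2) fun i hi => by
          rw [Finset.mem_singleton] at hi; subst hi
          exact le_sq_of_le_abs (by norm_num) (by omega)
        simp at this; linarith
      · push Not at hone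
        obtain ⟨l, hl, hl0⟩ := hone
        have := mul_card_le_sqNorm (x := lvec m c y) (s := {j, l}) (k := 4 ^ 2) fun i hi => by
          have := hall i
          refine le_sq_of_le_abs (by norm_num) ?_
          rw [Finset.mem_insert, Finset.mem_singleton] at hi
          rcases hi with rfl | rfl <;> omega
        rw [Finset.card_pair (Ne.symm hl)] at this
        norm_num at this ⊢; linarith
    · push Not at hall
      obtain ⟨j, hj⟩ := hall
      obtain ⟨d, hd, hds, hd0⟩ : ∃ d ∈ golayCode,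
          (∀ i, d i ≠ 0 → ¬ (4 : ℤ) ∣ lvec m c y i) ∧ d j ≠ 0 := by
        rcases Int.even_or_odd t with ⟨u, hu⟩ | ⟨u, hu⟩
        · refine ⟨c, hc, fun i hi => ?_, fun hcj => hj ?_⟩
          · rcases bitZ_cases (c i) with ⟨h, h'⟩ | ⟨h, h'⟩
            · exact absurd h hi
            · simp only [lvec, h']; omega
          · simp only [lvec, hcj, bitZ_zero]; omega
        · refine ⟨c + 1, Submodule.add_mem _ hc one_mem_golayCode, fun i hi => ?_, fun hcj => hj ?_⟩
          · rcases bitZ_cases (c i) with ⟨h, h'⟩ | ⟨h, h'⟩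
            · simp only [lvec, h']; omega
            · simp [h, CharTwo.add_self_eq_zero] at hi
          · rcases bitZ_cases (c j) with ⟨h, h'⟩ | ⟨h, h'⟩
            · simp [h] at hcj
            · simp only [lvec, h']; omega
      have h8 : 8 ≤ (support₂ d).card := by
        rw [← hammingNorm_eq_card_support₂]
        exact Nat.not_lt.1 fun h => hd0 (by rw [eq_zero_of_weight_lt hd h]; rfl)
      have := mul_card_le_sqNorm (x := lvec m c y) (s := support₂ d) (k := 2 ^ 2) fun i hi => by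
        have hi' := hds i (by simpa [support₂] using hi)
        refine le_sq_of_le_abs (by norm_num) ?_
        have : (2 : ℤ) ∣ lvec m c y i := by simp only [lvec]; omega
        omega
      have h8' : (8 : ℤ) ≤ (support₂ d).card := by exact_mod_cast h8
      linarith
  · have := mul_card_le_sqNorm (x := lvec m c y) (s := Finset.univ) (k := 1 ^ 2) fun i _ =>
      le_sq_of_le_abs (by norm_num) (by simp only [lvec]; omega)
    rw [Finset.card_univ, card_golayPt] at this
    norm_num at this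
    omega

/-! ### Congruence modulo twice the lattice -/

theorem sqNorm_add_sub (x y : GolayPt → ℤ) :
    sqNorm (x + y) + sqNorm (x - y) = 2 * sqNorm x + 2 * sqNorm y ∧
      sqNorm (x + y) = sqNorm x + sqNorm y + 2 * dotInt x y := by
  simp only [sqNorm, dotInt, Finset.mul_sum, ← Finset.sum_add_distrib]
  constructor <;> exact Finset.sum_congr rfl fun i _ => by simp; ring

theorem sqNorm_two_smul (z : GolayPt → ℤ) : sqNorm (2 • z) = 4 * sqNorm z := by
  simp only [sqNorm, Finset.mul_sum]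
  exact Finset.sum_congr rfl fun i _ => by simp; ring

theorem congr_short {x y : GolayPt → ℤ} (hy : y ∈ leechLattice) (hxy : x ≠ y)
    (hxn : sqNorm x ≤ 64) (hyn : sqNorm y ≤ 64) (hc : ∃ z ∈ leechLattice, x - y = 2 • z) :
    x = -y ∨ (sqNorm x = 64 ∧ sqNorm y = 64 ∧ dotInt x y = 0) := by
  obtain ⟨z, hz, he⟩ := hc
  by_cases hneg : x = -y
  · exact Or.inl hneg
  right
  have h1 : 128 ≤ sqNorm (x - y) := by
    have hz0 : z ≠ 0 := fun h => hxy (sub_eq_zero.1 (by rw [he, h, smul_zero]))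
    have := min_norm hz hz0
    rw [he, sqNorm_two_smul]; linarith
  have h2 : 128 ≤ sqNorm (x + y) := by
    have e : x + y = 2 • (z + y) := by
      rw [smul_add, ← he, two_smul]; abel
    have hz0 : z + y ≠ 0 := fun h => hneg (eq_neg_of_add_eq_zero_left (by rw [e, h, smul_zero]))
    have := min_norm (AddSubgroup.add_mem _ hz hy) hz0
    rw [e, sqNorm_two_smul]; linarith
  obtain ⟨h3, h4⟩ := sqNorm_add_sub x y
  exact ⟨by linarith, by linarith, by linarith⟩

theorem short_classes {v w : GolayPt → ℤ} (hw : w ∈ leechLattice)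
    (hvn : sqNorm v ≤ 64) (hwn : sqNorm w ≤ 64) (hc : ∃ z ∈ leechLattice, v - w = 2 • z) :
    sqNorm v = sqNorm w ∧ (sqNorm v < 64 → w = v ∨ w = -v) := by
  by_cases h : v = w
  · subst h; exact ⟨rfl, fun _ => Or.inl rfl⟩
  rcases congr_short hw h hvn hwn hc with h' | ⟨h1, h2, -⟩
  · subst h'
    refine ⟨by simp [sqNorm], fun _ => Or.inr (neg_neg w).symm⟩
  · exact ⟨h1.trans h2.symm, fun h' => absurd h1 (ne_of_lt h')⟩

theorem rootless_congruence (B : Matrix (Fin 24) (Fin 24) ℤ) (hsymm : B.IsSymm)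
    (hpos : ∀ x : Fin 24 → ℤ, x ≠ 0 → 0 < x ⬝ᵥ (B.mulVec x))
    (heven : ∀ x : Fin 24 → ℤ, (2 : ℤ) ∣ x ⬝ᵥ (B.mulVec x))
    (h2 : ∀ x : Fin 24 → ℤ, x ⬝ᵥ (B.mulVec x) ≠ 2) {x y : Fin 24 → ℤ}
    (hx : x ⬝ᵥ (B.mulVec x) = 8) (hy : y ⬝ᵥ (B.mulVec y) = 8) (hc : ∀ i, (2 : ℤ) ∣ (x - y) i) :
    y = x ∨ y = -x ∨ x ⬝ᵥ (B.mulVec y) = 0 := by
  by_cases h1 : y = x
  · exact Or.inl h1
  by_cases h1' : y = -x
  · exact Or.inr (Or.inl h1')
  refine Or.inr (Or.inr ?_)
  choose u hu using hc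
  have hxy : x - y = (2 : ℤ) • u := funext fun i => by simpa using hu i
  have hxy' : x + y = (2 : ℤ) • (u + y) := by
    rw [smul_add, ← hxy]; module
  have hmin : ∀ v : Fin 24 → ℤ, v ≠ 0 → 4 ≤ v ⬝ᵥ (B.mulVec v) := fun v hv => by
    have := hpos v hv; have := heven v; have := h2 v; omega
  have hs : y ⬝ᵥ (B.mulVec x) = x ⬝ᵥ (B.mulVec y) := by
    rw [Matrix.dotProduct_mulVec, dotProduct_comm, ← Matrix.mulVec_transpose, hsymm.eq]
  have e1 : (4 : ℤ) * (u ⬝ᵥ B.mulVec u) = 16 - 2 * (x ⬝ᵥ B.mulVec y) := by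
    have h := congrArg (fun v => v ⬝ᵥ B.mulVec v) hxy
    simp only [Matrix.mulVec_sub, Matrix.mulVec_smul, sub_dotProduct, dotProduct_sub,
      smul_dotProduct, dotProduct_smul, smul_eq_mul, hs, hx, hy] at h
    linarith
  have e2 : (4 : ℤ) * ((u + y) ⬝ᵥ B.mulVec (u + y)) = 16 + 2 * (x ⬝ᵥ B.mulVec y) := by
    have h := congrArg (fun v => v ⬝ᵥ B.mulVec v) hxy'
    simp only [Matrix.mulVec_add, Matrix.mulVec_smul, add_dotProduct, dotProduct_add,
      smul_dotProduct, dotProduct_smul, smul_eq_mul, hs, hx, hy] at h ⊢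
    linarith
  have a1 := hmin u fun h => h1 (by
    rw [h, smul_zero, sub_eq_zero] at hxy; exact hxy.symm)
  have a2 := hmin (u + y) fun h => h1' (by
    rw [h, smul_zero] at hxy'; exact eq_neg_of_add_eq_zero_right hxy')
  linarith

end CfsgLib.Spor
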