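import Cfsg.Agent.Lib.Spor.LeechIndex
import Cfsg.Agent.Lib.Spor.LeechCount

/-!
The classes of the lattice modulo twice itself and the crosses.
-/

set_option autoImplicit false

namespace CfsgLib.Spor

open Cfsg

/-- twice the lattice, inside the lattice -/
def twiceSub : AddSubgroup leechLattice :=
  (leechLattice.map (nsmulAddMonoidHom 2)).addSubgroupOf leechLattice

/-- the lattice modulo twice itself -/
abbrev ModTwo : Type := leechLattice ⧸ twiceSub

theorem natCard_modTwo : Nat.card ModTwo = 2 ^ 24 := relIndex_two_smul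

theorem mem_twiceSub {v : leechLattice} :
    v ∈ twiceSub ↔ ∃ z ∈ leechLattice, (v : GolayPt → ℤ) = 2 • z := by
  rw [twiceSub, AddSubgroup.mem_addSubgroupOf, AddSubgroup.mem_map]
  exact ⟨fun ⟨z, hz, h⟩ => ⟨z, hz, h.symm⟩, fun ⟨z, hz, h⟩ => ⟨z, hz, h.symm⟩⟩

theorem mk_eq_iff {v w : leechLattice} :
    (QuotientAddGroup.mk v : ModTwo) = QuotientAddGroup.mk w ↔
      ∃ z ∈ leechLattice, (v : GolayPt → ℤ) - (w : GolayPt → ℤ) = 2 • z := by
  rw [QuotientAddGroup.eq, mem_twiceSub]
  constructor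
  · rintro ⟨z, hz, h⟩
    refine ⟨-z, AddSubgroup.neg_mem _ hz, ?_⟩
    rw [smul_neg, ← h, AddSubgroup.coe_add, AddSubgroup.coe_neg]
    abel
  · rintro ⟨z, hz, h⟩
    refine ⟨-z, AddSubgroup.neg_mem _ hz, ?_⟩
    rw [smul_neg, ← h, AddSubgroup.coe_add, AddSubgroup.coe_neg]
    abel

/-- the lattice vectors of given norm, as elements of the lattice -/
def normSet (n : ℤ) : Set leechLattice := {v | sqNorm (v : GolayPt → ℤ) = n}

theorem ncard_normSet {n : ℤ} {k : ℕ}
    (h : {x : GolayPt → ℤ | x ∈ leechLattice ∧ sqNorm x = n}.ncard = k) : (normSet n).ncard = k := by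
  rw [← Set.ncard_image_of_injective _ Subtype.val_injective, ← h]
  congr 1
  ext x
  exact ⟨fun ⟨v, hv, e⟩ => e ▸ ⟨v.2, hv⟩, fun ⟨hx, hn⟩ => ⟨⟨x, hx⟩, hn, rfl⟩⟩

theorem fibre_small {n : ℤ} (hn : n ≤ 64) (hlt : n < 64) (T : Finset leechLattice)
    (hT : ∀ v ∈ T, sqNorm (v : GolayPt → ℤ) = n)
    (hq : ∀ v ∈ T, ∀ w ∈ T, (QuotientAddGroup.mk v : ModTwo) = QuotientAddGroup.mk w) :
    T.card ≤ 2 := by
  classical
  rcases T.eq_empty_or_nonempty with rfl | ⟨v, hv⟩
  · simp
  refine le_trans (Finset.card_le_card (t := {v, -v}) fun w hw => ?_) Finset.card_le_two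
  have := short_classes w.2 (le_of_eq_of_le (hT v hv) hn) (le_of_eq_of_le (hT w hw) hn)
    (mk_eq_iff.1 (hq v hv w hw))
  rcases this.2 (lt_of_eq_of_lt (hT v hv) hlt) with h | h
  · rw [Finset.mem_insert]; exact Or.inl (Subtype.ext h)
  · rw [Finset.mem_insert, Finset.mem_singleton]; exact Or.inr (Subtype.ext h)

theorem fibre_cross (T : Finset leechLattice)
    (hT : ∀ v ∈ T, sqNorm (v : GolayPt → ℤ) = 64)
    (hq : ∀ v ∈ T, ∀ w ∈ T, (QuotientAddGroup.mk v : ModTwo) = QuotientAddGroup.mk w) :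
    T.card ≤ 48 := by
  classical
  let pr : leechLattice → Finset leechLattice := fun v => {v, -v}
  obtain ⟨T', hT', himg, hinj⟩ : ∃ T' ⊆ T, T'.image pr = T.image pr ∧ Set.InjOn pr T' := by
    have h : ∀ p ∈ T.image pr, ∃ v ∈ T, pr v = p := fun p hp => Finset.mem_image.1 hp
    choose g hgT hgp using h
    refine ⟨(T.image pr).attach.image fun p => g p.1 p.2, ?_, ?_, ?_⟩
    · intro v hv
      obtain ⟨p, -, rfl⟩ := Finset.mem_image.1 hv
      exact hgT _ _
    · ext q
      simp only [Finset.mem_image, Finset.mem_attach, true_and]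
      constructor
      · rintro ⟨_, ⟨p, rfl⟩, rfl⟩
        exact ⟨_, hgT _ _, rfl⟩
      · rintro ⟨v, hv, rfl⟩
        exact ⟨_, ⟨⟨pr v, Finset.mem_image_of_mem pr hv⟩, rfl⟩, hgp _ _⟩
    · intro a ha b hb hab
      simp only [Finset.coe_image, Set.mem_image] at ha hb
      obtain ⟨p, -, rfl⟩ := ha
      obtain ⟨q, -, rfl⟩ := hb
      rw [hgp, hgp] at hab
      obtain rfl : p = q := Subtype.ext hab
      rfl
  have h2 : T.card ≤ 2 * (T.image pr).card := Finset.card_le_mul_card_image T 2 fun p hp => by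
    obtain ⟨v, -, rfl⟩ := Finset.mem_image.1 hp
    refine le_trans (Finset.card_le_card (t := {v, -v}) fun w hw => ?_) Finset.card_le_two
    have : w ∈ pr v := by rw [← (Finset.mem_filter.1 hw).2]; simp [pr]
    exact this
  rw [← himg, Finset.card_image_of_injOn hinj] at h2
  have horth : ∀ v ∈ T', ∀ w ∈ T', v ≠ w → dotInt (v : GolayPt → ℤ) (w : GolayPt → ℤ) = 0 := by
    intro v hv w hw hne
    rcases congr_short (y := (w : GolayPt → ℤ)) w.2 (fun h => hne (Subtype.ext h))
      (le_of_eq (hT v (hT' hv))) (le_of_eq (hT w (hT' hw)))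
      (mk_eq_iff.1 (hq v (hT' hv) w (hT' hw))) with h | h
    · exfalso
      refine hne (hinj hv hw ?_)
      have hvw : v = -w := Subtype.ext h
      show ({v, -v} : Finset leechLattice) = {w, -w}
      rw [hvw, neg_neg, Finset.pair_comm]
    · exact h.2.2
  have hli : LinearIndependent ℚ fun v : T' => fun i => (((v.1 : GolayPt → ℤ) i : ℤ) : ℚ) := by
    rw [Fintype.linearIndependent_iff]
    intro g hg v
    have h0 : ∑ i, (∑ u : T', g u * (((u.1 : GolayPt → ℤ) i : ℤ) : ℚ)) *
        (((v.1 : GolayPt → ℤ) i : ℤ) : ℚ) = 0 := Finset.sum_eq_zero fun i _ => by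
      have := congrFun hg i
      simp only [Finset.sum_apply, Pi.smul_apply, smul_eq_mul, Pi.zero_apply] at this
      rw [this, zero_mul]
    simp only [Finset.sum_mul] at h0
    rw [Finset.sum_comm, Finset.sum_eq_single v] at h0
    · simp only [mul_assoc, ← Finset.mul_sum] at h0
      have hn : ∑ i, (((v.1 : GolayPt → ℤ) i : ℤ) : ℚ) * (((v.1 : GolayPt → ℤ) i : ℤ) : ℚ) = 64 := by
        have := hT v.1 (hT' v.2)
        simp only [sqNorm, pow_two] at this
        exact_mod_cast this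
      rw [hn] at h0
      linarith
    · intro u _ hu
      simp only [mul_assoc, ← Finset.mul_sum]
      have := horth u.1 u.2 v.1 v.2 (fun h => hu (Subtype.ext h))
      simp only [dotInt] at this
      have hd : ∑ i, (((u.1 : GolayPt → ℤ) i : ℤ) : ℚ) * (((v.1 : GolayPt → ℤ) i : ℤ) : ℚ) = 0 := by
        exact_mod_cast this
      rw [hd, mul_zero]
    · simp
  have h24 := hli.fintype_card_le_finrank
  rw [Module.finrank_pi, card_golayPt, Fintype.card_coe] at h24
  omega

theorem modTwo_complete :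
    (∀ q : ModTwo, ∃ v : leechLattice, sqNorm (v : GolayPt → ℤ) ≤ 64 ∧ QuotientAddGroup.mk v = q) ∧
    ∀ v ∈ normSet 64, {w ∈ normSet 64 |
      (QuotientAddGroup.mk w : ModTwo) = QuotientAddGroup.mk v}.ncard = 48 := by
  classical
  have : Finite ModTwo := Nat.finite_of_card_ne_zero (by rw [natCard_modTwo]; norm_num)
  let := Fintype.ofFinite ModTwo
  let q : leechLattice → ModTwo := QuotientAddGroup.mk
  have c32 := ncard_normSet ncard_norm_32
  have c48 := ncard_normSet ncard_norm_48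
  have c64 := ncard_normSet ncard_norm_64
  have f32 : (normSet 32).Finite := Set.finite_of_ncard_ne_zero (by rw [c32]; norm_num)
  have f48 : (normSet 48).Finite := Set.finite_of_ncard_ne_zero (by rw [c48]; norm_num)
  have f64 : (normSet 64).Finite := Set.finite_of_ncard_ne_zero (by rw [c64]; norm_num)
  rw [Set.ncard_eq_toFinset_card _ f32] at c32
  rw [Set.ncard_eq_toFinset_card _ f48] at c48
  rw [Set.ncard_eq_toFinset_card _ f64] at c64
  have b32 := Finset.card_le_mul_card_image (f := q) f32.toFinset 2 fun p _ =>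
    fibre_small (n := 32) (by norm_num) (by norm_num) _
      (fun v hv => f32.mem_toFinset.1 (Finset.mem_filter.1 hv).1)
      fun v hv w hw => (Finset.mem_filter.1 hv).2.trans (Finset.mem_filter.1 hw).2.symm
  have b48 := Finset.card_le_mul_card_image (f := q) f48.toFinset 2 fun p _ =>
    fibre_small (n := 48) (by norm_num) (by norm_num) _
      (fun v hv => f48.mem_toFinset.1 (Finset.mem_filter.1 hv).1)
      fun v hv w hw => (Finset.mem_filter.1 hv).2.trans (Finset.mem_filter.1 hw).2.symm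
  have hb64 : ∀ p, (f64.toFinset.filter fun v => q v = p).card ≤ 48 := fun p =>
    fibre_cross _ (fun v hv => f64.mem_toFinset.1 (Finset.mem_filter.1 hv).1)
      fun v hv w hw => (Finset.mem_filter.1 hv).2.trans (Finset.mem_filter.1 hw).2.symm
  have b64 := Finset.card_le_mul_card_image (f := q) f64.toFinset 48 fun p _ => hb64 p
  let S : Finset leechLattice := {0}
  have hdisj : ∀ (n m : ℤ) (A B : Finset leechLattice), n ≤ 64 → m ≤ 64 → n ≠ m →
      (∀ v ∈ A, sqNorm (v : GolayPt → ℤ) = n) → (∀ v ∈ B, sqNorm (v : GolayPt → ℤ) = m) →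
      Disjoint (A.image q) (B.image q) := by
    intro n m A B hn hm hne hA hB
    rw [Finset.disjoint_left]
    rintro p hpA hpB
    obtain ⟨v, hv, rfl⟩ := Finset.mem_image.1 hpA
    obtain ⟨w, hw, hwv⟩ := Finset.mem_image.1 hpB
    have := (short_classes w.2 (le_of_eq_of_le (hA v hv) hn) (le_of_eq_of_le (hB w hw) hm)
      (mk_eq_iff.1 hwv.symm)).1
    exact hne ((hA v hv).symm.trans (this.trans (hB w hw)))
  have hS : ∀ v ∈ S, sqNorm (v : GolayPt → ℤ) = 0 := fun v hv => by
    rw [Finset.mem_singleton.1 hv]; simp [sqNorm]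
  have h32 : ∀ v ∈ f32.toFinset, sqNorm (v : GolayPt → ℤ) = 32 := fun v hv => f32.mem_toFinset.1 hv
  have h48 : ∀ v ∈ f48.toFinset, sqNorm (v : GolayPt → ℤ) = 48 := fun v hv => f48.mem_toFinset.1 hv
  have h64 : ∀ v ∈ f64.toFinset, sqNorm (v : GolayPt → ℤ) = 64 := fun v hv => f64.mem_toFinset.1 hv
  let U : Finset ModTwo :=
    S.image q ∪ f32.toFinset.image q ∪ f48.toFinset.image q ∪ f64.toFinset.image q
  have hU : U.card = 1 + (f32.toFinset.image q).card + (f48.toFinset.image q).card +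
      (f64.toFinset.image q).card := by
    rw [Finset.card_union_of_disjoint, Finset.card_union_of_disjoint,
      Finset.card_union_of_disjoint, Finset.image_singleton, Finset.card_singleton]
    · exact hdisj 0 32 _ _ (by norm_num) (by norm_num) (by norm_num) hS h32
    · rw [Finset.disjoint_union_left]
      exact ⟨hdisj 0 48 _ _ (by norm_num) (by norm_num) (by norm_num) hS h48,
        hdisj 32 48 _ _ (by norm_num) (by norm_num) (by norm_num) h32 h48⟩
    · rw [Finset.disjoint_union_left, Finset.disjoint_union_left]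
      exact ⟨⟨hdisj 0 64 _ _ (by norm_num) (by norm_num) (by norm_num) hS h64,
        hdisj 32 64 _ _ (by norm_num) (by norm_num) (by norm_num) h32 h64⟩,
        hdisj 48 64 _ _ (by norm_num) (by norm_num) (by norm_num) h48 h64⟩
  have huniv := Finset.card_le_univ U
  rw [← Nat.card_eq_fintype_card, natCard_modTwo, hU] at huniv
  rw [c32] at b32; rw [c48] at b48; rw [c64] at b64
  have e64 : (f64.toFinset.image q).card = 8292375 := by norm_num at huniv; omega
  constructor
  · intro p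
    have hfull : U = Finset.univ := by
      rw [← Finset.card_eq_iff_eq_univ, ← Nat.card_eq_fintype_card, natCard_modTwo, hU]
      norm_num at huniv ⊢
      omega
    have hp : p ∈ U := hfull ▸ Finset.mem_univ p
    simp only [U, Finset.mem_union, Finset.mem_image] at hp
    rcases hp with ((⟨v, hv, e⟩ | ⟨v, hv, e⟩) | ⟨v, hv, e⟩) | ⟨v, hv, e⟩
    · exact ⟨v, by rw [hS v hv]; norm_num, e⟩
    · exact ⟨v, by rw [h32 v hv]; norm_num, e⟩
    · exact ⟨v, by rw [h48 v hv]; norm_num, e⟩
    · exact ⟨v, (h64 v hv).le, e⟩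
  · intro v hv
    have hsum := Finset.card_eq_sum_card_image q f64.toFinset
    have hle : ∀ p ∈ f64.toFinset.image q, (f64.toFinset.filter fun w => q w = p).card ≤ 48 :=
      fun p _ => hb64 p
    have heq := (Finset.sum_eq_sum_iff_of_le hle).1 (by
      rw [← hsum, c64, Finset.sum_const, e64, smul_eq_mul]) (q v)
      (Finset.mem_image_of_mem q (f64.mem_toFinset.2 hv))
    rw [← heq, ← Set.ncard_coe_finset]
    congr 1
    ext w
    simp [q]

theorem cross_card {x : GolayPt → ℤ} (hx : x ∈ leechLattice) (hxn : sqNorm x = 64) :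
    (cross x).ncard = 48 := by
  rw [← modTwo_complete.2 ⟨x, hx⟩ hxn, ← Set.ncard_image_of_injective _ Subtype.val_injective]
  congr 1
  ext y
  constructor
  · rintro ⟨hy, hn, z, hz, h⟩
    exact ⟨⟨y, hy⟩, ⟨hn.trans hxn, mk_eq_iff.2 ⟨-z, AddSubgroup.neg_mem _ hz, by
      rw [smul_neg, ← h, neg_sub]⟩⟩, rfl⟩
  · rintro ⟨w, ⟨hn, he⟩, rfl⟩
    obtain ⟨z, hz, h⟩ := mk_eq_iff.1 he
    exact ⟨w.2, (Eq.trans hn hxn.symm), -z, AddSubgroup.neg_mem _ hz, by
      rw [smul_neg, ← h, neg_sub]⟩

theorem modTwo_rep {x : GolayPt → ℤ} (hx : x ∈ leechLattice) :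
    ∃ y ∈ leechLattice, sqNorm y ≤ 64 ∧ ∃ z ∈ leechLattice, x - y = 2 • z := by
  obtain ⟨v, hv, he⟩ := modTwo_complete.1 (QuotientAddGroup.mk ⟨x, hx⟩)
  obtain ⟨z, hz, h⟩ := mk_eq_iff.1 he.symm
  exact ⟨v, v.2, hv, z, hz, h⟩

end CfsgLib.Spor
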