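import Cfsg.Agent.Lib.Spor.LeechBasic
import Cfsg.Agent.Lib.Spor.GolayCode

/-!
Index of the Leech lattice in `ℤ^24`, of twice the lattice in it, and generation by minimal
vectors.
-/

set_option autoImplicit false

namespace CfsgLib.Spor

open Cfsg

/-- reduction modulo eight -/
def redEight : (GolayPt → ℤ) →+ (GolayPt → ZMod 8) where
  toFun x := fun i => (x i : ZMod 8)
  map_zero' := by ext i; simp
  map_add' x y := by ext i; simp

theorem redEight_surjective : Function.Surjective redEight := fun v =>
  ⟨fun i => ((v i).val : ℤ), funext fun i => by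
    show (((v i).val : ℤ) : ZMod 8) = v i
    rw [Int.cast_natCast, ZMod.natCast_rightInverse]⟩

theorem redEight_eq_iff {x y : GolayPt → ℤ} :
    redEight x = redEight y ↔ ∀ i, (x i) % 8 = (y i) % 8 := by
  rw [funext_iff]
  exact forall_congr' fun i => ZMod.intCast_eq_intCast_iff' (x i) (y i) 8

theorem exists_smul_eight {x : GolayPt → ℤ} (hx : redEight x = 0) :
    ∃ u : GolayPt → ℤ, x = lvec 0 0 fun i => 2 * u i := by
  rw [← map_zero redEight, redEight_eq_iff] at hx
  exact ⟨fun i => x i / 8, funext fun i => by have := hx i; simp [lvec] at this ⊢; omega⟩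

theorem lvec_smul_eight_mem (u : GolayPt → ℤ) : lvec 0 0 (fun i => 2 * u i) ∈ leechLattice :=
  mem_leechLattice.2 ⟨0, 0, _, Submodule.zero_mem _, rfl, by
    rw [← Finset.mul_sum]; exact ⟨∑ i, u i, by ring⟩⟩

/-- parameters of the classes modulo eight: parity, code word, free bits -/
abbrev LParam (C : Set (GolayPt → ZMod 2)) : Type := C × (ZMod 23 → ZMod 2)

/-- the bits of a class -/
def pBits (e : ℤ) (u : ZMod 23 → ZMod 2) : GolayPt → ℤ
  | some z => bitZ (u z)
  | none => (e + ∑ z, bitZ (u z)) % 2

/-- the representative of a class -/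
def pVec {C : Set (GolayPt → ZMod 2)} (e : ℤ) (p : LParam C) : GolayPt → ℤ :=
  lvec e p.1.1 (pBits e p.2)

theorem sum_pBits (e : ℤ) (u : ZMod 23 → ZMod 2) : (2 : ℤ) ∣ ∑ i, pBits e u i - e := by
  rw [Fintype.sum_option]
  simp only [pBits]
  omega

theorem pVec_mem {C : Set (GolayPt → ZMod 2)} (hC : ∀ c ∈ C, c ∈ golayCode) (e : ℤ)
    (p : LParam C) : pVec e p ∈ leechLattice :=
  mem_leechLattice.2 ⟨e, p.1.1, _, hC _ p.1.2, rfl, sum_pBits e p.2⟩

theorem pVec_inj {C : Set (GolayPt → ZMod 2)} {e e' : Fin 2} {p p' : LParam C}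
    (h : redEight (pVec ((e : ℕ) : ℤ) p) = redEight (pVec ((e' : ℕ) : ℤ) p')) :
    e = e' ∧ p = p' := by
  rw [redEight_eq_iff] at h
  have he : e = e' := by
    have := h none
    simp only [pVec, lvec] at this
    apply Fin.ext
    have := e.2; have := e'.2
    omega
  subst he
  refine ⟨rfl, Prod.ext (Subtype.ext (funext fun i => ?_)) (funext fun z => ?_)⟩
  · have h1 := h i
    simp only [pVec, lvec] at h1
    rcases bitZ_cases (p.1.1 i) with ⟨a, a'⟩ | ⟨a, a'⟩ <;>
      rcases bitZ_cases (p'.1.1 i) with ⟨b, b'⟩ | ⟨b, b'⟩ <;> rw [a', b'] at h1 <;>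
      first
      | exact a.trans b.symm
      | omega
  · have h1 := h (some z)
    simp only [pVec, lvec, pBits] at h1
    rcases bitZ_cases (p.2 z) with ⟨a, a'⟩ | ⟨a, a'⟩ <;>
      rcases bitZ_cases (p'.2 z) with ⟨b, b'⟩ | ⟨b, b'⟩ <;> rw [a', b'] at h1 <;>
      rcases bitZ_cases (p.1.1 (some z)) with ⟨c, c'⟩ | ⟨c, c'⟩ <;>
      rcases bitZ_cases (p'.1.1 (some z)) with ⟨d, d'⟩ | ⟨d, d'⟩ <;> rw [c', d'] at h1 <;>
      first
      | exact a.trans b.symm
      | omega

/-- every vector is congruent to a representative -/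
theorem exists_pVec {x : GolayPt → ℤ} (hx : x ∈ leechLattice) :
    ∃ (e : Fin 2) (p : LParam (golayCode : Set (GolayPt → ZMod 2))),
      redEight x = redEight (pVec ((e : ℕ) : ℤ) p) := by
  obtain ⟨m, c, y, hc, rfl, hpar⟩ := mem_leechLattice.1 hx
  obtain ⟨d, hd, w, hw, hwpar⟩ : ∃ d ∈ golayCode, ∃ w : GolayPt → ℤ,
      lvec m c y = lvec (m % 2) d w ∧ (2 : ℤ) ∣ ∑ i, w i - m := by
    rcases Int.even_or_odd (m / 2) with ⟨s, hs⟩ | ⟨s, hs⟩
    · refine ⟨c, hc, fun i => y i + s, funext fun i => by simp only [lvec]; omega, ?_⟩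
      rw [Finset.sum_add_distrib, Finset.sum_const, Finset.card_univ, card_golayPt]
      simp only [nsmul_eq_mul]; push_cast; omega
    · refine ⟨c + 1, Submodule.add_mem _ hc one_mem_golayCode,
        fun i => y i + s + bitZ (c i), funext fun i => ?_, ?_⟩
      · rcases bitZ_cases (c i) with ⟨h, h'⟩ | ⟨h, h'⟩ <;>
          simp [lvec, h, CharTwo.add_self_eq_zero] <;> omega
      · have h4 := four_dvd_sum_bitZ hc
        rw [Finset.sum_add_distrib, Finset.sum_add_distrib, Finset.sum_const, Finset.card_univ,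
          card_golayPt]
        simp only [nsmul_eq_mul]; push_cast; omega
  let u : ZMod 23 → ZMod 2 := fun z => (w (some z) : ZMod 2)
  have hu : ∀ z, bitZ (u z) = w (some z) % 2 := fun z => ZMod.val_intCast (n := 2) (w (some z))
  refine ⟨⟨(m % 2).toNat, by omega⟩, (⟨d, hd⟩, u), ?_⟩
  rw [redEight_eq_iff, hw]
  have hm : ((((m % 2).toNat : ℕ)) : ℤ) = m % 2 := Int.toNat_of_nonneg (by omega)
  intro i
  simp only [pVec, lvec, hm]
  cases i with
  | none =>
    have hsum : (2 : ℤ) ∣ ∑ z, w (some z) - ∑ z, bitZ (u z) := by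
      rw [← Finset.sum_sub_distrib]
      exact Finset.dvd_sum fun z _ => by rw [hu]; omega
    rw [Fintype.sum_option] at hwpar
    simp only [pBits]
    omega
  | some z => simp only [pBits, hu]; omega

theorem index_of_param (H : AddSubgroup (GolayPt → ℤ)) (hker : redEight.ker ≤ H) {α : Type*}
    [Finite α] (g : α → GolayPt → ZMod 8) (hg : Function.Injective g)
    (himg : Set.range g = redEight '' (H : Set (GolayPt → ℤ))) :
    H.index * Nat.card α = 8 ^ 24 := by
  have h1 : Nat.card ↥(H.map redEight) = Nat.card α := by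
    rw [← Nat.card_range_of_injective hg, himg]
    rfl
  rw [← AddSubgroup.index_map_eq H redEight_surjective hker, ← h1, mul_comm,
    AddSubgroup.card_mul_index, Nat.card_fun, Nat.card_zmod, Nat.card_eq_fintype_card,
    card_golayPt]

theorem ker_le_leech : redEight.ker ≤ leechLattice := fun x hx => by
  obtain ⟨u, rfl⟩ := exists_smul_eight (AddMonoidHom.mem_ker.1 hx)
  exact lvec_smul_eight_mem u

theorem index_leechLattice : leechLattice.index = 2 ^ 36 := by
  have h := index_of_param leechLattice ker_le_leech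
    (fun q : Fin 2 × LParam (golayCode : Set (GolayPt → ZMod 2)) =>
      redEight (pVec ((q.1 : ℕ) : ℤ) q.2))
    (fun q q' hq => Prod.ext (pVec_inj hq).1 (pVec_inj hq).2) (by
      ext v
      constructor
      · rintro ⟨q, rfl⟩; exact ⟨_, pVec_mem (fun c hc => hc) _ _, rfl⟩
      · rintro ⟨x, hx, rfl⟩
        obtain ⟨e, p, he⟩ := exists_pVec hx
        exact ⟨(e, p), he.symm⟩)
  rw [Nat.card_prod, Nat.card_prod, Nat.card_fin, Nat.card_fun, Nat.card_zmod, Nat.card_zmod,
    show Nat.card ↥(golayCode : Set (GolayPt → ZMod 2)) = 4096 from natCard_golayCode] at h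
  exact Nat.eq_of_mul_eq_mul_right (by positivity) (h.trans (by norm_num))

/-- vectors all of whose coordinates are even and congruent modulo four -/
def evenConst : AddSubgroup (GolayPt → ℤ) where
  carrier := {x | ∀ i, (2 : ℤ) ∣ x i ∧ (4 : ℤ) ∣ x i - x none}
  zero_mem' := fun i => by simp
  add_mem' := fun {x y} hx hy i => by
    have := hx i; have := hy i; simp only [Pi.add_apply]; omega
  neg_mem' := fun {x} hx i => by have := hx i; simp only [Pi.neg_apply]; omega

/-- the constant code words -/
def constWords : Set (GolayPt → ZMod 2) := {0, 1}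

theorem natCard_constWords : Nat.card constWords = 2 := by
  rw [Nat.card_coe_set_eq, constWords, Set.ncard_pair]
  exact fun h => zero_ne_one (congrFun h none)

theorem index_isotropic : (leechLattice ⊓ evenConst).index = 2 ^ 48 := by
  have hker : redEight.ker ≤ leechLattice ⊓ evenConst := fun x hx => by
    refine ⟨ker_le_leech hx, ?_⟩
    obtain ⟨u, rfl⟩ := exists_smul_eight (AddMonoidHom.mem_ker.1 hx)
    intro i; simp [lvec]; omega
  have h := index_of_param (leechLattice ⊓ evenConst) hker
    (fun q : LParam constWords => redEight (pVec (((0 : Fin 2) : ℕ) : ℤ) q))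
    (fun q q' hq => (pVec_inj hq).2) (by
      ext v
      constructor
      · rintro ⟨q, rfl⟩
        refine ⟨_, ⟨pVec_mem (C := constWords) (fun c hc => ?_) _ _, fun i => ?_⟩, rfl⟩
        · rcases hc with rfl | rfl
          exacts [Submodule.zero_mem _, one_mem_golayCode]
        · rcases q.1.2 with hc | (hc : q.1.1 = 1) <;> simp [pVec, lvec, hc] <;> constructor <;> omega
      · rintro ⟨x, ⟨hx, hev⟩, rfl⟩
        obtain ⟨e, p, he⟩ := exists_pVec hx
        rw [redEight_eq_iff] at he
        have he0 : e = 0 := by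
          have := he none; have := (hev none).1
          simp only [pVec, lvec] at *
          apply Fin.ext
          have := e.2
          simp only [Fin.val_zero]
          omega
        subst he0
        have hcc : ∀ i, bitZ (p.1.1 i) = bitZ (p.1.1 none) := fun i => by
          have := he i; have := he none; have := (hev i).2
          simp only [pVec, lvec] at *
          rcases bitZ_cases (p.1.1 i) with ⟨-, a⟩ | ⟨-, a⟩ <;>
            rcases bitZ_cases (p.1.1 none) with ⟨-, b⟩ | ⟨-, b⟩ <;> omega
        have hmem : p.1.1 ∈ constWords := by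
          rcases bitZ_cases (p.1.1 none) with ⟨a, a'⟩ | ⟨a, a'⟩
          · left; funext i
            rcases bitZ_cases (p.1.1 i) with ⟨b, b'⟩ | ⟨b, b'⟩
            · exact b
            · rw [hcc i, a'] at b'; exact absurd b' (by norm_num)
          · right; funext i
            rcases bitZ_cases (p.1.1 i) with ⟨b, b'⟩ | ⟨b, b'⟩
            · rw [hcc i, a'] at b'; exact absurd b' (by norm_num)
            · exact b
        exact ⟨(⟨p.1.1, hmem⟩, p.2), (redEight_eq_iff.2 he).symm⟩)
  rw [Nat.card_prod, natCard_constWords, Nat.card_fun, Nat.card_zmod, Nat.card_zmod] at h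
  exact Nat.eq_of_mul_eq_mul_right (by positivity) (h.trans (by norm_num))

theorem exists_isotropic : ∃ A : AddSubgroup (GolayPt → ℤ), A ≤ leechLattice ∧
    (∀ v ∈ leechLattice, (2 : ℤ) • v ∈ A) ∧ (A.addSubgroupOf leechLattice).index = 2 ^ 12 ∧
    ∀ v ∈ A, (32 : ℤ) ∣ sqNorm v := by
  refine ⟨leechLattice ⊓ evenConst, inf_le_left, fun v hv => ⟨zsmul_mem hv 2, fun i => ?_⟩, ?_,
    fun v hv => ?_⟩
  · obtain ⟨m, c, y, -, rfl, -⟩ := mem_leechLattice.1 hv
    simp [lvec]; omega
  · have h := AddSubgroup.relIndex_mul_index (inf_le_left : leechLattice ⊓ evenConst ≤ leechLattice)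
    rw [index_isotropic, index_leechLattice] at h
    show (leechLattice ⊓ evenConst).relIndex leechLattice = 2 ^ 12
    exact Nat.eq_of_mul_eq_mul_right (by positivity) (h.trans (by norm_num))
  · obtain ⟨hL, hev⟩ := hv
    obtain ⟨m, c, y, hc, rfl, hpar⟩ := mem_leechLattice.1 hL
    obtain ⟨t, rfl⟩ : (2 : ℤ) ∣ m := by
      have := (hev none).1
      simp only [lvec] at this; omega
    obtain ⟨b, hb⟩ : ∃ b : ZMod 2, ∀ i, c i = b := ⟨c none, fun i => by
      have := (hev i).2
      simp only [lvec] at this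
      rcases bitZ_cases (c i) with ⟨a, a'⟩ | ⟨a, a'⟩ <;>
        rcases bitZ_cases (c none) with ⟨b, b'⟩ | ⟨b, b'⟩ <;> rw [a', b'] at this <;>
        first
        | exact a.trans b.symm
        | omega⟩
    obtain ⟨k, hk⟩ := hpar
    have hys : (2 : ℤ) ∣ ∑ i, (bitZ (c i) * y i + y i ^ 2) := by
      rcases bitZ_cases b with ⟨-, hb'⟩ | ⟨-, hb'⟩
      · simp only [hb, hb', zero_mul, zero_add]
        have h1 : (2 : ℤ) ∣ ∑ i, (y i ^ 2 - y i) := Finset.dvd_sum fun i _ => by
          have := Int.even_mul_succ_self (y i - 1)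
          obtain ⟨r, hr⟩ := this
          exact ⟨r, by linear_combination hr⟩
        rw [Finset.sum_sub_distrib] at h1
        omega
      · simp only [hb, hb', one_mul]
        refine Finset.dvd_sum fun i _ => ?_
        obtain ⟨r, hr⟩ := Int.even_mul_succ_self (y i)
        exact ⟨r, by linear_combination hr⟩
    obtain ⟨r, hr⟩ := hys
    obtain ⟨j, hj⟩ := four_dvd_sum_bitZ hc
    have hj2 : (2 : ℤ) ∣ j := by
      have : ∑ i, bitZ (c i) = 24 * bitZ b := by
        simp [hb]
      rcases bitZ_cases b with ⟨-, hb'⟩ | ⟨-, hb'⟩ <;> rw [hb'] at this <;> omega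
    obtain ⟨j2, rfl⟩ := hj2
    rw [sqNorm_lvec, hr, hj, show ∑ i, y i = 2 * t + 2 * k by linarith]
    exact ⟨3 * t ^ 2 + (2 * t + 1) * j2 + t * (t + k) + r, by ring⟩

/-- twice the lattice has index `2^24` in it -/
theorem relIndex_two_smul :
    (leechLattice.map (nsmulAddMonoidHom 2)).relIndex leechLattice = 2 ^ 24 := by
  have hinj : Function.Injective (nsmulAddMonoidHom 2 : (GolayPt → ℤ) →+ (GolayPt → ℤ)) := by
    intro x y h
    funext i
    have := congrFun h i
    simp [nsmulAddMonoidHom] at this
    exact this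
  let f : (GolayPt → ℤ) →+ (GolayPt → ZMod 2) :=
    { toFun := fun x i => (x i : ZMod 2)
      map_zero' := by ext i; simp
      map_add' := fun x y => by ext i; simp }
  have hf : Function.Surjective f := fun v => ⟨fun i => bitZ (v i), funext fun i => bitZ_cast _⟩
  have hr : (nsmulAddMonoidHom 2 : (GolayPt → ℤ) →+ (GolayPt → ℤ)).range = f.ker := by
    ext x
    rw [AddMonoidHom.mem_ker, AddMonoidHom.mem_range]
    constructor
    · rintro ⟨y, rfl⟩; funext i
      show (((2 • y) i : ℤ) : ZMod 2) = 0
      simp [show (2 : ZMod 2) = 0 from rfl]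
    · intro h
      refine ⟨fun i => x i / 2, funext fun i => ?_⟩
      have := (ZMod.intCast_zmod_eq_zero_iff_dvd (x i) 2).1 (congrFun h i)
      show 2 • (x i / 2) = x i
      simp; omega
  have h1 : (leechLattice.map (nsmulAddMonoidHom 2)).index = 2 ^ 36 * 2 ^ 24 := by
    rw [AddSubgroup.index_map, AddMonoidHom.ker_eq_bot_iff _ |>.2 hinj, sup_bot_eq,
      index_leechLattice, hr, AddSubgroup.index_ker, AddMonoidHom.range_eq_top.2 hf, AddSubgroup.card_top, Nat.card_fun, Nat.card_zmod, Nat.card_eq_fintype_card,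
      card_golayPt]
  have hle : leechLattice.map (nsmulAddMonoidHom 2) ≤ leechLattice := by
    rintro _ ⟨v, hv, rfl⟩; exact AddSubgroup.nsmul_mem _ hv 2
  have h := AddSubgroup.relIndex_mul_index hle
  rw [h1, index_leechLattice] at h
  exact Nat.eq_of_mul_eq_mul_right (by positivity) (h.trans (Nat.mul_comm _ _))

/-- the minimal vectors -/
def minVecs : Set (GolayPt → ℤ) := {x | x ∈ leechLattice ∧ sqNorm x = 32}

theorem pair_mem_minVecs (p : GolayPt) (hp : p ≠ none) (s : ℤ) (hs : s = 1 ∨ s = -1) :
    lvec 0 0 (fun i => if i = none then 1 else if i = p then s else 0) ∈ minVecs := by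
  have hsum : ∑ i, (if i = none then (1 : ℤ) else if i = p then s else 0) = 1 + s := by
    obtain ⟨z, rfl⟩ := Option.ne_none_iff_exists'.1 hp
    rw [Fintype.sum_option]; simp
  have hsq : ∑ i, (bitZ ((0 : GolayPt → ZMod 2) i) * (if i = none then (1 : ℤ) else if i = p then s else 0)
      + (if i = none then (1 : ℤ) else if i = p then s else 0) ^ 2) = 1 + s ^ 2 := by
    obtain ⟨z, rfl⟩ := Option.ne_none_iff_exists'.1 hp
    rw [Fintype.sum_option]
    simp [apply_ite (fun t : ℤ => t ^ 2)]
  refine ⟨mem_leechLattice.2 ⟨0, 0, _, Submodule.zero_mem _, rfl, ?_⟩, ?_⟩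
  · rw [hsum]; rcases hs with rfl | rfl <;> norm_num
  · rw [sqNorm_lvec, hsq]
    rcases hs with rfl | rfl <;> simp

theorem basis_weight : golayBasis.all (fun b => Nat.beq (pop b) 8) = true := by decide +kernel

/-- the lattice is generated by these vectors -/
theorem leech_le_of_gens {H : AddSubgroup (GolayPt → ℤ)}
    (hp' : ∀ p : GolayPt, p ≠ none → ∀ s : ℤ, s = 1 ∨ s = -1 →
      lvec 0 0 (fun i => if i = none then 1 else if i = p then s else 0) ∈ H)
    (hb : ∀ b ∈ golayBasis, lvec 0 (word b) 0 ∈ H)
    (hodd : lvec 1 0 (fun i => if i = none then -1 else 0) ∈ H) : leechLattice ≤ H := by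
  -- the even multiples of four
  have hy : ∀ y : GolayPt → ℤ, (2 : ℤ) ∣ ∑ i, y i → lvec 0 0 y ∈ H := by
    let e : GolayPt → GolayPt → ℤ := fun p i => if i = p then 1 else 0
    have hplus : ∀ p, lvec 0 0 (fun i => e none i + e p i) ∈ H := by
      intro p
      by_cases hp : p = none
      · subst hp
        have h1 := hp' (some 0) (by simp) 1 (Or.inl rfl)
        have h2 := hp' (some 0) (by simp) (-1) (Or.inr rfl)
        convert AddSubgroup.add_mem _ h1 h2 using 1
        funext i; simp only [lvec, e, Pi.add_apply, Pi.zero_apply, bitZ_zero]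
        rcases eq_or_ne i none with rfl | hi
        · simp
        · simp only [if_neg hi]; split <;> simp
      · rw [show lvec 0 0 (fun i => e none i + e p i) =
            lvec 0 0 (fun i => if i = none then 1 else if i = p then 1 else 0) from ?_]
        · exact hp' p hp 1 (Or.inl rfl)
        funext i; simp only [lvec, e]
        rcases eq_or_ne i none with rfl | hi
        · simp [Ne.symm hp]
        · simp [hi]
    intro y hy
    obtain ⟨k, hk⟩ := hy
    have hdec : lvec 0 0 y = (∑ p, y p • lvec 0 0 (fun i => e none i + e p i)) +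
        (-k) • lvec 0 0 (fun i => e none i + e none i) := by
      funext j
      simp only [Pi.add_apply, Finset.sum_apply, Pi.smul_apply, lvec, smul_eq_mul, Pi.zero_apply,
        bitZ_zero, mul_zero, add_zero, zero_add, e]
      by_cases hj : j = none
      · subst hj
        simp only [if_true, mul_add, mul_ite, mul_one, mul_zero, Finset.sum_add_distrib,
          ← Finset.sum_mul, Finset.sum_ite_eq, Finset.mem_univ, hk]
        ring
      · simp only [if_neg hj, zero_add, mul_ite, mul_one, mul_zero, Finset.sum_ite_eq,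
          Finset.mem_univ, if_true]
        ring
    rw [hdec]
    exact AddSubgroup.add_mem _ (AddSubgroup.sum_mem _ fun p _ => zsmul_mem (hplus p) _)
      (zsmul_mem (hplus none) _)
  -- twice the code
  have hc : ∀ c ∈ golayCode, lvec 0 c 0 ∈ H := by
    intro c hc
    rw [← word_mask_support₂ c]
    exact (spanList_induction (P := fun m => word m ∈ golayCode ∧ lvec 0 (word m) 0 ∈ H)
      ⟨by rw [word_zero]; exact Submodule.zero_mem _, by
        rw [word_zero, show lvec 0 (0 : GolayPt → ZMod 2) 0 = 0 from funext fun i => by simp [lvec]]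
        exact AddSubgroup.zero_mem _⟩
      (fun b hbm => by
        rw [List.mem_reverse] at hbm
        refine ⟨word_mem_of_mem_codeList (mem_codeList_iff.2 ?_), hb b hbm⟩
        revert b; decide +kernel)
      (fun a b ha hb => by
        refine ⟨by rw [word_xor]; exact Submodule.add_mem _ ha.1 hb.1, ?_⟩
        have h2 := two_dvd_sum_bitZ_mul ha.1 hb.1
        rw [word_xor, show lvec 0 (word a + word b) 0 = lvec 0 (word a) 0 + lvec 0 (word b) 0 +
            lvec 0 0 (fun i => -bitZ (word a i * word b i)) from funext fun i => by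
          have := bitZ_add (word a i) (word b i)
          simp [lvec]; linarith]
        exact AddSubgroup.add_mem _ (AddSubgroup.add_mem _ ha.2 hb.2)
          (hy _ (by rw [Finset.sum_neg_distrib]; exact h2.neg_right)))
      _ (mem_golayCode_iff.1 hc)).2
  intro x hx
  obtain ⟨m, c, y, hcc, rfl, hpar⟩ := mem_leechLattice.1 hx
  rw [show lvec m c y = m • lvec 1 0 (fun i => if i = none then -1 else 0) + lvec 0 c 0 +
      lvec 0 0 (fun i => y i + if i = none then m else 0) from funext fun i => by
    simp only [lvec, Pi.add_apply, Pi.smul_apply, smul_eq_mul, Pi.zero_apply, bitZ_zero]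
    split <;> ring]
  refine AddSubgroup.add_mem _ (AddSubgroup.add_mem _ (zsmul_mem hodd m) (hc c hcc)) (hy _ ?_)
  rw [Finset.sum_add_distrib]
  simp
  rw [Fintype.sum_option] at hpar; omega

theorem closure_minVecs : AddSubgroup.closure minVecs = leechLattice := by
  refine le_antisymm ((AddSubgroup.closure_le _).2 fun x hx => hx.1) (leech_le_of_gens
    (fun p hp s hs => AddSubgroup.subset_closure (pair_mem_minVecs p hp s hs))
    (fun b hb => AddSubgroup.subset_closure ?_) (AddSubgroup.subset_closure ?_))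
  · have hw : word b ∈ golayCode :=
      word_mem_of_mem_codeList (mem_codeList_iff.2 (by revert b; decide +kernel))
    refine ⟨mem_leechLattice.2 ⟨0, word b, 0, hw, rfl, by simp⟩, ?_⟩
    have hn : hammingNorm (word b) = 8 := by
      rw [hammingNorm_eq_card_support₂, support₂_word, card_toSet]
      exact Nat.eq_of_beq_eq_true (List.all_eq_true.1 basis_weight b hb)
    rw [sqNorm_lvec, sum_bitZ, hn]; simp
  · refine ⟨mem_leechLattice.2 ⟨1, 0, _, Submodule.zero_mem _, rfl, by simp⟩, ?_⟩
    rw [sqNorm_lvec]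
    simp [apply_ite (fun t : ℤ => t ^ 2)]

end CfsgLib.Spor
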