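import Cfsg.Agent.Lib.Spor.Co1Simple

/-!
A subgroup of the lattice that contains the doubles and a short vector `v`, is invariant under the
stabilizer of `±v`, and has all norms divisible by 32, is congruent to `{0, v}` modulo the doubles.
-/

set_option autoImplicit false
set_option maxRecDepth 100000

namespace CfsgLib.Spor

open Cfsg
open CfsgLib.ThreeTransp.CoReduce (bigE)

/-- the short vector `4 e∞ - 4 e₀` -/
def shortV : leechLattice :=
  ⟨Pi.single none 4 - Pi.single (pt 0) 4, mem_leech_of_inLeechB (by decide +kernel)⟩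

theorem shortV_coe (p : GolayPt) :
    (shortV : GolayPt → ℤ) p = (if p = none then 4 else 0) - (if p = pt 0 then 4 else 0) := by
  simp [shortV, Pi.single_apply]

theorem sqNorm_shortV : sqNorm (shortV : GolayPt → ℤ) = 32 := by decide +kernel

/-- a subgroup invariant under the stabilizer of the short vector up to sign -/
structure ShortStabBase (U : AddSubgroup leechLattice) : Prop where
  mem : shortV ∈ U
  dbl : ∀ w, w + w ∈ U
  inv : ∀ g : Co0, (g • shortV = shortV ∨ g • shortV = -shortV) → ∀ u ∈ U, g • u ∈ U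

/-- the hypotheses on the subgroup -/
structure ShortStabInv (U : AddSubgroup leechLattice) : Prop extends ShortStabBase U where
  sing : ∀ u ∈ U, (32 : ℤ) ∣ sqNorm (u : GolayPt → ℤ)

/-- a basis of the words avoiding the two points of the short vector -/
def avoidBasis : List ℕ :=
  [10558, 21116, 36294, 72588, 138790, 267634, 525274, 1050548, 2101096, 4202192]

/-- a word through the first point, avoiding the second -/
def wordTop : ℕ := 13938692

/-- a word through the second point, avoiding the first -/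
def wordZero : ℕ := 1302533

/-- a dodecad avoiding both points -/
def dodAvoid : ℕ := 2076750

theorem avoid_checks :
    ((dodAvoid :: avoidBasis).all fun m =>
      inCode m && Nat.blt m 16777216 && !m.testBit 23 && !m.testBit 0) = true ∧
    pop dodAvoid = 12 ∧
    (golayBasis.all fun b => (spanList (wordTop :: wordZero :: avoidBasis)).contains b) = true ∧
    wordTop.testBit 23 = true ∧ wordTop.testBit 0 = false ∧
    wordZero.testBit 0 = true ∧ wordZero.testBit 23 = false := by decide +kernel

theorem triple_check :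
    (codeList.all fun m => Nat.beq m 0 || Nat.beq m 16777215 || avoidBasis.any fun a =>
      avoidBasis.any fun b => Nat.beq (pop (m &&& (a &&& b)) % 2) 1) = true := by decide +kernel

theorem avoid_word {m : ℕ} (h : m ∈ dodAvoid :: avoidBasis) :
    toSet m ∈ supports (golayCode : Set (GolayPt → ZMod 2)) ∧ none ∉ toSet m ∧ pt 0 ∉ toSet m := by
  have := List.all_eq_true.1 avoid_checks.1 m h
  simp only [Bool.and_eq_true, Bool.not_eq_true', Nat.blt_eq] at this
  obtain ⟨⟨⟨h1, h2⟩, h3⟩, h4⟩ := this
  refine ⟨toSet_supports_of_inCode h1 h2, ?_, ?_⟩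
  · simp [idx, h3]
  · simp [idx_pt (show 0 < 24 by norm_num), h4]

variable {U : AddSubgroup leechLattice}

theorem ShortStabInv.dot (hU : ShortStabInv U) {u u' : leechLattice} (h : u ∈ U) (h' : u' ∈ U) :
    (16 : ℤ) ∣ dotInt (u : GolayPt → ℤ) (u' : GolayPt → ℤ) := by
  have h1 := hU.sing _ (U.add_mem h h')
  rw [AddSubgroup.coe_add, (sqNorm_add_sub _ _).2] at h1
  have h2 := hU.sing _ h
  have h3 := hU.sing _ h'
  omega

theorem ShortStabBase.restrict (hU : ShortStabBase U) {m : ℕ} (hm : m ∈ dodAvoid :: avoidBasis)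
    {x : leechLattice} (hx : x ∈ U) :
    ∃ u ∈ U, ∀ p, (u : GolayPt → ℤ) p = if p ∈ toSet m then 2 * (x : GolayPt → ℤ) p else 0 := by
  obtain ⟨hs, ha, hb⟩ := avoid_word hm
  have hg : epsEl ⟨_, hs⟩ • shortV = shortV := by
    refine Subtype.ext (funext fun p => ?_)
    rw [epsEl, monoEl_smul]
    show signedPerm 1 (toSet m) _ p = _
    simp only [signedPerm]
    split_ifs with hp
    · have e1 : p ≠ none := fun e => ha (e ▸ hp)
      have e2 : p ≠ pt 0 := fun e => hb (e ▸ hp)
      show -((shortV : GolayPt → ℤ) p) = _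
      simp [shortV_coe, e1, e2]
    · rfl
  refine ⟨x - epsEl ⟨_, hs⟩ • x, U.sub_mem hx (hU.inv _ (Or.inl hg) x hx), fun p => ?_⟩
  rw [AddSubgroup.coe_sub, Pi.sub_apply, epsEl, monoEl_smul]
  show _ - signedPerm 1 (toSet m) _ p = _
  simp only [signedPerm]
  split_ifs
  · show _ - -((x : GolayPt → ℤ) p) = _
    ring
  · exact sub_self _

theorem ShortStabInv.coord_even (hU : ShortStabInv U) {x : leechLattice} (hx : x ∈ U) :
    ∀ p, (2 : ℤ) ∣ (x : GolayPt → ℤ) p := by
  classical
  intro p
  obtain ⟨m, c, y, -, he, -⟩ := mem_leechLattice.1 x.2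
  by_contra hp
  have hodd : ∀ q, (x : GolayPt → ℤ) q % 2 = 1 := fun q => by
    rw [he] at hp ⊢
    simp only [lvec] at hp ⊢
    omega
  obtain ⟨u, hu, hue⟩ := hU.toShortStabBase.restrict List.mem_cons_self hx
  have h32 := hU.sing u hu
  have hn : sqNorm (u : GolayPt → ℤ) =
      ∑ q ∈ toSet dodAvoid, (4 * (x : GolayPt → ℤ) q ^ 2 - 4) + 48 := by
    rw [Finset.sum_sub_distrib, Finset.sum_const, card_toSet, avoid_checks.2.1, sqNorm]
    rw [← Finset.sum_subset (Finset.subset_univ (toSet dodAvoid)) fun q _ hq => by simp [hue, hq]]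
    simp only [nsmul_eq_mul, Nat.cast_ofNat]
    rw [Finset.sum_congr rfl fun q hq => show (u : GolayPt → ℤ) q ^ 2 =
      4 * (x : GolayPt → ℤ) q ^ 2 by rw [hue, if_pos hq]; ring]
    ring
  have h8 : (32 : ℤ) ∣ ∑ q ∈ toSet dodAvoid, (4 * (x : GolayPt → ℤ) q ^ 2 - 4) :=
    Finset.dvd_sum fun q _ => by
      obtain ⟨k, hk⟩ : ∃ k, (x : GolayPt → ℤ) q = 2 * k + 1 :=
        ⟨(x : GolayPt → ℤ) q / 2, by have := hodd q; omega⟩
      obtain ⟨l, hl⟩ := Int.even_mul_succ_self k
      exact ⟨l, by rw [hk]; linear_combination (16 : ℤ) * hl⟩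
  omega

/-- A vector `8 f` is congruent to a multiple of `8 e∞` modulo the doubles. -/
theorem eight_congr (f : GolayPt → ℤ) {u : leechLattice}
    (hu : ∀ p, (u : GolayPt → ℤ) p = 8 * f p) :
    ∃ w : leechLattice, u = (∑ p, f p) • bigE none + (w + w) := by
  classical
  let y : GolayPt → ℤ := fun p => f p - if p = none then ∑ q, f q else 0
  refine ⟨⟨lvec 0 0 y, mem_leechLattice.2 ⟨0, 0, y, Submodule.zero_mem _, rfl, ?_⟩⟩,
    Subtype.ext (funext fun p => ?_)⟩
  · simp [y, Finset.sum_sub_distrib]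
  · simp only [AddSubgroup.coe_add, AddSubgroup.coe_zsmul, Pi.add_apply, Pi.smul_apply, hu,
      bigE_coe, smul_eq_mul, lvec, y, Pi.zero_apply, bitZ_zero, Pi.single_apply]
    split_ifs <;> ring

theorem ShortStabBase.omega_mem_of_eight (hU : ShortStabBase U) {u : leechLattice} (hu : u ∈ U)
    (f : GolayPt → ℤ) (he : ∀ p, (u : GolayPt → ℤ) p = 8 * f p) (hodd : Odd (∑ p, f p)) :
    bigE none ∈ U := by
  obtain ⟨w, hw⟩ := eight_congr f he
  obtain ⟨j, hj⟩ := hodd
  have : bigE none = u - (w + w) - (j • bigE none + j • bigE none) := by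
    rw [hw, hj, add_smul, mul_smul, one_smul, two_zsmul]; abel
  rw [this]
  exact U.sub_mem (U.sub_mem hu (hU.dbl _)) (hU.dbl _)

theorem cast_sum_toSet (m : ℕ) (f : GolayPt → ℤ) :
    ((∑ p, if p ∈ toSet m then f p else 0 : ℤ) : ZMod 2) =
      ∑ p, word m p * (f p : ZMod 2) := by
  rw [Int.cast_sum]
  refine Finset.sum_congr rfl fun p _ => ?_
  simp only [word, mem_toSet]
  split_ifs <;> simp

theorem zmod2_odd {s : ℤ} (h : ((s : ℤ) : ZMod 2) ≠ 0) : Odd s := by
  rw [Ne, ZMod.intCast_eq_zero_iff_even] at h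
  exact Int.not_even_iff_odd.1 h

theorem ShortStabBase.omega_mem_of_four (hU : ShortStabBase U) {x : leechLattice} (hx : x ∈ U)
    (h4 : ∀ p, (4 : ℤ) ∣ (x : GolayPt → ℤ) p)
    (hne : ∀ w : leechLattice, x ≠ w + w ∧ x ≠ shortV + (w + w)) : bigE none ∈ U := by
  classical
  choose y hy using h4
  by_cases hall : ∀ m ∈ avoidBasis, ∑ p, word m p * (y p : ZMod 2) = 0
  · -- the residue is a code word, up to the two distinguished points
    let α : ZMod 2 := ∑ p, word wordTop p * (y p : ZMod 2)
    let β : ZMod 2 := ∑ p, word wordZero p * (y p : ZMod 2)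
    let g : GolayPt → ZMod 2 := fun p =>
      (y p : ZMod 2) + (if p = none then α else 0) + (if p = pt 0 then β else 0)
    have hg : ∀ b, ∑ p, word b p * g p = ∑ p, word b p * (y p : ZMod 2) +
        word b none * α + word b (pt 0) * β := fun b => by
      simp only [g, mul_add, Finset.sum_add_distrib, mul_ite, mul_zero]
      simp
    have hspan : ∀ b ∈ spanList (wordTop :: wordZero :: avoidBasis),
        ∑ p, word b p * g p = 0 := by
      refine spanList_induction (P := fun b => ∑ p, word b p * g p = 0) (by simp [word_zero]) ?_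
        (fun a b ha hb => by simp [word_xor, add_mul, Finset.sum_add_distrib, ha, hb])
      intro b hb
      obtain ⟨-, -, -, ht1, ht0, hz0, hz1⟩ := avoid_checks
      rw [hg]
      have hn : word b none = if b.testBit 23 then 1 else 0 := rfl
      have h0 : word b (pt 0) = if b.testBit 0 then 1 else 0 := by
        rw [word, idx_pt (show 0 < 24 by norm_num)]
      simp only [List.mem_cons] at hb
      rcases hb with rfl | rfl | hb
      · simp [α, hn, h0, ht1, ht0, CharTwo.add_self_eq_zero]
      · simp [β, hn, h0, hz0, hz1, CharTwo.add_self_eq_zero]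
      · obtain ⟨-, h1, h2⟩ := avoid_word (List.mem_cons_of_mem _ hb)
        rw [hall b hb]
        rw [mem_toSet] at h1 h2
        simp [word, h1, h2]
    have hgc : g ∈ golayCode := by
      rw [← word_mask_support₂ g]
      refine word_mem_of_mem_codeList (mem_codeList_iff.2 ⟨mask_lt _, inCode_iff.2 fun b hb => ?_⟩)
      have := hspan b (by simpa using List.all_eq_true.1 avoid_checks.2.2.1 b hb)
      rw [word_mask_support₂]
      simpa [mul_comm] using this
    have hsum : ((∑ p, y p : ℤ) : ZMod 2) = 0 := by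
      obtain ⟨m, c, y', hc, he, hpar⟩ := mem_leechLattice.1 x.2
      rw [ZMod.intCast_eq_zero_iff_even, even_iff_two_dvd]
      have hm : (2 : ℤ) ∣ m := by
        have := hy none; rw [he] at this; simp only [lvec] at this; omega
      have h1 : ∑ p, (x : GolayPt → ℤ) p = 4 * ∑ p, y p := by
        rw [Finset.mul_sum]; exact Finset.sum_congr rfl fun p _ => hy p
      rw [he, sum_lvec] at h1
      have := four_dvd_sum_bitZ hc
      omega
    have hαβ : α = β := by
      obtain ⟨k, hk⟩ := four_dvd_sum_bitZ hgc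
      have h0 : ∑ p, g p = 0 := by
        have := congrArg (fun z : ℤ => (z : ZMod 2)) hk
        simp only [Int.cast_sum, bitZ_cast, Int.cast_mul] at this
        rw [this, show ((4 : ℤ) : ZMod 2) = 0 from rfl, zero_mul]
      simp only [g, Finset.sum_add_distrib, Finset.sum_ite_eq', Finset.mem_univ, if_true,
        ← Int.cast_sum, hsum, zero_add] at h0
      exact CharTwo.add_eq_zero.1 h0
    let W : leechLattice := ⟨lvec 0 g 0, mem_leechLattice.2 ⟨0, g, 0, hgc, rfl, by simp⟩⟩
    have hz : ∀ p, (2 : ℤ) ∣ y p - bitZ (g p) -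
        bitZ α * ((if p = none then 1 else 0) - (if p = pt 0 then 1 else 0)) := fun p => by
      rw [show (2 : ℤ) = ((2 : ℕ) : ℤ) from rfl, ← ZMod.intCast_zmod_eq_zero_iff_dvd]
      have key : ∀ Y A : ZMod 2, ∀ P Q : Bool,
          Y - (Y + (if P then A else 0) + (if Q then A else 0)) -
            A * ((if P then 1 else 0) - (if Q then 1 else 0)) = 0 := by decide
      simp only [Int.cast_sub, Int.cast_mul, bitZ_cast, Int.cast_ite, Int.cast_one, Int.cast_zero, g,
        ← hαβ]
      simpa using key (y p : ZMod 2) α (decide (p = none)) (decide (p = pt 0))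
    choose z hz using hz
    have hu : ∀ p, ((x - (W + bitZ α • shortV) : leechLattice) : GolayPt → ℤ) p
        = 8 * z p + 2 * bitZ (g p) := fun p => by
      simp only [AddSubgroup.coe_sub, AddSubgroup.coe_add, AddSubgroup.coe_zsmul, Pi.sub_apply,
        Pi.add_apply, Pi.smul_apply, smul_eq_mul, W, lvec, Pi.zero_apply, hy p, shortV_coe]
      have := hz p
      split_ifs at this ⊢ <;> linarith
    have hu8 : ∀ p, ((x - (W + W + bitZ α • shortV) : leechLattice) : GolayPt → ℤ) p
        = 8 * z p := fun p => by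
      have := hu p
      simp only [AddSubgroup.coe_sub, AddSubgroup.coe_add, Pi.sub_apply, Pi.add_apply, W, lvec,
        Pi.zero_apply] at this ⊢
      linarith
    have hmem : x - (W + W + bitZ α • shortV) ∈ U :=
      U.sub_mem hx (U.add_mem (hU.dbl _) (U.zsmul_mem hU.mem _))
    by_cases hodd : Odd (∑ p, z p)
    · exact hU.omega_mem_of_eight hmem z hu8 hodd
    · exfalso
      obtain ⟨j, hj⟩ := Int.not_odd_iff_even.1 hodd
      obtain ⟨w, hw⟩ := eight_congr z hu8
      rw [hj, add_smul, sub_eq_iff_eq_add] at hw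
      rcases bitZ_cases α with ⟨-, hα⟩ | ⟨-, hα⟩
      · refine (hne (j • bigE none + w + W)).1 ?_
        rw [hw, hα, zero_smul]; abel
      · refine (hne (j • bigE none + w + W)).2 ?_
        rw [hw, hα, one_smul]; abel
  · push Not at hall
    obtain ⟨m, hm, hne0⟩ := hall
    obtain ⟨u, hu, hue⟩ := hU.restrict (List.mem_cons_of_mem _ hm) hx
    refine hU.omega_mem_of_eight hu (fun p => if p ∈ toSet m then y p else 0) (fun p => ?_)
      (zmod2_odd (by rwa [cast_sum_toSet]))
    rw [hue, hy]
    split_ifs <;> ring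

theorem ShortStabBase.omega_mem (hU : ShortStabBase U) {x : leechLattice} (hx : x ∈ U)
    (heven : ∀ p, (2 : ℤ) ∣ (x : GolayPt → ℤ) p)
    (hne : ∀ w : leechLattice, x ≠ w + w ∧ x ≠ shortV + (w + w)) : bigE none ∈ U := by
  classical
  choose s hs using heven
  obtain ⟨m, c, y, hc, he, -⟩ := mem_leechLattice.1 x.2
  obtain ⟨t, rfl⟩ : (2 : ℤ) ∣ m := by
    have := hs none; rw [he] at this; simp only [lvec] at this; omega
  let c0 : GolayPt → ZMod 2 := fun p => (s p : ZMod 2)
  have hc0 : c0 ∈ golayCode := by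
    have e : c0 = (t : ZMod 2) • (1 : GolayPt → ZMod 2) + c := by
      funext p
      have := hs p; rw [he] at this; simp only [lvec] at this
      have e1 : s p = t + bitZ (c p) + 2 * y p := by linarith
      simp only [c0, e1, Int.cast_add, Int.cast_mul, bitZ_cast, Pi.add_apply, Pi.smul_apply,
        Pi.one_apply, smul_eq_mul, mul_one]
      rw [show ((2 : ℤ) : ZMod 2) = 0 from rfl, zero_mul, add_zero]
    rw [e]
    exact Submodule.add_mem _ (Submodule.smul_mem _ _ one_mem_golayCode) hc
  have hmem := mask_mem_of_mem_golayCode hc0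
  have hcase := List.all_eq_true.1 triple_check _ hmem
  simp only [Bool.or_eq_true, List.any_eq_true, Nat.beq_eq] at hcase
  rcases hcase with (h0 | h1) | ⟨a, ha, b, hb, hab⟩
  · -- all coordinates divisible by four
    refine hU.omega_mem_of_four hx (fun p => ?_) hne
    have h2 : c0 = 0 := by rw [← word_mask_support₂ c0, h0, word_zero]
    have := congrFun h2 p
    simp only [c0, Pi.zero_apply, ZMod.intCast_eq_zero_iff_even] at this
    obtain ⟨k, hk⟩ := this
    exact ⟨k, by rw [hs, hk]; ring⟩
  · -- all coordinates two modulo four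
    let w0 : leechLattice :=
      ⟨lvec 1 0 (fun i => if i = none then -1 else 0), mem_leechLattice.2
        ⟨1, 0, _, Submodule.zero_mem _, rfl, by simp⟩⟩
    have hx' : ∀ p, (4 : ℤ) ∣ ((x - (w0 + w0) : leechLattice) : GolayPt → ℤ) p := fun p => by
      have h2 : c0 = 1 := by
        rw [← word_mask_support₂ c0, h1]
        funext q
        exact word_eq_one_iff.2 (mem_toSet.1 (toSet_full ▸ Finset.mem_univ q))
      have := congrFun h2 p
      simp only [c0, Pi.one_apply] at this
      have hodd : Odd (s p) := zmod2_odd (by rw [this]; exact one_ne_zero)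
      obtain ⟨k, hk⟩ := hodd
      simp only [AddSubgroup.coe_sub, AddSubgroup.coe_add, Pi.sub_apply, Pi.add_apply, w0, lvec,
        hs p, hk, Pi.zero_apply, bitZ_zero]
      split_ifs <;> omega
    refine hU.omega_mem_of_four (U.sub_mem hx (hU.dbl w0)) hx' fun w => ⟨fun e => ?_, fun e => ?_⟩
    · exact (hne (w + w0)).1 (by rw [sub_eq_iff_eq_add] at e; rw [e]; abel)
    · exact (hne (w + w0)).2 (by rw [sub_eq_iff_eq_add] at e; rw [e]; abel)
  · obtain ⟨u, hu, hue⟩ := hU.restrict (List.mem_cons_of_mem _ ha) hx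
    obtain ⟨u', hu', hue'⟩ := hU.restrict (List.mem_cons_of_mem _ hb) hu
    refine hU.omega_mem_of_eight hu' (fun p => if p ∈ toSet (a &&& b) then s p else 0)
      (fun p => ?_) (zmod2_odd ?_)
    · simp only [hue', hue, hs, toSet_and, Finset.mem_inter]
      by_cases h2 : p ∈ toSet a <;> by_cases h3 : p ∈ toSet b <;> simp [h2, h3] <;> ring
    · rw [cast_sum_toSet]
      have h2 := natCast_pop_and (a &&& b) (mask (support₂ c0))
      rw [word_mask_support₂, Nat.and_comm, ← ZMod.natCast_mod, hab, Nat.cast_one] at h2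
      rw [← h2]; exact one_ne_zero

theorem xi_checks :
    lOf (xiFun (shortV : GolayPt → ℤ)) = lOf (-(shortV : GolayPt → ℤ)) ∧
    lOf (xiFun (Pi.single none 8) + (shortV : GolayPt → ℤ)) =
      lOf (Pi.single (pt 1) 4 + Pi.single (pt 2) 4 : GolayPt → ℤ) ∧
    ([pt 0, none, pt 1, pt 2, pt 3, pt 4, pt 6] : List GolayPt).Nodup ∧
    ¬ (16 : ℤ) ∣ dotInt (xiFun (Pi.single (pt 3) 4 + Pi.single (pt 4) 4 : GolayPt → ℤ))
      (Pi.single (pt 3) 4 + Pi.single (pt 6) 4 : GolayPt → ℤ) := by decide +kernel

theorem xiEl_shortV : xiEl • shortV = -shortV :=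
  Subtype.ext (lOf_inj xi_checks.1)

theorem omega_orth {U U' : AddSubgroup leechLattice} (hU : ShortStabBase U) (hU' : ShortStabBase U')
    (horth : ∀ u ∈ U, ∀ u' ∈ U', (16 : ℤ) ∣ dotInt (u : GolayPt → ℤ) (u' : GolayPt → ℤ))
    (hω : bigE none ∈ U) (hω' : bigE none ∈ U') : False := by
  classical
  have h12 : ((xiEl • bigE none + shortV : leechLattice) : GolayPt → ℤ) =
      Pi.single (pt 1) 4 + Pi.single (pt 2) 4 := lOf_inj xi_checks.2.1
  obtain ⟨-, hdot⟩ := xi_checks.2.2
  have hpair : ∀ U : AddSubgroup leechLattice, ShortStabBase U → bigE none ∈ U →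
      ∀ p q : GolayPt, p ≠ q → p ≠ none → p ≠ pt 0 → q ≠ none → q ≠ pt 0 →
      ∃ u ∈ U, (u : GolayPt → ℤ) = Pi.single p 4 + Pi.single q 4 := by
    intro U hU hω p q hne hpa hpb hqa hqb
    have := isMultiplyPretransitive_le_five (k := 4) (by norm_num)
    let X : Fin 4 ↪ GolayPt := ⟨![none, pt 0, pt 1, pt 2], by decide⟩
    let Y : Fin 4 ↪ GolayPt := ⟨![none, pt 0, p, q], by
      have h0 : (none : GolayPt) ≠ pt 0 := by decide
      intro u v h
      fin_cases u <;> fin_cases v <;> simp at h <;> first | rfl | tauto⟩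
    obtain ⟨σ, hσ⟩ := MulAction.exists_smul_eq M24 X Y
    have h0 : (σ : Equiv.Perm GolayPt) none = none := DFunLike.congr_fun hσ 0
    have h1 : (σ : Equiv.Perm GolayPt) (pt 0) = pt 0 := DFunLike.congr_fun hσ 1
    have h2 : (σ : Equiv.Perm GolayPt) (pt 1) = p := DFunLike.congr_fun hσ 2
    have h3 : (σ : Equiv.Perm GolayPt) (pt 2) = q := DFunLike.congr_fun hσ 3
    have hfix : permEl σ • shortV = shortV := Subtype.ext (by
      rw [permEl, monoEl_smul]
      show signedPerm _ ∅ (Pi.single none 4 - Pi.single (pt 0) 4) = _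
      funext i
      rw [signedPerm_empty_apply, Pi.sub_apply, shortV_coe]
      simp only [Pi.single_apply, Equiv.symm_apply_eq, h0, h1])
    refine ⟨_, hU.inv _ (Or.inl hfix) _
      (U.add_mem (hU.inv _ (Or.inr xiEl_shortV) _ hω) hU.mem), ?_⟩
    rw [permEl, monoEl_smul, h12]
    funext i
    show signedPerm _ ∅ _ i = _
    rw [signedPerm_empty_apply, Pi.add_apply, Pi.add_apply]
    simp only [Pi.single_apply, Equiv.symm_apply_eq, h2, h3]
  obtain ⟨u, hu, hue⟩ :=
    hpair U hU hω (pt 3) (pt 4) (by decide) (by decide) (by decide) (by decide) (by decide)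
  obtain ⟨u', hu', hue'⟩ :=
    hpair U' hU' hω' (pt 3) (pt 6) (by decide) (by decide) (by decide) (by decide) (by decide)
  have := horth _ (hU.inv _ (Or.inr xiEl_shortV) u hu) u' hu'
  rw [xiEl_smul, hue, hue'] at this
  exact hdot this

theorem ShortStabInv.omega_notMem (hU : ShortStabInv U) : bigE none ∉ U := fun h =>
  omega_orth hU.toShortStabBase hU.toShortStabBase (fun _ hu _ hu' => hU.dot hu hu') h h

/-- Such a subgroup with an element outside `{0, v}` modulo the doubles contains `8 e∞`. -/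
theorem ShortStabBase.omega_mem_of_ne (hU : ShortStabBase U) {x : leechLattice} (hx : x ∈ U)
    (hne : ∀ w : leechLattice, x ≠ w + w ∧ x ≠ shortV + (w + w)) : bigE none ∈ U := by
  classical
  by_cases heven : ∀ p, (2 : ℤ) ∣ (x : GolayPt → ℤ) p
  · exact hU.omega_mem hx heven hne
  push Not at heven
  obtain ⟨p₀, hp₀⟩ := heven
  obtain ⟨m, c, y, -, he, -⟩ := mem_leechLattice.1 x.2
  have hodd : ∀ q, (x : GolayPt → ℤ) q % 2 = 1 := fun q => by
    rw [he] at hp₀ ⊢
    simp only [lvec] at hp₀ ⊢
    omega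
  obtain ⟨u, hu, hue⟩ := hU.restrict List.mem_cons_self hx
  obtain ⟨hs, ha, hb⟩ := avoid_word (List.mem_cons_self (a := dodAvoid) (l := avoidBasis))
  obtain ⟨q, hq⟩ : ∃ q, q ∈ toSet dodAvoid := by
    refine Finset.card_pos.1 ?_
    rw [card_toSet, avoid_checks.2.1]; norm_num
  have huq : (u : GolayPt → ℤ) q % 4 = 2 := by
    rw [hue, if_pos hq]; have := hodd q; omega
  have hu0 : (u : GolayPt → ℤ) none = 0 := by rw [hue, if_neg ha]
  refine hU.omega_mem hu (fun p => ?_) fun w => ?_
  · rw [hue]; split_ifs <;> omega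
  · obtain ⟨m', c', y', -, he', -⟩ := mem_leechLattice.1 w.2
    have hq1 : q ≠ none := fun e => ha (e ▸ hq)
    have hq2 : q ≠ pt 0 := fun e => hb (e ▸ hq)
    constructor <;> intro e
    all_goals
      have h1 := congrArg (fun z : leechLattice => (z : GolayPt → ℤ) q) e
      have h2 := congrArg (fun z : leechLattice => (z : GolayPt → ℤ) none) e
      simp only [AddSubgroup.coe_add, Pi.add_apply, he', lvec, shortV_coe, if_neg hq1,
        if_neg hq2, hu0] at h1 h2
      try simp at h2
      omega

/-- Modulo the doubles such a subgroup is `{0, v}`. -/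
theorem ShortStabInv.eq_pair (hU : ShortStabInv U) {x : leechLattice} (hx : x ∈ U) :
    ∃ w : leechLattice, x = w + w ∨ x = shortV + (w + w) := by
  by_contra h
  push Not at h
  exact hU.omega_notMem (hU.toShortStabBase.omega_mem hx (hU.coord_even hx) h)

end CfsgLib.Spor
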