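import Mathlib

/-!
A rootless even lattice of rank 24 with the three vector counts: every vector of norm 8 is
congruent to exactly 48 of them modulo twice the lattice.
-/

set_option autoImplicit false

namespace CfsgLib.Spor.Rootless

open Matrix

/-- the norm of a vector for a form -/
def nrm (B : Matrix (Fin 24) (Fin 24) ℤ) (x : Fin 24 → ℤ) : ℤ := x ⬝ᵥ (B *ᵥ x)

/-- the residue of a vector modulo two -/
def res (x : Fin 24 → ℤ) : Fin 24 → ZMod 2 := fun i => (x i : ZMod 2)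

theorem res_eq_iff {x y : Fin 24 → ℤ} : res x = res y ↔ ∀ i, (2 : ℤ) ∣ (x - y) i := by
  rw [funext_iff]
  refine forall_congr' fun i => ?_
  simp only [res, Pi.sub_apply]
  rw [← sub_eq_zero, ← Int.cast_sub, show (2 : ℤ) = ((2 : ℕ) : ℤ) from rfl,
    ZMod.intCast_zmod_eq_zero_iff_dvd]

variable (B : Matrix (Fin 24) (Fin 24) ℤ) (hsymm : B.IsSymm)
  (hpos : ∀ x : Fin 24 → ℤ, x ≠ 0 → 0 < x ⬝ᵥ (B *ᵥ x))
  (heven : ∀ x : Fin 24 → ℤ, (2 : ℤ) ∣ x ⬝ᵥ (B *ᵥ x))
  (h2 : ∀ x : Fin 24 → ℤ, x ⬝ᵥ (B *ᵥ x) ≠ 2)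
include hsymm hpos heven h2

omit hpos heven h2 in
theorem dot_comm (x y : Fin 24 → ℤ) : y ⬝ᵥ (B *ᵥ x) = x ⬝ᵥ (B *ᵥ y) := by
  rw [Matrix.dotProduct_mulVec, dotProduct_comm, ← Matrix.mulVec_transpose, hsymm.eq]

/-- Two short congruent vectors are equal up to sign, or both of norm 8 and orthogonal. -/
theorem congr_short {x y : Fin 24 → ℤ} (hx : nrm B x ≤ 8) (hy : nrm B y ≤ 8) (hc : res x = res y)
    (hne : y ≠ x) (hne' : y ≠ -x) :
    nrm B x = 8 ∧ nrm B y = 8 ∧ x ⬝ᵥ (B *ᵥ y) = 0 := by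
  choose u hu using res_eq_iff.1 hc
  have hxy : x - y = (2 : ℤ) • u := funext fun i => by simpa using hu i
  have hxy' : x + y = (2 : ℤ) • (u + y) := by
    rw [smul_add, ← hxy]; module
  have hmin : ∀ v : Fin 24 → ℤ, v ≠ 0 → 4 ≤ v ⬝ᵥ (B *ᵥ v) := fun v hv => by
    have := hpos v hv; have := heven v; have := h2 v; omega
  have hs := dot_comm B hsymm x y
  unfold nrm at hx hy ⊢
  have e1 : (4 : ℤ) * (u ⬝ᵥ B *ᵥ u) =
      x ⬝ᵥ (B *ᵥ x) + y ⬝ᵥ (B *ᵥ y) - 2 * (x ⬝ᵥ B *ᵥ y) := by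
    have h := congrArg (fun v => v ⬝ᵥ B *ᵥ v) hxy
    simp only [Matrix.mulVec_sub, Matrix.mulVec_smul, sub_dotProduct, dotProduct_sub,
      smul_dotProduct, dotProduct_smul, smul_eq_mul, hs] at h
    linarith
  have e2 : (4 : ℤ) * ((u + y) ⬝ᵥ B *ᵥ (u + y)) =
      x ⬝ᵥ (B *ᵥ x) + y ⬝ᵥ (B *ᵥ y) + 2 * (x ⬝ᵥ B *ᵥ y) := by
    have h := congrArg (fun v => v ⬝ᵥ B *ᵥ v) hxy'
    simp only [Matrix.mulVec_add, Matrix.mulVec_smul, add_dotProduct, dotProduct_add,
      smul_dotProduct, dotProduct_smul, smul_eq_mul, hs] at h ⊢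
    linarith
  have a1 := hmin u fun h => hne (by
    rw [h, smul_zero, sub_eq_zero] at hxy; exact hxy.symm)
  have a2 := hmin (u + y) fun h => hne' (by
    rw [h, smul_zero] at hxy'; exact eq_neg_of_add_eq_zero_right hxy')
  exact ⟨by linarith, by linarith, by linarith⟩

omit hsymm hpos heven h2 in
theorem nrm_neg (x : Fin 24 → ℤ) : nrm B (-x) = nrm B x := by
  simp [nrm, Matrix.mulVec_neg]

/-- A class of vectors of norm at most 6 has at most two members. -/
theorem fibre_two {n : ℤ} (hn : n < 8) (T : Finset (Fin 24 → ℤ)) (hT : ∀ v ∈ T, nrm B v = n)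
    (hq : ∀ v ∈ T, ∀ w ∈ T, res v = res w) : T.card ≤ 2 := by
  classical
  rcases T.eq_empty_or_nonempty with rfl | ⟨v, hv⟩
  · simp
  refine le_trans (Finset.card_le_card (t := {v, -v}) fun w hw => ?_) Finset.card_le_two
  by_contra h
  simp only [Finset.mem_insert, Finset.mem_singleton, not_or] at h
  have := (congr_short B hsymm hpos heven h2 (le_of_lt (hT v hv ▸ hn))
    (le_of_lt (hT w hw ▸ hn)) (hq v hv w hw) h.1 h.2).1
  rw [hT v hv] at this
  omega

/-- A class of vectors of norm 8 has at most 48 members. -/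
theorem fibre_cross (T : Finset (Fin 24 → ℤ)) (hT : ∀ v ∈ T, nrm B v = 8)
    (hq : ∀ v ∈ T, ∀ w ∈ T, res v = res w) : T.card ≤ 48 := by
  classical
  let pr : (Fin 24 → ℤ) → Finset (Fin 24 → ℤ) := fun v => {v, -v}
  have hg : ∀ p ∈ T.image pr, ∃ v ∈ T, pr v = p := fun p hp => Finset.mem_image.1 hp
  choose g hgT hgp using hg
  let S : Finset (Fin 24 → ℤ) := (T.image pr).attach.image fun p => g p.1 p.2
  have hS : S.card = (T.image pr).card := by
    rw [Finset.card_image_of_injective _ fun p q h => Subtype.ext ?_, Finset.card_attach]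
    rw [← hgp p.1 p.2, ← hgp q.1 q.2]
    exact congrArg pr h
  have h2c : T.card ≤ 2 * (T.image pr).card := Finset.card_le_mul_card_image T 2 fun p hp => by
    obtain ⟨v, -, rfl⟩ := Finset.mem_image.1 hp
    refine le_trans (Finset.card_le_card (t := {v, -v}) fun w hw => ?_) Finset.card_le_two
    have : w ∈ pr v := by rw [← (Finset.mem_filter.1 hw).2]; simp [pr]
    exact this
  have hST : ∀ v ∈ S, v ∈ T := fun v hv => by
    obtain ⟨p, -, rfl⟩ := Finset.mem_image.1 hv; exact hgT _ _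
  have horth : ∀ v ∈ S, ∀ w ∈ S, v ≠ w → v ⬝ᵥ (B *ᵥ w) = 0 := by
    intro v hv w hw hne
    refine (congr_short B hsymm hpos heven h2 (hT v (hST v hv)).le (hT w (hST w hw)).le
      (hq v (hST v hv) w (hST w hw)) (Ne.symm hne) fun h => hne ?_).2.2
    obtain ⟨p, -, rfl⟩ := Finset.mem_image.1 hv
    obtain ⟨q, -, rfl⟩ := Finset.mem_image.1 hw
    have : pr (g p.1 p.2) = pr (g q.1 q.2) := by
      rw [h]; simp [pr, Finset.pair_comm]
    rw [hgp, hgp] at this
    rw [Subtype.ext this]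
  have hli : LinearIndependent ℤ fun v : S => (v.1 : Fin 24 → ℤ) := by
    rw [Fintype.linearIndependent_iff]
    intro c hc v
    have h0 := congrArg (fun x => x ⬝ᵥ (B *ᵥ v.1)) hc
    simp only [sum_dotProduct, smul_dotProduct, zero_dotProduct, smul_eq_mul] at h0
    rw [Finset.sum_eq_single v (fun u _ hu => by
      rw [horth u.1 u.2 v.1 v.2 fun h => hu (Subtype.ext h), mul_zero]) (by simp)] at h0
    have h8 : v.1 ⬝ᵥ (B *ᵥ v.1) = 8 := hT v.1 (hST v.1 v.2)
    rw [h8] at h0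
    omega
  have h24 := hli.fintype_card_le_finrank
  rw [Module.finrank_pi, Fintype.card_fin, Fintype.card_coe] at h24
  omega

/-- The classes of norm 8 have exactly 48 members. -/
theorem cross_count (h4 : {x : Fin 24 → ℤ | x ⬝ᵥ (B *ᵥ x) = 4}.ncard = 196560)
    (h6 : {x : Fin 24 → ℤ | x ⬝ᵥ (B *ᵥ x) = 6}.ncard = 16773120)
    (h8 : {x : Fin 24 → ℤ | x ⬝ᵥ (B *ᵥ x) = 8}.ncard = 398034000)
    (x : Fin 24 → ℤ) (hx : x ⬝ᵥ (B *ᵥ x) = 8) :
    {y : Fin 24 → ℤ | y ⬝ᵥ (B *ᵥ y) = 8 ∧ ∀ i, (2 : ℤ) ∣ (x - y) i}.ncard = 48 := by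
  classical
  change {x : Fin 24 → ℤ | nrm B x = 4}.ncard = 196560 at h4
  change {x : Fin 24 → ℤ | nrm B x = 6}.ncard = 16773120 at h6
  change {x : Fin 24 → ℤ | nrm B x = 8}.ncard = 398034000 at h8
  have f4 : {x : Fin 24 → ℤ | nrm B x = 4}.Finite :=
    Set.finite_of_ncard_ne_zero (by rw [h4]; norm_num)
  have f6 : {x : Fin 24 → ℤ | nrm B x = 6}.Finite :=
    Set.finite_of_ncard_ne_zero (by rw [h6]; norm_num)
  have f8 : {x : Fin 24 → ℤ | nrm B x = 8}.Finite :=
    Set.finite_of_ncard_ne_zero (by rw [h8]; norm_num)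
  have c4 : f4.toFinset.card = 196560 := by rw [← Set.ncard_eq_toFinset_card _ f4]; exact h4
  have c6 : f6.toFinset.card = 16773120 := by rw [← Set.ncard_eq_toFinset_card _ f6]; exact h6
  have c8 : f8.toFinset.card = 398034000 := by rw [← Set.ncard_eq_toFinset_card _ f8]; exact h8
  have m4 : ∀ v ∈ f4.toFinset, nrm B v = 4 := fun v hv => f4.mem_toFinset.1 hv
  have m6 : ∀ v ∈ f6.toFinset, nrm B v = 6 := fun v hv => f6.mem_toFinset.1 hv
  have m8 : ∀ v ∈ f8.toFinset, nrm B v = 8 := fun v hv => f8.mem_toFinset.1 hv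
  have b4 := Finset.card_le_mul_card_image (f := res) f4.toFinset 2 fun p _ =>
    fibre_two B hsymm hpos heven h2 (n := 4) (by norm_num) _
      (fun v hv => m4 v (Finset.mem_filter.1 hv).1)
      fun v hv w hw => (Finset.mem_filter.1 hv).2.trans (Finset.mem_filter.1 hw).2.symm
  have b6 := Finset.card_le_mul_card_image (f := res) f6.toFinset 2 fun p _ =>
    fibre_two B hsymm hpos heven h2 (n := 6) (by norm_num) _
      (fun v hv => m6 v (Finset.mem_filter.1 hv).1)
      fun v hv w hw => (Finset.mem_filter.1 hv).2.trans (Finset.mem_filter.1 hw).2.symm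
  have hb8 : ∀ p, (f8.toFinset.filter fun v => res v = p).card ≤ 48 := fun p =>
    fibre_cross B hsymm hpos heven h2 _ (fun v hv => m8 v (Finset.mem_filter.1 hv).1)
      fun v hv w hw => (Finset.mem_filter.1 hv).2.trans (Finset.mem_filter.1 hw).2.symm
  have b8 := Finset.card_le_mul_card_image (f := res) f8.toFinset 48 fun p _ => hb8 p
  have hdisj : ∀ (n m : ℤ) (A C : Finset (Fin 24 → ℤ)), n ≤ 8 → m ≤ 8 → n ≠ m →
      (∀ v ∈ A, nrm B v = n) → (∀ v ∈ C, nrm B v = m) →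
      Disjoint (A.image res) (C.image res) := by
    intro n m A C hn hm hne hA hC
    rw [Finset.disjoint_left]
    rintro p hpA hpC
    obtain ⟨v, hv, rfl⟩ := Finset.mem_image.1 hpA
    obtain ⟨w, hw, hwv⟩ := Finset.mem_image.1 hpC
    have hA' := hA v hv
    have hC' := hC w hw
    by_cases e1 : w = v
    · rw [e1, hA'] at hC'; exact hne hC'
    by_cases e2 : w = -v
    · rw [e2, nrm_neg, hA'] at hC'; exact hne hC'
    obtain ⟨a, b, -⟩ := congr_short B hsymm hpos heven h2 (hA'.le.trans hn) (hC'.le.trans hm)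
      hwv.symm e1 e2
    rw [hA'] at a; rw [hC'] at b
    exact hne (a.trans b.symm)
  have h0 : ∀ v ∈ ({0} : Finset (Fin 24 → ℤ)), nrm B v = 0 := fun v hv => by
    rw [Finset.mem_singleton.1 hv]; simp [nrm]
  let U : Finset (Fin 24 → ZMod 2) := ({0} : Finset (Fin 24 → ℤ)).image res ∪
    f4.toFinset.image res ∪ f6.toFinset.image res ∪ f8.toFinset.image res
  have hU : U.card = 1 + (f4.toFinset.image res).card + (f6.toFinset.image res).card +
      (f8.toFinset.image res).card := by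
    rw [Finset.card_union_of_disjoint, Finset.card_union_of_disjoint,
      Finset.card_union_of_disjoint, Finset.image_singleton, Finset.card_singleton]
    · exact hdisj 0 4 _ _ (by norm_num) (by norm_num) (by norm_num) h0 m4
    · rw [Finset.disjoint_union_left]
      exact ⟨hdisj 0 6 _ _ (by norm_num) (by norm_num) (by norm_num) h0 m6,
        hdisj 4 6 _ _ (by norm_num) (by norm_num) (by norm_num) m4 m6⟩
    · rw [Finset.disjoint_union_left, Finset.disjoint_union_left]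
      exact ⟨⟨hdisj 0 8 _ _ (by norm_num) (by norm_num) (by norm_num) h0 m8,
        hdisj 4 8 _ _ (by norm_num) (by norm_num) (by norm_num) m4 m8⟩,
        hdisj 6 8 _ _ (by norm_num) (by norm_num) (by norm_num) m6 m8⟩
  have huniv := Finset.card_le_univ U
  rw [← Nat.card_eq_fintype_card, Nat.card_fun, Nat.card_zmod, Nat.card_fin, hU] at huniv
  rw [c4] at b4; rw [c6] at b6; rw [c8] at b8
  norm_num at huniv
  have e8 : (f8.toFinset.image res).card = 8292375 := by omega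
  have hsum := Finset.card_eq_sum_card_image res f8.toFinset
  have heq := (Finset.sum_eq_sum_iff_of_le fun p _ => hb8 p).1 (by
    rw [← hsum, c8, Finset.sum_const, e8, smul_eq_mul]) (res x)
    (Finset.mem_image_of_mem res (f8.mem_toFinset.2 hx))
  rw [← heq, ← Set.ncard_coe_finset]
  congr 1
  ext y
  simp only [Finset.coe_filter, Set.mem_ofPred_eq, ← res_eq_iff]
  exact ⟨fun h => ⟨f8.mem_toFinset.2 h.1, h.2.symm⟩, fun h => ⟨f8.mem_toFinset.1 h.1, h.2.symm⟩⟩

end CfsgLib.Spor.Rootless
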