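import Cfsg.Agent.Lib.Spor.LeechBasic
import Cfsg.Agent.Lib.Spor.RootlessClasses
import Cfsg.Agent.Lib.KnownA.SteinerUnique.Code

/-!
Uniqueness of the Leech lattice: a rootless even lattice with 196560 vectors of norm 4 and a
coordinate frame of norm 8 is the Leech lattice, by the uniqueness of the Golay code.
-/

set_option autoImplicit false

namespace CfsgLib.Spor.LeechUniq

open Matrix
open Cfsg CfsgLib.Spor

theorem bitZ_intCast (n : ℤ) : bitZ (n : ZMod 2) = n % 2 := by
  rw [bitZ, ZMod.val_intCast]; rfl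

theorem bitZ_mul_self : ∀ a : ZMod 2, bitZ a * bitZ a = bitZ a := by decide

theorem bitZ_mul : ∀ a b : ZMod 2, bitZ (a * b) = bitZ a * bitZ b := by decide

section Frame

variable {ι : Type*} [Fintype ι] [DecidableEq ι]

/-- an even vector by its code word and remainder -/
def lv (c : ι → ZMod 2) (y : ι → ℤ) : ι → ℤ := fun i => 2 * bitZ (c i) + 4 * y i

/-- four times a vector -/
def four (y : ι → ℤ) : ι → ℤ := fun i => 4 * y i

/-- The properties of a rootless even lattice read in a frame of norm 8. -/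
structure Framed (L : AddSubgroup (ι → ℤ)) : Prop where
  dot : ∀ u ∈ L, ∀ v ∈ L, (8 : ℤ) ∣ ∑ i, u i * v i
  sq : ∀ u ∈ L, (16 : ℤ) ∣ ∑ i, u i * u i
  small : ∀ u ∈ L, u ≠ 0 → 32 ≤ ∑ i, u i * u i
  pair : ∀ i j : ι, four (Pi.single i 1 + Pi.single j 1) ∈ L

theorem sum_bitZ' (c : ι → ZMod 2) : ∑ i, bitZ (c i) = (hammingNorm c : ℤ) := by
  rw [hammingNorm, Finset.natCast_card_filter]
  refine Finset.sum_congr rfl fun i _ => ?_
  rcases bitZ_cases (c i) with ⟨h, h'⟩ | ⟨h, h'⟩ <;> rw [h'] <;> simp [h]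

variable {L : AddSubgroup (ι → ℤ)} (hL : Framed L)
include hL

theorem parity {u : ι → ℤ} (hu : u ∈ L) (i j : ι) : u i % 2 = u j % 2 := by
  have h := hL.dot u hu _ (hL.pair i j)
  have e : ∑ k, u k * four (Pi.single i 1 + Pi.single j 1) k = 4 * (u i + u j) := by
    simp [four, mul_add, Finset.sum_add_distrib, Pi.single_apply]; ring
  rw [e] at h
  omega

theorem four_mem {y : ι → ℤ} (hy : (2 : ℤ) ∣ ∑ i, y i) : four y ∈ L := by
  rcases isEmpty_or_nonempty ι with h | ⟨⟨o⟩⟩
  · have : four y = 0 := funext fun i => h.elim i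
    rw [this]; exact L.zero_mem
  obtain ⟨t, ht⟩ := hy
  have e : four y = ∑ i, y i • four (Pi.single i 1 + Pi.single o 1) -
      t • four (Pi.single o 1 + Pi.single o 1) := by
    funext k
    simp only [four, Finset.sum_apply, Pi.sub_apply, Pi.smul_apply, Pi.add_apply, smul_eq_mul,
      mul_add, Finset.sum_add_distrib]
    rw [Finset.sum_eq_single k (fun b _ hb => by simp [Ne.symm hb]) (by simp)]
    by_cases hk : k = o
    · subst hk
      simp only [Pi.single_eq_same, mul_one, ← Finset.sum_mul, ht]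
      ring
    · simp [hk, Ne.symm hk]; ring
  rw [e]
  exact L.sub_mem (L.sum_mem fun i _ => L.zsmul_mem (hL.pair i o) _) (L.zsmul_mem (hL.pair o o) _)

theorem even_of_four_mem {y : ι → ℤ} (hy : four y ∈ L) : (2 : ℤ) ∣ ∑ i, y i := by
  rcases isEmpty_or_nonempty ι with h | ⟨⟨o⟩⟩
  · simp
  by_contra hodd
  have hm := L.sub_mem hy (four_mem hL (y := y - Pi.single o 1) (by
    simp only [Pi.sub_apply, Finset.sum_sub_distrib, Finset.sum_pi_single', Finset.mem_univ,
      if_true]
    omega))
  have e : four y - four (y - Pi.single o 1) = four (Pi.single o 1) := funext fun i => by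
    simp [four]; ring
  rw [e] at hm
  have hne : four (Pi.single o (1 : ℤ)) ≠ 0 := fun h => by
    have := congrFun h o
    simp [four] at this
  have hs := hL.small _ hm hne
  simp [four, Pi.single_apply] at hs

theorem lv_parity {c : ι → ZMod 2} {y z : ι → ℤ} (hy : lv c y ∈ L) (hz : lv c z ∈ L) :
    (2 : ℤ) ∣ ∑ i, y i - ∑ i, z i := by
  have h := L.sub_mem hy hz
  have e : lv c y - lv c z = four (y - z) := funext fun i => by simp [lv, four]; ring
  rw [e] at h
  simpa using even_of_four_mem hL h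

theorem lv_mem_of_parity {c : ι → ZMod 2} {y z : ι → ℤ} (hy : lv c y ∈ L)
    (h : (2 : ℤ) ∣ ∑ i, z i - ∑ i, y i) : lv c z ∈ L := by
  have e : lv c z = lv c y + four (z - y) := funext fun i => by simp [lv, four]; ring
  rw [e]
  exact L.add_mem hy (four_mem hL (by simpa using h))

omit hL in
theorem even_eq_lv {u : ι → ℤ} (hu : ∀ i, u i % 2 = 0) :
    u = lv (fun i => ((u i / 2 : ℤ) : ZMod 2)) (fun i => u i / 4) := funext fun i => by
  have := hu i
  simp only [lv, bitZ_intCast]
  omega

omit hL in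
theorem lv_add (c d : ι → ZMod 2) (y z : ι → ℤ) :
    lv c y + lv d z = lv (c + d) (fun i => y i + z i + bitZ (c i * d i)) := funext fun i => by
  have := bitZ_add (c i) (d i)
  simp only [lv, Pi.add_apply]
  linarith

variable (L) in
omit hL in
/-- the code word set of the even vectors -/
def code : Submodule (ZMod 2) (ι → ZMod 2) :=
  have hzero : ∃ y : ι → ℤ, lv (0 : ι → ZMod 2) y ∈ L := ⟨0, by
    have : lv (0 : ι → ZMod 2) 0 = 0 := funext fun i => by simp [lv]
    rw [this]; exact L.zero_mem⟩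
  { carrier := {c | ∃ y, lv c y ∈ L}
    zero_mem' := hzero
    add_mem' := by
      rintro c d ⟨y, hy⟩ ⟨z, hz⟩
      exact ⟨_, lv_add c d y z ▸ L.add_mem hy hz⟩
    smul_mem' := by
      intro a c hc
      rcases bitZ_cases a with ⟨rfl, -⟩ | ⟨rfl, -⟩
      · rw [zero_smul]; exact hzero
      · rwa [one_smul] }

theorem even_word {u : ι → ℤ} (hu : u ∈ L) (h : ∀ i, u i % 2 = 0) :
    (fun i => ((u i / 2 : ℤ) : ZMod 2)) ∈ code L := ⟨_, even_eq_lv h ▸ hu⟩

theorem code_four {c : ι → ZMod 2} (hc : c ∈ code L) : 4 ∣ hammingNorm c := by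
  obtain ⟨y, hy⟩ := hc
  have h := hL.sq _ hy
  have e : ∑ i, lv c y i * lv c y i =
      4 * ∑ i, bitZ (c i) + 16 * ∑ i, (bitZ (c i) * y i + y i * y i) := by
    rw [Finset.mul_sum, Finset.mul_sum, ← Finset.sum_add_distrib]
    refine Finset.sum_congr rfl fun i _ => ?_
    have := bitZ_mul_self (c i)
    simp only [lv]
    linear_combination (4 : ℤ) * this
  rw [e, sum_bitZ'] at h
  omega

theorem code_orth {c d : ι → ZMod 2} (hc : c ∈ code L) (hd : d ∈ code L) :
    ∑ i, c i * d i = 0 := by
  obtain ⟨y, hy⟩ := hc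
  obtain ⟨z, hz⟩ := hd
  have h := hL.dot _ hy _ hz
  have e : ∑ i, lv c y i * lv d z i = 4 * ∑ i, bitZ (c i * d i) +
      8 * ∑ i, (bitZ (c i) * z i + bitZ (d i) * y i + 2 * (y i * z i)) := by
    rw [Finset.mul_sum, Finset.mul_sum, ← Finset.sum_add_distrib]
    refine Finset.sum_congr rfl fun i _ => ?_
    simp only [lv, bitZ_mul]
    ring
  rw [e] at h
  have h2 : (2 : ℤ) ∣ ∑ i, bitZ (c i * d i) := by omega
  have h3 := (ZMod.intCast_zmod_eq_zero_iff_dvd _ 2).2 h2
  rw [Int.cast_sum] at h3
  simpa [bitZ_cast] using h3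

theorem code_weight {c : ι → ZMod 2} (hc : c ∈ code L) (hne : c ≠ 0) : 8 ≤ hammingNorm c := by
  by_contra hlt
  obtain ⟨y, hy⟩ := hc
  obtain ⟨o, ho⟩ := Function.ne_iff.1 hne
  have ho1 : bitZ (c o) = 1 := by
    rcases bitZ_cases (c o) with ⟨h, -⟩ | ⟨-, h⟩
    · exact absurd h ho
    · exact h
  obtain ⟨z, hz, hzsq⟩ : ∃ z, lv c z ∈ L ∧
      ∀ i, lv c z i * lv c z i = 4 * bitZ (c i) := by
    by_cases hp : (2 : ℤ) ∣ ∑ i, y i
    · refine ⟨0, lv_mem_of_parity hL hy (by simpa using hp), fun i => ?_⟩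
      have := bitZ_mul_self (c i)
      simp only [lv, Pi.zero_apply, mul_zero, add_zero]
      linear_combination (4 : ℤ) * this
    · refine ⟨-Pi.single o 1, lv_mem_of_parity hL hy (by
        simp only [Pi.neg_apply, Finset.sum_neg_distrib, Finset.sum_pi_single', Finset.mem_univ,
          if_true]
        omega), fun i => ?_⟩
      by_cases hi : i = o
      · subst hi; simp [lv, ho1]
      · have := bitZ_mul_self (c i)
        simp only [lv, Pi.neg_apply, Pi.single_eq_of_ne hi, neg_zero, mul_zero, add_zero]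
        linear_combination (4 : ℤ) * this
  have hne' : lv c z ≠ 0 := fun h => by
    have := hzsq o
    rw [ho1, h] at this
    simp at this
  have h := hL.small _ hz hne'
  rw [Finset.sum_congr rfl fun i _ => hzsq i, ← Finset.mul_sum, sum_bitZ'] at h
  have h4 := code_four hL ⟨y, hy⟩
  omega

end Frame

section Dimension

variable {L : AddSubgroup (Fin 24 → ℤ)} (hL : Framed L)
include hL

theorem code_finrank_le : Module.finrank (ZMod 2) (code L) ≤ 12 := by
  let φ := dotProductEquiv (ZMod 2) (Fin 24)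
  have hle : (code L).map φ.toLinearMap ≤ (code L).dualAnnihilator := by
    rintro _ ⟨u, hu, rfl⟩
    rw [Submodule.mem_dualAnnihilator]
    intro w hw
    exact code_orth hL hu hw
  have h1 := Submodule.finrank_mono hle
  have h2 := Subspace.finrank_add_finrank_dualAnnihilator_eq (code L)
  have h3 : Module.finrank (ZMod 2) ((code L).map φ.toLinearMap) =
      Module.finrank (ZMod 2) (code L) := LinearEquiv.finrank_map_eq φ _
  rw [Module.finrank_fin_fun] at h2
  omega

omit hL in
theorem sq_eight {u : Fin 24 → ℤ} (hodd : ∀ i, u i % 2 = 1)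
    (hu : ∑ i, u i * u i = 32) : ∃ i, u i * u i = 9 ∧ ∀ j, j ≠ i → u j * u j = 1 := by
  have key : ∀ i, u i * u i = 1 ∨ 9 ≤ u i * u i := fun i => by
    have h := hodd i
    rcases (by omega : u i = 1 ∨ u i = -1 ∨ u i ≤ -3 ∨ 3 ≤ u i) with h' | h' | h' | h'
    · left; rw [h']; ring
    · left; rw [h']; ring
    · right; nlinarith
    · right; nlinarith
  have hs : ∑ i, (u i * u i - 1) = 8 := by
    rw [Finset.sum_sub_distrib, hu]; simp
  obtain ⟨i, hi⟩ : ∃ i, u i * u i ≠ 1 := by
    by_contra! h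
    simp [h] at hs
  have hi9 : 9 ≤ u i * u i := (key i).resolve_left hi
  rw [← Finset.add_sum_erase _ _ (Finset.mem_univ i)] at hs
  have hnn : ∀ j ∈ (Finset.univ : Finset (Fin 24)).erase i, 0 ≤ u j * u j - 1 := fun j _ => by
    rcases key j with h | h <;> omega
  have h0 := Finset.sum_nonneg hnn
  have hz := (Finset.sum_eq_zero_iff_of_nonneg hnn).1 (by omega)
  exact ⟨i, by omega, fun j hj => by
    have := hz j (Finset.mem_erase.2 ⟨hj, Finset.mem_univ j⟩); omega⟩

variable (F : Finset (Fin 24 → ℤ)) (hF : ∀ u ∈ F, u ∈ L ∧ ∑ i, u i * u i = 32)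
include hF

theorem odd_count : (F.filter fun u => u 0 % 2 = 1).card ≤
    24 * Nat.card (code L) := by
  classical
  rcases (F.filter fun u => u 0 % 2 = 1).eq_empty_or_nonempty with h | ⟨w, hw⟩
  · simp [h]
  obtain ⟨hwF, hw1⟩ := Finset.mem_filter.1 hw
  have hodd : ∀ u ∈ L, u 0 % 2 = 1 → ∀ i, u i % 2 = 1 := fun u hu h i => by
    rw [parity hL hu i 0]; exact h
  have hword : ∀ u : {u // u ∈ F.filter fun u => u 0 % 2 = 1},
      (fun i => (((u.1 i - w i) / 2 : ℤ) : ZMod 2)) ∈ code L := fun u => by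
    obtain ⟨huF, hu1⟩ := Finset.mem_filter.1 u.2
    refine even_word hL (L.sub_mem (hF _ huF).1 (hF _ hwF).1) fun i => ?_
    have a := hodd _ (hF _ huF).1 hu1 i
    have b := hodd _ (hF _ hwF).1 hw1 i
    show (u.1 i - w i) % 2 = 0; omega
  have hpos : ∀ u : {u // u ∈ F.filter fun u => u 0 % 2 = 1},
      ∃ i, u.1 i * u.1 i = 9 ∧ ∀ j, j ≠ i → u.1 j * u.1 j = 1 := fun u => by
    obtain ⟨huF, hu1⟩ := Finset.mem_filter.1 u.2
    exact sq_eight (hodd _ (hF _ huF).1 hu1) (hF _ huF).2
  choose pos hpos9 hpos1 using hpos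
  let g : {u // u ∈ F.filter fun u => u 0 % 2 = 1} → Fin 24 × code L :=
    fun u => (pos u, ⟨_, hword u⟩)
  have hg : Function.Injective g := by
    intro u v h
    have h1 : pos u = pos v := congrArg Prod.fst h
    have h2 : ∀ i, (((u.1 i - w i) / 2 : ℤ) : ZMod 2) = (((v.1 i - w i) / 2 : ℤ) : ZMod 2) :=
      fun i => congrFun (congrArg (fun x : Fin 24 × code L => (x.2 : Fin 24 → ZMod 2)) h) i
    obtain ⟨huF, hu1⟩ := Finset.mem_filter.1 u.2
    obtain ⟨hvF, hv1⟩ := Finset.mem_filter.1 v.2
    refine Subtype.ext (funext fun i => ?_)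
    have h4 : u.1 i % 4 = v.1 i % 4 := by
      have a := hodd _ (hF _ huF).1 hu1 i
      have b := hodd _ (hF _ hwF).1 hw1 i
      have c := hodd _ (hF _ hvF).1 hv1 i
      have := (ZMod.intCast_eq_intCast_iff' _ _ 2).1 (h2 i)
      omega
    have hsq : u.1 i * u.1 i = v.1 i * v.1 i := by
      by_cases hi : i = pos u
      · rw [hi, hpos9 u, h1, hpos9 v]
      · rw [hpos1 u i hi, hpos1 v i (h1 ▸ hi)]
    rcases mul_self_eq_mul_self_iff.1 hsq with h' | h'
    · exact h'
    · have := hodd _ (hF _ hvF).1 hv1 i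
      omega
  have := Nat.card_le_card_of_injective g hg
  rw [Nat.card_prod, Nat.card_fin, Nat.card_eq_fintype_card, Fintype.card_coe] at this
  exact this

omit hF in
open scoped Classical in
theorem octad_count : ((Finset.univ : Finset (Fin 24 → ZMod 2)).filter
    fun c => c ∈ code L ∧ hammingNorm c = 8).card ≤ 759 := by
  classical
  set W := (Finset.univ : Finset (Fin 24 → ZMod 2)).filter
    fun c => c ∈ code L ∧ hammingNorm c = 8 with hW
  let sub : (Fin 24 → ZMod 2) → Finset (Finset (Fin 24)) :=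
    fun c => (Finset.univ.filter fun i => c i ≠ 0).powersetCard 5
  have hdis : (W : Set (Fin 24 → ZMod 2)).PairwiseDisjoint sub := by
    intro c hc d hd hne
    rw [Function.onFun, Finset.disjoint_left]
    intro T hTc hTd
    obtain ⟨hTc, hT5⟩ := Finset.mem_powersetCard.1 hTc
    obtain ⟨hTd, -⟩ := Finset.mem_powersetCard.1 hTd
    simp only [hW, Finset.coe_filter, Finset.mem_univ, true_and, Set.mem_ofPred_eq] at hc hd
    have hz : c - d ≠ 0 := sub_ne_zero.2 hne
    have h8 := code_weight hL ((code L).sub_mem hc.1 hd.1) hz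
    have hsub : (Finset.univ.filter fun i => (c - d) i ≠ 0) ⊆
        ((Finset.univ.filter fun i => c i ≠ 0) ∪ (Finset.univ.filter fun i => d i ≠ 0)) \ T := by
      intro i hi
      rw [Finset.mem_filter] at hi
      rw [Finset.mem_sdiff, Finset.mem_union]
      refine ⟨?_, fun hiT => hi.2 ?_⟩
      · by_contra! h
        simp only [Finset.mem_filter, Finset.mem_univ, true_and, not_not] at h
        exact hi.2 (by simp [h.1, h.2])
      · have h1 := (Finset.mem_filter.1 (hTc hiT)).2
        have h2 := (Finset.mem_filter.1 (hTd hiT)).2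
        rcases bitZ_cases (c i) with ⟨a, -⟩ | ⟨a, -⟩
        · exact absurd a h1
        rcases bitZ_cases (d i) with ⟨b, -⟩ | ⟨b, -⟩
        · exact absurd b h2
        simp [a, b]
    have h1 := Finset.card_le_card hsub
    have h2 := Finset.card_union_add_card_inter (Finset.univ.filter fun i => c i ≠ 0)
      (Finset.univ.filter fun i => d i ≠ 0)
    have h3 := Finset.card_le_card (Finset.subset_inter hTc hTd)
    rw [Finset.card_sdiff_of_subset (hTc.trans Finset.subset_union_left)] at h1
    simp only [hammingNorm] at h8 hc hd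
    omega
  have h1 := Finset.card_le_card (Finset.subset_univ (W.biUnion sub) |> fun _ =>
    (Finset.biUnion_subset.2 fun c _ => Finset.powersetCard_mono (Finset.subset_univ _) :
      W.biUnion sub ⊆ (Finset.univ : Finset (Fin 24)).powersetCard 5))
  rw [Finset.card_biUnion hdis, Finset.card_powersetCard, Finset.card_univ, Fintype.card_fin,
    Finset.sum_congr rfl (g := fun _ => 56) fun c hc => ?_, Finset.sum_const, smul_eq_mul] at h1
  · have : Nat.choose 24 5 = 42504 := by decide
    omega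
  · rw [Finset.card_powersetCard]
    have : hammingNorm c = 8 := (Finset.mem_filter.1 hc).2.2
    rw [hammingNorm] at this
    rw [this]; decide

theorem even_count : (F.filter fun u => ¬ u 0 % 2 = 1).card ≤ 2304 + 759 * 128 := by
  classical
  let word : (Fin 24 → ℤ) → Fin 24 → ZMod 2 := fun u i => ((u i / 2 : ℤ) : ZMod 2)
  have heven : ∀ u ∈ F.filter (fun u => ¬ u 0 % 2 = 1), ∀ i, u i % 2 = 0 := fun u hu i => by
    obtain ⟨huF, h⟩ := Finset.mem_filter.1 hu
    rw [parity hL (hF _ huF).1 i 0]; omega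
  have hcode : ∀ u ∈ F.filter (fun u => ¬ u 0 % 2 = 1), word u ∈ code L := fun u hu =>
    even_word hL (hF _ (Finset.mem_filter.1 hu).1).1 (heven u hu)
  set E := F.filter fun u => ¬ u 0 % 2 = 1
  have hodd2 : ∀ u ∈ E, ∀ i, word u i ≠ 0 → 4 ≤ u i * u i := fun u hu i hi => by
    have := heven u hu i
    rcases (by omega : u i = 0 ∨ u i ≤ -2 ∨ 2 ≤ u i) with h | h | h
    · exact absurd (by simp [word, h]) hi
    · nlinarith
    · nlinarith
  -- the nonzero words have weight 8 and the coordinates are 0 or ±2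
  have hshape : ∀ u ∈ E, word u ≠ 0 → hammingNorm (word u) = 8 ∧
      ∀ i, u i * u i = 4 * bitZ (word u i) := by
    intro u hu hne
    have h8 := code_weight hL (hcode u hu) hne
    have hle : ∀ i ∈ (Finset.univ : Finset (Fin 24)), 4 * bitZ (word u i) ≤ u i * u i :=
      fun i _ => by
        rcases bitZ_cases (word u i) with ⟨h, h'⟩ | ⟨h, h'⟩ <;> rw [h']
        · simpa using mul_self_nonneg (u i)
        · have := hodd2 u hu i (by rw [h]; decide); omega
    have hs := Finset.sum_le_sum hle
    rw [← Finset.mul_sum, sum_bitZ', (hF _ (Finset.mem_filter.1 hu).1).2] at hs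
    have h : hammingNorm (word u) = 8 := by omega
    refine ⟨h, fun i => ((Finset.sum_eq_sum_iff_of_le hle).1 ?_ i (Finset.mem_univ i)).symm⟩
    rw [← Finset.mul_sum, sum_bitZ', h, (hF _ (Finset.mem_filter.1 hu).1).2]
    rfl
  have h0 : (E.filter fun u => word u = 0).card ≤ 2304 := by
    have hsub : (E.filter fun u => word u = 0) ⊆
        (Finset.univ : Finset ((Fin 24 × Bool) × (Fin 24 × Bool))).image fun p =>
          four (Pi.single p.1.1 (bif p.1.2 then 1 else -1) +
            Pi.single p.2.1 (bif p.2.2 then 1 else -1)) := by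
      intro u hu
      obtain ⟨huE, hw⟩ := Finset.mem_filter.1 hu
      have h4 : ∀ i, u i % 4 = 0 := fun i => by
        have h1 := heven u huE i
        have h2 : ((u i / 2 : ℤ) : ZMod 2) = 0 := congrFun hw i
        rw [ZMod.intCast_zmod_eq_zero_iff_dvd] at h2
        omega
      set y : Fin 24 → ℤ := fun i => u i / 4 with hy
      have huy : u = four y := funext fun i => by have := h4 i; simp [four, hy]; omega
      have hys : ∑ i, y i * y i = 2 := by
        have := (hF _ (Finset.mem_filter.1 huE).1).2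
        rw [huy] at this
        have e : ∑ i, four y i * four y i = 16 * ∑ i, y i * y i := by
          rw [Finset.mul_sum]; exact Finset.sum_congr rfl fun i _ => by simp [four]; ring
        omega
      have hnn : ∀ s : Finset (Fin 24), 0 ≤ ∑ i ∈ s, y i * y i := fun s =>
        Finset.sum_nonneg fun i _ => mul_self_nonneg _
      have hpm : ∀ i, y i ≠ 0 → y i = 1 ∨ y i = -1 := fun i hi => by
        have h := Finset.single_le_sum (f := fun i => y i * y i)
          (fun j _ => mul_self_nonneg (y j)) (Finset.mem_univ i)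
        simp only [hys] at h
        have : -2 < y i := by nlinarith
        have : y i < 2 := by nlinarith
        omega
      have hsupp : (Finset.univ.filter fun i => y i ≠ 0).card = 2 := by
        have : ∑ i, y i * y i = ((Finset.univ.filter fun i => y i ≠ 0).card : ℤ) := by
          rw [Finset.natCast_card_filter]
          refine Finset.sum_congr rfl fun i _ => ?_
          by_cases hi : y i = 0
          · simp [hi]
          · rw [if_pos hi]
            rcases hpm i hi with h | h <;> rw [h] <;> rfl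
        omega
      obtain ⟨a, b, hab, hset⟩ := Finset.card_eq_two.1 hsupp
      have hmem : ∀ i, y i ≠ 0 ↔ i = a ∨ i = b := fun i => by
        simpa using Finset.ext_iff.1 hset i
      have hval : ∀ i, y i ≠ 0 → (bif decide (y i = 1) then (1 : ℤ) else -1) = y i :=
        fun i hi => by rcases hpm i hi with h | h <;> simp [h]
      refine Finset.mem_image.2 ⟨((a, decide (y a = 1)), (b, decide (y b = 1))),
        Finset.mem_univ _, ?_⟩
      rw [huy]
      congr 1
      dsimp only
      rw [hval a ((hmem a).2 (Or.inl rfl)), hval b ((hmem b).2 (Or.inr rfl))]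
      funext i
      by_cases ha : i = a
      · subst ha; simp [hab]
      by_cases hb : i = b
      · subst hb; simp [Ne.symm hab]
      have : y i = 0 := by
        by_contra h
        rcases (hmem i).1 h with h' | h' <;> contradiction
      simp [ha, hb, this]
    refine le_trans (Finset.card_le_card hsub) (le_trans Finset.card_image_le ?_)
    simp
  have h1 : (E.filter fun u => ¬ word u = 0).card ≤ 128 * 759 := by
    refine le_trans (Finset.card_le_mul_card_image (f := word) _ 128 fun c hc => ?_)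
      (Nat.mul_le_mul_left 128 (le_trans (Finset.card_le_card (t := Finset.univ.filter fun c => c ∈ code L ∧ hammingNorm c = 8) ?_) (octad_count hL)))
    · obtain ⟨v, hv, rfl⟩ := Finset.mem_image.1 hc
      obtain ⟨hvE, hvne⟩ := Finset.mem_filter.1 hv
      obtain ⟨o, ho⟩ := Function.ne_iff.1 hvne
      set S := (Finset.univ.filter fun i => word v i ≠ 0).erase o with hS
      have hS7 : S.card = 7 := by
        rw [hS, Finset.card_erase_of_mem (by simpa using ho)]
        have := (hshape v hvE hvne).1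
        rw [hammingNorm] at this
        omega
      let sg : (Fin 24 → ℤ) → Finset (Fin 24) := fun u => S.filter fun i => u i = 2
      refine le_trans (Finset.card_le_card_of_injOn sg (t := S.powerset)
        (fun u _ => Finset.mem_powerset.2 (Finset.filter_subset _ _)) ?_) ?_
      · intro u hu u' hu' h
        simp only [Finset.coe_filter, Set.mem_ofPred_eq, Finset.mem_filter] at hu hu'
        obtain ⟨⟨huE, hune⟩, huw⟩ := hu
        obtain ⟨⟨huE', hune'⟩, huw'⟩ := hu'
        have hu2 := (hshape u huE hune).2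
        have hu2' := (hshape u' huE' hune').2
        have hoff : ∀ i, i ≠ o → u i = u' i := fun i hi => by
          have a := hu2 i
          have b := hu2' i
          rw [huw] at a
          rw [huw'] at b
          rcases bitZ_cases (word v i) with ⟨hv0, hv0'⟩ | ⟨hv1, hv1'⟩
          · rw [hv0', mul_zero] at a b
            rw [mul_self_eq_zero.1 a, mul_self_eq_zero.1 b]
          · rw [hv1'] at a b
            have hiS : i ∈ S := by simp [hS, hi, hv1]
            have hiff := Finset.ext_iff.1 h i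
            simp only [sg, Finset.mem_filter, hiS, true_and] at hiff
            have e1 := mul_self_eq_mul_self_iff.1 (show u i * u i = 2 * 2 by linarith)
            have e2 := mul_self_eq_mul_self_iff.1 (show u' i * u' i = 2 * 2 by linarith)
            omega
        by_contra hne
        have hne0 : u o ≠ u' o := fun h => hne (funext fun i => by
          by_cases hi : i = o
          · rw [hi, h]
          · exact hoff i hi)
        have hsub := L.sub_mem (hF _ (Finset.mem_filter.1 huE).1).1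
          (hF _ (Finset.mem_filter.1 huE').1).1
        have h32 := hL.small _ hsub (sub_ne_zero.2 hne)
        rw [Finset.sum_eq_single o (fun i _ hi => by simp [hoff i hi]) (by simp)] at h32
        have a := hu2 o
        have b := hu2' o
        rw [huw] at a
        rw [huw'] at b
        simp only [Pi.sub_apply] at h32
        rcases mul_self_eq_mul_self_iff.1 (a.trans b.symm) with h' | h'
        · exact hne0 h'
        · rw [h'] at h32
          rcases bitZ_cases (word v o) with ⟨-, e⟩ | ⟨-, e⟩ <;> rw [e] at b <;> nlinarith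
      · rw [Finset.card_powerset, hS7]; norm_num
    · intro c hc
      rw [← Finset.mem_coe] at hc
      obtain ⟨u, hu, rfl⟩ := Finset.mem_image.1 hc
      obtain ⟨huE, hune⟩ := Finset.mem_filter.1 hu
      exact Finset.mem_filter.2 ⟨Finset.mem_univ _, hcode u huE, (hshape u huE hune).1⟩
  have := E.card_filter_add_card_filter_not (fun u => word u = 0)
  omega

theorem code_good (hcard : F.card = 196560) :
    CfsgLib.SteinerUnique.GoodCode (code L) ∧ ∃ u ∈ L, ∀ i, u i % 2 = 1 := by
  classical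
  have h1 := odd_count hL F hF
  have h2 := even_count hL F hF
  have h3 := F.card_filter_add_card_filter_not (fun u => u 0 % 2 = 1)
  have h4 : Nat.card (code L) = 2 ^ Module.finrank (ZMod 2) (code L) := by
    rw [Module.natCard_eq_pow_finrank (K := ZMod 2), Nat.card_zmod]
  refine ⟨⟨?_, fun v hv w hw => code_orth hL hv hw, fun w hw => code_four hL hw,
    fun w hw h => ?_⟩, ?_⟩
  · refine le_antisymm (code_finrank_le hL) ?_
    by_contra hlt
    have : 2 ^ Module.finrank (ZMod 2) (code L) ≤ 2 ^ 11 :=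
      Nat.pow_le_pow_right (by norm_num) (by omega)
    omega
  · have hne : w ≠ 0 := fun h0 => by rw [h0] at h; simp at h
    have := code_weight hL hw hne
    omega
  · have hne : (F.filter fun u => u 0 % 2 = 1).Nonempty := by
      rw [← Finset.card_pos]; omega
    obtain ⟨u, hu⟩ := hne
    obtain ⟨huF, h⟩ := Finset.mem_filter.1 hu
    exact ⟨u, (hF _ huF).1, fun i => by rw [parity hL (hF _ huF).1 i 0]; exact h⟩

end Dimension

section Golay

variable {L : AddSubgroup (GolayPt → ℤ)} (hL : Framed L)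
  (hcode : ∀ c, c ∈ code L ↔ c ∈ golayCode)
include hL hcode

/-- signs making all parities of the even part even -/
theorem exists_signs : ∃ s : GolayPt → ZMod 2, ∀ c y, lv c y ∈ L →
    ((∑ i, y i : ℤ) : ZMod 2) = ∑ i, c i * s i := by
  classical
  have hrep : ∀ c : code L, ∃ y, lv (c : GolayPt → ZMod 2) y ∈ L := fun c => c.2
  choose Y hY using hrep
  have hcast : ∀ a b : ℤ, (2 : ℤ) ∣ a - b → (a : ZMod 2) = b := fun a b h => by
    rw [ZMod.intCast_eq_intCast_iff']; omega
  let f : code L →+ ZMod 2 := AddMonoidHom.mk' (fun c => ((∑ i, Y c i : ℤ) : ZMod 2))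
    fun c d => by
      have hm : lv ((c + d : code L) : GolayPt → ZMod 2)
          (fun i => Y c i + Y d i + bitZ ((c : GolayPt → ZMod 2) i *
            (d : GolayPt → ZMod 2) i)) ∈ L := by
        rw [Submodule.coe_add, ← lv_add]; exact L.add_mem (hY c) (hY d)
      rw [hcast _ _ (lv_parity hL (hY (c + d)) hm), Finset.sum_add_distrib,
        Finset.sum_add_distrib, Int.cast_add, Int.cast_add, Int.cast_sum Finset.univ fun i => bitZ ((c : GolayPt → ZMod 2) i * (d : GolayPt → ZMod 2) i)]
      simp only [bitZ_cast]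
      rw [code_orth hL c.2 d.2, add_zero]
  obtain ⟨g, hg⟩ := LinearMap.exists_extend (f.toZModLinearMap 2)
  refine ⟨fun i => g fun j => if i = j then 1 else 0, fun c y hy => ?_⟩
  have hc : c ∈ code L := ⟨y, hy⟩
  have hgc : g c = ((∑ i, Y ⟨c, hc⟩ i : ℤ) : ZMod 2) := by
    have := LinearMap.congr_fun hg ⟨c, hc⟩
    simpa [f] using this
  rw [hcast _ _ (lv_parity hL hy (hY ⟨c, hc⟩)), ← hgc, LinearMap.pi_apply_eq_sum_univ g c]
  simp [smul_eq_mul]

omit hcode hL in
theorem mem_golay_of_perp {r : GolayPt → ZMod 2} (hr : ∀ d ∈ golayCode, ∑ i, r i * d i = 0) :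
    r ∈ golayCode := by
  let φ := dotProductEquiv (ZMod 2) GolayPt
  have hle : golayCode.map φ.toLinearMap ≤ golayCode.dualAnnihilator := by
    rintro _ ⟨u, hu, rfl⟩
    rw [Submodule.mem_dualAnnihilator]
    intro w hw
    exact orth hu hw
  have heq : golayCode.map φ.toLinearMap = golayCode.dualAnnihilator := by
    refine Submodule.eq_of_le_of_finrank_eq hle ?_
    have h1 : Module.finrank (ZMod 2) (golayCode.map φ.toLinearMap) = 12 :=
      (LinearEquiv.finrank_map_eq φ golayCode).trans finrank_golayCode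
    have h2 := Subspace.finrank_add_finrank_dualAnnihilator_eq golayCode
    rw [finrank_golayCode, Module.finrank_pi, card_golayPt] at h2
    omega
  have hm : φ r ∈ golayCode.dualAnnihilator := by
    rw [Submodule.mem_dualAnnihilator]; exact hr
  rw [← heq] at hm
  obtain ⟨u, hu, huv⟩ := hm
  rwa [← φ.injective huv]

omit hcode hL in
theorem odd_form {K : AddSubgroup (GolayPt → ℤ)} (hK : Framed K)
    (heven : ∀ c ∈ golayCode, ∀ y : GolayPt → ℤ, (2 : ℤ) ∣ ∑ i, y i → lv c y ∈ K)
    {u : GolayPt → ℤ} (hu : u ∈ K) (hodd : ∀ i, u i % 2 = 1) : u ∈ leechLattice := by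
  classical
  set r : GolayPt → ZMod 2 := fun i => (((u i - 1) / 2 : ℤ) : ZMod 2) with hr
  set y : GolayPt → ℤ := fun i => (u i - 1) / 4 with hy
  have hu' : u = lvec 1 r y := funext fun i => by
    have := hodd i
    simp only [lvec, hr, hy, bitZ_intCast]
    omega
  have hperp : ∀ d ∈ golayCode, ∑ i, r i * d i = 0 := by
    intro d hd
    have h := hK.dot _ hu _ (heven d hd 0 (by simp))
    have e : ∑ i, u i * lv d 0 i = 2 * ∑ i, bitZ (d i) + 4 * ∑ i, bitZ (r i * d i) +
        8 * ∑ i, bitZ (d i) * y i := by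
      rw [Finset.mul_sum, Finset.mul_sum, Finset.mul_sum, ← Finset.sum_add_distrib,
        ← Finset.sum_add_distrib]
      refine Finset.sum_congr rfl fun i _ => ?_
      rw [hu', bitZ_mul]
      simp only [lv, lvec, Pi.zero_apply]
      ring
    rw [e] at h
    have h4 := four_dvd_sum_bitZ hd
    have h2 : (2 : ℤ) ∣ ∑ i, bitZ (r i * d i) := by omega
    have h3 := (ZMod.intCast_zmod_eq_zero_iff_dvd _ 2).2 h2
    rw [Int.cast_sum] at h3
    simpa [bitZ_cast] using h3
  have hrmem : r ∈ golayCode := mem_golay_of_perp hperp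
  refine mem_leechLattice.2 ⟨1, r, y, hrmem, hu', ?_⟩
  have h := hK.sq _ hu
  have e : ∑ i, u i * u i = 24 + 8 * ∑ i, bitZ (r i) + 8 * ∑ i, y i +
      16 * ∑ i, (y i * y i + bitZ (r i) * y i) := by
    have h24 : (24 : ℤ) = ∑ _i : GolayPt, 1 := by simp
    rw [h24, Finset.mul_sum, Finset.mul_sum, Finset.mul_sum, ← Finset.sum_add_distrib,
      ← Finset.sum_add_distrib, ← Finset.sum_add_distrib]
    refine Finset.sum_congr rfl fun i _ => ?_
    have := bitZ_mul_self (r i)
    rw [hu']
    simp only [lvec]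
    linear_combination (4 : ℤ) * this
  rw [e] at h
  have h4 := four_dvd_sum_bitZ hrmem
  omega

omit hcode hL in
theorem even_form {v : GolayPt → ℤ} (hv : v ∈ leechLattice) (hev : ∀ i, v i % 2 = 0) :
    ∃ c ∈ golayCode, ∃ y : GolayPt → ℤ, (2 : ℤ) ∣ ∑ i, y i ∧ v = lv c y := by
  obtain ⟨m, c, y, hc, rfl, h⟩ := mem_leechLattice.1 hv
  have hm := hev none
  simp only [lvec] at hm
  obtain ⟨t, rfl⟩ : (2 : ℤ) ∣ m := by omega
  rcases Int.even_or_odd' t with ⟨a, rfl | rfl⟩
  · refine ⟨c, hc, fun i => y i + a, ?_, funext fun i => by simp only [lvec, lv]; ring⟩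
    rw [Finset.sum_add_distrib, Finset.sum_const, Finset.card_univ, card_golayPt]
    simp only [nsmul_eq_mul]
    omega
  · refine ⟨c + 1, Submodule.add_mem _ hc one_mem_golayCode,
      fun i => y i + (a + 1) - bitZ (c i + 1), ?_, funext fun i => ?_⟩
    · have h4 := four_dvd_sum_bitZ (Submodule.add_mem _ hc one_mem_golayCode)
      simp only [Pi.add_apply, Pi.one_apply] at h4
      rw [Finset.sum_sub_distrib, Finset.sum_add_distrib, Finset.sum_const, Finset.card_univ,
        card_golayPt]
      simp only [nsmul_eq_mul]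
      omega
    · simp only [lvec, lv, Pi.add_apply, Pi.one_apply]
      rcases bitZ_cases (c i) with ⟨e, e'⟩ | ⟨e, e'⟩ <;> rw [e] <;>
        simp [CharTwo.add_self_eq_zero] <;> ring

theorem eq_leech (hone : ∃ u ∈ L, ∀ i, u i % 2 = 1) :
    ∃ σ : (GolayPt → ℤ) ≃+ (GolayPt → ℤ), (∀ v, sqNorm (σ v) = sqNorm v) ∧
      L.map σ.toAddMonoidHom = leechLattice := by
  classical
  obtain ⟨s, hs⟩ := exists_signs hL hcode
  let ε : GolayPt → ℤ := fun i => if s i = 0 then 1 else -1
  have hε : ∀ i, ε i * ε i = 1 := fun i => by simp only [ε]; split_ifs <;> norm_num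
  let σ : (GolayPt → ℤ) ≃+ (GolayPt → ℤ) :=
    { toFun := fun v i => ε i * v i
      invFun := fun v i => ε i * v i
      left_inv := fun v => funext fun i => by
        show ε i * (ε i * v i) = v i
        rw [← mul_assoc, hε, one_mul]
      right_inv := fun v => funext fun i => by
        show ε i * (ε i * v i) = v i
        rw [← mul_assoc, hε, one_mul]
      map_add' := fun v w => funext fun i => by simp only [Pi.add_apply]; ring }
  have hσ : ∀ v i, σ v i = ε i * v i := fun _ _ => rfl
  have hdot : ∀ v w : GolayPt → ℤ, ∑ i, σ v i * σ w i = ∑ i, v i * w i := fun v w =>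
    Finset.sum_congr rfl fun i _ => by
      rw [hσ, hσ, mul_mul_mul_comm, hε, one_mul]
  refine ⟨σ, fun v => Finset.sum_congr rfl fun i _ => by
    rw [hσ, mul_pow, pow_two, hε, one_mul], ?_⟩
  -- membership of the even vectors
  let flip : (GolayPt → ZMod 2) → (GolayPt → ℤ) → GolayPt → ℤ :=
    fun c y i => if s i = 0 then y i else -y i - bitZ (c i)
  have hflip : ∀ c y, σ (lv c y) = lv c (flip c y) := fun c y => funext fun i => by
    rw [hσ]
    simp only [ε, flip, lv]
    split_ifs <;> ring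
  have hflipsum : ∀ c y, ((∑ i, flip c y i : ℤ) : ZMod 2) =
      ((∑ i, y i : ℤ) : ZMod 2) + ∑ i, c i * s i := fun c y => by
    rw [Int.cast_sum, Int.cast_sum, ← Finset.sum_add_distrib]
    refine Finset.sum_congr rfl fun i _ => ?_
    simp only [flip]
    rcases bitZ_cases (s i) with ⟨h, -⟩ | ⟨h, -⟩
    · simp [h]
    · rw [if_neg (by rw [h]; decide), h, mul_one, Int.cast_sub, Int.cast_neg, bitZ_cast,
        CharTwo.neg_eq, CharTwo.sub_eq_add]
  set K := L.map σ.toAddMonoidHom with hK
  have hKeven : ∀ c ∈ golayCode, ∀ y : GolayPt → ℤ, (2 : ℤ) ∣ ∑ i, y i → lv c y ∈ K := by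
    intro c hc y hy
    obtain ⟨z, hz⟩ := (hcode c).2 hc
    refine ⟨lv c (flip c y), lv_mem_of_parity hL hz ?_, ?_⟩
    · refine (ZMod.intCast_zmod_eq_zero_iff_dvd _ 2).1 ?_
      rw [Int.cast_sub, hflipsum, hs c z hz, (ZMod.intCast_zmod_eq_zero_iff_dvd _ 2).2 hy,
        zero_add, sub_self]
    · show σ (lv c (flip c y)) = lv c y
      rw [← hflip]
      exact σ.left_inv _
  have hKF : Framed K :=
    { dot := by
        rintro _ ⟨u, hu, rfl⟩ _ ⟨v, hv, rfl⟩
        exact (hdot u v).symm ▸ hL.dot u hu v hv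
      sq := by
        rintro _ ⟨u, hu, rfl⟩
        exact (hdot u u).symm ▸ hL.sq u hu
      small := by
        rintro _ ⟨u, hu, rfl⟩ hne
        exact (hdot u u).symm ▸ hL.small u hu fun h => hne (by rw [h]; exact map_zero _)
      pair := fun i j => by
        have e : four (Pi.single i 1 + Pi.single j 1) =
            lv (0 : GolayPt → ZMod 2) (Pi.single i 1 + Pi.single j 1) :=
          funext fun k => by simp [four, lv]
        rw [e]
        exact hKeven _ (Submodule.zero_mem _) _ (by simp [Finset.sum_add_distrib]) }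
  have hKle : K ≤ leechLattice := by
    intro w hw
    by_cases hpar : w none % 2 = 1
    · exact odd_form hKF hKeven hw fun i => by rw [parity hKF hw i none]; exact hpar
    have hev : ∀ i, w i % 2 = 0 := fun i => by rw [parity hKF hw i none]; omega
    obtain ⟨u, hu, rfl⟩ := hw
    have hue : ∀ i, u i % 2 = 0 := fun i => by
      have := hev i
      change (ε i * u i) % 2 = 0 at this
      simp only [ε] at this
      split_ifs at this <;> omega
    have hu' := even_eq_lv hue
    have hc := (hcode _).1 (even_word hL hu hue)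
    rw [hu'] at hu
    refine mem_leechLattice.2 ⟨0, fun i => ((u i / 2 : ℤ) : ZMod 2),
      flip (fun i => ((u i / 2 : ℤ) : ZMod 2)) (fun i => u i / 4), hc, ?_, ?_⟩
    · show σ u = _
      conv_lhs => rw [hu', hflip]
      exact funext fun i => by simp [lv, lvec]
    · rw [sub_zero]
      refine (ZMod.intCast_zmod_eq_zero_iff_dvd _ 2).1 ?_
      rw [hflipsum, hs _ _ hu, CharTwo.add_self_eq_zero]
  refine le_antisymm hKle fun v hv => ?_
  have hev : ∀ v ∈ leechLattice, (∀ i, v i % 2 = 0) → v ∈ K := fun v hv h => by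
    obtain ⟨c, hc, y, hy, rfl⟩ := even_form hv h
    exact hKeven c hc y hy
  by_cases hpar : v none % 2 = 1
  · obtain ⟨u, hu, hu1⟩ := hone
    have huK : σ u ∈ K := ⟨u, hu, rfl⟩
    have hsu : ∀ i, σ u i % 2 = 1 := fun i => by
      have := hu1 i
      rw [hσ]
      simp only [ε]
      split_ifs <;> omega
    have hd := hev (v - σ u) (AddSubgroup.sub_mem _ hv (hKle huK)) fun i => by
      obtain ⟨m, c, y, -, rfl, -⟩ := mem_leechLattice.1 hv
      have := hsu i
      simp only [lvec, Pi.sub_apply] at hpar ⊢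
      omega
    simpa using K.add_mem hd huK
  · refine hev v hv fun i => ?_
    obtain ⟨m, c, y, -, rfl, -⟩ := mem_leechLattice.1 hv
    simp only [lvec] at hpar ⊢
    omega

end Golay

/-- A framed lattice with 196560 vectors of squared length 32 is the Leech lattice. -/
theorem framed_leech {L : AddSubgroup (Fin 24 → ℤ)} (hL : Framed L) (F : Finset (Fin 24 → ℤ))
    (hF : ∀ u ∈ F, u ∈ L ∧ ∑ i, u i * u i = 32) (hcard : F.card = 196560) :
    ∃ τ : (Fin 24 → ℤ) ≃+ (GolayPt → ℤ), (∀ v, sqNorm (τ v) = sqNorm v) ∧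
      L.map τ.toAddMonoidHom = leechLattice := by
  classical
  obtain ⟨hgood, u₀, hu₀, hu₁⟩ := code_good hL F hF hcard
  obtain ⟨e, he⟩ := hgood.equiv_golay
  let π : (Fin 24 → ℤ) ≃+ (GolayPt → ℤ) :=
    { toFun := fun v p => v (e.symm p)
      invFun := fun v i => v (e i)
      left_inv := fun v => funext fun i => by simp
      right_inv := fun v => funext fun i => by simp
      map_add' := fun v w => rfl }
  have hπ : ∀ v p, π v p = v (e.symm p) := fun _ _ => rfl
  have hdot : ∀ v w, ∑ p, π v p * π w p = ∑ i, v i * w i := fun v w =>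
    Equiv.sum_comp e.symm fun i => v i * w i
  set M := L.map π.toAddMonoidHom with hMdef
  have hM : Framed M :=
    { dot := by
        rintro _ ⟨u, hu, rfl⟩ _ ⟨v, hv, rfl⟩
        exact (hdot u v).symm ▸ hL.dot u hu v hv
      sq := by
        rintro _ ⟨u, hu, rfl⟩
        exact (hdot u u).symm ▸ hL.sq u hu
      small := by
        rintro _ ⟨u, hu, rfl⟩ hne
        exact (hdot u u).symm ▸ hL.small u hu fun h => hne (by rw [h]; exact map_zero _)
      pair := fun p q => ⟨_, hL.pair (e.symm p) (e.symm q), funext fun r => by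
        show four _ (e.symm r) = _
        simp [four, Pi.single_apply]⟩ }
  have hcode : ∀ c, c ∈ code M ↔ c ∈ golayCode := by
    intro c
    rw [he]
    constructor
    · rintro ⟨y, v, hv, hvy⟩
      refine ⟨fun i => y (e i), ?_⟩
      have : v = lv (fun i => c (e i)) fun i => y (e i) := funext fun i => by
        have := congrFun hvy (e i)
        change v (e.symm (e i)) = _ at this
        rw [Equiv.symm_apply_apply] at this
        exact this
      exact this ▸ hv
    · rintro ⟨y, hy⟩
      exact ⟨fun p => y (e.symm p), _, hy, funext fun p => by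
        show lv (fun i => c (e i)) y (e.symm p) = _
        simp [lv]⟩
  obtain ⟨σ, hσ, hσM⟩ := eq_leech hM hcode ⟨π u₀, ⟨u₀, hu₀, rfl⟩, fun p => hu₁ _⟩
  refine ⟨π.trans σ, fun v => ?_, ?_⟩
  · show sqNorm (σ (π v)) = sqNorm v
    rw [hσ]
    exact Equiv.sum_comp e.symm fun i => v i ^ 2
  · rw [← hσM, hMdef, AddSubgroup.map_map]
    rfl

variable (B : Matrix (Fin 24) (Fin 24) ℤ) (hsymm : B.IsSymm)
  (hpos : ∀ x : Fin 24 → ℤ, x ≠ 0 → 0 < x ⬝ᵥ (B *ᵥ x))
  (heven : ∀ x : Fin 24 → ℤ, (2 : ℤ) ∣ x ⬝ᵥ (B *ᵥ x))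
  (h2 : ∀ x : Fin 24 → ℤ, x ⬝ᵥ (B *ᵥ x) ≠ 2)
include hsymm hpos heven h2

/-- The lattice has a frame of 24 congruent vectors of norm 8. -/
theorem exists_frame (h4 : {x : Fin 24 → ℤ | x ⬝ᵥ (B *ᵥ x) = 4}.ncard = 196560)
    (h6 : {x : Fin 24 → ℤ | x ⬝ᵥ (B *ᵥ x) = 6}.ncard = 16773120)
    (h8 : {x : Fin 24 → ℤ | x ⬝ᵥ (B *ᵥ x) = 8}.ncard = 398034000) :
    ∃ E : Matrix (Fin 24) (Fin 24) ℤ,
      (∀ i j, E i ⬝ᵥ (B *ᵥ E j) = if i = j then 8 else 0) ∧
      ∀ i j k, (2 : ℤ) ∣ E i k + E j k := by
  classical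
  obtain ⟨x, hx⟩ := Set.nonempty_of_ncard_ne_zero
    (s := {x : Fin 24 → ℤ | x ⬝ᵥ (B *ᵥ x) = 8}) (by rw [h8]; norm_num)
  have h48 := Rootless.cross_count B hsymm hpos heven h2 h4 h6 h8 x hx
  have hfin : {y : Fin 24 → ℤ | y ⬝ᵥ (B *ᵥ y) = 8 ∧ ∀ i, (2 : ℤ) ∣ (x - y) i}.Finite :=
    Set.finite_of_ncard_ne_zero (by rw [h48]; norm_num)
  set T := hfin.toFinset with hT
  have hT48 : T.card = 48 := by rw [hT, ← Set.ncard_eq_toFinset_card _ hfin]; exact h48
  have hmem : ∀ y ∈ T, y ⬝ᵥ (B *ᵥ y) = 8 ∧ ∀ i, (2 : ℤ) ∣ (x - y) i := fun y hy =>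
    hfin.mem_toFinset.1 hy
  let pr : (Fin 24 → ℤ) → Finset (Fin 24 → ℤ) := fun v => {v, -v}
  have h2c : T.card ≤ 2 * (T.image pr).card := Finset.card_le_mul_card_image T 2 fun p hp => by
    obtain ⟨v, -, rfl⟩ := Finset.mem_image.1 hp
    refine le_trans (Finset.card_le_card (t := {v, -v}) fun w hw => ?_) Finset.card_le_two
    have : w ∈ pr v := by rw [← (Finset.mem_filter.1 hw).2]; simp [pr]
    exact this
  obtain ⟨φ⟩ := Function.Embedding.nonempty_of_card_le (α := Fin 24) (β := T.image pr)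
    (by rw [Fintype.card_fin, Fintype.card_coe]; omega)
  have hg : ∀ i, ∃ v ∈ T, pr v = (φ i).1 := fun i => Finset.mem_image.1 (φ i).2
  choose g hgT hgp using hg
  have hc : ∀ i j, ∀ k, (2 : ℤ) ∣ (g i - g j) k := fun i j k => by
    have a := (hmem _ (hgT i)).2 k
    have b := (hmem _ (hgT j)).2 k
    simp only [Pi.sub_apply] at a b ⊢
    omega
  refine ⟨Matrix.of g, fun i j => ?_, fun i j k => ?_⟩
  · show g i ⬝ᵥ (B *ᵥ g j) = _
    split_ifs with h
    · subst h; exact (hmem _ (hgT i)).1
    · have hne : pr (g j) ≠ pr (g i) := fun e => h (φ.injective (Subtype.ext (by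
        rw [← hgp, ← hgp, e])))
      refine (Rootless.congr_short B hsymm hpos heven h2 (hmem _ (hgT i)).1.le
        (hmem _ (hgT j)).1.le (Rootless.res_eq_iff.2 (hc i j)) ?_ ?_).2.2
      · intro e; exact hne (by rw [e])
      · intro e; exact hne (by rw [e]; simp [pr, Finset.pair_comm])
  · have := hc i j k
    simp only [Pi.sub_apply] at this
    show (2 : ℤ) ∣ g i k + g j k
    omega

/-- A rootless even lattice of rank 24 with the three vector counts is the Leech lattice. -/
theorem exists_isometry (h4 : {x : Fin 24 → ℤ | x ⬝ᵥ (B *ᵥ x) = 4}.ncard = 196560)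
    (h6 : {x : Fin 24 → ℤ | x ⬝ᵥ (B *ᵥ x) = 6}.ncard = 16773120)
    (h8 : {x : Fin 24 → ℤ | x ⬝ᵥ (B *ᵥ x) = 8}.ncard = 398034000) :
    ∃ f : (Fin 24 → ℤ) ≃+ leechLattice, ∀ x : Fin 24 → ℤ,
      sqNorm ((f x : leechLattice) : GolayPt → ℤ) = 8 * (x ⬝ᵥ (B *ᵥ x)) := by
  classical
  obtain ⟨E, hE, hEc⟩ := exists_frame B hsymm hpos heven h2 h4 h6 h8
  let φ : (Fin 24 → ℤ) →+ (Fin 24 → ℤ) :=
    AddMonoidHom.mk' (fun v => E *ᵥ (B *ᵥ v)) fun v w => by
      rw [Matrix.mulVec_add, Matrix.mulVec_add]
  have hEBE : E * B * Eᵀ = (8 : ℤ) • (1 : Matrix (Fin 24) (Fin 24) ℤ) := by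
    ext i j
    have : (E * B * Eᵀ) i j = E i ⬝ᵥ (B *ᵥ E j) := by
      rw [Matrix.mul_assoc]
      rfl
    rw [this, hE, Matrix.smul_apply, Matrix.one_apply]
    split_ifs <;> simp
  have hdet : (E * B).det ≠ 0 := by
    intro h
    have := congrArg Matrix.det hEBE
    rw [Matrix.det_mul, h, zero_mul, Matrix.det_smul, Matrix.det_one] at this
    simp at this
  have h8v : ∀ v, (8 : ℤ) • v = Eᵀ *ᵥ φ v := fun v => by
    have hz : (E * B) *ᵥ ((8 : ℤ) • v - Eᵀ *ᵥ φ v) = 0 := by
      rw [Matrix.mulVec_sub, Matrix.mulVec_mulVec, hEBE, Matrix.smul_mulVec, Matrix.one_mulVec,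
        Matrix.mulVec_smul]
      show (8 : ℤ) • _ - (8 : ℤ) • (E *ᵥ (B *ᵥ v)) = 0
      rw [Matrix.mulVec_mulVec, sub_self]
    exact sub_eq_zero.1 (Matrix.eq_zero_of_mulVec_eq_zero hdet hz)
  have hip : ∀ v w, ∑ i, φ v i * φ w i = 8 * (v ⬝ᵥ (B *ᵥ w)) := fun v w => by
    have : ((8 : ℤ) • v) ⬝ᵥ (B *ᵥ w) = φ v ⬝ᵥ φ w := by
      rw [h8v, Matrix.mulVec_transpose, ← Matrix.dotProduct_mulVec]
      rfl
    rw [smul_dotProduct, smul_eq_mul] at this
    exact this.symm
  have hinj : Function.Injective φ := by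
    rw [injective_iff_map_eq_zero]
    intro v hv
    by_contra hne
    have h := hpos v hne
    have := hip v v
    simp [hv] at this
    omega
  set L := φ.range with hLdef
  have hframe : ∀ i, φ (E i) = fun j => if j = i then 8 else 0 := fun i => funext fun j => by
    show E j ⬝ᵥ (B *ᵥ E i) = _
    exact hE j i
  have hL : Framed L :=
    { dot := by
        rintro _ ⟨v, rfl⟩ _ ⟨w, rfl⟩
        rw [hip]; exact dvd_mul_right _ _
      sq := by
        rintro _ ⟨v, rfl⟩
        obtain ⟨t, ht⟩ := heven v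
        rw [hip, ht]; exact ⟨t, by ring⟩
      small := by
        rintro _ ⟨v, rfl⟩ hne
        have hv : v ≠ 0 := fun h => hne (by rw [h, map_zero])
        have := hpos v hv; have := heven v; have := h2 v
        rw [hip]; omega
      pair := fun i j => by
        refine ⟨fun k => (E i k + E j k) / 2, ?_⟩
        have e : (2 : ℤ) • (fun k => (E i k + E j k) / 2) = E i + E j := funext fun k => by
          have := hEc i j k
          simp only [Pi.smul_apply, smul_eq_mul, Pi.add_apply]; omega
        have e2 := congrArg φ e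
        rw [map_zsmul, map_add, hframe, hframe] at e2
        funext k
        have e3 := congrFun e2 k
        simp only [Pi.smul_apply, smul_eq_mul, Pi.add_apply] at e3
        simp only [four, Pi.add_apply, Pi.single_apply]
        split_ifs at e3 ⊢ <;> omega }
  have hfin : {x : Fin 24 → ℤ | x ⬝ᵥ (B *ᵥ x) = 4}.Finite :=
    Set.finite_of_ncard_ne_zero (by rw [h4]; norm_num)
  obtain ⟨τ, hτ, hmap⟩ := framed_leech hL (hfin.toFinset.image φ) (by
      intro u hu
      obtain ⟨v, hv, rfl⟩ := Finset.mem_image.1 hu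
      have : v ⬝ᵥ (B *ᵥ v) = 4 := hfin.mem_toFinset.1 hv
      exact ⟨⟨v, rfl⟩, by rw [hip, this]; rfl⟩) (by
      rw [Finset.card_image_of_injective _ hinj, ← Set.ncard_eq_toFinset_card _ hfin]; exact h4)
  let ψ : (Fin 24 → ℤ) →+ leechLattice :=
    (τ.toAddMonoidHom.comp φ).codRestrict leechLattice fun v => by
      rw [← hmap]; exact ⟨φ v, ⟨v, rfl⟩, rfl⟩
  have hbij : Function.Bijective ψ := by
    refine ⟨fun v w h => hinj (τ.injective (congrArg Subtype.val h)), fun z => ?_⟩
    have hz : (z : GolayPt → ℤ) ∈ L.map τ.toAddMonoidHom := hmap.symm ▸ z.2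
    obtain ⟨_, ⟨v, rfl⟩, hv⟩ := hz
    exact ⟨v, Subtype.ext hv⟩
  refine ⟨AddEquiv.ofBijective ψ hbij, fun v => ?_⟩
  show sqNorm (τ (φ v)) = _
  rw [hτ, ← hip]
  exact Finset.sum_congr rfl fun i _ => pow_two _

end CfsgLib.Spor.LeechUniq
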