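import Cfsg.Agent.Lib.Spor.MathieuSimple
import Cfsg.Agent.Lib.Spor.M24Gens
import Cfsg.Agent.Lib.Spor.M24Points

/-!
The line group of order `6072` in `M24` and the maximality of `23:11` in the point stabiliser,
from Sylow numbers for the primes `23` and `11`.
-/

set_option autoImplicit false

namespace CfsgLib.Spor.LineMax

open Cfsg Subgroup CfsgLib.Spor

instance fact23 : Fact (Nat.Prime 23) := ⟨by norm_num⟩

instance fact11 : Fact (Nat.Prime 11) := ⟨by norm_num⟩

/-- translation by `b` -/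
def tr (b : ZMod 23) : Equiv.Perm GolayPt := Equiv.optionCongr (Equiv.addRight b)

/-- multiplication by `u` -/
def ml (u : (ZMod 23)ˣ) : Equiv.Perm GolayPt := Equiv.optionCongr (Units.mulLeft u)

theorem tr_some (b x : ZMod 23) : tr b (some x) = some (x + b) := rfl

theorem ml_some (u : (ZMod 23)ˣ) (x : ZMod 23) : ml u (some x) = some ((u : ZMod 23) * x) := rfl

theorem tr_none (b : ZMod 23) : tr b none = none := rfl

theorem ml_none (u : (ZMod 23)ˣ) : ml u none = none := rfl

theorem tr_mul (a b : ZMod 23) : tr a * tr b = tr (a + b) := by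
  refine Equiv.ext fun p => ?_
  rcases p with _ | x
  · rfl
  · show some (x + b + a) = some (x + (a + b))
    rw [add_assoc, add_comm b a]

theorem tr_zero : tr 0 = 1 := by
  refine Equiv.ext fun p => ?_
  rcases p with _ | x
  · rfl
  · show some (x + 0) = some x
    rw [add_zero]

theorem ml_mul (u v : (ZMod 23)ˣ) : ml u * ml v = ml (u * v) := by
  refine Equiv.ext fun p => ?_
  rcases p with _ | x
  · rfl
  · show some ((u : ZMod 23) * ((v : ZMod 23) * x)) = some (((u * v : (ZMod 23)ˣ) : ZMod 23) * x)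
    rw [Units.val_mul, mul_assoc]

theorem ml_one : ml 1 = 1 := by
  refine Equiv.ext fun p => ?_
  rcases p with _ | x
  · rfl
  · show some (((1 : (ZMod 23)ˣ) : ZMod 23) * x) = some x
    rw [Units.val_one, one_mul]

theorem ml_tr (u : (ZMod 23)ˣ) (b : ZMod 23) : ml u * tr b = tr ((u : ZMod 23) * b) * ml u := by
  refine Equiv.ext fun p => ?_
  rcases p with _ | x
  · rfl
  · show some ((u : ZMod 23) * (x + b)) = some ((u : ZMod 23) * x + (u : ZMod 23) * b)
    rw [mul_add]

theorem projInv_ml (u : (ZMod 23)ˣ) : projInv * ml u = ml u⁻¹ * projInv := by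
  refine Equiv.ext fun p => ?_
  have h : ∀ (a : ZMod 23), a ≠ 0 → ∀ q : GolayPt, projInvFun (q.map (a * ·)) =
      (projInvFun q).map (a ^ 21 * ·) := by decide +kernel
  have hinv : ((u⁻¹ : (ZMod 23)ˣ) : ZMod 23) = (u : ZMod 23) ^ 21 := by
    have h22 : u ^ 22 = 1 := ZMod.units_pow_card_sub_one_eq_one 23 u
    rw [← Units.val_pow_eq_pow_val, show u⁻¹ = u ^ 21 from
      inv_eq_of_mul_eq_one_right (by rw [← pow_succ', h22])]
  have h1 := h (u : ZMod 23) u.ne_zero p
  rw [← hinv] at h1
  exact h1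

/-- The inversion between two translations. -/
theorem projInv_tr (c : ZMod 23) (hc : c ≠ 0) : ∃ (u : (ZMod 23)ˣ), IsSquare u ∧
    ∃ a : ZMod 23, projInv * tr c * projInv = tr a * ml u * projInv * tr a := by
  have h : ∀ (d : ZMod 23), d ≠ 0 → ∀ q : GolayPt,
      projInvFun ((projInvFun q).map (· + d)) =
        (((projInvFun (q.map (· + -(d ^ 21)))).map (((d ^ 21) * (d ^ 21)) * ·))).map (· + -(d ^ 21)) := by
    decide +kernel
  let v : (ZMod 23)ˣ := Units.mk0 (c ^ 21) (pow_ne_zero _ hc)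
  exact ⟨v * v, ⟨v, rfl⟩, -(c ^ 21), Equiv.ext fun p => h c hc p⟩

/-- The affine group with square multipliers. -/
def affine : Subgroup (Equiv.Perm GolayPt) where
  carrier := {g | ∃ (b : ZMod 23) (u : (ZMod 23)ˣ), IsSquare u ∧ g = tr b * ml u}
  one_mem' := ⟨0, 1, IsSquare.one, by rw [tr_zero, ml_one, one_mul]⟩
  mul_mem' := by
    rintro _ _ ⟨b, u, hu, rfl⟩ ⟨c, v, hv, rfl⟩
    exact ⟨b + (u : ZMod 23) * c, u * v, hu.mul hv, by
      rw [mul_assoc, ← mul_assoc (ml u), ml_tr, mul_assoc (tr _), ml_mul, ← mul_assoc, tr_mul]⟩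
  inv_mem' := by
    rintro _ ⟨b, u, hu, rfl⟩
    refine ⟨-(((u⁻¹ : (ZMod 23)ˣ) : ZMod 23) * b), u⁻¹, hu.inv, inv_eq_of_mul_eq_one_right ?_⟩
    rw [mul_assoc, ← mul_assoc (ml u), ml_tr, mul_assoc (tr _), ml_mul, ← mul_assoc, tr_mul,
      mul_inv_cancel, ml_one, mul_one, mul_neg, ← mul_assoc, ← Units.val_mul, mul_inv_cancel,
      Units.val_one, one_mul, add_neg_cancel, tr_zero]

/-- The generators of the affine group. -/
def affGens : Set (Equiv.Perm GolayPt) :=
  {Equiv.optionCongr (Equiv.addRight (1 : ZMod 23))} ∪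
    {g : Equiv.Perm GolayPt | ∃ u : (ZMod 23)ˣ, IsSquare u ∧ g = Equiv.optionCongr (Units.mulLeft u)}

/-- The generators of the line group. -/
def lineGens : Set (Equiv.Perm GolayPt) :=
  {Equiv.optionCongr (Equiv.addRight (1 : ZMod 23)), projInv} ∪
    {g : Equiv.Perm GolayPt | ∃ u : (ZMod 23)ˣ, IsSquare u ∧ g = Equiv.optionCongr (Units.mulLeft u)}

theorem tr_eq_pow (b : ZMod 23) : tr b = tr 1 ^ b.val := by
  have h : ∀ n : ℕ, tr 1 ^ n = tr (n : ZMod 23) := by
    intro n
    induction n with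
    | zero => rw [pow_zero, Nat.cast_zero, tr_zero]
    | succ n ih => rw [pow_succ, ih, tr_mul, Nat.cast_succ]
  rw [h, ZMod.natCast_zmod_val]

theorem affine_eq : closure affGens = affine := by
  refine le_antisymm ((closure_le _).2 ?_) ?_
  · rintro g (hg | ⟨u, hu, rfl⟩)
    · exact ⟨1, 1, IsSquare.one, by rw [ml_one, mul_one]; exact hg⟩
    · exact ⟨0, u, hu, by rw [tr_zero, one_mul]; rfl⟩
  · rintro _ ⟨b, u, hu, rfl⟩
    refine mul_mem ?_ (Subgroup.subset_closure (Or.inr ⟨u, hu, rfl⟩))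
    rw [tr_eq_pow b]
    exact pow_mem (Subgroup.subset_closure (show tr 1 ∈ affGens from Or.inl rfl)) _

theorem card_affine : Nat.card affine = 253 := by
  let f : ZMod 23 × {u : (ZMod 23)ˣ // IsSquare u} → affine :=
    fun v => ⟨tr v.1 * ml v.2.1, v.1, v.2.1, v.2.2, rfl⟩
  have hf : Function.Bijective f := by
    refine ⟨fun v w h => ?_, fun ⟨g, b, u, hu, hg⟩ => ⟨⟨b, u, hu⟩, Subtype.ext hg.symm⟩⟩
    have h1 := congrArg (fun g : affine => (g : Equiv.Perm GolayPt) (some 0)) h
    have h2 := congrArg (fun g : affine => (g : Equiv.Perm GolayPt) (some 1)) h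
    simp only [f, Equiv.Perm.mul_apply, ml_some, mul_zero, mul_one, tr_some, zero_add] at h1 h2
    have e1 := Option.some_injective _ h1
    rw [e1] at h2
    exact Prod.ext e1 (Subtype.ext (Units.ext (add_right_cancel (Option.some_injective _ h2))))
  rw [← Nat.card_congr (Equiv.ofBijective f hf), Nat.card_prod, Nat.card_zmod]
  have h11 : Nat.card {u : (ZMod 23)ˣ // IsSquare u} = 11 := by
    have hrange : ∀ u : (ZMod 23)ˣ, IsSquare u ↔ u ∈ (powMonoidHom 2 : (ZMod 23)ˣ →* (ZMod 23)ˣ).range :=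
      fun u => ⟨fun ⟨v, hv⟩ => ⟨v, by rw [hv, powMonoidHom_apply, sq]⟩,
        fun ⟨v, hv⟩ => ⟨v, by rw [← hv, powMonoidHom_apply, sq]⟩⟩
    rw [Nat.card_congr (Equiv.subtypeEquivRight hrange)]
    haveI : IsCyclic (ZMod 23)ˣ := inferInstance
    rw [IsCyclic.card_powMonoidHom_range, Nat.card_units, Nat.card_zmod]
    rfl
  rw [h11]

theorem affine_le : affine ≤ M24 ⊓ MulAction.stabilizer (Equiv.Perm GolayPt) (none : GolayPt) := by
  rw [← affine_eq, closure_le]
  rintro g (hg | ⟨u, hu, rfl⟩)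
  · rw [show g = gT from hg]
    exact ⟨gT_mem, rfl⟩
  · exact ⟨mulSquare_mem u hu, rfl⟩

theorem tr_mem (b : ZMod 23) : tr b ∈ affine := ⟨b, 1, IsSquare.one, by rw [ml_one, mul_one]⟩

theorem tr_mem_line (b : ZMod 23) : tr b ∈ closure lineGens := by
  rw [tr_eq_pow b]
  exact pow_mem (Subgroup.subset_closure (show tr 1 ∈ lineGens from Or.inl (Or.inl rfl))) _

theorem affine_le_line : affine ≤ closure lineGens := by
  rw [← affine_eq]
  exact closure_mono (Set.union_subset_union_left _ (by simp [lineGens]))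

theorem line_le : closure lineGens ≤ M24 := by
  rw [closure_le]
  rintro g ((hg | hg) | ⟨u, hu, rfl⟩)
  · rw [show g = gT from hg]; exact gT_mem
  · rw [show g = projInv from hg]; exact projInv_mem
  · exact mulSquare_mem u hu

/-- The two cells. -/
theorem line_cells {g : Equiv.Perm GolayPt} (hg : g ∈ closure lineGens) :
    g ∈ affine ∨ ∃ a ∈ affine, ∃ c, g = a * projInv * tr c := by
  rw [← Subgroup.mem_toSubmonoid, Subgroup.closure_toSubmonoid_of_finite] at hg
  induction hg using Submonoid.closure_induction_right with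
  | one => exact Or.inl (one_mem _)
  | mul_right x _ y hy ih =>
    rcases hy with (hy | hy) | ⟨u, hu, rfl⟩
    · obtain rfl : y = tr 1 := hy
      rcases ih with ih | ⟨a, ha, c, rfl⟩
      · exact Or.inl (mul_mem ih (tr_mem 1))
      · exact Or.inr ⟨a, ha, c + 1, by rw [mul_assoc, tr_mul]⟩
    · obtain rfl : y = projInv := hy
      rcases ih with ih | ⟨a, ha, c, rfl⟩
      · exact Or.inr ⟨x, ih, 0, by rw [tr_zero, mul_one]⟩
      · rcases eq_or_ne c 0 with rfl | hc
        · have h2 : projInv * projInv = 1 := Equiv.ext projInv.left_inv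
          exact Or.inl (by rw [tr_zero, mul_one, mul_assoc, h2, mul_one]; exact ha)
        · obtain ⟨u, hu, b, hb⟩ := projInv_tr c hc
          refine Or.inr ⟨a * (tr b * ml u), mul_mem ha ⟨b, u, hu, rfl⟩, b, ?_⟩
          rw [mul_assoc a projInv, mul_assoc a, hb]
          group
    · rcases ih with ih | ⟨a, ha, c, rfl⟩
      · exact Or.inl (mul_mem ih ⟨0, u, hu, by rw [tr_zero, one_mul]; rfl⟩)
      · refine Or.inr ⟨a * ml u⁻¹, mul_mem ha ⟨0, u⁻¹, hu.inv, by rw [tr_zero, one_mul]⟩,
          ((u⁻¹ : (ZMod 23)ˣ) : ZMod 23) * c, ?_⟩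
        have h1 : tr c * ml u = ml u * tr (((u⁻¹ : (ZMod 23)ˣ) : ZMod 23) * c) := by
          rw [ml_tr, ← mul_assoc, ← Units.val_mul, mul_inv_cancel, Units.val_one, one_mul]
        show a * projInv * tr c * ml u = _
        rw [mul_assoc, h1, ← mul_assoc, mul_assoc a, projInv_ml, ← mul_assoc]

theorem card_line_le : Nat.card (closure lineGens) ≤ 253 + 253 * 23 := by
  classical
  let f : affine ⊕ affine × ZMod 23 → Equiv.Perm GolayPt :=
    Sum.elim (fun a => a.1) (fun v => v.1.1 * projInv * tr v.2)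
  have hsub : ((closure lineGens : Subgroup _) : Set (Equiv.Perm GolayPt)) ⊆ Set.range f := by
    intro g hg
    rcases line_cells hg with h | ⟨a, ha, c, rfl⟩
    · exact ⟨Sum.inl ⟨g, h⟩, rfl⟩
    · exact ⟨Sum.inr (⟨a, ha⟩, c), rfl⟩
  calc Nat.card (closure lineGens) ≤ Nat.card (Set.range f) :=
        Nat.card_mono (Set.finite_range f) hsub
    _ ≤ Nat.card (affine ⊕ affine × ZMod 23) := Finite.card_range_le f
    _ = _ := by rw [Nat.card_sum, Nat.card_prod, card_affine, Nat.card_zmod]

/-- The fixed point free count for a Sylow subgroup inside a group of permutations. -/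
theorem sylow_count {Ω : Type*} [Finite Ω] {p m : ℕ} [Fact p.Prime] (K P : Subgroup (Equiv.Perm Ω))
    (hPK : P ≤ K) (hP : Nat.card P = p) (hK : Nat.card K = p * m) (hm : ¬ p ∣ m) :
    ∃ n, n % p = 1 ∧ n * Nat.card ↥(K ⊓ normalizer (P : Set (Equiv.Perm Ω))) = p * m := by
  have hp : p.Prime := Fact.out
  have hf : (Nat.card K).factorization p = 1 := by
    rw [hK, Nat.factorization_mul hp.ne_zero (fun h => hm (by rw [h]; exact dvd_zero p))]
    simp [hp.factorization_self, Nat.factorization_eq_zero_of_not_dvd hm]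
  have hPc : Nat.card (P.subgroupOf K) = p :=
    (Nat.card_congr (subgroupOfEquivOfLe hPK).toEquiv).trans hP
  let S : Sylow p K := Sylow.ofCard (P.subgroupOf K) (by rw [hf, pow_one, hPc])
  refine ⟨Nat.card (Sylow p K), ?_, ?_⟩
  · have := card_sylow_modEq_one p K
    rw [Nat.ModEq, Nat.mod_eq_of_lt hp.one_lt] at this
    exact this
  · rw [S.card_eq_index_normalizer, ← hK, ← index_mul_card (normalizer ((S : Subgroup K) : Set K))]
    congr 1
    have hN : normalizer ((S : Subgroup K) : Set K) =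
        (normalizer (P : Set (Equiv.Perm Ω))).subgroupOf K := by
      rw [show (S : Subgroup K) = P.subgroupOf K from Sylow.coe_ofCard _ _]
      exact (subgroupOf_normalizer_eq hPK).symm
    rw [hN]
    rw [← Nat.card_congr (subgroupOfEquivOfLe (inf_le_left : K ⊓ normalizer (P : Set _) ≤ K)).toEquiv]
    rw [inf_subgroupOf_left]

/-- Normalisers of subgroups of prime order at least `11` in `M24`. -/
theorem normalizer_dvd {r k : ℕ} [hr : Fact r.Prime] (h9 : 9 ≤ r) (hk : 24 < (k + 1) * r)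
    {x : Equiv.Perm GolayPt} (hx : x ∈ M24) (hx0 : x none = none) (hord : orderOf x = r) :
    ∃ t, 1 ≤ t ∧ t ≤ k ∧
      Nat.card ↥(M24 ⊓ MulAction.stabilizer (Equiv.Perm GolayPt) (none : GolayPt) ⊓
        normalizer ((zpowers x : Subgroup (Equiv.Perm GolayPt)) : Set (Equiv.Perm GolayPt))) ∣
          t * r * (r - 1) := by
  classical
  set P := zpowers x with hP
  set N := M24 ⊓ MulAction.stabilizer (Equiv.Perm GolayPt) (none : GolayPt) ⊓
    normalizer (P : Set (Equiv.Perm GolayPt)) with hN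
  have hPc : Nat.card P = r := (Nat.card_zpowers x).trans hord
  have hx1 : x ≠ 1 := fun h => hr.1.ne_one (by rw [← hord, h, orderOf_one])
  obtain ⟨c, hc⟩ : ∃ c, x c ≠ c := by
    by_contra h
    push Not at h
    exact hx1 (Equiv.ext h)
  have hxN : x ∈ N := ⟨⟨hx, hx0⟩, le_normalizer (mem_zpowers x)⟩
  -- the stabiliser of c acts faithfully on P
  set Nc := MulAction.stabilizer N c with hNc
  let cj : Nc → MulAut P := fun g =>
    { toFun := fun y => ⟨((g : N) : Equiv.Perm GolayPt) * y * ((g : N) : Equiv.Perm GolayPt)⁻¹,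
        (Subgroup.mem_normalizer_iff.1 g.1.2.2 y).1 y.2⟩
      invFun := fun y => ⟨((g : N) : Equiv.Perm GolayPt)⁻¹ * y * ((g : N) : Equiv.Perm GolayPt),
        (Subgroup.mem_normalizer_iff''.1 g.1.2.2 y).1 y.2⟩
      left_inv := fun y => Subtype.ext (by simp only []; group)
      right_inv := fun y => Subtype.ext (by simp only []; group)
      map_mul' := fun y z => Subtype.ext (by simp only [Subgroup.coe_mul]; group) }
  let φ : Nc →* MulAut P := MonoidHom.mk' cj fun g h => MulEquiv.ext fun y => Subtype.ext (by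
    show _ = ((g : N) : Equiv.Perm GolayPt) * (((h : N) : Equiv.Perm GolayPt) * y *
      ((h : N) : Equiv.Perm GolayPt)⁻¹) * ((g : N) : Equiv.Perm GolayPt)⁻¹
    simp only [cj, MulEquiv.coe_mk, Equiv.coe_fn_mk, Subgroup.coe_mul, mul_inv_rev]
    group)
  have hφinj : Function.Injective φ := by
    rw [injective_iff_map_eq_one]
    intro g hg
    have h1 := congrArg (fun e : MulAut P => (e ⟨x, mem_zpowers x⟩ : Equiv.Perm GolayPt)) hg
    have hcomm : ((g : N) : Equiv.Perm GolayPt) * x * ((g : N) : Equiv.Perm GolayPt)⁻¹ = x := h1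
    set γ := ((g : N) : Equiv.Perm GolayPt) with hγ
    have hγx : γ * x = x * γ := mul_inv_eq_iff_eq_mul.1 hcomm
    have hγc : γ c = c := g.2
    have hfix : ∀ i : ℤ, γ ((x ^ i) c) = (x ^ i) c := fun i => by
      have := (show Commute γ x from hγx).zpow_right i
      rw [← Equiv.Perm.mul_apply, this.eq, Equiv.Perm.mul_apply, hγc]
    have hγ1 : γ = 1 := by
      refine eq_one_of_nine_fixed (g.1.2.1.1) (Set.toFinite (MulAction.orbit P c)).toFinset ?_ ?_
      · rw [← Set.ncard_eq_toFinset_card _, ← Nat.card_coe_set_eq]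
        obtain ⟨e, he⟩ := (IsPGroup.of_card (n := 1) (by rw [pow_one]; exact hPc) :
          IsPGroup r P).card_orbit c
        rw [he]
        rcases e with _ | e
        · exfalso
          rw [pow_zero, Nat.card_eq_one_iff_unique] at he
          exact hc (congrArg Subtype.val (he.1.elim
            (⟨x c, ⟨⟨x, mem_zpowers x⟩, rfl⟩⟩ : MulAction.orbit P c) ⟨c, MulAction.mem_orbit_self c⟩))
        · exact h9.trans (Nat.le_self_pow e.succ_ne_zero r)
      · intro q hq
        obtain ⟨⟨y, hy⟩, rfl⟩ := (Set.Finite.mem_toFinset _).1 hq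
        obtain ⟨i, rfl⟩ := mem_zpowers_iff.1 hy
        exact hfix i
    exact Subtype.ext (Subtype.ext hγ1)
  have hNcd : Nat.card Nc ∣ r - 1 := by
    have h1 := Subgroup.card_subgroup_dvd_card φ.range
    rw [← Nat.card_congr (MonoidHom.ofInjective hφinj).toEquiv] at h1
    haveI : IsCyclic P := inferInstance
    rwa [IsCyclic.card_mulAut, hPc, Nat.totient_prime hr.1] at h1
  -- the orbit of c consists of moved points
  have horb : r ∣ Nat.card (MulAction.orbit N c) := by
    have hxfix : ∀ q ∈ MulAction.orbit N c, x q ≠ q := by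
      rintro _ ⟨g, rfl⟩ hq
      set γ := (g : Equiv.Perm GolayPt) with hγ
      have hm : γ⁻¹ * x * γ ∈ P :=
        (Subgroup.mem_normalizer_iff''.1 g.2.2 x).1 (mem_zpowers x)
      have hne : γ⁻¹ * x * γ ≠ 1 := fun h => hx1 (by simpa [mul_assoc, inv_mul_eq_one] using h)
      have hgen : zpowers (γ⁻¹ * x * γ) = P := eq_of_le_of_card_ge (zpowers_le.2 hm) (by
        rw [show Nat.card P = r from hPc, Nat.card_zpowers]
        rcases (Nat.dvd_prime hr.1).1 (hPc ▸ Subgroup.orderOf_dvd_natCard P hm) with h | h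
        · exact absurd (orderOf_eq_one_iff.1 h) hne
        · exact h.ge)
      obtain ⟨y, hy⟩ := mem_zpowers_iff.1 (hgen.ge (mem_zpowers x))
      refine hc ?_
      have hfix : (γ⁻¹ * x * γ) c = c := by
        show γ⁻¹ (x (γ c)) = c
        rw [show x (γ c) = γ c from hq]
        exact γ.symm_apply_apply c
      rw [← hy]
      exact Equiv.Perm.zpow_apply_eq_self_of_apply_eq_self hfix y
    let A : MulAction P (MulAction.orbit N c) :=
      MulAction.compHom _ (Subgroup.inclusion (zpowers_le.2 hxN))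
    have h := (IsPGroup.of_card (n := 1) (by rw [pow_one]; exact hPc) :
      IsPGroup r P).card_modEq_card_fixedPoints (MulAction.orbit N c)
    rw [← Nat.modEq_zero_iff_dvd]
    refine h.trans ?_
    rw [Nat.card_eq_zero.2 (Or.inl ⟨fun q => hxfix q.1.1 q.1.2 ?_⟩)]
    exact congrArg Subtype.val (q.2 ⟨x, mem_zpowers x⟩)
  obtain ⟨t, ht⟩ := horb
  have hle : Nat.card (MulAction.orbit N c) ≤ 24 := by
    refine (Nat.card_le_card_of_injective Subtype.val Subtype.val_injective).trans ?_
    rw [Nat.card_eq_fintype_card, card_golayPt]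
  have hos := MulAction.index_stabilizer N c
  have hmul := index_mul_card Nc
  refine ⟨t, ?_, ?_, ?_⟩
  · by_contra h0
    have ht0 : t = 0 := by omega
    rw [ht0, mul_zero] at ht
    haveI : Nonempty (MulAction.orbit N c) := ⟨⟨c, MulAction.mem_orbit_self c⟩⟩
    exact Nat.card_pos.ne' ht
  · by_contra h0
    have : r * (k + 1) ≤ r * t := Nat.mul_le_mul_left r (by omega)
    rw [← ht] at this
    rw [mul_comm] at hk
    omega
  · rw [← hmul, hos, ← Nat.card_coe_set_eq, ht, mul_comm r t]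
    exact Nat.mul_dvd_mul_left _ hNcd

/-- The point stabiliser. -/
def stab0 : Subgroup (Equiv.Perm GolayPt) :=
  M24 ⊓ MulAction.stabilizer (Equiv.Perm GolayPt) (none : GolayPt)

theorem card_stab0 : Nat.card stab0 = 10200960 := by
  rw [← natCard_stab_point (none : GolayPt)]
  exact Nat.card_congr ⟨fun g => ⟨⟨g.1, g.2.1⟩, g.2.2⟩, fun g => ⟨g.1.1, g.1.2, g.2⟩,
    fun _ => rfl, fun _ => rfl⟩

theorem orderOf_tr_one : orderOf (tr 1) = 23 := by
  refine orderOf_eq_prime ?_ fun h => ?_
  · have h1 := tr_eq_pow (-1)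
    have h2 : (-1 : ZMod 23).val = 22 := by decide
    rw [h2] at h1
    rw [pow_succ, ← h1, tr_mul, neg_add_cancel, tr_zero]
  · have h1 := congrArg (fun g : Equiv.Perm GolayPt => g (some 0)) h
    simp [tr_some] at h1

/-- The unit `2`, a square of order `11`. -/
def two' : (ZMod 23)ˣ := ⟨2, 12, by decide, by decide⟩

theorem isSquare_two' : IsSquare two' := ⟨⟨5, 14, by decide, by decide⟩, by decide⟩

theorem orderOf_ml_two : orderOf (ml two') = 11 := by
  refine orderOf_eq_prime ?_ fun h => ?_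
  · have h : ∀ n : ℕ, ml two' ^ n = ml (two' ^ n) := by
      intro n
      induction n with
      | zero => rw [pow_zero, pow_zero, ml_one]
      | succ n ih => rw [pow_succ, ih, ml_mul, ← pow_succ]
    rw [h, show two' ^ 11 = 1 by decide, ml_one]
  · have h1 := congrArg (fun g : Equiv.Perm GolayPt => g (some 1)) h
    simp [ml_some, two'] at h1
    revert h1
    decide

/-- Sylow numbers of a group containing `23:11` in the point stabiliser. -/
theorem card_cases (K : Subgroup (Equiv.Perm GolayPt)) (hB : affine ≤ K) (hK : K ≤ stab0) :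
    Nat.card K = 253 ∨ Nat.card K = 10200960 := by
  set P := zpowers (tr 1) with hP
  have hPc : Nat.card P = 23 := (Nat.card_zpowers _).trans orderOf_tr_one
  have hPB : P ≤ affine := zpowers_le.2 (tr_mem 1)
  set Q := zpowers (ml two') with hQ
  have hQc : Nat.card Q = 11 := (Nat.card_zpowers _).trans orderOf_ml_two
  have hQB : Q ≤ affine := zpowers_le.2 ⟨0, two', isSquare_two', by rw [tr_zero, one_mul]⟩
  have hnormB : affine ≤ normalizer (P : Set (Equiv.Perm GolayPt)) := by
    refine fun g hg => Subgroup.mem_normalizer_iff.2 fun y => ?_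
    have key : ∀ g ∈ affine, ∀ y ∈ P, g * y * g⁻¹ ∈ P := by
      rintro _ ⟨b, u, hu, rfl⟩ y hy
      obtain ⟨i, rfl⟩ := mem_zpowers_iff.1 hy
      rw [← conj_zpow]
      refine zpow_mem ?_ i
      rw [show tr b * ml u * tr 1 * (tr b * ml u)⁻¹ = tr b * (ml u * tr 1 * (ml u)⁻¹) * (tr b)⁻¹
        by group, ml_tr, mul_inv_cancel_right, tr_mul, mul_one, add_comm, ← tr_mul,
        mul_inv_cancel_right, tr_eq_pow]
      exact pow_mem (mem_zpowers _) _
    refine ⟨key g hg y, fun h => ?_⟩
    simpa [mul_assoc] using key g⁻¹ (inv_mem hg) _ h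
  have hBc := card_affine
  -- the two normalisers in the point stabiliser
  obtain ⟨t, ht1, ht2, hN23⟩ := normalizer_dvd (r := 23) (k := 1) (by norm_num) (by norm_num)
    ((affine_le (tr_mem 1)).1) (affine_le (tr_mem 1)).2 orderOf_tr_one
  obtain ⟨t', ht1', ht2', hN11⟩ := normalizer_dvd (r := 11) (k := 2) (by norm_num) (by norm_num)
    ((affine_le (hQB (mem_zpowers _))).1) (affine_le (hQB (mem_zpowers _))).2 orderOf_ml_two
  have ht : t = 1 := by omega
  subst ht
  change Nat.card ↥(stab0 ⊓ normalizer (P : Set (Equiv.Perm GolayPt))) ∣ _ at hN23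
  change Nat.card ↥(stab0 ⊓ normalizer (Q : Set (Equiv.Perm GolayPt))) ∣ _ at hN11
  have hB0 : affine ≤ stab0 := affine_le
  have hN23ge : 253 ∣ Nat.card ↥(stab0 ⊓ normalizer (P : Set (Equiv.Perm GolayPt))) :=
    hBc ▸ card_dvd_of_le (le_inf hB0 hnormB)
  obtain ⟨n, hn1, hn2⟩ := sylow_count (p := 23) (m := 443520) stab0 P (hPB.trans hB0) hPc
    card_stab0 (by norm_num)
  have hNP : Nat.card ↥(stab0 ⊓ normalizer (P : Set (Equiv.Perm GolayPt))) = 253 := by
    obtain ⟨d, hd⟩ := hN23ge
    rw [hd] at hN23 hn2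
    have hd2 : d ∣ 2 := (Nat.mul_dvd_mul_iff_left (by norm_num : 0 < 253)).1 hN23
    rcases (Nat.dvd_prime Nat.prime_two).1 hd2 with rfl | rfl
    · rw [hd, mul_one]
    · omega
  obtain ⟨n', hn1', hn2'⟩ := sylow_count (p := 11) (m := 927360) stab0 Q (hQB.trans hB0) hQc
    card_stab0 (by norm_num)
  have hQd : 11 ∣ Nat.card ↥(stab0 ⊓ normalizer (Q : Set (Equiv.Perm GolayPt))) :=
    hQc ▸ card_dvd_of_le (le_inf (hQB.trans hB0) le_normalizer)
  have hNQ : Nat.card ↥(stab0 ⊓ normalizer (Q : Set (Equiv.Perm GolayPt))) = 55 := by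
    obtain ⟨d, hd⟩ := hQd
    rw [hd] at hN11 hn2' ⊢
    have hd2 : d ∣ 20 := by
      have : 11 * d ∣ 11 * (t' * 10) := by
        rw [show 11 * (t' * 10) = t' * 11 * (11 - 1) by ring]
        exact hN11
      have := (Nat.mul_dvd_mul_iff_left (by norm_num : 0 < 11)).1 this
      refine this.trans ?_
      interval_cases t' <;> norm_num
    have hle := Nat.le_of_dvd (by norm_num) hd2
    interval_cases d <;> omega
  -- the counts in K
  obtain ⟨m, hm⟩ : 23 ∣ Nat.card K := hPc ▸ card_dvd_of_le (hPB.trans hB)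
  have hmdvd : m ∣ 443520 := by
    have h := card_dvd_of_le hK
    rw [hm, card_stab0, show 10200960 = 23 * 443520 by norm_num] at h
    exact (Nat.mul_dvd_mul_iff_left (by norm_num : 0 < 23)).1 h
  have h23m : ¬ 23 ∣ m := fun h => absurd (h.trans hmdvd) (by norm_num)
  obtain ⟨a, ha1, ha2⟩ := sylow_count K P (hPB.trans hB) hPc hm h23m
  have hKP : Nat.card ↥(K ⊓ normalizer (P : Set (Equiv.Perm GolayPt))) = 253 :=
    Nat.dvd_antisymm (hNP ▸ card_dvd_of_le (inf_le_inf_right _ hK))
      (hBc ▸ card_dvd_of_le (le_inf hB hnormB))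
  rw [hKP] at ha2
  obtain ⟨m', hm'⟩ : 11 ∣ Nat.card K := hQc ▸ card_dvd_of_le (hQB.trans hB)
  have hm'dvd : m' ∣ 927360 := by
    have h := card_dvd_of_le hK
    rw [hm', card_stab0, show 10200960 = 11 * 927360 by norm_num] at h
    exact (Nat.mul_dvd_mul_iff_left (by norm_num : 0 < 11)).1 h
  have h11m : ¬ 11 ∣ m' := fun h => absurd (h.trans hm'dvd) (by norm_num)
  obtain ⟨b, hb1, hb2⟩ := sylow_count K Q (hQB.trans hB) hQc hm' h11m
  obtain ⟨e, he⟩ := (hQc ▸ card_dvd_of_le (le_inf (hQB.trans hB) le_normalizer) :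
    11 ∣ Nat.card ↥(K ⊓ normalizer (Q : Set (Equiv.Perm GolayPt))))
  have he5 : e ∣ 5 := by
    have h := card_dvd_of_le (inf_le_inf_right (normalizer (Q : Set (Equiv.Perm GolayPt))) hK)
    rw [he, hNQ, show 55 = 11 * 5 by norm_num] at h
    exact (Nat.mul_dvd_mul_iff_left (by norm_num : 0 < 11)).1 h
  rw [he] at hb2
  have hadvd : a ∣ 40320 := by
    have h : 11 * a ∣ 11 * 40320 := by
      rw [show 11 * 40320 = 443520 by norm_num]
      refine (dvd_of_eq ?_).trans hmdvd
      omega
    exact (Nat.mul_dvd_mul_iff_left (by norm_num : 0 < 11)).1 h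
  rw [show 40320 = 128 * (9 * (5 * 7)) by norm_num] at hadvd
  obtain ⟨x, y, hx, hy, rfl⟩ := exists_dvd_and_dvd_of_dvd_mul hadvd
  obtain ⟨y1, z, hy1, hz, rfl⟩ := exists_dvd_and_dvd_of_dvd_mul hy
  obtain ⟨i, hi, rfl⟩ := (Nat.dvd_prime_pow Nat.prime_two).1 (show x ∣ 2 ^ 7 by simpa using hx)
  obtain ⟨j, hj, rfl⟩ := (Nat.dvd_prime_pow Nat.prime_three).1 (show y1 ∣ 3 ^ 2 by simpa using hy1)
  obtain ⟨z1, z2, hz1, hz2, rfl⟩ := exists_dvd_and_dvd_of_dvd_mul hz
  rcases (Nat.dvd_prime (by norm_num : Nat.Prime 5)).1 hz1 with rfl | rfl <;>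
  rcases (Nat.dvd_prime (by norm_num : Nat.Prime 7)).1 hz2 with rfl | rfl <;>
  rcases (Nat.dvd_prime (by norm_num : Nat.Prime 5)).1 he5 with rfl | rfl <;>
  interval_cases i <;> interval_cases j <;> omega

/-- `23:11` is maximal in the point stabiliser. -/
theorem stab0_max {K : Subgroup (Equiv.Perm GolayPt)} (hB : affine ≤ K) (hK : K ≤ stab0) :
    K = affine ∨ K = stab0 := by
  rcases card_cases K hB hK with h | h
  · exact Or.inl (eq_of_le_of_card_ge hB (by rw [h, card_affine])).symm
  · exact Or.inr (eq_of_le_of_card_ge hK (by rw [h, card_stab0]))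

theorem orbit_top {H : Subgroup (Equiv.Perm GolayPt)} (hH : closure lineGens ≤ H) :
    Nat.card H = 24 * Nat.card ↥(H ⊓ MulAction.stabilizer (Equiv.Perm GolayPt) (none : GolayPt)) := by
  have horb : MulAction.orbit H (none : GolayPt) = Set.univ := by
    refine Set.eq_univ_of_forall fun q => ?_
    rcases q with _ | b
    · exact MulAction.mem_orbit_self _
    · refine ⟨⟨tr b * projInv, mul_mem (hH (tr_mem_line b))
        (hH (Subgroup.subset_closure (Or.inl (Or.inr rfl))))⟩, ?_⟩
      show tr b (projInvFun none) = some b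
      rw [show projInvFun none = some 0 from rfl, tr_some, zero_add]
  have h1 := index_mul_card (MulAction.stabilizer H (none : GolayPt))
  rw [MulAction.index_stabilizer, horb, Set.ncard_univ, Nat.card_eq_fintype_card (α := GolayPt),
    card_golayPt] at h1
  rw [← h1]
  congr 1
  exact Nat.card_congr ⟨fun g => ⟨g.1.1, g.1.2, g.2⟩, fun g => ⟨⟨g.1, g.2.1⟩, g.2.2⟩,
    fun _ => rfl, fun _ => rfl⟩

theorem card_line : Nat.card (closure lineGens) = 6072 := by
  have h := orbit_top (le_refl (closure lineGens))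
  have h2 := card_le_of_le (le_inf affine_le_line fun g hg => (affine_le hg).2 :
    affine ≤ closure lineGens ⊓ MulAction.stabilizer (Equiv.Perm GolayPt) (none : GolayPt))
  rw [card_affine] at h2
  have h3 := card_line_le
  omega

/-- The line group is maximal in `M24`. -/
theorem line_max {H : Subgroup (Equiv.Perm GolayPt)} (hL : closure lineGens ≤ H) (hH : H ≤ M24) :
    H = closure lineGens ∨ H = M24 := by
  have h := orbit_top hL
  rcases stab0_max (K := H ⊓ MulAction.stabilizer (Equiv.Perm GolayPt) (none : GolayPt))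
    (le_inf (affine_le_line.trans hL) fun g hg => (affine_le hg).2) (inf_le_inf_right _ hH) with e | e
  · refine Or.inl (eq_of_le_of_card_ge hL ?_).symm
    rw [h, e, card_affine, card_line]
  · refine Or.inr (eq_of_le_of_card_ge hH ?_)
    rw [h, e, card_stab0, natCard_M24]

end CfsgLib.Spor.LineMax
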