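import Cfsg.Agent.Lib.Spor.LeechShortStab
import Cfsg.Agent.Lib.Spor.MathieuSimple
import Cfsg.Agent.Lib.Spor.Cosets
import Cfsg.Prelude.Def_MonsterType

/-!
The stabilizer of a short vector `v` acts faithfully and without nontrivial normal 2-subgroups on the
vectors orthogonal to `v` modulo `⟨v⟩` and the doubles; a subgroup of the lattice invariant under the
stabilizer of the standard frame, strictly above the frame class, contains pairs `4 e_p + 4 e_q`.
-/

set_option autoImplicit false
set_option maxRecDepth 100000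

namespace CfsgLib.Spor

open Cfsg
open CfsgLib.ThreeTransp.CoReduce (bigE dot_preserved)

/-- `{0, v}` modulo the doubles -/
def pairSub : AddSubgroup leechLattice :=
  AddSubgroup.closure (insert shortV (Set.range fun w : leechLattice => w + w))

theorem shortV_mem_pairSub : shortV ∈ pairSub :=
  AddSubgroup.subset_closure (Set.mem_insert _ _)

theorem dbl_mem_pairSub (w : leechLattice) : w + w ∈ pairSub :=
  AddSubgroup.subset_closure (Set.mem_insert_of_mem _ ⟨w, rfl⟩)

theorem mem_pairSub {x : leechLattice} (hx : x ∈ pairSub) :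
    ∃ w : leechLattice, x = w + w ∨ x = shortV + (w + w) := by
  induction hx using AddSubgroup.closure_induction with
  | mem x hx =>
    rcases hx with rfl | ⟨w, rfl⟩
    · exact ⟨0, Or.inr (by simp)⟩
    · exact ⟨w, Or.inl rfl⟩
  | zero => exact ⟨0, Or.inl (by simp)⟩
  | add x y _ _ hx hy =>
    obtain ⟨a, rfl | rfl⟩ := hx <;> obtain ⟨b, rfl | rfl⟩ := hy
    · exact ⟨a + b, Or.inl (by abel)⟩
    · exact ⟨a + b, Or.inr (by abel)⟩
    · exact ⟨a + b, Or.inr (by abel)⟩
    · exact ⟨shortV + a + b, Or.inl (by abel)⟩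
  | neg x _ hx =>
    obtain ⟨a, rfl | rfl⟩ := hx
    · exact ⟨-a, Or.inl (by abel)⟩
    · exact ⟨-shortV - a, Or.inr (by abel)⟩

theorem dotInt_comm' (x y : GolayPt → ℤ) : dotInt x y = dotInt y x := by
  simp only [dotInt, mul_comm]

theorem dotInt_smul' (g : Co0) (x y : leechLattice) :
    dotInt ((g • x : leechLattice) : GolayPt → ℤ) ((g • y : leechLattice) : GolayPt → ℤ) =
      dotInt (x : GolayPt → ℤ) (y : GolayPt → ℤ) :=
  dot_preserved g.2 x y

/-- the vectors whose product with the short vector is divisible by 16 -/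
def perpV : AddSubgroup leechLattice where
  carrier := {x | (16 : ℤ) ∣ dotInt (x : GolayPt → ℤ) (shortV : GolayPt → ℤ)}
  zero_mem' := by simp [dotInt]
  add_mem' := by
    intro a b ha hb
    show (16 : ℤ) ∣ dotInt ((a + b : leechLattice) : GolayPt → ℤ) _
    rw [AddSubgroup.coe_add, dotInt_add_left]
    exact dvd_add ha hb
  neg_mem' := by
    intro a ha
    show (16 : ℤ) ∣ dotInt ((-a : leechLattice) : GolayPt → ℤ) _
    rw [AddSubgroup.coe_neg, dotInt_neg_left]
    exact dvd_neg.2 ha

theorem smul_neg' (g : Co0) (v : leechLattice) : g • (-v) = -(g • v) :=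
  map_neg (AddMonoidHom.mk' (fun x => g • x) (coe_smul_add g)) v

theorem perpV_inv {g : Co0} (hg : g • shortV = shortV ∨ g • shortV = -shortV) {x : leechLattice}
    (hx : x ∈ perpV) : g • x ∈ perpV := by
  have h : (16 : ℤ) ∣ dotInt (x : GolayPt → ℤ) (shortV : GolayPt → ℤ) := hx
  show (16 : ℤ) ∣ _
  rw [← dotInt_smul' g x shortV] at h
  rcases hg with e | e <;> rw [e] at h
  · exact h
  · rwa [AddSubgroup.coe_neg, dotInt_comm', dotInt_neg_left, dvd_neg, dotInt_comm'] at h

theorem pairSub_inv {g : Co0} (hg : g • shortV = shortV ∨ g • shortV = -shortV) {x : leechLattice}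
    (hx : x ∈ pairSub) : g • x ∈ pairSub := by
  have hv : g • shortV ∈ pairSub := by
    rcases hg with e | e <;> rw [e]
    · exact shortV_mem_pairSub
    · exact neg_mem shortV_mem_pairSub
  obtain ⟨w, rfl | rfl⟩ := mem_pairSub hx
  · rw [coe_smul_add]; exact dbl_mem_pairSub _
  · rw [coe_smul_add, coe_smul_add]; exact add_mem hv (dbl_mem_pairSub _)

theorem shortV_mem_perpV : shortV ∈ perpV := by
  show (16 : ℤ) ∣ _
  decide +kernel

theorem two_dvd_sub {a b : leechLattice} (w : leechLattice) (h : a - b = w + w) :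
    ∃ z ∈ leechLattice, (a : GolayPt → ℤ) - (b : GolayPt → ℤ) = 2 • z :=
  ⟨w, w.2, by rw [← AddSubgroup.coe_sub, h, AddSubgroup.coe_add, two_nsmul]⟩

/-- `4 e_p + 4 e_q` -/
def pairV (p q : GolayPt) : leechLattice :=
  ⟨lvec 0 0 (fun k => (if k = p then 1 else 0) + if k = q then 1 else 0),
    mem_leechLattice.2 ⟨0, 0, _, Submodule.zero_mem _, rfl, by
      rw [Finset.sum_add_distrib]; simp⟩⟩

theorem pairV_coe (p q k : GolayPt) :
    (pairV p q : GolayPt → ℤ) k = 4 * ((if k = p then 1 else 0) + if k = q then 1 else 0) := by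
  simp [pairV, lvec, bitZ_zero]

theorem sqNorm_pairV {p q : GolayPt} (h : p ≠ q) : sqNorm (pairV p q : GolayPt → ℤ) = 32 := by
  have e : ∀ k, (pairV p q : GolayPt → ℤ) k ^ 2 =
      (if k = p then 16 else 0) + if k = q then 16 else 0 := fun k => by
    rw [pairV_coe]; split_ifs with h1 h2 <;> first | omega | exact absurd (h1.symm.trans h2) h
  simp [sqNorm, e, Finset.sum_add_distrib]

/-- The stabilizer of `v` acts faithfully on the orthogonal vectors modulo `{0, v}`. -/
theorem shortStab_faithful {g : Co0} (hg : g • shortV = shortV)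
    (h : ∀ x ∈ perpV, g • x - x ∈ pairSub) : g = 1 := by
  classical
  have hω : bigE none ∈ perpV := by
    show (16 : ℤ) ∣ _
    decide +kernel
  have hcross : g ∈ crossStab := by
    refine mem_crossStab_of_top (mem_stdCross_iff.2 ⟨SetLike.coe_mem _,
      (coe_smul_sqNorm g eTop).trans (sqNorm_bigE none), ?_⟩)
    obtain ⟨w, hw | hw⟩ := mem_pairSub (h _ hω)
    · refine ⟨-(w : GolayPt → ℤ), neg_mem w.2, ?_⟩
      have := congrArg (fun z : leechLattice => (z : GolayPt → ℤ)) hw
      simp only [AddSubgroup.coe_sub, AddSubgroup.coe_add] at this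
      rw [smul_neg, two_nsmul, ← this, neg_sub]
      rfl
    · exfalso
      have h' : g • bigE none - (bigE none - shortV) = (w + shortV) + (w + shortV) := by
        rw [show g • bigE none = (g • bigE none - bigE none) + bigE none by abel, hw]; abel
      have h32 : sqNorm ((bigE none - shortV : leechLattice) : GolayPt → ℤ) = 32 := by
        decide +kernel
      have h64 : sqNorm ((g • bigE none : leechLattice) : GolayPt → ℤ) = 64 :=
        (coe_smul_sqNorm g _).trans (sqNorm_bigE none)
      have := (short_classes (v := ((g • bigE none : leechLattice) : GolayPt → ℤ))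
        (w := ((bigE none - shortV : leechLattice) : GolayPt → ℤ)) (SetLike.coe_mem _)
        (by omega) (by omega) (two_dvd_sub _ h')).1
      omega
  obtain ⟨⟨σ, c⟩, rfl⟩ := exists_monoEl_of_mem hcross
  have hσ : ∀ k, (shortV : GolayPt → ℤ) ((σ : Equiv.Perm GolayPt).symm k) =
      if k ∈ (c : Finset GolayPt) then -(shortV : GolayPt → ℤ) k else (shortV : GolayPt → ℤ) k := by
    intro k
    have := congrArg (fun z : leechLattice => (z : GolayPt → ℤ) k) hg
    simp only [monoEl_smul, signedPerm] at this
    split_ifs at this ⊢ <;> omega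
  -- pairs avoiding the two points
  have hpair : ∀ p q : GolayPt, p ≠ q → p ≠ none → p ≠ pt 0 → q ≠ none → q ≠ pt 0 →
      monoEl (σ, c) • pairV p q = pairV p q ∨ monoEl (σ, c) • pairV p q = -pairV p q := by
    intro p q hne hp1 hp2 hq1 hq2
    have hsum : dotInt (pairV p q : GolayPt → ℤ) (shortV : GolayPt → ℤ) = 0 := by
      rw [dotInt]
      refine Finset.sum_eq_zero fun k _ => ?_
      rw [pairV_coe, shortV_coe]
      by_cases h1 : k = none <;> by_cases h2 : k = pt 0 <;>
        simp [h1, h2, hp1.symm, hp2.symm, hq1.symm, hq2.symm]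
    have hperp : pairV p q ∈ perpV := by
      show (16 : ℤ) ∣ _
      rw [hsum]; exact dvd_zero _
    have hn := sqNorm_pairV hne
    obtain ⟨w, hw | hw⟩ := mem_pairSub (h _ hperp)
    · rcases (short_classes (v := ((monoEl (σ, c) • pairV p q : leechLattice) : GolayPt → ℤ))
        (w := (pairV p q : GolayPt → ℤ)) (SetLike.coe_mem _)
        (by rw [coe_smul_sqNorm]; omega) (by omega) (two_dvd_sub _ hw)).2
        (by rw [coe_smul_sqNorm]; omega) with e | e
      · exact Or.inl (Subtype.ext e.symm)
      · refine Or.inr (Subtype.ext ?_)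
        rw [AddSubgroup.coe_neg, e, neg_neg]
    · exfalso
      have h64 : sqNorm ((pairV p q + shortV : leechLattice) : GolayPt → ℤ) = 64 := by
        rw [AddSubgroup.coe_add, (sqNorm_add_sub _ _).2, hn, sqNorm_shortV, hsum]
        norm_num
      have := (short_classes (v := ((monoEl (σ, c) • pairV p q : leechLattice) : GolayPt → ℤ))
        (w := ((pairV p q + shortV : leechLattice) : GolayPt → ℤ)) (SetLike.coe_mem _)
        (by rw [coe_smul_sqNorm]; omega) (by omega) (two_dvd_sub w (by
          rw [show monoEl (σ, c) • pairV p q =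
            (monoEl (σ, c) • pairV p q - pairV p q) + pairV p q by abel, hw]; abel))).1
      rw [coe_smul_sqNorm, h64, hn] at this
      omega
  have hmove : ∀ p q : GolayPt, p ≠ q → p ≠ none → p ≠ pt 0 → q ≠ none → q ≠ pt 0 →
      ((σ : Equiv.Perm GolayPt) p = p ∨ (σ : Equiv.Perm GolayPt) p = q) ∧
      ((σ : Equiv.Perm GolayPt) p = p → (σ : Equiv.Perm GolayPt) q = q →
        (p ∈ (c : Finset GolayPt) ↔ q ∈ (c : Finset GolayPt))) := by
    intro p q hne hp1 hp2 hq1 hq2
    have e : ∀ k, (if (σ : Equiv.Perm GolayPt) k ∈ (c : Finset GolayPt)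
        then -(pairV p q : GolayPt → ℤ) k else (pairV p q : GolayPt → ℤ) k) =
          (pairV p q : GolayPt → ℤ) ((σ : Equiv.Perm GolayPt) k) ∨
        (if (σ : Equiv.Perm GolayPt) k ∈ (c : Finset GolayPt)
        then -(pairV p q : GolayPt → ℤ) k else (pairV p q : GolayPt → ℤ) k) =
          -(pairV p q : GolayPt → ℤ) ((σ : Equiv.Perm GolayPt) k) := by
      intro k
      rcases hpair p q hne hp1 hp2 hq1 hq2 with h' | h'
      · left
        have := congrArg (fun z : leechLattice => (z : GolayPt → ℤ) ((σ : Equiv.Perm GolayPt) k)) h'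
        simpa [monoEl_smul, signedPerm] using this
      · right
        have := congrArg (fun z : leechLattice => (z : GolayPt → ℤ) ((σ : Equiv.Perm GolayPt) k)) h'
        simpa [monoEl_smul, signedPerm] using this
    refine ⟨?_, fun h1 h2 => ?_⟩
    · by_contra hno
      push Not at hno
      have h0 : (pairV p q : GolayPt → ℤ) ((σ : Equiv.Perm GolayPt) p) = 0 := by
        rw [pairV_coe, if_neg hno.1, if_neg hno.2]; rfl
      have h4 : (pairV p q : GolayPt → ℤ) p = 4 := by
        rw [pairV_coe, if_pos rfl, if_neg hne]; rfl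
      have := e p
      rw [h0, h4] at this
      rcases this with h | h <;> split_ifs at h <;> omega
    · have hp4 : (pairV p q : GolayPt → ℤ) p = 4 := by
        rw [pairV_coe, if_pos rfl, if_neg hne]; rfl
      have hq4 : (pairV p q : GolayPt → ℤ) q = 4 := by
        rw [pairV_coe, if_pos rfl, if_neg hne.symm]; rfl
      rcases hpair p q hne hp1 hp2 hq1 hq2 with h' | h' <;>
      · have e1 := congrArg (fun z : leechLattice => (z : GolayPt → ℤ) ((σ : Equiv.Perm GolayPt) p)) h'
        have e2 := congrArg (fun z : leechLattice => (z : GolayPt → ℤ) ((σ : Equiv.Perm GolayPt) q)) h'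
        simp only [monoEl_smul, signedPerm, AddSubgroup.coe_neg, Pi.neg_apply,
          Equiv.symm_apply_apply] at e1 e2
        rw [h1, hp4] at e1
        rw [h2, hq4] at e2
        by_cases h3 : p ∈ (c : Finset GolayPt) <;> by_cases h4 : q ∈ (c : Finset GolayPt) <;>
          simp [h3, h4] at e1 e2 ⊢
  let F : Finset GolayPt := Finset.univ.filter fun p => p ≠ none ∧ p ≠ pt 0
  have hFcard : F.card = 22 := by decide +kernel
  have hfix : ∀ p ∈ F, (σ : Equiv.Perm GolayPt) p = p := by
    intro p hp
    have hp' : p ≠ none ∧ p ≠ pt 0 := (Finset.mem_filter.1 hp).2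
    have h20 : 1 < (F.erase p).card := by rw [Finset.card_erase_of_mem hp, hFcard]; norm_num
    obtain ⟨q, hq, r, hr, hqr⟩ := Finset.one_lt_card.1 h20
    simp only [F, Finset.mem_erase, Finset.mem_filter, Finset.mem_univ, true_and] at hq hr
    rcases (hmove p q (Ne.symm hq.1) hp'.1 hp'.2 hq.2.1 hq.2.2).1 with h1 | h1
    · exact h1
    rcases (hmove p r (Ne.symm hr.1) hp'.1 hp'.2 hr.2.1 hr.2.2).1 with h2 | h2
    · exact h2
    exact absurd (h1.symm.trans h2) hqr
  have hσ1 : σ = 1 := Subtype.ext (eq_one_of_nine_fixed σ.2 F (by rw [hFcard]; norm_num) hfix)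
  subst hσ1
  have hc0 : ∀ k, k = none ∨ k = pt 0 → k ∉ (c : Finset GolayPt) := by
    intro k hk hkc
    have := hσ k
    simp only [OneMemClass.coe_one, Equiv.Perm.one_symm, Equiv.Perm.coe_one, id_eq, if_pos hkc,
      shortV_coe] at this
    rcases hk with rfl | rfl
    · rw [if_pos rfl, if_neg (by decide)] at this; omega
    · rw [if_neg (by decide), if_pos rfl] at this; omega
  have hcempty : (c : Finset GolayPt) = ∅ := by
    by_contra hne
    obtain ⟨p, hp⟩ := Finset.nonempty_iff_ne_empty.2 hne
    have hall : (c : Finset GolayPt) = F := by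
      ext q
      constructor
      · intro hq
        exact Finset.mem_filter.2
          ⟨Finset.mem_univ _, fun e => hc0 q (Or.inl e) hq, fun e => hc0 q (Or.inr e) hq⟩
      · intro hq
        by_cases hpq : p = q
        · exact hpq ▸ hp
        obtain ⟨-, hq1, hq2⟩ := Finset.mem_filter.1 hq
        exact ((hmove p q hpq (fun e => hc0 p (Or.inl e) hp) (fun e => hc0 p (Or.inr e) hp)
          hq1 hq2).2 rfl rfl).1 hp
    obtain ⟨w, hw, hwc⟩ := c.2
    have h22 : hammingNorm w = 22 := by rw [hammingNorm_eq_card_support₂, hwc, hall, hFcard]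
    rcases weight_cases hw with e | e | e | e | e <;> omega
  rw [← monoEl_one]
  congr 1
  exact Prod.ext rfl (Subtype.ext hcempty)

/-- The stabilizer of `v` has no nontrivial normal 2-subgroup. -/
theorem shortStab_pCore {N : Subgroup Co0} (hN : ∀ g ∈ N, g • shortV = shortV)
    (hnorm : ∀ s : Co0, s • shortV = shortV → ∀ g ∈ N, s * g * s⁻¹ ∈ N)
    (hp : IsPGroup 2 N) : N = ⊥ := by
  classical
  by_contra hne
  have hnorm' : ∀ s : Co0, (s • shortV = shortV ∨ s • shortV = -shortV) → ∀ g ∈ N,
      s * g * s⁻¹ ∈ N := by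
    rintro s (hs | hs) g hg
    · exact hnorm s hs g hg
    · have h1 := hnorm (negEl * s) (by rw [mul_smul, hs, negEl_smul, neg_neg]) g hg
      have hc := Subgroup.mem_center_iff.1 negEl_central (s * g * s⁻¹)
      rwa [show negEl * s * g * (negEl * s)⁻¹ = negEl * (s * g * s⁻¹) * negEl⁻¹ by group, ← hc,
        mul_inv_cancel_right] at h1
  let U : AddSubgroup leechLattice :=
    { carrier := {x | x ∈ perpV ∧ ∀ g ∈ N, g • x - x ∈ pairSub}
      zero_mem' := ⟨zero_mem _, fun g _ => by
        rw [show g • (0 : leechLattice) = 0 from map_zero (AddMonoidHom.mk' (fun x => g • x) (coe_smul_add g)),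
          sub_zero]
        exact zero_mem _⟩
      add_mem' := by
        rintro a b ⟨ha, ha'⟩ ⟨hb, hb'⟩
        refine ⟨add_mem ha hb, fun g hg => ?_⟩
        rw [coe_smul_add, add_sub_add_comm]
        exact add_mem (ha' g hg) (hb' g hg)
      neg_mem' := by
        rintro a ⟨ha, ha'⟩
        refine ⟨neg_mem ha, fun g hg => ?_⟩
        rw [smul_neg' g a, ← neg_sub']
        exact neg_mem (ha' g hg) }
  let U' : AddSubgroup leechLattice :=
    pairSub ⊔ AddSubgroup.closure {y | ∃ g ∈ N, ∃ x ∈ perpV, y = g • x - x}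
  have hpairperp : pairSub ≤ perpV := by
    intro x hx
    obtain ⟨w, rfl | rfl⟩ := mem_pairSub hx
    · show (16 : ℤ) ∣ _
      rw [AddSubgroup.coe_add, dotInt_add_left, ← two_mul]
      obtain ⟨k, hk⟩ : (8 : ℤ) ∣ dotInt (w : GolayPt → ℤ) (shortV : GolayPt → ℤ) := by
        have h1 := (sqNorm_add_sub (w : GolayPt → ℤ) (shortV : GolayPt → ℤ)).2
        have := sixteen_dvd_sqNorm w.2
        have := sixteen_dvd_sqNorm (AddSubgroup.add_mem _ w.2 shortV.2)
        rw [sqNorm_shortV] at h1
        omega
      exact ⟨k, by rw [hk]; ring⟩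
    · refine add_mem shortV_mem_perpV ?_
      show (16 : ℤ) ∣ _
      rw [AddSubgroup.coe_add, dotInt_add_left, ← two_mul]
      obtain ⟨k, hk⟩ : (8 : ℤ) ∣ dotInt (w : GolayPt → ℤ) (shortV : GolayPt → ℤ) := by
        have h1 := (sqNorm_add_sub (w : GolayPt → ℤ) (shortV : GolayPt → ℤ)).2
        have := sixteen_dvd_sqNorm w.2
        have := sixteen_dvd_sqNorm (AddSubgroup.add_mem _ w.2 shortV.2)
        rw [sqNorm_shortV] at h1
        omega
      exact ⟨k, by rw [hk]; ring⟩
  have hUpair : ∀ x ∈ pairSub, x ∈ U := fun x hx => ⟨hpairperp hx, fun g hg =>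
    sub_mem (pairSub_inv (Or.inl (hN g hg)) hx) hx⟩
  have hU : ShortStabBase U := by
    refine ⟨hUpair _ shortV_mem_pairSub, fun w => hUpair _ (dbl_mem_pairSub w), fun s hs x hx => ?_⟩
    refine ⟨perpV_inv hs hx.1, fun g hg => ?_⟩
    have hsinv : s⁻¹ • shortV = shortV ∨ s⁻¹ • shortV = -shortV := by
      rcases hs with e | e
      · left
        conv_lhs => rw [← e]
        rw [inv_smul_smul]
      · right
        rw [eq_neg_iff_add_eq_zero] at e ⊢
        have := congrArg (fun z => s⁻¹ • z) e
        simp only [coe_smul_add, inv_smul_smul] at this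
        rw [show s⁻¹ • (0 : leechLattice) = 0 from map_zero (AddMonoidHom.mk' (fun x => s⁻¹ • x) (coe_smul_add s⁻¹))] at this
        rw [add_comm]; exact this
    have h1 := hx.2 (s⁻¹ * g * s⁻¹⁻¹) (hnorm' _ hsinv g hg)
    have h2 := pairSub_inv hs h1
    rw [sub_eq_add_neg, coe_smul_add, ← mul_smul, smul_neg',
      ← sub_eq_add_neg] at h2
    simpa [mul_assoc, mul_smul] using h2
  have hU' : ShortStabBase U' := by
    refine ⟨AddSubgroup.mem_sup_left shortV_mem_pairSub,
      fun w => AddSubgroup.mem_sup_left (dbl_mem_pairSub w), fun s hs x hx => ?_⟩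
    have hle : U' ≤ AddSubgroup.comap (AddMonoidHom.mk' (fun x => s • x) (coe_smul_add s)) U' := by
      refine sup_le (fun x hx => AddSubgroup.mem_sup_left (pairSub_inv hs hx))
        ((AddSubgroup.closure_le _).2 ?_)
      rintro y ⟨g, hg, x, hx, rfl⟩
      refine AddSubgroup.mem_sup_right (AddSubgroup.subset_closure
        ⟨s * g * s⁻¹, hnorm' s hs g hg, s • x, perpV_inv hs hx, ?_⟩)
      show s • (g • x - x) = _
      rw [sub_eq_add_neg, coe_smul_add, smul_neg', ← sub_eq_add_neg,
        mul_smul, mul_smul, inv_smul_smul]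
    exact hle hx
  have horth : ∀ u ∈ U, ∀ u' ∈ U', (16 : ℤ) ∣ dotInt (u : GolayPt → ℤ) (u' : GolayPt → ℤ) := by
    intro u hu u' hu'
    rw [dotInt_comm']
    let W : AddSubgroup leechLattice :=
      { carrier := {y | (16 : ℤ) ∣ dotInt (y : GolayPt → ℤ) (u : GolayPt → ℤ)}
        zero_mem' := by simp [dotInt]
        add_mem' := by
          intro a b ha hb
          show (16 : ℤ) ∣ dotInt ((a + b : leechLattice) : GolayPt → ℤ) _
          rw [AddSubgroup.coe_add, dotInt_add_left]
          exact dvd_add ha hb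
        neg_mem' := by
          intro a ha
          show (16 : ℤ) ∣ dotInt ((-a : leechLattice) : GolayPt → ℤ) _
          rw [AddSubgroup.coe_neg, dotInt_neg_left]
          exact dvd_neg.2 ha }
    have hpW : ∀ a ∈ perpV, ∀ b ∈ pairSub,
        (16 : ℤ) ∣ dotInt (b : GolayPt → ℤ) (a : GolayPt → ℤ) := by
      intro a ha b hb
      have ha' : (16 : ℤ) ∣ dotInt (a : GolayPt → ℤ) (shortV : GolayPt → ℤ) := ha
      have hd : ∀ w : leechLattice,
          (16 : ℤ) ∣ dotInt ((w + w : leechLattice) : GolayPt → ℤ) (a : GolayPt → ℤ) := fun w => by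
        rw [AddSubgroup.coe_add, dotInt_add_left, ← two_mul]
        obtain ⟨k, hk⟩ : (8 : ℤ) ∣ dotInt (w : GolayPt → ℤ) (a : GolayPt → ℤ) := by
          have h1 := (sqNorm_add_sub (w : GolayPt → ℤ) (a : GolayPt → ℤ)).2
          have := sixteen_dvd_sqNorm w.2
          have := sixteen_dvd_sqNorm a.2
          have := sixteen_dvd_sqNorm (AddSubgroup.add_mem _ w.2 a.2)
          omega
        exact ⟨k, by rw [hk]; ring⟩
      obtain ⟨w, rfl | rfl⟩ := mem_pairSub hb
      · exact hd w
      · rw [AddSubgroup.coe_add, dotInt_add_left]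
        exact dvd_add (by rwa [dotInt_comm']) (hd w)
    have hle : U' ≤ W := by
      refine sup_le (fun b hb => hpW u hu.1 b hb) ((AddSubgroup.closure_le _).2 ?_)
      rintro y ⟨g, hg, x, hx, rfl⟩
      show (16 : ℤ) ∣ _
      have h1 := hpW x hx _ (hu.2 g⁻¹ (inv_mem hg))
      rw [AddSubgroup.coe_sub, sub_eq_add_neg, dotInt_add_left, dotInt_neg_left] at h1 ⊢
      rw [← dotInt_smul' g (g⁻¹ • u) x, smul_inv_smul, dotInt_comm',
        dotInt_comm' (u : GolayPt → ℤ) x] at h1
      exact h1
    exact hle hu'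
  refine omega_orth hU hU' horth ?_ ?_
  · -- a fixed class
    let Φ : AddSubgroup (leechLattice ⧸ pairSub) := perpV.map (QuotientAddGroup.mk' pairSub)
    let act : N → (leechLattice ⧸ pairSub) →+ (leechLattice ⧸ pairSub) := fun g =>
      QuotientAddGroup.map pairSub pairSub (AddMonoidHom.mk' (fun x => (g : Co0) • x) (coe_smul_add _))
        fun x hx => pairSub_inv (Or.inl (hN g g.2)) hx
    letI : MulAction N Φ :=
      { smul := fun g k => ⟨act g k, by
          obtain ⟨x, hx, hxk⟩ := k.2
          exact ⟨(g : Co0) • x, perpV_inv (Or.inl (hN g g.2)) hx, by rw [← hxk]; rfl⟩⟩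
        one_smul := fun k => by
          refine Subtype.ext ?_
          obtain ⟨x, -, hxk⟩ := k.2
          show act 1 k = k
          rw [← hxk]
          show QuotientAddGroup.mk ((1 : Co0) • x) = _
          rw [one_smul]; rfl
        mul_smul := fun a b k => by
          refine Subtype.ext ?_
          obtain ⟨x, -, hxk⟩ := k.2
          show act (a * b) k = act a (act b k)
          rw [← hxk]
          show QuotientAddGroup.mk (((a : Co0) * (b : Co0)) • x) = _
          rw [mul_smul]; rfl }
    haveI : Finite (leechLattice ⧸ pairSub) := by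
      haveI : Finite ModTwo := Nat.finite_of_card_ne_zero (by rw [natCard_modTwo]; norm_num)
      refine Finite.of_surjective (fun k : ModTwo => Quotient.liftOn' k
        (fun x => (QuotientAddGroup.mk x : leechLattice ⧸ pairSub)) ?_) fun k => ?_
      · intro a b hab
        rw [QuotientAddGroup.leftRel_apply] at hab
        rw [QuotientAddGroup.eq]
        obtain ⟨z, hz, he⟩ := mk_eq_iff.1 (QuotientAddGroup.eq.2 hab : (a : ModTwo) = b)
        have : -a + b = -(⟨z, hz⟩ + ⟨z, hz⟩) := by
          refine Subtype.ext ?_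
          simp only [AddSubgroup.coe_add, AddSubgroup.coe_neg]
          rw [← two_nsmul, ← he]; abel
        rw [this]
        exact neg_mem (dbl_mem_pairSub _)
      · obtain ⟨x, rfl⟩ := QuotientAddGroup.mk_surjective k
        exact ⟨(x : ModTwo), rfl⟩
    have hω0 : bigE none ∉ pairSub := fun h' => by
      obtain ⟨w, hw | hw⟩ := mem_pairSub h'
      · have := (short_classes (v := (bigE none : GolayPt → ℤ))
          (w := ((0 : leechLattice) : GolayPt → ℤ)) (SetLike.coe_mem _)
          (by rw [sqNorm_bigE]) (by simp [sqNorm]) (two_dvd_sub w (by rw [sub_zero, hw]))).1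
        rw [sqNorm_bigE] at this
        simp [sqNorm] at this
      · have := (short_classes (v := (bigE none : GolayPt → ℤ))
          (w := (shortV : GolayPt → ℤ)) (SetLike.coe_mem _)
          (by rw [sqNorm_bigE]) (by rw [sqNorm_shortV]; norm_num)
          (two_dvd_sub w (by rw [hw]; abel))).1
        rw [sqNorm_bigE, sqNorm_shortV] at this
        omega
    have hωΦ : (QuotientAddGroup.mk (bigE none) : leechLattice ⧸ pairSub) ∈ Φ :=
      ⟨bigE none, by show (16 : ℤ) ∣ _; decide +kernel, rfl⟩
    have h2 : 2 ∣ Nat.card Φ := by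
      let k : Φ := ⟨_, hωΦ⟩
      have hk2 : k + k = 0 := Subtype.ext ((QuotientAddGroup.eq_zero_iff _).2 (dbl_mem_pairSub _))
      have hk : addOrderOf k = 2 := by
        haveI : Fact (Nat.Prime 2) := ⟨Nat.prime_two⟩
        refine addOrderOf_eq_prime (by rw [two_nsmul, hk2]) fun h' => hω0 ?_
        exact (QuotientAddGroup.eq_zero_iff _).1 (congrArg Subtype.val h')
      exact hk ▸ addOrderOf_dvd_natCard k
    obtain ⟨b, hb, hb0⟩ := hp.exists_fixed_point_of_prime_dvd_card_of_fixed_point Φ h2
      (a := 0) (fun g => Subtype.ext (map_zero (act g)))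
    obtain ⟨x, hx, hxb⟩ := b.2
    refine hU.omega_mem_of_ne (x := x) ⟨hx, fun g hg => ?_⟩ fun w => ?_
    · rw [← QuotientAddGroup.eq_zero_iff, QuotientAddGroup.mk_sub, sub_eq_zero]
      have := congrArg Subtype.val (hb ⟨g, hg⟩)
      change act ⟨g, hg⟩ (b : leechLattice ⧸ pairSub) = b at this
      rw [← hxb] at this
      exact this
    · have : x ∉ pairSub := fun h' => hb0 (Subtype.ext (by
        rw [← hxb]; exact ((QuotientAddGroup.eq_zero_iff x).2 h').symm))
      exact ⟨fun e => this (e ▸ dbl_mem_pairSub w),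
        fun e => this (e ▸ add_mem shortV_mem_pairSub (dbl_mem_pairSub w))⟩
  · obtain ⟨y, hy, hy'⟩ : ∃ y ∈ U', y ∉ pairSub := by
      by_contra hno
      push Not at hno
      refine hne ((Subgroup.eq_bot_iff_forall _).2 fun g hg => shortStab_faithful (hN g hg) fun x hx => ?_)
      exact hno _ (AddSubgroup.mem_sup_right (AddSubgroup.subset_closure ⟨g, hg, x, hx, rfl⟩))
    exact hU'.omega_mem_of_ne hy fun w => ⟨fun e => hy' (e ▸ dbl_mem_pairSub w),
      fun e => hy' (e ▸ add_mem shortV_mem_pairSub (dbl_mem_pairSub w))⟩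

/-- A subgroup invariant under the stabilizer of the standard frame containing more than the
frame class contains pairs `4 e_p + 4 e_q`. -/
theorem frame_pair {U : AddSubgroup leechLattice} (hd : ∀ w : leechLattice, w + w ∈ U)
    (hω : bigE none ∈ U) (hinv : ∀ g ∈ crossStab, ∀ u ∈ U, g • u ∈ U) {x : leechLattice}
    (hx : x ∈ U) (hne : ∀ w : leechLattice, x ≠ w + w ∧ x ≠ bigE none + (w + w)) :
    ∃ p q : GolayPt, p ≠ q ∧ pairV p q ∈ U := by
  classical
  -- the residues of the vectors divisible by four
  let Y : Set (GolayPt → ZMod 2) :=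
    {r | ∃ y : GolayPt → ℤ, (∀ p, (y p : ZMod 2) = r p) ∧ ∃ u ∈ U, ∀ p, (u : GolayPt → ℤ) p = 4 * y p}
  have hYadd : ∀ r ∈ Y, ∀ r' ∈ Y, r + r' ∈ Y := by
    rintro r ⟨y, hy, u, hu, hue⟩ r' ⟨y', hy', u', hu', hue'⟩
    exact ⟨y + y', fun p => by simp [hy, hy'], u + u', U.add_mem hu hu',
      fun p => by simp [hue, hue']; ring⟩
  have hYC : ∀ r ∈ golayCode, r ∈ Y := fun r hr => by
    let w : leechLattice := ⟨lvec 0 r 0, mem_leechLattice.2 ⟨0, r, 0, hr, rfl, by simp⟩⟩
    exact ⟨fun p => bitZ (r p), fun p => bitZ_cast _, w + w, hd w, fun p => by simp [w, lvec]; ring⟩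
  have hYσ : ∀ r ∈ Y, ∀ σ : ↥M24, (fun p => r ((σ : Equiv.Perm GolayPt).symm p)) ∈ Y := by
    rintro r ⟨y, hy, u, hu, hue⟩ σ
    refine ⟨fun p => y ((σ : Equiv.Perm GolayPt).symm p), fun p => hy _,
      monoEl (σ, ⟨∅, empty_supports⟩) • u, hinv _ (monoEl_mem_crossStab _) u hu, fun p => ?_⟩
    rw [monoEl_smul]
    show signedPerm _ ∅ _ p = _
    rw [signedPerm_empty_apply, hue]
  have hYeven : ∀ r ∈ Y, ∑ p, r p = 0 := by
    rintro r ⟨y, hy, u, -, hue⟩
    obtain ⟨m, c, y', hc, he, hpar⟩ := mem_leechLattice.1 u.2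
    have hm : (2 : ℤ) ∣ m := by
      have := hue none; rw [he] at this; simp only [lvec] at this; omega
    have h1 : ∑ p, (u : GolayPt → ℤ) p = 4 * ∑ p, y p := by
      rw [Finset.mul_sum]; exact Finset.sum_congr rfl fun p _ => hue p
    rw [he, sum_lvec] at h1
    have := four_dvd_sum_bitZ hc
    have h2 : (2 : ℤ) ∣ ∑ p, y p := by omega
    have h3 : ((∑ p, y p : ℤ) : ZMod 2) = 0 := (ZMod.intCast_zmod_eq_zero_iff_dvd _ 2).2 h2
    simpa [hy] using h3
  -- the step from a residue outside the code
  suffices hout : ∃ r ∈ Y, r ∉ golayCode by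
    obtain ⟨r, hr, hrC⟩ := hout
    obtain ⟨v, hv4, hvC⟩ := exists_weight_le_four r
    have hvY : v ∈ Y := by
      have := hYadd r hr _ (hYC _ (Submodule.neg_mem _ hvC))
      rwa [neg_sub, add_sub_cancel] at this
    have hv0 : v ≠ 0 := fun e => hrC (by rw [e, sub_zero] at hvC; exact hvC)
    have hone : ∀ k, v k ≠ 0 → v k = 1 := fun k => by
      generalize v k = a; revert a; decide
    have hpar : ((support₂ v).card : ZMod 2) = 0 := by
      rw [← hYeven v hvY, ← Finset.sum_subset (Finset.subset_univ (support₂ v))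
        (fun k _ hk => by_contra fun h' => hk (by simp [support₂, h']))]
      rw [Finset.sum_congr rfl fun k hk => hone k (by simpa [support₂] using hk)]
      simp
    rw [hammingNorm_eq_card_support₂] at hv4
    have hcard : (support₂ v).card = 2 ∨ (support₂ v).card = 4 := by
      have h0 : (support₂ v).card ≠ 0 := fun e => hv0 (funext fun k => by_contra fun h' => by
        have hm : k ∈ support₂ v := by simpa [support₂] using h'
        rw [Finset.card_eq_zero.1 e] at hm
        exact Finset.notMem_empty k hm)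
      rw [ZMod.natCast_eq_zero_iff_even] at hpar
      obtain ⟨j, hj⟩ := hpar
      omega
    obtain ⟨r2, hr2, hc2⟩ : ∃ r2 ∈ Y, (support₂ r2).card = 2 := by
      rcases hcard with h2 | h4
      · exact ⟨v, hvY, h2⟩
      obtain ⟨f⟩ : Nonempty (Fin 4 ≃ ↥(support₂ v)) := ⟨((support₂ v).equivFinOfCardEq h4).symm⟩
      obtain ⟨q, hq⟩ : ∃ q, q ∉ support₂ v := by
        by_contra hno
        push Not at hno
        rw [Finset.eq_univ_of_forall hno, Finset.card_univ] at h4
        exact absurd (h4.symm.trans card_golayPt) (by norm_num)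
      have := isMultiplyPretransitive_le_five (k := 4) (by norm_num)
      let X : Fin 4 ↪ GolayPt := f.toEmbedding.trans (Function.Embedding.subtype _)
      let Z : Fin 4 ↪ GolayPt := ⟨fun i => if i = 3 then q else X i, by
        intro a b hab
        simp only at hab
        split_ifs at hab with h1 h2 h2
        · exact h1.trans h2.symm
        · exact absurd (hab ▸ (f b).2) hq
        · exact absurd (hab ▸ (f a).2) hq
        · exact X.injective hab⟩
      obtain ⟨σ, hσ⟩ := MulAction.exists_smul_eq M24 X Z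
      refine ⟨_, hYadd v hvY _ (hYσ v hvY σ), Finset.card_eq_two.2 ⟨X 3, q, fun e => hq (e ▸ (f 3).2), ?_⟩⟩
      have hσi : ∀ i, (σ : Equiv.Perm GolayPt) (X i) = Z i := fun i => DFunLike.congr_fun hσ i
      ext k
      have hk1 : v ((σ : Equiv.Perm GolayPt).symm k) = if ∃ i, Z i = k then 1 else 0 := by
        split_ifs with he
        · obtain ⟨i, rfl⟩ := he
          rw [← hσi, Equiv.symm_apply_apply]
          exact hone _ (Finset.mem_filter.1 (f i).2).2
        · by_contra h'
          have hm : (σ : Equiv.Perm GolayPt).symm k ∈ support₂ v := by simpa [support₂] using h'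
          refine he ⟨f.symm ⟨_, hm⟩, ?_⟩
          rw [← hσi]; simp [X]
      have hk2 : v k = if ∃ i, X i = k then 1 else 0 := by
        split_ifs with he
        · obtain ⟨i, rfl⟩ := he
          exact hone _ (Finset.mem_filter.1 (f i).2).2
        · by_contra h'
          exact he ⟨f.symm ⟨k, by simpa [support₂] using h'⟩, by simp [X]⟩
      simp only [support₂, Finset.mem_filter, Finset.mem_univ, true_and, Pi.add_apply, hk1, hk2,
        Finset.mem_insert, Finset.mem_singleton]
      have hX3 : Z 3 = q := by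
        show (if (3 : Fin 4) = 3 then q else X 3) = q
        rw [if_pos rfl]
      have hZi : ∀ i, i ≠ 3 → Z i = X i := fun i hi => by
        show (if i = 3 then q else X i) = X i
        rw [if_neg hi]
      constructor
      · intro h'
        by_contra hno
        push Not at hno
        apply h'
        by_cases he : ∃ i, X i = k
        · obtain ⟨i, rfl⟩ := he
          have hi : i ≠ 3 := fun e => hno.1 (by rw [e])
          rw [if_pos ⟨i, rfl⟩, if_pos ⟨i, hZi i hi⟩]; decide
        · rw [if_neg he, if_neg]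
          · simp
          · rintro ⟨i, rfl⟩
            by_cases hi : i = 3
            · exact hno.2 (hi ▸ hX3)
            · exact he ⟨i, (hZi i hi).symm⟩
      · rintro (rfl | rfl)
        · rw [if_pos ⟨3, rfl⟩, if_neg]
          · decide
          · rintro ⟨i, hi⟩
            by_cases h3 : i = 3
            · subst h3; exact hq (hX3 ▸ hi ▸ (f 3).2)
            · exact h3 (X.injective ((hZi i h3).symm.trans hi))
        · rw [if_neg (fun ⟨i, hi⟩ => hq (hi ▸ (f i).2)), if_pos ⟨3, hX3⟩]
          decide
    obtain ⟨p, q, hpq, hsupp⟩ := Finset.card_eq_two.1 hc2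
    refine ⟨p, q, hpq, ?_⟩
    obtain ⟨y, hy, u, hu, hue⟩ := hr2
    have hind : ∀ k, (2 : ℤ) ∣ y k - ((if k = p then 1 else 0) + if k = q then 1 else 0) := by
      intro k
      rw [show (2 : ℤ) = ((2 : ℕ) : ℤ) from rfl, ← ZMod.intCast_zmod_eq_zero_iff_dvd]
      have hk : r2 k ≠ 0 ↔ (k = p ∨ k = q) := by
        have : k ∈ support₂ r2 ↔ k ∈ ({p, q} : Finset GolayPt) := by rw [hsupp]
        simpa [support₂] using this
      push_cast
      rw [hy]
      by_cases h1 : k = p
      · subst h1
        have := hk.2 (Or.inl rfl)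
        rw [if_pos rfl, if_neg hpq]
        revert this; generalize r2 k = a; revert a; decide
      · by_cases h2 : k = q
        · subst h2
          have := hk.2 (Or.inr rfl)
          rw [if_neg h1, if_pos rfl]
          revert this; generalize r2 k = a; revert a; decide
        · have : r2 k = 0 := by_contra fun h' => (not_or.2 ⟨h1, h2⟩) (hk.1 h')
          rw [if_neg h1, if_neg h2, this]; decide
    choose z hz using hind
    obtain ⟨w, hw⟩ := eight_congr z (u := u - pairV p q) fun k => by
      rw [AddSubgroup.coe_sub, Pi.sub_apply, hue, pairV_coe]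
      have := hz k
      linarith
    have : pairV p q = u - ((∑ p, z p) • bigE none + (w + w)) := by rw [← hw]; abel
    rw [this]
    exact U.sub_mem hu (U.add_mem (U.zsmul_mem hω _) (hd w))
  -- vectors with even coordinates
  have even_case : ∀ x ∈ U, (∀ w : leechLattice, x ≠ w + w ∧ x ≠ bigE none + (w + w)) →
      (∀ p, (2 : ℤ) ∣ (x : GolayPt → ℤ) p) → ∃ r ∈ Y, r ∉ golayCode := by
    intro x hx hne heven
    choose s hs using heven
    let c0 : GolayPt → ZMod 2 := fun p => (s p : ZMod 2)
    have hc0 : c0 ∈ golayCode := by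
      obtain ⟨m, c, y, hc, he, -⟩ := mem_leechLattice.1 x.2
      obtain ⟨t, rfl⟩ : (2 : ℤ) ∣ m := by
        have := hs none; rw [he] at this; simp only [lvec] at this; omega
      have e : c0 = (t : ZMod 2) • (1 : GolayPt → ZMod 2) + c := by
        funext p
        have := hs p; rw [he] at this; simp only [lvec] at this
        have e1 : s p = t + bitZ (c p) + 2 * y p := by linarith
        simp only [c0, e1, Int.cast_add, Int.cast_mul, bitZ_cast, Pi.add_apply, Pi.smul_apply,
          Pi.one_apply, smul_eq_mul, mul_one]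
        rw [show ((2 : ℤ) : ZMod 2) = 0 from rfl, zero_mul, add_zero]
      rw [e]
      exact Submodule.add_mem _ (Submodule.smul_mem _ _ one_mem_golayCode) hc
    -- all coordinates congruent
    have small : ∀ x ∈ U, (∀ w : leechLattice, x ≠ w + w ∧ x ≠ bigE none + (w + w)) →
        (∀ p, (4 : ℤ) ∣ (x : GolayPt → ℤ) p) → ∃ r ∈ Y, r ∉ golayCode := by
      intro x hx hne h4
      choose y hy using h4
      refine ⟨fun p => (y p : ZMod 2), ⟨y, fun _ => rfl, x, hx, hy⟩, fun hC => ?_⟩
      have hdvd : ∀ p, (2 : ℤ) ∣ y p - bitZ (y p : ZMod 2) := fun p => by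
        rw [show (2 : ℤ) = ((2 : ℕ) : ℤ) from rfl, ← ZMod.intCast_zmod_eq_zero_iff_dvd]
        push_cast
        rw [bitZ_cast]; exact sub_self _
      choose z hz using hdvd
      let W : leechLattice := ⟨lvec 0 (fun p => (y p : ZMod 2)) 0,
        mem_leechLattice.2 ⟨0, _, 0, hC, rfl, by simp⟩⟩
      obtain ⟨w, hw⟩ := eight_congr z (u := x - (W + W)) fun p => by
        rw [AddSubgroup.coe_sub, AddSubgroup.coe_add, Pi.sub_apply, Pi.add_apply, hy]
        have := hz p
        simp [W, lvec] at this ⊢
        linarith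
      rw [sub_eq_iff_eq_add] at hw
      rcases Int.even_or_odd (∑ p, z p) with ⟨j, hj⟩ | ⟨j, hj⟩
      · exact (hne (j • bigE none + w + W)).1 (by rw [hw, hj, add_smul]; abel)
      · exact (hne (j • bigE none + w + W)).2 (by
          rw [hw, hj, add_smul, one_smul, mul_smul, two_zsmul]; abel)
    have hmem := mask_mem_of_mem_golayCode hc0
    have hcase := List.all_eq_true.1 triple_check _ hmem
    simp only [Bool.or_eq_true, List.any_eq_true, Nat.beq_eq] at hcase
    rcases hcase with (h0 | h1) | ⟨a, ha, b, hb, hab⟩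
    · refine small x hx hne fun p => ?_
      have h2 : c0 = 0 := by rw [← word_mask_support₂ c0, h0, word_zero]
      have := congrFun h2 p
      simp only [c0, Pi.zero_apply, ZMod.intCast_eq_zero_iff_even] at this
      obtain ⟨k, hk⟩ := this
      exact ⟨k, by rw [hs, hk]; ring⟩
    · let w0 : leechLattice :=
        ⟨lvec 1 0 (fun i => if i = none then -1 else 0), mem_leechLattice.2
          ⟨1, 0, _, Submodule.zero_mem _, rfl, by simp⟩⟩
      refine small (x - (w0 + w0)) (U.sub_mem hx (hd w0)) (fun w => ⟨fun e => ?_, fun e => ?_⟩)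
        fun p => ?_
      · exact (hne (w + w0)).1 (by rw [sub_eq_iff_eq_add] at e; rw [e]; abel)
      · exact (hne (w + w0)).2 (by rw [sub_eq_iff_eq_add] at e; rw [e]; abel)
      · have h2 : c0 = 1 := by
          rw [← word_mask_support₂ c0, h1]
          funext q
          exact word_eq_one_iff.2 (mem_toSet.1 (toSet_full ▸ Finset.mem_univ q))
        have := congrFun h2 p
        simp only [c0, Pi.one_apply] at this
        obtain ⟨k, hk⟩ : Odd (s p) := zmod2_odd (by rw [this]; exact one_ne_zero)
        simp only [AddSubgroup.coe_sub, AddSubgroup.coe_add, Pi.sub_apply, Pi.add_apply, w0, lvec,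
          hs p, hk, Pi.zero_apply, bitZ_zero]
        split_ifs <;> omega
    · obtain ⟨hsA, -, -⟩ := avoid_word (List.mem_cons_of_mem _ ha)
      obtain ⟨hsB, -, -⟩ := avoid_word (List.mem_cons_of_mem _ hb)
      let u := x - epsEl ⟨_, hsA⟩ • x
      have hu : u ∈ U := U.sub_mem hx (hinv _ (monoEl_mem_crossStab _) x hx)
      let y : GolayPt → ℤ := fun p => if p ∈ toSet a then s p else 0
      have hue : ∀ p, (u : GolayPt → ℤ) p = 4 * y p := fun p => by
        simp only [u, y, AddSubgroup.coe_sub, Pi.sub_apply, epsEl, monoEl_smul]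
        show _ - signedPerm 1 (toSet a) _ p = _
        simp only [signedPerm, hs]
        split_ifs
        · show _ - -(2 * s p) = _; ring
        · show 2 * s p - 2 * s p = _; ring
      refine ⟨fun p => (y p : ZMod 2), ⟨y, fun _ => rfl, u, hu, hue⟩, fun hC => ?_⟩
      obtain ⟨wb, hwb, hwbs⟩ := hsB
      have h1 := orth hwb hC
      have h2 := natCast_pop_and (a &&& b) (mask (support₂ c0))
      rw [word_mask_support₂, Nat.and_comm, ← ZMod.natCast_mod, hab, Nat.cast_one] at h2
      have h3 : ∑ p, word (a &&& b) p * c0 p = ∑ p, wb p * (y p : ZMod 2) := by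
        refine Finset.sum_congr rfl fun p _ => ?_
        have hwbp : wb p = if p ∈ toSet b then 1 else 0 := by
          have : p ∈ support₂ wb ↔ p ∈ toSet b := by rw [hwbs]
          simp only [support₂, Finset.mem_filter, Finset.mem_univ, true_and] at this
          split_ifs with h'
          · have := this.2 h'; revert this; generalize wb p = e; revert e; decide
          · by_contra h''; exact h' (this.1 h'')
        have hw : word (a &&& b) p = if p ∈ toSet a ∧ p ∈ toSet b then 1 else 0 := by
          simp only [word, mem_toSet, Nat.testBit_and, Bool.and_eq_true]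
        rw [hw, hwbp]
        by_cases h4 : p ∈ toSet a <;> by_cases h5 : p ∈ toSet b
        · rw [if_pos ⟨h4, h5⟩, if_pos h5, show y p = s p from if_pos h4]
        · rw [if_neg (fun h => h5 h.2), if_neg h5, zero_mul, zero_mul]
        · rw [if_neg (fun h => h4 h.1), show y p = 0 from if_neg h4]
          simp only [zero_mul, Int.cast_zero, mul_zero]
        · rw [if_neg (fun h => h4 h.1), if_neg h5, zero_mul, zero_mul]
      rw [h3, h1] at h2
      exact zero_ne_one h2.symm
  by_cases heven : ∀ p, (2 : ℤ) ∣ (x : GolayPt → ℤ) p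
  · exact even_case x hx hne heven
  push Not at heven
  obtain ⟨p₀, hp₀⟩ := heven
  obtain ⟨m, c, y, -, he, -⟩ := mem_leechLattice.1 x.2
  have hodd : ∀ q, (x : GolayPt → ℤ) q % 2 = 1 := fun q => by
    rw [he] at hp₀ ⊢
    simp only [lvec] at hp₀ ⊢
    omega
  obtain ⟨hsD, haD, -⟩ := avoid_word (List.mem_cons_self (a := dodAvoid) (l := avoidBasis))
  let u := x - epsEl ⟨_, hsD⟩ • x
  have hue : ∀ p, (u : GolayPt → ℤ) p = if p ∈ toSet dodAvoid then 2 * (x : GolayPt → ℤ) p else 0 :=
    fun p => by
    simp only [u, AddSubgroup.coe_sub, Pi.sub_apply, epsEl, monoEl_smul]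
    show _ - signedPerm 1 (toSet dodAvoid) _ p = _
    simp only [signedPerm]
    split_ifs
    · show _ - -((x : GolayPt → ℤ) p) = _; ring
    · exact sub_self _
  obtain ⟨q, hq⟩ : ∃ q, q ∈ toSet dodAvoid := by
    refine Finset.card_pos.1 ?_
    rw [card_toSet, avoid_checks.2.1]; norm_num
  have hq1 : q ≠ none := fun e => haD (e ▸ hq)
  refine even_case u (U.sub_mem hx (hinv _ (monoEl_mem_crossStab _) x hx)) (fun w => ?_)
    fun p => ?_
  · obtain ⟨m', c', y', -, he', -⟩ := mem_leechLattice.1 w.2
    have huq : (u : GolayPt → ℤ) q % 4 = 2 := by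
      rw [hue, if_pos hq]; have := hodd q; omega
    have hu0 : (u : GolayPt → ℤ) none = 0 := by rw [hue, if_neg haD]
    constructor <;> intro e
    all_goals
      have h1 := congrArg (fun z : leechLattice => (z : GolayPt → ℤ) q) e
      have h2 := congrArg (fun z : leechLattice => (z : GolayPt → ℤ) none) e
      simp only [AddSubgroup.coe_add, Pi.add_apply, he', lvec, bigE, Pi.single_eq_same,
        Pi.single_eq_of_ne hq1, hu0] at h1 h2
      omega
  · rw [hue]; split_ifs <;> omega

end CfsgLib.Spor
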