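import Cfsg.Agent.Lib.Spor.CentralizerCert
import Cfsg.Agent.Lib.Spor.MathieuBlockData
import Cfsg.Agent.Lib.Spor.Census
import Cfsg.Agent.Lib.Spor.OrbitKit
import Cfsg.Agent.Lib.Spor.M24Order

/-!
The normaliser of a subgroup of order 7 of M24.
-/

set_option autoImplicit false
set_option maxRecDepth 100000

namespace CfsgLib.Spor

open Cfsg CfsgLib.MathieuOut CfsgLib.Spor.BlockData
open scoped Pointwise

/-- the elements carrying the listed element of order 7 to its k-th power -/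
def sevenTo (k : ℕ) : List ℕ := dfs [] [] m24e7 (CfsgLib.Spor.powP m24e7 k) m24e7Plan []

theorem seven_checks :
    planOK m24e7 m24e7Plan [] = true ∧ isM24P m24e7 = true ∧
    CfsgLib.Spor.powP m24e7 7 = CfsgLib.Spor.idP ∧
    eqP m24e7 CfsgLib.Spor.idP = false ∧
    (([1, 2, 4] : List ℕ).all fun k => (sevenTo k).all fun t => isM24P t &&
      eqP (compP t m24e7) (compP (CfsgLib.Spor.powP m24e7 k) t) && Nat.beq (normP t) t &&
      fixPartsB t (trioK.parts 565)) = true ∧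
    (sevenTo 1).length = 42 ∧
    (sevenTo 1 ++ sevenTo 2 ++ sevenTo 4).length = 126 ∧
    (sevenTo 1 ++ sevenTo 2 ++ sevenTo 4).Nodup ∧
    sevenTo 3 = [] ∧ sevenTo 5 = [] ∧ sevenTo 6 = [] ∧
    ((sevenTo 1).any fun x => (sevenTo 1).any fun y => !eqP (compP x y) (compP y x)) = true := by
  decide +kernel

theorem mem_sevenTo {g e : Equiv.Perm GolayPt} {k : ℕ} (hg : g ∈ M24) (he : Rep e m24e7)
    (h : g * e = e ^ k * g) : canon g ∈ sevenTo k :=
  canon_mem_dfs seven_checks.1 (stabG_M24.symm ▸ hg) (by simp) he (he.pow k) h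

theorem of_mem_sevenTo {t k : ℕ} (hk : k ∈ ([1, 2, 4] : List ℕ)) (ht : t ∈ sevenTo k)
    {e : Equiv.Perm GolayPt} (he : Rep e m24e7) :
    ∃ g ∈ M24, Rep g t ∧ g * e = e ^ k * g ∧ canon g = t ∧
      g • trioK.ix.sem 565 = trioK.ix.sem 565 := by
  have h := List.all_eq_true.1 (List.all_eq_true.1 seven_checks.2.2.2.2.1 k hk) t ht
  simp only [Bool.and_eq_true, Nat.beq_eq] at h
  obtain ⟨⟨⟨h1, h2⟩, h3⟩, h4⟩ := h
  obtain ⟨g, hg, hr⟩ := exists_rep_M24 h1
  refine ⟨g, hg, hr, (eqP_iff (hr.mul he) ((he.pow k).mul hr)).1 h2, ?_, ?_⟩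
  · rw [canon_eq_normP hr, h3]
  · rw [show trioK.ix.sem 565 = toFam (trioK.parts 565) from trioK.fam_eq 565 (by decide +kernel)]
    exact (smul_toFam_eq_iff hr (trioK.parts_ok 565 (by decide +kernel))).2 h4

theorem conj_pow_cases {e g : Equiv.Perm GolayPt} (hg : g ∈ M24) (he : Rep e m24e7)
    (heo : orderOf e = 7) (h : g * e * g⁻¹ ∈ Subgroup.zpowers e) :
    ∃ k ∈ ([1, 2, 4] : List ℕ), g * e = e ^ k * g := by
  obtain ⟨j, hj⟩ := Subgroup.mem_zpowers_iff.1 h
  rw [← zpow_mod_orderOf, heo] at hj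
  obtain ⟨k, hk⟩ := Int.eq_ofNat_of_zero_le
    (Int.emod_nonneg j (show ((7 : ℕ) : ℤ) ≠ 0 by norm_num))
  have hk7 : k < 7 := by
    have := Int.emod_lt_of_pos j (show (0 : ℤ) < ((7 : ℕ) : ℤ) by norm_num)
    omega
  rw [hk, zpow_natCast] at hj
  have he2 : g * e = e ^ k * g := by rw [hj]; group
  obtain ⟨-, -, -, -, -, -, -, -, h3, h5, h6, -⟩ := seven_checks
  have hm := mem_sevenTo hg he he2
  interval_cases k
  · exfalso
    rw [pow_zero] at hj
    have : e = 1 := conj_eq_one_iff.1 hj.symm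
    rw [this, orderOf_one] at heo
    norm_num at heo
  · exact ⟨1, by simp, he2⟩
  · exact ⟨2, by simp, he2⟩
  · rw [h3] at hm; simp at hm
  · exact ⟨4, by simp, he2⟩
  · rw [h5] at hm; simp at hm
  · rw [h6] at hm; simp at hm

theorem mem_normalizer_zpowers_iff {G : Type*} [Group G] [Finite G] {x n : G} :
    n ∈ Subgroup.normalizer ((Subgroup.zpowers x : Subgroup G) : Set G) ↔
      n * x * n⁻¹ ∈ Subgroup.zpowers x := by
  constructor
  · intro h
    exact (Subgroup.mem_normalizer_iff.1 h x).1 (Subgroup.mem_zpowers x)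
  · intro h
    have hsub : ∀ a ∈ Subgroup.zpowers x, n * a * n⁻¹ ∈ Subgroup.zpowers x := by
      intro a ha
      obtain ⟨j, rfl⟩ := Subgroup.mem_zpowers_iff.1 ha
      rw [show n * x ^ j * n⁻¹ = (n * x * n⁻¹) ^ j from conj_zpow.symm]
      exact Subgroup.zpow_mem _ h j
    refine Subgroup.mem_normalizer_iff.2 fun a => ⟨hsub a, fun ha => ?_⟩
    let f : ↥(Subgroup.zpowers x) → ↥(Subgroup.zpowers x) := fun b => ⟨_, hsub b.1 b.2⟩
    have hf : Function.Injective f := fun b b' e => Subtype.ext (by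
      simpa [f] using congrArg Subtype.val e)
    obtain ⟨b, hb⟩ := Finite.surjective_of_injective hf ⟨_, ha⟩
    have : (b : G) = a := by simpa [f] using congrArg Subtype.val hb
    exact this ▸ b.2

theorem seven_normalizer (S : Subgroup ↥M24) (hS : Nat.card S = 7) :
    Nat.card ↥(Subgroup.normalizer (S : Set ↥M24)) = 126 ∧
    Nat.card ↥(Subgroup.centralizer (S : Set ↥M24)) = 42 ∧
    (∃ x ∈ Subgroup.centralizer (S : Set ↥M24), ∃ y ∈ Subgroup.centralizer (S : Set ↥M24),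
      x * y ≠ y * x) ∧
    ∃ T ∈ trios, ∀ n ∈ Subgroup.normalizer (S : Set ↥M24),
      ((n : ↥M24) : Equiv.Perm GolayPt) • T = T := by
  haveI : Fact (Nat.Prime 7) := ⟨by norm_num⟩
  obtain ⟨-, hM, h7, hne, -, hl1, hl, hnd, -, -, -, hnc⟩ := seven_checks
  obtain ⟨e, heM, he⟩ := exists_rep_M24 hM
  have heo : orderOf e = 7 := by
    refine orderOf_eq_prime ((h7 ▸ he.pow 7 : Rep (e ^ 7) CfsgLib.Spor.idP).inj CfsgLib.Spor.rep_one) fun e1 => ?_
    have : eqP m24e7 CfsgLib.Spor.idP = true := (eqP_iff he CfsgLib.Spor.rep_one).2 e1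
    rw [hne] at this; exact absurd this (by decide)
  let E : ↥M24 := ⟨e, heM⟩
  have hEo : orderOf E = 7 := by rw [← Subgroup.orderOf_coe]; exact heo
  have hf : (Nat.card ↥M24).factorization 7 = 1 := by
    rw [natCard_M24, show 244823040 = 7 * 34974720 from rfl,
      Nat.factorization_mul (by norm_num) (by norm_num), Finsupp.add_apply,
      (Nat.Prime.factorization_self (by norm_num : Nat.Prime 7)),
      Nat.factorization_eq_zero_of_not_dvd (by norm_num)]
  let P : Sylow 7 ↥M24 := Sylow.ofCard S (by rw [hS, hf, pow_one])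
  let Q : Sylow 7 ↥M24 := Sylow.ofCard (Subgroup.zpowers E)
    (by rw [Nat.card_zpowers, hEo, hf, pow_one])
  obtain ⟨c, hc⟩ := MulAction.exists_smul_eq ↥M24 Q P
  have hSc : S = Subgroup.zpowers (c * E * c⁻¹) := by
    have h := congrArg (fun R : Sylow 7 ↥M24 => (R : Subgroup ↥M24)) hc
    simp only [Sylow.coe_subgroup_smul] at h
    change MulAut.conj c • Subgroup.zpowers E = S at h
    rw [← h]
    exact MonoidHom.map_zpowers (MulAut.conj c).toMonoidHom E
  subst hSc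
  have hnorm : ∀ n : ↥M24, n ∈ Subgroup.normalizer (Subgroup.zpowers (c * E * c⁻¹) : Set ↥M24) ↔
      ∃ k ∈ ([1, 2, 4] : List ℕ), canon ((c⁻¹ * n * c : ↥M24) : Equiv.Perm GolayPt) ∈ sevenTo k := by
    intro n
    rw [mem_normalizer_zpowers_iff]
    constructor
    · intro h
      obtain ⟨j, hj⟩ := Subgroup.mem_zpowers_iff.1 h
      rw [conj_zpow] at hj
      have h2 : ((c⁻¹ * n * c : ↥M24) : Equiv.Perm GolayPt) * e *
          ((c⁻¹ * n * c : ↥M24) : Equiv.Perm GolayPt)⁻¹ ∈ Subgroup.zpowers e := by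
        refine Subgroup.mem_zpowers_iff.2 ⟨j, ?_⟩
        have h3 : E ^ j = c⁻¹ * n * c * E * (c⁻¹ * n * c)⁻¹ := by
          calc E ^ j = c⁻¹ * (c * E ^ j * c⁻¹) * c := by group
            _ = _ := by rw [hj]; group
        exact congrArg Subtype.val h3
      obtain ⟨k, hk, hk2⟩ := conj_pow_cases (c⁻¹ * n * c : ↥M24).2 he heo h2
      exact ⟨k, hk, mem_sevenTo (c⁻¹ * n * c : ↥M24).2 he hk2⟩
    · rintro ⟨k, hk, hm⟩
      obtain ⟨g, hg, -, hge, hgc, -⟩ := of_mem_sevenTo hk hm he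
      obtain rfl := canon_injective hgc
      refine Subgroup.mem_zpowers_iff.2 ⟨k, ?_⟩
      rw [conj_zpow, zpow_natCast]
      have h3 : c⁻¹ * n * c * E = E ^ k * (c⁻¹ * n * c) := Subtype.ext hge
      calc c * E ^ k * c⁻¹ = c * (E ^ k * (c⁻¹ * n * c)) * (c⁻¹ * n * c)⁻¹ * c⁻¹ := by group
        _ = _ := by rw [← h3]; group
  have hcent : ∀ n : ↥M24, n ∈ Subgroup.centralizer (Subgroup.zpowers (c * E * c⁻¹) : Set ↥M24) ↔
      canon ((c⁻¹ * n * c : ↥M24) : Equiv.Perm GolayPt) ∈ sevenTo 1 := by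
    intro n
    rw [Subgroup.zpowers_eq_closure, Subgroup.centralizer_closure,
      Subgroup.mem_centralizer_singleton_iff]
    constructor
    · intro h
      refine mem_sevenTo (c⁻¹ * n * c : ↥M24).2 he ?_
      rw [pow_one]
      have h3 : c⁻¹ * n * c * E = E * (c⁻¹ * n * c) := by
        calc c⁻¹ * n * c * E = c⁻¹ * (n * (c * E * c⁻¹)) * c := by group
          _ = c⁻¹ * (c * E * c⁻¹ * n) * c := by rw [h]
          _ = _ := by group
      exact congrArg Subtype.val h3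
    · intro hm
      obtain ⟨g, hg, -, hge, hgc, -⟩ := of_mem_sevenTo (k := 1) (by simp) hm he
      obtain rfl := canon_injective hgc
      rw [pow_one] at hge
      have h3 : c⁻¹ * n * c * E = E * (c⁻¹ * n * c) := Subtype.ext hge
      calc n * (c * E * c⁻¹) = c * (c⁻¹ * n * c * E) * c⁻¹ := by group
        _ = _ := by rw [h3]; group
  have hcount : ∀ (p : ↥M24 → Prop) (L : List ℕ), L.Nodup →
      (∀ n, p n ↔ canon ((c⁻¹ * n * c : ↥M24) : Equiv.Perm GolayPt) ∈ L) →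
      (∀ t ∈ L, ∃ g ∈ M24, canon g = t) → Nat.card {n // p n} = L.length := by
    intro p L hndL hp hL
    rw [Nat.card_congr (Equiv.ofBijective
      (fun n : {n // p n} => (⟨_, List.mem_toFinset.2 ((hp n.1).1 n.2)⟩ : ↥L.toFinset)) ⟨?_, ?_⟩),
      Nat.card_eq_fintype_card, Fintype.card_coe, List.toFinset_card_of_nodup hndL]
    · intro a b hab
      have h := canon_injective (congrArg Subtype.val hab)
      refine Subtype.ext ?_
      simpa using (Subtype.ext h : c⁻¹ * a.1 * c = c⁻¹ * b.1 * c)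
    · rintro ⟨t, ht⟩
      obtain ⟨g, hg, hgt⟩ := hL t (List.mem_toFinset.1 ht)
      have e1 : c⁻¹ * (c * ⟨g, hg⟩ * c⁻¹) * c = (⟨g, hg⟩ : ↥M24) := by group
      refine ⟨⟨c * ⟨g, hg⟩ * c⁻¹, (hp _).2 (by rw [e1, hgt]; exact List.mem_toFinset.1 ht)⟩,
        Subtype.ext ?_⟩
      show canon _ = t
      rw [e1, hgt]
  refine ⟨?_, ?_, ?_, (c : Equiv.Perm GolayPt) • trioK.ix.sem 565,
    (trioK.smul_set_eq c).le (Set.smul_mem_smul_set (a := c)
      (trioK.ix.mem 565 (by decide +kernel))), fun n hn => ?_⟩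
  · rw [← hl]
    refine hcount _ _ hnd (fun n => ?_) (fun t ht => ?_)
    · rw [hnorm]; simp [or_assoc]
    · simp only [List.mem_append] at ht
      rcases ht with (ht | ht) | ht <;>
        obtain ⟨g, hg, -, -, hgc, -⟩ := of_mem_sevenTo (by simp) ht he <;> exact ⟨g, hg, hgc⟩
  · rw [← hl1]
    refine hcount _ _ ((List.nodup_append.1 (List.nodup_append.1 hnd).1).1) hcent fun t ht => ?_
    obtain ⟨g, hg, -, -, hgc, -⟩ := of_mem_sevenTo (k := 1) (by simp) ht he
    exact ⟨g, hg, hgc⟩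
  · simp only [List.any_eq_true, Bool.not_eq_true'] at hnc
    obtain ⟨x, hx, y, hy, hxy⟩ := hnc
    obtain ⟨f, hf, hfr, -, hfc, -⟩ := of_mem_sevenTo (k := 1) (by simp) hx he
    obtain ⟨g, hg, hgr, -, hgc, -⟩ := of_mem_sevenTo (k := 1) (by simp) hy he
    have e1 : ∀ a : ↥M24, c⁻¹ * (c * a * c⁻¹) * c = a := fun a => by group
    refine ⟨c * ⟨f, hf⟩ * c⁻¹, (hcent _).2 (by rw [e1]; exact hfc.symm ▸ hx), c * ⟨g, hg⟩ * c⁻¹,
      (hcent _).2 (by rw [e1]; exact hgc.symm ▸ hy), fun h => ?_⟩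
    have h2 : (⟨f, hf⟩ * ⟨g, hg⟩ : ↥M24) = ⟨g, hg⟩ * ⟨f, hf⟩ := by
      calc (⟨f, hf⟩ * ⟨g, hg⟩ : ↥M24) = c⁻¹ * (c * ⟨f, hf⟩ * c⁻¹ * (c * ⟨g, hg⟩ * c⁻¹)) * c := by group
        _ = _ := by rw [h]; group
    have := (eqP_iff (hfr.mul hgr) (hgr.mul hfr)).2 (congrArg Subtype.val h2)
    rw [hxy] at this
    exact absurd this (by decide)
  · obtain ⟨k, hk, hm⟩ := (hnorm n).1 hn
    obtain ⟨g, hg, -, -, hgc, hgT⟩ := of_mem_sevenTo hk hm he
    obtain rfl := canon_injective hgc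
    simp only [Subgroup.coe_mul, Subgroup.coe_inv] at hgT
    rw [mul_smul, mul_smul, inv_smul_eq_iff] at hgT
    exact hgT

end CfsgLib.Spor
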