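import Cfsg.Agent.Lib.KnownA.MathieuOut.M23
import Cfsg.Agent.Lib.Spor.Classes
import Cfsg.Agent.Lib.Spor.MathieuSimple

/-!
Generating triples of M23: certificates for witnesses, and the permutation module inequality of
Scott (Ree) excluding the exceptional types.
-/

set_option autoImplicit false

namespace CfsgLib.Spor.M23Tri

open Cfsg CfsgLib.Spor
open CfsgLib.MathieuOut (eqP eqP_iff rep_pow rep_idP)

/-- the check of a witness for a triple -/
def witOK (p q r x y z : ℕ) (rows : List (ℕ × ℕ × ℕ)) : Bool :=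
  ([x, y, z].all (inStabP [] [23]))
    && eqP (CfsgLib.MathieuOut.powP x p) CfsgLib.MathieuOut.idP && !eqP x CfsgLib.MathieuOut.idP
    && eqP (CfsgLib.MathieuOut.powP y q) CfsgLib.MathieuOut.idP && !eqP y CfsgLib.MathieuOut.idP
    && eqP (CfsgLib.MathieuOut.powP z r) CfsgLib.MathieuOut.idP && !eqP z CfsgLib.MathieuOut.idP
    && eqP (compP (compP x y) z) CfsgLib.MathieuOut.idP
    && checkSLP rows [x, y]
    && [MathieuOut.M23Cert.genA, MathieuOut.M23Cert.genB, MathieuOut.M23Cert.genC].all fun t =>
        Nat.beq t x || Nat.beq t y || rows.any fun e => Nat.beq t e.1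

set_option maxRecDepth 100000 in
theorem eq_M23_of_gens {K : Subgroup (Equiv.Perm GolayPt)} (hK : K ≤ Cfsg.Spor.M23)
    (hgens : ∀ a ∈ [MathieuOut.M23Cert.genA, MathieuOut.M23Cert.genB, MathieuOut.M23Cert.genC],
      RepIn K a) : K = Cfsg.Spor.M23 := by
  refine MathieuOut.eq_of_levels hK hgens MathieuOut.M23Cert.rows (by decide +kernel)
    MathieuOut.M23Cert.lev (by decide +kernel) (by decide +kernel) ?_
  rw [MathieuOut.natCard_M23]
  decide +kernel

theorem witness {p q r x y z : ℕ} {rows : List (ℕ × ℕ × ℕ)} (hp : p.Prime) (hq : q.Prime)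
    (hr : r.Prime) (h : witOK p q r x y z rows = true) :
    ∃ X Y Z : Cfsg.Spor.M23, orderOf X = p ∧ orderOf Y = q ∧ orderOf Z = r ∧ X * Y * Z = 1 ∧
      Subgroup.closure {X, Y} = ⊤ := by
  simp only [witOK, Bool.and_eq_true, Bool.not_eq_true', List.all_eq_true] at h
  obtain ⟨⟨⟨⟨⟨⟨⟨⟨⟨hmem, hxp⟩, hx1⟩, hyq⟩, hy1⟩, hzr⟩, hz1⟩, hxyz⟩, hslp⟩, htg⟩ := h
  have hin : ∀ a ∈ [x, y, z], ∃ σ : Cfsg.Spor.M23, Rep (σ : Equiv.Perm GolayPt) a := by
    intro a ha
    obtain ⟨σ, hσ, hσa⟩ := repIn_of_inStabP (by simp) (hmem a ha)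
    rw [MathieuOut.stabG_M23] at hσ
    exact ⟨⟨σ, hσ⟩, hσa⟩
  obtain ⟨X, hX⟩ := hin x (by simp)
  obtain ⟨Y, hY⟩ := hin y (by simp)
  obtain ⟨Z, hZ⟩ := hin z (by simp)
  have hord : ∀ {m a : ℕ} {S : Cfsg.Spor.M23}, m.Prime → Rep (S : Equiv.Perm GolayPt) a →
      eqP (MathieuOut.powP a m) MathieuOut.idP = true → eqP a MathieuOut.idP = false →
      orderOf S = m := by
    intro m a S hm hS h1 h2
    haveI : Fact m.Prime := ⟨hm⟩
    refine orderOf_eq_prime (Subtype.ext ?_) fun e => ?_
    · simpa using (eqP_iff (rep_pow hS m) rep_idP).1 h1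
    · rw [(eqP_iff hS rep_idP).2 (by rw [e]; rfl)] at h2
      exact Bool.noConfusion h2
  refine ⟨X, Y, Z, hord hp hX hxp hx1, hord hq hY hyq hy1, hord hr hZ hzr hz1, Subtype.ext ?_, ?_⟩
  · simpa using (eqP_iff ((hX.mul hY).mul hZ) rep_idP).1 hxyz
  · refine Subgroup.map_injective (f := Cfsg.Spor.M23.subtype) Cfsg.Spor.M23.subtype_injective ?_
    rw [MonoidHom.map_closure, ← MonoidHom.range_eq_map, Subgroup.range_subtype,
      Set.image_insert_eq, Set.image_singleton]
    refine eq_M23_of_gens ((Subgroup.closure_le _).2 ?_) fun t ht => ?_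
    · rintro g (rfl | rfl)
      exacts [X.2, Y.2]
    have hxy : ∀ a ∈ [x, y], RepIn (Subgroup.closure
        {(Cfsg.Spor.M23.subtype X), (Cfsg.Spor.M23.subtype Y)}) a := by
      intro a ha
      simp only [List.mem_cons, List.not_mem_nil, or_false] at ha
      rcases ha with rfl | rfl
      · exact ⟨_, Subgroup.subset_closure (Set.mem_insert _ _), hX⟩
      · exact ⟨_, Subgroup.subset_closure (Set.mem_insert_of_mem _ rfl), hY⟩
    have h0 := htg t ht
    simp only [Bool.or_eq_true, Nat.beq_eq, List.any_eq_true] at h0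
    rcases h0 with (rfl | rfl) | ⟨e, he, rfl⟩
    · exact hxy _ (by simp)
    · exact hxy _ (by simp)
    · exact repIn_of_checkSLP rows _ hslp hxy e he

/-! ### The inequality for generating triples -/

/-- the permutation module of the 24 points -/
abbrev Mod : Type := GolayPt → ℚ

/-- the action on the permutation module -/
def op (g : Equiv.Perm GolayPt) : Mod →ₗ[ℚ] Mod := LinearMap.funLeft ℚ ℚ g.symm

/-- the difference from the identity -/
def dif (g : Equiv.Perm GolayPt) : Mod →ₗ[ℚ] Mod := LinearMap.id - op g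

theorem op_mul (g h : Equiv.Perm GolayPt) (f : Mod) : op (g * h) f = op g (op h f) := rfl

theorem op_one (f : Mod) : op 1 f = f := rfl

theorem dif_apply (g : Equiv.Perm GolayPt) (f : Mod) : dif g f = f - op g f := rfl

theorem scott {x y z : Equiv.Perm GolayPt} (hxyz : x * y * z = 1) (hx : x none = none)
    (hy : y none = none)
    (htrans : ∀ p : GolayPt, p ≠ none → ∃ g ∈ Subgroup.closure {x, y}, g (some 0) = p) :
    44 ≤ Module.finrank ℚ (LinearMap.range (dif x)) + Module.finrank ℚ (LinearMap.range (dif y)) +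
      Module.finrank ℚ (LinearMap.range (dif z)) := by
  classical
  let Rx := LinearMap.range (dif x)
  let Ry := LinearMap.range (dif y)
  let Rz := LinearMap.range (dif z)
  let Φ : (Rx × Ry × Rz) →ₗ[ℚ] Mod :=
    Rx.subtype.coprod (((op x).comp Ry.subtype).coprod (((op x).comp (op y)).comp Rz.subtype))
  let Ψ : Mod →ₗ[ℚ] (Rx × Ry × Rz) :=
    (dif x).rangeRestrict.prod ((dif y).rangeRestrict.prod (dif z).rangeRestrict)
  have hΦΨ : ∀ f, Φ (Ψ f) = 0 := by
    intro f
    show dif x f + (op x (dif y f) + op x (op y (dif z f))) = 0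
    simp only [dif_apply, map_sub]
    rw [← op_mul, ← op_mul, ← op_mul, hxyz, op_one]
    abel
  have hΦx : ∀ f, dif x f ∈ LinearMap.range Φ := fun f => by
    refine ⟨((dif x).rangeRestrict f, 0, 0), ?_⟩
    show dif x f + (op x 0 + op x (op y 0)) = dif x f
    simp
  have hΦy : ∀ f, dif y f ∈ LinearMap.range Φ := fun f => by
    have h1 : op x (dif y f) ∈ LinearMap.range Φ := by
      refine ⟨(0, (dif y).rangeRestrict f, 0), ?_⟩
      show 0 + (op x (dif y f) + op x (op y 0)) = _
      simp
    have := (LinearMap.range Φ).add_mem h1 (hΦx (dif y f))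
    rwa [dif_apply x, add_sub_cancel] at this
  let S : Subgroup (Equiv.Perm GolayPt) :=
    { carrier := {g | ∀ f, dif g f ∈ LinearMap.range Φ}
      one_mem' := fun f => by simp [dif_apply, op_one]
      mul_mem' := by
        intro g h hg hh f
        have e : dif (g * h) f = dif g f + dif h f - dif g (dif h f) := by
          simp only [dif_apply, op_mul, map_sub]; abel
        rw [e]
        exact Submodule.sub_mem _ (Submodule.add_mem _ (hg f) (hh f)) (hg _)
      inv_mem' := by
        intro g hg f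
        have e : dif g⁻¹ f = -dif g (op g⁻¹ f) := by
          simp only [dif_apply, ← op_mul, mul_inv_cancel, op_one]; abel
        rw [e]
        exact Submodule.neg_mem _ (hg _) }
  have hS : Subgroup.closure {x, y} ≤ S := by
    rw [Subgroup.closure_le]
    rintro g (rfl | rfl)
    exacts [hΦx, hΦy]
  have hdiff : ∀ p : GolayPt, p ≠ none →
      (Pi.single (some 0) 1 - Pi.single p 1 : Mod) ∈ LinearMap.range Φ := by
    intro p hp
    obtain ⟨g, hg, rfl⟩ := htrans p hp
    have := hS hg (Pi.single (some 0) 1)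
    have e : op g (Pi.single (some 0) (1 : ℚ)) = Pi.single (g (some 0)) 1 := funext fun q => by
      show Pi.single (M := fun _ => ℚ) (some 0) 1 (g.symm q) = _
      simp only [Pi.single_apply, Equiv.symm_apply_eq]
    rwa [dif_apply, e] at this
  let S' := {p : GolayPt // p ≠ none ∧ p ≠ some 0}
  have hS' : Fintype.card S' = 22 := by decide
  have hrange : 22 ≤ Module.finrank ℚ (LinearMap.range Φ) := by
    let v : S' → LinearMap.range Φ := fun p => ⟨_, hdiff p.1 p.2.1⟩
    have hli : LinearIndependent ℚ v := by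
      rw [Fintype.linearIndependent_iff]
      intro c hc p
      have h := congrArg (fun f : LinearMap.range Φ => (f : Mod) p.1) hc
      simp only [Submodule.coe_sum, Submodule.coe_smul, Finset.sum_apply, Pi.smul_apply,
        Submodule.coe_zero, Pi.zero_apply, v, Pi.sub_apply, smul_eq_mul] at h
      rw [Finset.sum_eq_single p (fun b _ hb => by
        rw [Pi.single_eq_of_ne p.2.2, Pi.single_eq_of_ne fun e => hb (Subtype.ext e.symm)]
        ring) (by simp)] at h
      rw [Pi.single_eq_same, Pi.single_eq_of_ne p.2.2] at h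
      linarith
    have := hli.fintype_card_le_finrank
    omega
  have hker : 22 ≤ Module.finrank ℚ (LinearMap.ker Φ) := by
    have h1 : LinearMap.range Ψ ≤ LinearMap.ker Φ := by
      rintro _ ⟨f, rfl⟩; exact hΦΨ f
    have h2 := Submodule.finrank_mono h1
    have h3 := LinearMap.finrank_range_add_finrank_ker Ψ
    have h4 : Module.finrank ℚ (LinearMap.ker Ψ) ≤ 2 := by
      let ev : LinearMap.ker Ψ →ₗ[ℚ] ℚ × ℚ :=
        ((LinearMap.proj (none : GolayPt)).prod (LinearMap.proj (some 0 : GolayPt))).comp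
          (LinearMap.ker Ψ).subtype
      have hev : Function.Injective ev := by
        rw [injective_iff_map_eq_zero]
        rintro ⟨f, hf⟩ h
        have h0 : f none = 0 ∧ f (some 0) = 0 := Prod.ext_iff.1 h
        have hfix : ∀ g : Equiv.Perm GolayPt, dif g f = 0 → ∀ p, f (g p) = f p := fun g hg p => by
          have := congrFun hg (g p)
          rw [dif_apply] at this
          simp only [Pi.sub_apply, Pi.zero_apply, sub_eq_zero] at this
          rw [this]
          exact congrArg f (g.symm_apply_apply p)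
        have hx' : dif x f = 0 := congrArg (fun v : Rx × Ry × Rz => (v.1 : Mod)) hf
        have hy' : dif y f = 0 := congrArg (fun v : Rx × Ry × Rz => (v.2.1 : Mod)) hf
        let T : Subgroup (Equiv.Perm GolayPt) :=
          { carrier := {g | ∀ p, f (g p) = f p}
            one_mem' := fun p => rfl
            mul_mem' := fun {g h} hg hh p => (hg (h p)).trans (hh p)
            inv_mem' := fun {g} hg p => by
              have := hg (g⁻¹ p)
              rw [Equiv.Perm.coe_inv, g.apply_symm_apply] at this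
              exact this.symm }
        have hT : Subgroup.closure {x, y} ≤ T := by
          rw [Subgroup.closure_le]
          rintro g (rfl | rfl)
          exacts [hfix _ hx', hfix _ hy']
        refine Subtype.ext (funext fun p => ?_)
        by_cases hp : p = none
        · subst hp; exact h0.1
        obtain ⟨g, hg, rfl⟩ := htrans p hp
        exact (hT hg _).trans h0.2
      have := LinearMap.finrank_le_finrank_of_injective hev
      simpa using this
    have h5 : Module.finrank ℚ Mod = 24 := by
      rw [Module.finrank_pi, card_golayPt]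
    omega
  have h := LinearMap.finrank_range_add_finrank_ker Φ
  rw [Module.finrank_prod, Module.finrank_prod] at h
  simp only [Rx, Ry, Rz] at h hker ⊢
  omega

theorem rank_le_two_two {z : Equiv.Perm GolayPt} (hz : z none = none) :
    Module.finrank ℚ (LinearMap.range (dif z)) ≤ 22 := by
  classical
  let φ : Mod →ₗ[ℚ] ℚ × ℚ :=
    (LinearMap.proj (none : GolayPt)).prod (∑ p : GolayPt, LinearMap.proj p)
  have hle : LinearMap.range (dif z) ≤ LinearMap.ker φ := by
    rintro _ ⟨f, rfl⟩
    rw [LinearMap.mem_ker]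
    refine Prod.ext ?_ ?_
    · show f none - f (z.symm none) = 0
      rw [show z.symm none = none by rw [Equiv.symm_apply_eq, hz], sub_self]
    · show (∑ p : GolayPt, LinearMap.proj (R := ℚ) (φ := fun _ => ℚ) p) (dif z f) = 0
      rw [LinearMap.sum_apply]
      show ∑ p, (f p - f (z.symm p)) = 0
      rw [Finset.sum_sub_distrib, Equiv.sum_comp z.symm f, sub_self]
  have hsurj : Function.Surjective φ := by
    intro ⟨a, b⟩
    refine ⟨fun p => if p = none then a else if p = some 0 then b - a else 0, Prod.ext ?_ ?_⟩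
    · simp [φ]
    · show (∑ p : GolayPt, LinearMap.proj (R := ℚ) (φ := fun _ => ℚ) p) _ = b
      rw [LinearMap.sum_apply]
      simp only [LinearMap.proj_apply]
      rw [← Finset.add_sum_erase _ _ (Finset.mem_univ (none : GolayPt)), if_pos rfl,
        Finset.sum_eq_single (some 0 : GolayPt) (fun p hp hp0 => by
          rw [if_neg (Finset.mem_erase.1 hp).1, if_neg hp0]) (by simp)]
      simp
  have h1 := LinearMap.finrank_range_add_finrank_ker φ
  have h2 : Module.finrank ℚ (LinearMap.range φ) = 2 := by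
    rw [LinearMap.range_eq_top.2 hsurj, finrank_top, Module.finrank_prod, Module.finrank_self]
  have h3 := Submodule.finrank_mono hle
  rw [Module.finrank_pi, card_golayPt, h2] at h1
  omega

theorem rank_of_prime {g : Equiv.Perm GolayPt} {p : ℕ} (hp : p.Prime) (hg : orderOf g = p) :
    (p : ℚ) * Module.finrank ℚ (LinearMap.range (dif g)) =
      (p - 1) * (24 - ((Finset.univ.filter fun q => g q = q).card : ℚ)) := by
  classical
  set n := (Finset.univ.filter fun q => g q = q).card with hn
  have hp0 : (p : ℚ) ≠ 0 := Nat.cast_ne_zero.2 hp.ne_zero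
  have hgp : g ^ p = 1 := hg ▸ pow_orderOf_eq_one g
  let A : Mod →ₗ[ℚ] Mod := (p : ℚ)⁻¹ • ∑ i ∈ Finset.range p, op (g ^ i)
  have hA : ∀ f, A f = (p : ℚ)⁻¹ • ∑ i ∈ Finset.range p, op (g ^ i) f := fun f => by
    simp [A, LinearMap.sum_apply]
  have hproj : LinearMap.IsProj (LinearMap.ker (dif g)) A := by
    refine ⟨fun f => ?_, fun f hf => ?_⟩
    · rw [LinearMap.mem_ker, dif_apply, sub_eq_zero, hA, map_smul, map_sum]
      congr 1
      simp only [← op_mul, ← pow_succ']
      have h1 := Finset.sum_range_succ (fun i => op (g ^ i) f) p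
      rw [Finset.sum_range_succ', hgp, pow_zero] at h1
      exact (add_right_cancel h1).symm
    · rw [LinearMap.mem_ker, dif_apply, sub_eq_zero] at hf
      have hi : ∀ i : ℕ, op (g ^ i) f = f := by
        intro i
        induction i with
        | zero => rw [pow_zero, op_one]
        | succ i ih => rw [pow_succ, op_mul, ← hf, ih]
      rw [hA, Finset.sum_congr rfl fun i _ => hi i, Finset.sum_const, Finset.card_range,
        ← Nat.cast_smul_eq_nsmul ℚ, smul_smul, inv_mul_cancel₀ hp0, one_smul]
  have htr := hproj.trace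
  have hop : ∀ h : Equiv.Perm GolayPt, LinearMap.trace ℚ Mod (op h) =
      ((Finset.univ.filter fun q => h q = q).card : ℚ) := by
    intro h
    rw [LinearMap.trace_eq_matrix_trace ℚ (Pi.basisFun ℚ GolayPt), Matrix.trace,
      Finset.natCast_card_filter]
    refine Finset.sum_congr rfl fun q _ => ?_
    rw [Matrix.diag_apply, LinearMap.toMatrix_apply, Pi.basisFun_repr, Pi.basisFun_apply]
    show Pi.single (M := fun _ => ℚ) q 1 (h.symm q) = _
    by_cases hq : h q = q
    · rw [if_pos hq, Equiv.symm_apply_eq h |>.2 hq.symm, Pi.single_eq_same]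
    · rw [if_neg hq, Pi.single_eq_of_ne fun e => hq (Equiv.symm_apply_eq h |>.1 e).symm]
  have hfix : ∀ i ∈ Finset.range p, i ≠ 0 →
      (Finset.univ.filter fun q => (g ^ i) q = q).card = n := by
    intro i hi hi0
    rw [hn]
    congr 1
    refine Finset.filter_congr fun q _ => ⟨fun h => ?_, fun h => ?_⟩
    · obtain ⟨m, hm⟩ : ∃ m : ℕ, (g ^ i) ^ m = g := by
        refine exists_pow_eq_self_of_coprime ?_
        rw [hg]
        exact Nat.Coprime.symm ((Nat.Prime.coprime_iff_not_dvd hp).2 fun hd => by
          have := Nat.le_of_dvd (Nat.pos_of_ne_zero hi0) hd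
          exact absurd (Finset.mem_range.1 hi) (by omega))
      have := congrArg (fun s : Equiv.Perm GolayPt => s q) hm
      simp only [Equiv.Perm.coe_pow] at this h
      rw [Function.iterate_fixed h] at this
      exact this.symm
    · simp only [Equiv.Perm.coe_pow]
      exact Function.iterate_fixed h i
  rw [map_smul, map_sum, ← Finset.add_sum_erase _ _ (Finset.mem_range.2 hp.pos),
    Finset.sum_congr rfl (fun i hi => (hop (g ^ i)).trans (congrArg (fun m : ℕ => (m : ℚ))
      (hfix i (Finset.mem_of_mem_erase hi) (Finset.ne_of_mem_erase hi)))), hop, pow_zero,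
    Finset.sum_const, Finset.card_erase_of_mem (Finset.mem_range.2 hp.pos), Finset.card_range,
    nsmul_eq_mul, smul_eq_mul] at htr
  have h1 := LinearMap.finrank_range_add_finrank_ker (dif g)
  rw [Module.finrank_pi, card_golayPt] at h1
  have h1' : (Module.finrank ℚ (LinearMap.range (dif g)) : ℚ) +
      (Module.finrank ℚ (LinearMap.ker (dif g)) : ℚ) = 24 := by exact_mod_cast h1
  have hone : (Finset.univ.filter fun q => (1 : Equiv.Perm GolayPt) q = q).card = 24 := by
    simp [card_golayPt]
  rw [hone, Nat.cast_sub hp.one_le, inv_mul_eq_iff_eq_mul₀ hp0] at htr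
  push_cast at htr
  linear_combination (p : ℚ) * h1' + htr

theorem mem_M23_fix {g : Equiv.Perm GolayPt} (hg : g ∈ Cfsg.Spor.M23) : g none = none := hg.2

theorem rank_two {g : Cfsg.Spor.M23} (h : orderOf g = 2) :
    Module.finrank ℚ (LinearMap.range (dif (g : Equiv.Perm GolayPt))) ≤ 8 := by
  have ho : orderOf (g : Equiv.Perm GolayPt) = 2 := (Subgroup.orderOf_coe g).trans h
  have hn : (Finset.univ.filter fun q => (g : Equiv.Perm GolayPt) q = q).card = 8 := by
    rcases exists_invol g.2.1 ho with ⟨_, -, -, e, -⟩ | ⟨_, -, -, e, -⟩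
    · exact e
    · exact absurd (mem_M23_fix g.2) ((card_filter_eq_zero_iff _).1 e none)
  have h1 := rank_of_prime Nat.prime_two ho
  rw [hn] at h1
  norm_num at h1
  have : (Module.finrank ℚ (LinearMap.range (dif (g : Equiv.Perm GolayPt))) : ℚ) ≤ (8 : ℕ) := by
    push_cast; linarith
  exact_mod_cast this

theorem rank_three {g : Cfsg.Spor.M23} (h : orderOf g = 3) :
    Module.finrank ℚ (LinearMap.range (dif (g : Equiv.Perm GolayPt))) ≤ 12 := by
  have ho : orderOf (g : Equiv.Perm GolayPt) = 3 := (Subgroup.orderOf_coe g).trans h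
  have hn : (Finset.univ.filter fun q => (g : Equiv.Perm GolayPt) q = q).card = 6 := by
    rcases exists_ord3 g.2.1 ho with ⟨_, -, -, e, -⟩ | ⟨_, -, -, e, -⟩
    · exact e
    · exact absurd (mem_M23_fix g.2) ((card_filter_eq_zero_iff _).1 e none)
  have h1 := rank_of_prime Nat.prime_three ho
  rw [hn] at h1
  norm_num at h1
  have : (Module.finrank ℚ (LinearMap.range (dif (g : Equiv.Perm GolayPt))) : ℚ) ≤ (12 : ℕ) := by
    push_cast; linarith
  exact_mod_cast this

theorem rank_prime {g : Cfsg.Spor.M23} {p : ℕ} (hp : p.Prime) (h : orderOf g = p) (b : ℕ)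
    (hb : ∀ v : ℕ, p * v ≤ (p - 1) * 23 → (p - 1) ∣ v → v ≤ b) :
    Module.finrank ℚ (LinearMap.range (dif (g : Equiv.Perm GolayPt))) ≤ b := by
  have ho : orderOf (g : Equiv.Perm GolayPt) = p := (Subgroup.orderOf_coe g).trans h
  set n := (Finset.univ.filter fun q => (g : Equiv.Perm GolayPt) q = q).card with hn
  have hn1 : 1 ≤ n := Finset.card_pos.2 ⟨none, Finset.mem_filter.2 ⟨Finset.mem_univ _,
    mem_M23_fix g.2⟩⟩
  have hn24 : n ≤ 24 := by
    rw [hn, ← card_golayPt]; exact Finset.card_le_univ _
  have h1 := rank_of_prime hp ho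
  set v := Module.finrank ℚ (LinearMap.range (dif (g : Equiv.Perm GolayPt)))
  have h2 : ((p * v : ℕ) : ℚ) = (((p - 1) * (24 - n) : ℕ) : ℚ) := by
    push_cast [Nat.cast_sub hp.one_le, Nat.cast_sub hn24]
    exact h1
  have h3 : p * v = (p - 1) * (24 - n) := by exact_mod_cast h2
  refine hb v (h3 ▸ Nat.mul_le_mul_left _ (by omega)) ?_
  have hc : (p - 1).Coprime p := by
    have h := Nat.coprime_self_add_right (m := p - 1) (n := 1)
    rw [Nat.sub_add_cancel hp.one_le] at h
    exact h.2 (Nat.coprime_one_right _)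
  exact hc.dvd_of_dvd_mul_left ⟨_, h3⟩

theorem no_triple {p q r : ℕ} (hexc : (p = 2 ∧ q = 3) ∨ (p = 2 ∧ q = 5 ∧ r = 5) ∨
    (p = 2 ∧ q = 5 ∧ r = 7) ∨ (p = 3 ∧ q = 3 ∧ (r = 3 ∨ r = 5 ∨ r = 7))) :
    ¬ ∃ x y z : Cfsg.Spor.M23, orderOf x = p ∧ orderOf y = q ∧ orderOf z = r ∧ x * y * z = 1 ∧
      Subgroup.closure {x, y} = ⊤ := by
  rintro ⟨x, y, z, hx, hy, hz, hxyz, hgen⟩
  have key := scott (x := (x : Equiv.Perm GolayPt)) (y := y) (z := z)
    (congrArg Subtype.val hxyz) (mem_M23_fix x.2) (mem_M23_fix y.2) fun p hp => by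
      obtain ⟨g, hg, he⟩ := exists_list_map_M24 (l := [none, some 0]) (l' := [none, p])
        (by simp) (by simp [Ne.symm hp]) rfl (by simp)
      simp only [List.map_cons, List.map_nil, List.cons.injEq, and_true] at he
      have hgM : g ∈ Cfsg.Spor.M23 := ⟨hg, he.1⟩
      refine ⟨g, ?_, he.2⟩
      have : (⟨g, hgM⟩ : Cfsg.Spor.M23) ∈ Subgroup.closure {x, y} := hgen ▸ Subgroup.mem_top _
      have := Subgroup.mem_map_of_mem Cfsg.Spor.M23.subtype this
      rwa [MonoidHom.map_closure, Set.image_insert_eq, Set.image_singleton] at this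
  rcases hexc with ⟨rfl, rfl⟩ | ⟨rfl, rfl, rfl⟩ | ⟨rfl, rfl, rfl⟩ | ⟨rfl, rfl, rfl | rfl | rfl⟩
  · have := rank_two hx; have := rank_three hy
    have := rank_le_two_two (mem_M23_fix z.2)
    omega
  · have := rank_two hx
    have := rank_prime (by norm_num) hy 16 (by intro v h1 h2; omega)
    have := rank_prime (by norm_num) hz 16 (by intro v h1 h2; omega)
    omega
  · have := rank_two hx
    have := rank_prime (by norm_num) hy 16 (by intro v h1 h2; omega)
    have := rank_prime (by norm_num) hz 18 (by intro v h1 h2; omega)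
    omega
  · have := rank_three hx; have := rank_three hy; have := rank_three hz
    omega
  · have := rank_three hx; have := rank_three hy
    have := rank_prime (by norm_num) hz 16 (by intro v h1 h2; omega)
    omega
  · have := rank_three hx; have := rank_three hy
    have := rank_prime (by norm_num) hz 18 (by intro v h1 h2; omega)
    omega

end CfsgLib.Spor.M23Tri
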