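import Cfsg.Agent.Lib.Spor.Classes
import Cfsg.Prelude.Def_Spor_Mathieu

/-!
Elements of prime order in the stabiliser of a point of a dodecad.
-/

set_option autoImplicit false
set_option maxRecDepth 100000

namespace CfsgLib.Spor

open Cfsg
open scoped Pointwise

/-- mask of the fixed points of a packed permutation -/
def fixMask (a : ℕ) : ℕ :=
  (List.range 24).foldl (fun m i => if Nat.beq (getP a i) i then m ||| 2 ^ i else m) 0

theorem fix_not_in_dodecad :
    (([syl2Rep0, syl3Rep0].all fun a =>
      Nat.beq (pop (fixMask a)) (fixPts a).length &&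
      ((List.range 24).all fun i => (fixMask a).testBit i == Nat.beq (getP a i) i) &&
      (List.range 2576).all fun j => !(Nat.beq (actP a (getT 24 dodTbl j)) (getT 24 dodTbl j) &&
        Nat.beq (fixMask a &&& getT 24 dodTbl j) (fixMask a)))) = true := by decide +kernel

theorem exists_fix_outside_base {a : ℕ} (ha : a ∈ [syl2Rep0, syl3Rep0]) {ρ : Equiv.Perm GolayPt}
    (hr : Rep ρ a) {d : Finset GolayPt} (hd : d ∈ dodecads) (hfix : ρ • d = d) :
    ∃ x, x ∉ d ∧ ρ x = x := by
  by_contra hcon
  simp only [not_exists, not_and] at hcon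
  have h := List.all_eq_true.1 fix_not_in_dodecad a ha
  simp only [Bool.and_eq_true, List.all_eq_true, List.mem_range, beq_iff_eq] at h
  obtain ⟨j, hj, rfl⟩ := dodI.complete d hd
  change ρ • toSet (getT 24 dodTbl j) = toSet (getT 24 dodTbl j) at hfix
  rw [← hr.toSet_actP] at hfix
  have e1 := toSet_injOn (hr.actP_lt _) (getT24_lt _ _) hfix
  have hsub : fixMask a &&& getT 24 dodTbl j = fixMask a := by
    refine Nat.eq_of_testBit_eq fun i => ?_
    rw [Nat.testBit_and]
    by_cases hb : (fixMask a).testBit i = true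
    · have hi : i < 24 := by
        by_contra hi
        have hlt : fixMask a < 2 ^ 24 := by
          have : [syl2Rep0, syl3Rep0].all (fun a => Nat.blt (fixMask a) (2 ^ 24)) = true := by
            decide +kernel
          exact Nat.le_of_ble_eq_true (List.all_eq_true.1 this a ha)
        rw [Nat.testBit_eq_false_of_lt
          (lt_of_lt_of_le hlt (Nat.pow_le_pow_right (by norm_num) (not_lt.1 hi)))] at hb
        exact Bool.noConfusion hb
      rw [h.1.2 i hi, Nat.beq_eq] at hb
      have hx : ρ (pt i) = pt i := (hr.fix_iff hi).2 hb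
      have hmem : pt i ∈ dodI.sem j := by
        by_contra hn
        exact hcon _ hn hx
      have hbit : (getT 24 dodTbl j).testBit i = true := by
        have := mem_toSet.1 (show pt i ∈ toSet (getT 24 dodTbl j) from hmem)
        rwa [idx_pt hi] at this
      rw [hbit, Bool.and_true]
    · simp [Bool.eq_false_iff.2 hb]
  have h3 := h.2 j hj
  rw [e1, hsub] at h3
  simp at h3

theorem exists_fixed_outside {g : Equiv.Perm GolayPt} (hg : g ∈ Cfsg.Spor.M11) (hord : (orderOf g).Prime) :
    ∃ x : GolayPt, x ∉ Cfsg.Spor.squareDodecad ∧ g x = x := by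
  obtain ⟨⟨hM, hd⟩, h0⟩ := hg
  have hdd : Cfsg.Spor.squareDodecad ∈ dodecads := by rw [mem_dodecads]; decide +kernel
  change g • Cfsg.Spor.squareDodecad = Cfsg.Spor.squareDodecad at hd
  change g (some 0) = some 0 at h0
  by_cases h12 : orderOf g ∣ 12
  · have hp : orderOf g = 2 ∨ orderOf g = 3 := by
      have hle := Nat.le_of_dvd (by norm_num) h12
      interval_cases h : orderOf g <;> first | exact Or.inl rfl | exact Or.inr rfl | (revert hord h12; norm_num)
    have key : ∀ a ∈ [syl2Rep0, syl3Rep0], ∀ ρ : Equiv.Perm GolayPt, Rep ρ a → ∀ c ∈ M24,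
        g = c * ρ * c⁻¹ → ∃ x : GolayPt, x ∉ Cfsg.Spor.squareDodecad ∧ g x = x := by
      intro a ha ρ hr c hc e
      have hfix : ρ • (c⁻¹ • Cfsg.Spor.squareDodecad) = c⁻¹ • Cfsg.Spor.squareDodecad := by
        rw [e, mul_smul, mul_smul] at hd
        exact eq_inv_smul_iff.2 hd
      obtain ⟨x, hx, hρx⟩ := exists_fix_outside_base ha hr (smul_mem_dodecads (inv_mem hc) hdd) hfix
      refine ⟨c x, fun h => hx ?_, by rw [e]; simp [hρx]⟩
      rw [← Finset.smul_mem_smul_finset_iff c, smul_inv_smul]
      exact h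
    have hne0 : (Finset.univ.filter fun p => g p = p).card ≠ 0 := fun e =>
      (card_filter_eq_zero_iff g).1 e _ h0
    rcases hp with hp | hp
    · rcases exists_invol hM hp with ⟨ρ, -, hr, -, c, hc, e⟩ | ⟨_, -, -, e0, -⟩
      · exact key _ (by simp) ρ hr c hc e
      · exact absurd e0 hne0
    · rcases exists_ord3 hM hp with ⟨ρ, -, hr, -, c, hc, e⟩ | ⟨_, -, -, e0, -⟩
      · exact key _ (by simp) ρ hr c hc e
      · exact absurd e0 hne0
  · haveI : Fact (orderOf g).Prime := ⟨hord⟩
    have hmem : ∀ x, g x ∉ Cfsg.Spor.squareDodecad ↔ x ∉ Cfsg.Spor.squareDodecad := fun x => by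
      rw [not_iff_not]
      conv_lhs => rw [← hd]
      exact Finset.smul_mem_smul_finset_iff g
    set τ := g.subtypePerm (p := fun x => x ∉ Cfsg.Spor.squareDodecad) hmem with hτ
    have hτp : τ ^ (orderOf g) ^ 1 = 1 := by
      rw [pow_one, hτ, Equiv.Perm.subtypePerm_pow]
      ext x
      simp [pow_orderOf_eq_one]
    have hcard : Fintype.card {x // x ∉ Cfsg.Spor.squareDodecad} = 12 := by
      rw [Fintype.card_subtype_compl, card_golayPt, Fintype.card_coe, card_dodecad hdd]
    have hmod := Equiv.Perm.card_fixedPoints_modEq (p := orderOf g) (n := 1)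
      (f := (MulAction.toEndHom τ : Function.End {x // x ∉ Cfsg.Spor.squareDodecad}))
      (by rw [← map_pow, hτp, map_one])
    rw [hcard] at hmod
    by_contra hcon
    simp only [not_exists, not_and] at hcon
    haveI : IsEmpty (Function.fixedPoints
        (MulAction.toEndHom τ : Function.End {x // x ∉ Cfsg.Spor.squareDodecad})) :=
      ⟨fun x => hcon x.1.1 x.1.2 (congrArg Subtype.val x.2)⟩
    have hz : ∀ (s : Type) (i : Fintype s), IsEmpty s → @Fintype.card s i = 0 :=
      fun s i h => @Fintype.card_eq_zero s i h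
    rw [hz _ _ this] at hmod
    exact h12 (Nat.modEq_zero_iff_dvd.1 hmod)

end CfsgLib.Spor
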