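import Cfsg.Agent.Lib.Spor.OctadInvolution
import Cfsg.Agent.Lib.ThreeTransp.ParSL
import Cfsg.Agent.Lib.Base.Cores

/-!
The centraliser in M24 of an involution with eight fixed points: the two-core is large extraspecial.
-/

set_option autoImplicit false

namespace CfsgLib.Spor

open Cfsg Tv5 CfsgLib.ThreeTransp
open scoped Pointwise

theorem mem_cenOct {z g : Equiv.Perm GolayPt} : g ∈ cenOct z ↔ g ∈ M24 ∧ g * z = z * g := by
  rw [cenOct, Subgroup.mem_inf, Subgroup.mem_centralizer_singleton_iff]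

/-- the centraliser inside M24 and the centraliser as a group of permutations -/
def cenEquiv (z : ↥M24) :
    ↥(Subgroup.centralizer ({z} : Set ↥M24)) ≃* ↥(cenOct (z : Equiv.Perm GolayPt)) where
  toFun g := ⟨g.1.1, mem_cenOct.2 ⟨g.1.2,
    congrArg Subtype.val (Subgroup.mem_centralizer_singleton_iff.1 g.2)⟩⟩
  invFun g := ⟨⟨g.1, (mem_cenOct.1 g.2).1⟩,
    Subgroup.mem_centralizer_singleton_iff.2 (Subtype.ext (mem_cenOct.1 g.2).2)⟩
  left_inv _ := rfl
  right_inv _ := rfl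
  map_mul' _ _ := rfl

/-- the pointwise stabiliser of an octad as a subgroup of M24 -/
def octFixSub (o : Finset GolayPt) : Subgroup ↥M24 := (fixM24 o).subgroupOf M24

theorem natCard_octFixSub {o : Finset GolayPt} (ho : o ∈ octads) : Nat.card (octFixSub o) = 16 := by
  have hle : fixM24 o ≤ M24 := fun g hg => (mem_fixM24.1 hg).1
  rw [octFixSub, Nat.card_congr (Subgroup.subgroupOfEquivOfLe hle).toEquiv]
  exact (octad_pointwise_stabilizer ho).1

theorem elementary_octFixSub {o : Finset GolayPt} (ho : o ∈ octads) :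
    IsElementaryAbelian 2 (octFixSub o) :=
  ⟨⟨⟨fun a b => Subtype.ext (Subtype.ext (fixM24_comm ho a.2 b.2))⟩⟩, fun a ha => by
    rw [pow_two]; exact Subtype.ext ((octad_pointwise_stabilizer ho).2 _ ha)⟩

theorem fix_iff_of_fixM24 {o : Finset GolayPt} (ho : o ∈ octads) {b : Equiv.Perm GolayPt}
    (hb : b ∈ fixM24 o) (hb1 : b ≠ 1) (p : GolayPt) : p ∈ o ↔ b p = p :=
  ⟨(mem_fixM24.1 hb).2 p, fun h => by_contra fun hp => hb1 (eq_one_of_fixM24_fix ho hb hp h)⟩

theorem octFixSub_le_pCore {o : Finset GolayPt} (ho : o ∈ octads) {b : ↥M24}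
    (hb : (b : Equiv.Perm GolayPt) ∈ fixM24 o) (hb1 : b ≠ 1) :
    octFixSub o ≤ (pCore 2 ↥(Subgroup.centralizer ({b} : Set ↥M24))).map
      (Subgroup.centralizer ({b} : Set ↥M24)).subtype := by
  haveI : Fact (Nat.Prime 2) := ⟨Nat.prime_two⟩
  set C := Subgroup.centralizer ({b} : Set ↥M24)
  have hle : octFixSub o ≤ C := fun e he =>
    Subgroup.mem_centralizer_singleton_iff.2 (Subtype.ext (fixM24_comm ho he hb))
  have hfix := fix_iff_of_fixM24 ho hb fun h => hb1 (Subtype.ext h)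
  haveI : ((octFixSub o).subgroupOf C).Normal := ⟨fun e he g => by
    have hg : ((g : ↥M24) : Equiv.Perm GolayPt) ∈ octStab o :=
      centralizer_le_octStab hfix (g : ↥M24).2
        (congrArg Subtype.val (Subgroup.mem_centralizer_singleton_iff.1 g.2))
    exact conj_fixM24 hg he⟩
  have hp : IsPGroup 2 ((octFixSub o).subgroupOf C) := IsPGroup.of_card (n := 4) (by
    rw [Nat.card_congr (Subgroup.subgroupOfEquivOfLe hle).toEquiv, natCard_octFixSub ho]; norm_num)
  intro e he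
  exact ⟨⟨e, hle he⟩, CfsgLib.Base.le_pCore hp he, rfl⟩

/-- the standard transvection -/
def tvElt : SL5 := ⟨tvMat, Matrix.det_transvection_of_ne 0 1 (by decide) 1⟩

theorem octad_invol_conclusion (z : ↥M24) (hz : orderOf z = 2)
    (hfix : (Finset.univ.filter fun p : GolayPt => (z : Equiv.Perm GolayPt) p = p) ∈ octads)
    (Q : Subgroup ↥M24) (hQ : Q = (pCore 2 ↥(Subgroup.centralizer ({z} : Set ↥M24))).map
      (Subgroup.centralizer ({z} : Set ↥M24)).subtype) :
    IsExtraspecial 2 ↥Q ∧ Nat.card ↥Q = 2 ^ 7 ∧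
      (∃ E : Subgroup ↥M24, E ≤ Q ∧ IsElementaryAbelian 2 E ∧ Nat.card ↥E = 2 ^ 4) ∧
      IsLargeExtraspecial Q ∧ ∃ K : Subgroup ↥M24, K ≤ Subgroup.centralizer ({z} : Set ↥M24) ∧
        Q ⊓ K = ⊥ ∧ Q ⊔ K = Subgroup.centralizer ({z} : Set ↥M24) ∧
        Nonempty (↥K ≃* Matrix.SpecialLinearGroup (Fin 3) (ZMod 2)) := by
  haveI : Fact (Nat.Prime 2) := ⟨Nat.prime_two⟩
  set o := Finset.univ.filter fun p : GolayPt => (z : Equiv.Perm GolayPt) p = p with hodef
  have hzE : (z : Equiv.Perm GolayPt) ∈ fixM24 o :=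
    mem_fixM24.2 ⟨z.2, fun p hp => (Finset.mem_filter.1 hp).2⟩
  have hz1 : z ≠ 1 := fun h => by rw [h, orderOf_one] at hz; norm_num at hz
  have hz1' : (z : Equiv.Perm GolayPt) ≠ 1 := fun h => hz1 (Subtype.ext h)
  obtain ⟨f, hf⟩ := octad_invol_iso hfix hzE hz1' (fix_iff_of_fixM24 hfix hzE hz1') tvElt rfl
  let e1 : Par.P 3 ≃* ↥(Subgroup.centralizer ({tvElt} : Set SL5)) :=
    (MonoidHom.ofInjective (Par.toSL_injective 3)).trans
      (MulEquiv.subgroupCongr (Par.range_toSL (n := 3) tvElt rfl))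
  let e : Par.P 3 ≃* ↥(Subgroup.centralizer ({z} : Set ↥M24)) :=
    (e1.trans f.symm).trans (cenEquiv z).symm
  have hez : (e ⟨1, 0, 0, 1⟩ : ↥M24) = z := by
    let zc : ↥(Subgroup.centralizer ({z} : Set ↥M24)) :=
      ⟨z, Subgroup.mem_centralizer_singleton_iff.2 rfl⟩
    have h : f (cenEquiv z zc) = e1 ⟨1, 0, 0, 1⟩ :=
      Subtype.ext ((hf _ rfl).trans (Subtype.ext Par.mat_z.symm))
    show (((cenEquiv z).symm (f.symm (e1 ⟨1, 0, 0, 1⟩)) : ↥(Subgroup.centralizer ({z} : Set ↥M24))) :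
      ↥M24) = z
    rw [← h, f.symm_apply_apply, MulEquiv.symm_apply_apply]
  obtain ⟨hX, hcard, -, hC, hN, hzQ, K, hK, hQK, hsup, ⟨eK⟩⟩ :=
    Par.conclusion (by norm_num : 1 ≤ 3) _ e z hez rfl Q hQ
  have hEQ : octFixSub o ≤ Q := hQ ▸ octFixSub_le_pCore hfix hzE hz1
  refine ⟨hX, by simpa using hcard, ⟨octFixSub o, hEQ, elementary_octFixSub hfix,
    by rw [natCard_octFixSub hfix]; norm_num⟩, ?_, K, hK, hQK, hsup, ⟨eK.trans ?_⟩⟩
  · obtain ⟨y, -, -, hy⟩ := exists_centerIn_gen hX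
    have hyz : z = y := (hy z hzQ).resolve_left hz1
    obtain ⟨b, hb, hb1, hbz⟩ : ∃ b ∈ octFixSub o, b ≠ 1 ∧ b ≠ z := by
      by_contra h
      push Not at h
      have hsub : (octFixSub o : Set ↥M24) ⊆ {1, z} := fun b hb => by
        rcases em (b = 1) with h1 | h1
        · exact Or.inl h1
        · exact Or.inr (h b hb h1)
      have := Set.ncard_le_ncard hsub (Set.toFinite _)
      rw [← Nat.card_coe_set_eq, Set.ncard_pair hz1.symm] at this
      exact absurd ((natCard_octFixSub hfix).symm.le.trans this) (by norm_num)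
    refine isLarge_of_mem_pCore_centralizer hX hC hN (hEQ hb)
      (fun h => (hy b h).elim hb1 fun h' => hbz (h'.trans hyz.symm))
      (orderOf_eq_prime ((elementary_octFixSub hfix).2 b hb) hb1) fun x hx => ?_
    rcases hy x hx with rfl | rfl
    · exact one_mem _
    · exact hyz ▸ octFixSub_le_pCore hfix hb hb1 hzE
  · exact (MulEquiv.ofBijective Matrix.SpecialLinearGroup.toGL
      ⟨Matrix.SpecialLinearGroup.toGL_injective, fun g => ⟨⟨g.1,
        TwistF2.z2_ne _ g.det_ne_zero⟩, Units.ext rfl⟩⟩).symm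

theorem exists_invol_transvection_centralizer (s : SL5)
    (hs : (s : Matrix (Fin 5) (Fin 5) (ZMod 2)) = Matrix.transvection 0 1 1) :
    ∃ z : ↥M24, orderOf z = 2 ∧ Nonempty (↥(Subgroup.centralizer ({z} : Set ↥M24)) ≃*
      ↥(Subgroup.centralizer ({s} : Set SL5))) := by
  obtain ⟨o, ho⟩ : ∃ o, o ∈ octads := ⟨_, octI.mem 0 (by decide +kernel)⟩
  haveI : Nontrivial ↥(octFixSub o) :=
    Finite.one_lt_card_iff_nontrivial.1 (by rw [natCard_octFixSub ho]; norm_num)
  obtain ⟨⟨z, hzE⟩, hz⟩ := exists_ne (1 : ↥(octFixSub o))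
  have hz1 : z ≠ 1 := fun h => hz (Subtype.ext h)
  haveI : Fact (Nat.Prime 2) := ⟨Nat.prime_two⟩
  refine ⟨z, orderOf_eq_prime ((elementary_octFixSub ho).2 z hzE) hz1, ?_⟩
  have hz1' : (z : Equiv.Perm GolayPt) ≠ 1 := fun h => hz1 (Subtype.ext h)
  obtain ⟨f, -⟩ := octad_invol_iso ho hzE hz1' (fix_iff_of_fixM24 ho hzE hz1') s hs
  exact ⟨(cenEquiv z).trans f⟩

end CfsgLib.Spor
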