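import Cfsg.Agent.Lib.Spor.OctadFix
import Cfsg.Agent.Lib.Spor.Classes
import Cfsg.Agent.Lib.Involutions.Basic

/-!
The pointwise stabiliser of an octad in M24 is self-centralizing.
-/

set_option autoImplicit false

namespace CfsgLib.Spor

open Cfsg
open scoped Pointwise

/-- the pointwise stabiliser of a set in M24 -/
def fixM24 (o : Finset GolayPt) : Subgroup (Equiv.Perm GolayPt) :=
  M24 ⊓ fixingSubgroup (Equiv.Perm GolayPt) (o : Set GolayPt)

theorem mem_fixM24 {o : Finset GolayPt} {g : Equiv.Perm GolayPt} :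
    g ∈ fixM24 o ↔ g ∈ M24 ∧ ∀ p ∈ o, g p = p := by
  simp [fixM24, mem_fixingSubgroup_iff]

theorem fixM24_comm {o : Finset GolayPt} (ho : o ∈ octads) {g h : Equiv.Perm GolayPt}
    (hg : g ∈ fixM24 o) (hh : h ∈ fixM24 o) : g * h = h * g := by
  have hsq : ∀ k ∈ fixM24 o, k * k = 1 := (octad_pointwise_stabilizer ho).2
  have h1 := hsq _ (Subgroup.mul_mem _ hg hh)
  calc g * h = g * (g * h * (g * h)) * h := by rw [h1, mul_one]
    _ = (g * g) * (h * g) * (h * h) := by simp only [mul_assoc]
    _ = h * g := by rw [hsq _ hg, hsq _ hh, one_mul, mul_one]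

theorem eq_one_of_fixM24_fix {o : Finset GolayPt} (ho : o ∈ octads) {g : Equiv.Perm GolayPt}
    (hg : g ∈ fixM24 o) {p : GolayPt} (hp : p ∉ o) (hfix : g p = p) : g = 1 := by
  obtain ⟨h1, h2⟩ := mem_fixM24.1 hg
  refine eq_one_of_nine_fixed h1 (insert p o) ?_ ?_
  · rw [Finset.card_insert_of_notMem hp, card_octad ho]
  · intro x hx
    rcases Finset.mem_insert.1 hx with rfl | hx
    · exact hfix
    · exact h2 x hx

theorem exists_fixM24_map {o : Finset GolayPt} (ho : o ∈ octads) {p q : GolayPt} (hp : p ∉ o)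
    (hq : q ∉ o) : ∃ g ∈ fixM24 o, g p = q := by
  classical
  haveI : Fintype (fixM24 o) := Fintype.ofFinite _
  have hout : ∀ g : fixM24 o, (g : Equiv.Perm GolayPt) p ∈ oᶜ := fun g => by
    rw [Finset.mem_compl]
    intro hmem
    exact hp (by
      have h := (mem_fixM24.1 g.2).2 _ hmem
      rw [(g : Equiv.Perm GolayPt).injective h] at hmem
      exact hmem)
  have himg : Finset.univ.image (fun g : fixM24 o => (g : Equiv.Perm GolayPt) p) = oᶜ := by
    refine Finset.eq_of_subset_of_card_le (fun x hx => ?_) ?_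
    · obtain ⟨g, -, rfl⟩ := Finset.mem_image.1 hx
      exact hout g
    · rw [Finset.card_image_of_injective, Finset.card_univ, ← Nat.card_eq_fintype_card,
        show Nat.card (fixM24 o) = 16 from (octad_pointwise_stabilizer ho).1,
        Finset.card_compl, card_golayPt, card_octad ho]
      intro g h e
      refine inv_mul_eq_one.1 (Subtype.ext (eq_one_of_fixM24_fix ho
        ((g⁻¹ * h : fixM24 o)).2 hp ?_))
      simp only [Subgroup.coe_mul, Subgroup.coe_inv, Equiv.Perm.mul_apply]
      rw [← (show (g : Equiv.Perm GolayPt) p = (h : Equiv.Perm GolayPt) p from e)]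
      simp
  have := Finset.mem_compl.2 hq
  rw [← himg, Finset.mem_image] at this
  obtain ⟨g, -, hg⟩ := this
  exact ⟨g, g.2, hg⟩

theorem mem_fixM24_of_commute {o : Finset GolayPt} (ho : o ∈ octads) {c : Equiv.Perm GolayPt}
    (hc : c ∈ M24) (hcomm : ∀ g ∈ fixM24 o, g * c = c * g) : c ∈ fixM24 o := by
  classical
  obtain ⟨p, hp⟩ : ∃ p, p ∉ o := by
    by_contra h
    push Not at h
    have := Finset.card_le_card (fun x _ => h x : (Finset.univ : Finset GolayPt) ⊆ o)
    rw [Finset.card_univ, card_golayPt, card_octad ho] at this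
    omega
  -- `c` leaves the octad invariant
  have hinv : ∀ x, x ∉ o → c x ∉ o := by
    intro x hx hmem
    obtain ⟨g, hg, hgx⟩ := exists_fixM24_map ho hx hp
    obtain ⟨y, hy⟩ : ∃ y, y ∉ o ∧ y ≠ x := by
      by_contra h
      push Not at h
      have := Finset.card_le_card (fun z hz => by
        rw [Finset.mem_compl] at hz; exact Finset.mem_singleton.2 (h z hz) : oᶜ ⊆ {x})
      rw [Finset.card_compl, card_golayPt, card_octad ho, Finset.card_singleton] at this
      omega
    obtain ⟨k, hk, hkx⟩ := exists_fixM24_map ho hx hy.1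
    have e : c (k x) = c x := by
      rw [← Equiv.Perm.mul_apply, ← hcomm k hk, Equiv.Perm.mul_apply,
        (mem_fixM24.1 hk).2 _ hmem]
    rw [hkx] at e
    exact hy.2 (c.injective e)
  obtain ⟨g, hg, hgp⟩ := exists_fixM24_map ho hp (hinv p hp)
  have hd : g⁻¹ * c = 1 := by
    refine eq_one_of_nine_fixed (Subgroup.mul_mem _ (Subgroup.inv_mem _ (mem_fixM24.1 hg).1) hc)
      oᶜ (by rw [Finset.card_compl, card_golayPt, card_octad ho]; norm_num) fun x hx => ?_
    rw [Finset.mem_compl] at hx
    obtain ⟨k, hk, rfl⟩ := exists_fixM24_map ho hp hx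
    rw [Equiv.Perm.mul_apply, ← Equiv.Perm.mul_apply c k, ← hcomm k hk, Equiv.Perm.mul_apply,
      ← hgp, ← Equiv.Perm.mul_apply k g, fixM24_comm ho hk hg, Equiv.Perm.mul_apply]
    simp
  rw [inv_mul_eq_one] at hd
  exact hd ▸ hg

/-- An involution of a subgroup of M24 with eight fixed points has a constrained centralizer there,
if the subgroup contains the pointwise stabiliser of the fixed octad. -/
theorem constrained_of_fixed {H : Subgroup (Equiv.Perm GolayPt)} (hH : H ≤ M24) {z : H}
    (hz : orderOf z = 2) (h8 : ¬ ∀ p, (z : Equiv.Perm GolayPt) p ≠ p)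
    (hEH : fixM24 (Finset.univ.filter fun p => (z : Equiv.Perm GolayPt) p = p) ≤ H) :
    ∃ Q : Subgroup H, IsPGroup 2 Q ∧ Subgroup.centralizer (Q : Set H) ≤ Q ∧
      Q ≤ Subgroup.centralizer ({z} : Set H) ∧
      Subgroup.centralizer ({z} : Set H) ≤ Subgroup.normalizer (Q : Set H) := by
  classical
  have hzo : orderOf (z : Equiv.Perm GolayPt) = 2 := by rw [Subgroup.orderOf_coe, hz]
  set o := Finset.univ.filter (fun p => (z : Equiv.Perm GolayPt) p = p) with hodef
  have ho : o ∈ octads := invol_fix_octad (hH z.2) hzo h8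
  have hzE : (z : Equiv.Perm GolayPt) ∈ fixM24 o :=
    mem_fixM24.2 ⟨hH z.2, fun p hp => (Finset.mem_filter.1 hp).2⟩
  refine ⟨(fixM24 o).subgroupOf H, ?_, ?_, ?_, ?_⟩
  · exact IsPGroup.of_card (n := 4) (by
      rw [Nat.card_congr (Subgroup.subgroupOfEquivOfLe hEH).toEquiv]
      exact (octad_pointwise_stabilizer ho).1)
  · intro c hc
    rw [Subgroup.mem_subgroupOf]
    refine mem_fixM24_of_commute ho (hH c.2) fun g hg => ?_
    exact congrArg Subtype.val (Subgroup.mem_centralizer_iff.1 hc ⟨g, hEH hg⟩ hg)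
  · intro g hg
    rw [Subgroup.mem_centralizer_singleton_iff]
    exact Subtype.ext (fixM24_comm ho (Subgroup.mem_subgroupOf.1 hg) hzE)
  · intro c hc
    rw [Subgroup.mem_normalizer_iff]
    have hcz : (c : Equiv.Perm GolayPt) * z = z * c :=
      congrArg Subtype.val (Subgroup.mem_centralizer_singleton_iff.1 hc)
    have hmv : ∀ p, p ∈ o ↔ (c : Equiv.Perm GolayPt) p ∈ o := by
      intro p
      simp only [hodef, Finset.mem_filter, Finset.mem_univ, true_and]
      have h := DFunLike.congr_fun hcz p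
      simp only [Equiv.Perm.mul_apply] at h
      rw [← h]
      exact (EmbeddingLike.apply_eq_iff_eq _).symm
    intro g
    simp only [SetLike.mem_coe, Subgroup.mem_subgroupOf, mem_fixM24, Subgroup.coe_mul,
      Subgroup.coe_inv, Equiv.Perm.mul_apply]
    refine and_congr ?_ ⟨fun hfix p hp => ?_, fun hfix p hp => ?_⟩
    · rw [Subgroup.mul_mem_cancel_right _ (Subgroup.inv_mem _ (hH c.2)),
        Subgroup.mul_mem_cancel_left _ (hH c.2)]
    · rw [hfix _ ((hmv _).2 (by simpa using hp))]
      simp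
    · have := hfix _ ((hmv p).1 hp)
      simpa using this

end CfsgLib.Spor
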