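import Cfsg.Agent.Lib.Spor.OctadFix
import Cfsg.Agent.Lib.Spor.M24Points

/-!
The restriction of an octad stabiliser of M24 to the octad, and the complement fixing an outside
point.
-/

set_option autoImplicit false

namespace CfsgLib.Spor

open Cfsg
open scoped Pointwise

/-- the stabiliser of a set of points in `M24`, inside the symmetric group -/
abbrev octRStab (o : Finset GolayPt) : Subgroup (Equiv.Perm GolayPt) :=
  M24 ⊓ MulAction.stabilizer (Equiv.Perm GolayPt) o

theorem octStab_iff {o : Finset GolayPt} (g : octRStab o) (x : GolayPt) :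
    (g : Equiv.Perm GolayPt) x ∈ o ↔ x ∈ o := by
  have h : (g : Equiv.Perm GolayPt) • o = o := g.2.2
  have h2 := Finset.smul_mem_smul_finset_iff (g : Equiv.Perm GolayPt) (s := o) (b := x)
  rw [h] at h2
  exact h2

/-- restriction to the set -/
def octRes (o : Finset GolayPt) : octRStab o →* Equiv.Perm ↥o where
  toFun g := (g : Equiv.Perm GolayPt).subtypePerm (octStab_iff g)
  map_one' := Equiv.ext fun _ => rfl
  map_mul' _ _ := Equiv.ext fun _ => rfl

theorem octRes_eq_one {o : Finset GolayPt} {g : octRStab o} :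
    octRes o g = 1 ↔ ∀ p ∈ o, (g : Equiv.Perm GolayPt) p = p := by
  constructor
  · intro h p hp
    exact congrArg Subtype.val (DFunLike.congr_fun h ⟨p, hp⟩)
  · exact fun h => Equiv.ext fun p => Subtype.ext (h p p.2)

theorem natCard_octRStab {o : Finset GolayPt} (ho : o ∈ octads) :
    Nat.card (octRStab o) = 322560 := by
  rw [← natCard_stab_octad ho]
  exact Nat.card_congr ⟨fun g => ⟨⟨g.1, g.2.1⟩, g.2.2⟩, fun g => ⟨g.1.1, g.1.2, g.2⟩,
    fun _ => rfl, fun _ => rfl⟩

theorem natCard_octRes_ker {o : Finset GolayPt} (ho : o ∈ octads) :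
    Nat.card (octRes o).ker = 16 := by
  rw [← (octad_pointwise_stabilizer ho).1]
  refine Nat.card_congr ⟨fun g => ⟨g.1.1, g.1.2.1, (mem_fixingSubgroup_iff _).2
      (octRes_eq_one.1 g.2)⟩,
    fun g => ⟨⟨g.1, g.2.1, ?_⟩, octRes_eq_one.2 ((mem_fixingSubgroup_iff _).1 g.2.2)⟩,
    fun _ => rfl, fun _ => rfl⟩
  refine Finset.eq_of_subset_of_card_le (fun y hy => ?_) (le_of_eq (Finset.card_smul_finset _ _).symm)
  obtain ⟨x, hx, rfl⟩ := Finset.mem_smul_finset.1 hy
  rwa [(mem_fixingSubgroup_iff _).1 g.2.2 x hx]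

theorem octRes_range {o : Finset GolayPt} (ho : o ∈ octads) :
    (octRes o).range = alternatingGroup ↥o := by
  classical
  apply Equiv.Perm.eq_alternatingGroup_of_index_eq_two
  have h1 := Subgroup.card_mul_index (octRes o).ker
  rw [Subgroup.index_ker, natCard_octRes_ker ho, natCard_octRStab ho] at h1
  have h2 := Subgroup.card_mul_index (octRes o).range
  have h3 : Nat.card (Equiv.Perm ↥o) = 40320 := by
    rw [Nat.card_eq_fintype_card, Fintype.card_perm, Fintype.card_coe, ho.2]; rfl
  rw [h3, show Nat.card (octRes o).range = 20160 by omega] at h2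
  omega

/-- the pointwise stabiliser of an octad is transitive on the sixteen other points -/
theorem exists_octadFix_map {o : Finset GolayPt} (ho : o ∈ octads) {p q : GolayPt} (hp : p ∉ o)
    (hq : q ∉ o) :
    ∃ k ∈ M24 ⊓ fixingSubgroup (Equiv.Perm GolayPt) (o : Set GolayPt), k p = q := by
  classical
  set K := M24 ⊓ fixingSubgroup (Equiv.Perm GolayPt) (o : Set GolayPt) with hK
  let f : K → {x // x ∈ oᶜ} := fun k => ⟨(k : Equiv.Perm GolayPt) p, Finset.mem_compl.2 fun h => hp <| by
    have he := (mem_fixingSubgroup_iff _).1 k.2.2 _ h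
    rw [Equiv.Perm.smul_def] at he
    rwa [(k : Equiv.Perm GolayPt).injective he] at h⟩
  have hinj : Function.Injective f := by
    intro k l h
    have h' : (k : Equiv.Perm GolayPt) p = (l : Equiv.Perm GolayPt) p := congrArg Subtype.val h
    have hone : ((l⁻¹ * k : K) : Equiv.Perm GolayPt) = 1 := by
      refine eq_one_of_nine_fixed (l⁻¹ * k).2.1 (insert p o)
        (by rw [Finset.card_insert_of_notMem hp, ho.2]) fun x hx => ?_
      rcases Finset.mem_insert.1 hx with rfl | hx
      · simp [h']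
      · exact (mem_fixingSubgroup_iff _).1 (l⁻¹ * k).2.2 x hx
    exact (inv_mul_eq_one.1 (Subtype.ext hone)).symm
  have hb := (Nat.bijective_iff_injective_and_card f).2 ⟨hinj, by
    rw [(octad_pointwise_stabilizer ho).1, Nat.card_eq_fintype_card, Fintype.card_coe,
      Finset.card_compl, ho.2, card_golayPt]⟩
  obtain ⟨k, hk⟩ := hb.2 ⟨q, Finset.mem_compl.2 hq⟩
  exact ⟨k, k.2, congrArg Subtype.val hk⟩

/-- the complement to the pointwise stabiliser -/
theorem octad_complement {o : Finset GolayPt} (ho : o ∈ octads) {p : GolayPt} (hp : p ∉ o) :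
    (M24 ⊓ fixingSubgroup (Equiv.Perm GolayPt) (o : Set GolayPt)) ⊓
        (octRStab o ⊓ MulAction.stabilizer (Equiv.Perm GolayPt) p) = ⊥ ∧
      (M24 ⊓ fixingSubgroup (Equiv.Perm GolayPt) (o : Set GolayPt)) ⊔
        (octRStab o ⊓ MulAction.stabilizer (Equiv.Perm GolayPt) p) = octRStab o ∧
      Nonempty (↥(octRStab o ⊓ MulAction.stabilizer (Equiv.Perm GolayPt) p) ≃*
        alternatingGroup (Fin 8)) := by
  classical
  set K := M24 ⊓ fixingSubgroup (Equiv.Perm GolayPt) (o : Set GolayPt) with hK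
  set L := octRStab o ⊓ MulAction.stabilizer (Equiv.Perm GolayPt) p with hL
  have hKH : K ≤ octRStab o := by
    rintro g ⟨hg, hf⟩
    refine ⟨hg, Finset.eq_of_subset_of_card_le (fun y hy => ?_)
      (le_of_eq (Finset.card_smul_finset _ _).symm)⟩
    obtain ⟨x, hx, rfl⟩ := Finset.mem_smul_finset.1 hy
    rwa [(mem_fixingSubgroup_iff _).1 hf x hx]
  have hsplit : ∀ g ∈ octRStab o, ∃ k ∈ K, k⁻¹ * g ∈ L := by
    intro g hg
    obtain ⟨k, hk, he⟩ := exists_octadFix_map ho hp (q := g p)
      fun h => hp ((octStab_iff ⟨g, hg⟩ p).1 h)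
    refine ⟨k, hk, (octRStab o).mul_mem ((octRStab o).inv_mem (hKH hk)) hg, ?_⟩
    show (k⁻¹ * g) • p = p
    rw [Equiv.Perm.smul_def, Equiv.Perm.mul_apply, ← he]
    exact k.symm_apply_apply p
  have hbot : ∀ g ∈ K, g ∈ L → g = 1 := fun g hgK hgL => by
    refine eq_one_of_nine_fixed hgK.1 (insert p o)
      (by rw [Finset.card_insert_of_notMem hp, ho.2]) fun x hx => ?_
    rcases Finset.mem_insert.1 hx with rfl | hx
    · exact hgL.2
    · exact (mem_fixingSubgroup_iff _).1 hgK.2 x hx
  refine ⟨eq_bot_iff.2 fun g hg => hbot g hg.1 hg.2, le_antisymm (sup_le hKH inf_le_left) ?_, ?_⟩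
  · intro g hg
    obtain ⟨k, hk, hl⟩ := hsplit g hg
    simpa using mul_mem (Subgroup.mem_sup_left (T := L) hk) (Subgroup.mem_sup_right (S := K) hl)
  · let φ : L →* Equiv.Perm ↥o := (octRes o).comp (Subgroup.inclusion inf_le_left)
    have hinj : Function.Injective φ := by
      rw [injective_iff_map_eq_one]
      intro g hg
      exact Subtype.ext (hbot g ⟨g.2.1.1, (mem_fixingSubgroup_iff _).2 (octRes_eq_one.1 hg)⟩ g.2)
    have hrange : φ.range = alternatingGroup ↥o := by
      rw [← octRes_range ho]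
      refine le_antisymm ?_ ?_
      · rintro _ ⟨g, rfl⟩; exact ⟨_, rfl⟩
      · rintro _ ⟨g, rfl⟩
        obtain ⟨k, hk, hl⟩ := hsplit g g.2
        refine ⟨⟨_, hl⟩, ?_⟩
        show octRes o ((⟨k, hKH hk⟩ : octRStab o)⁻¹ * g) = octRes o g
        rw [map_mul, map_inv, octRes_eq_one.2 ((mem_fixingSubgroup_iff _).1 hk.2 :
          ∀ x ∈ o, k x = x), inv_one, one_mul]
    exact ⟨((MonoidHom.ofInjective hinj).trans (MulEquiv.subgroupCongr hrange)).trans
      (Equiv.altCongrHom (o.equivFinOfCardEq ho.2))⟩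

end CfsgLib.Spor
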