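import Cfsg.Agent.Lib.Spor.OrbitDuum

/-!
Passing from a base object to an arbitrary object of a transitive kind.
-/

set_option autoImplicit false

namespace CfsgLib.Spor

open Cfsg
open scoped Pointwise

section
variable {G Y : Type*} [Group G] [MulAction G Y] {H : Subgroup G} {T : Set Y} {ys : List Y}

theorem HasOrbits.three {a b c : ℕ} (h : HasOrbits H T ys [a, b, c]) :
    ∃ x ∈ T, ∃ y ∈ T, ∃ z ∈ T, (MulAction.orbit H x).ncard = a ∧
      (MulAction.orbit H y).ncard = b ∧ (MulAction.orbit H z).ncard = c ∧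
      T = MulAction.orbit H x ∪ MulAction.orbit H y ∪ MulAction.orbit H z := by
  obtain ⟨h1, h2, h3⟩ := h
  match ys, h1 with
  | [x, y, z], h1 =>
    simp only [List.map_cons, List.map_nil, List.cons.injEq, and_true] at h1
    refine ⟨x, h2 x (by simp), y, h2 y (by simp), z, h2 z (by simp), h1.1, h1.2.1, h1.2.2, ?_⟩
    refine h3.trans ?_
    ext w
    simp [or_assoc]

theorem HasOrbits.four {a b c d : ℕ} (h : HasOrbits H T ys [a, b, c, d]) :
    ∃ x ∈ T, ∃ y ∈ T, ∃ z ∈ T, ∃ u ∈ T, (MulAction.orbit H x).ncard = a ∧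
      (MulAction.orbit H y).ncard = b ∧ (MulAction.orbit H z).ncard = c ∧
      (MulAction.orbit H u).ncard = d ∧
      T = MulAction.orbit H x ∪ MulAction.orbit H y ∪ MulAction.orbit H z ∪
        MulAction.orbit H u := by
  obtain ⟨h1, h2, h3⟩ := h
  match ys, h1 with
  | [x, y, z, u], h1 =>
    simp only [List.map_cons, List.map_nil, List.cons.injEq, and_true] at h1
    refine ⟨x, h2 x (by simp), y, h2 y (by simp), z, h2 z (by simp), u, h2 u (by simp),
      h1.1, h1.2.1, h1.2.2.1, h1.2.2.2, ?_⟩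
    refine h3.trans ?_
    ext w
    simp [or_assoc]

theorem orbit_self_stabilizer (x : Y) :
    MulAction.orbit (MulAction.stabilizer G x) x = {x} := by
  ext y
  constructor
  · rintro ⟨⟨g, hg⟩, rfl⟩; exact hg
  · rintro rfl; exact MulAction.mem_orbit_self _

theorem HasOrbits.self_three {x : Y} {n a b c : ℕ}
    (h : HasOrbits (MulAction.stabilizer G x) T (x :: ys) [n, a, b, c]) :
    ∃ u ∈ T, ∃ v ∈ T, ∃ w ∈ T, (MulAction.orbit (MulAction.stabilizer G x) u).ncard = a ∧
      (MulAction.orbit (MulAction.stabilizer G x) v).ncard = b ∧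
      (MulAction.orbit (MulAction.stabilizer G x) w).ncard = c ∧
      T = {x} ∪ MulAction.orbit (MulAction.stabilizer G x) u ∪
        MulAction.orbit (MulAction.stabilizer G x) v ∪
        MulAction.orbit (MulAction.stabilizer G x) w := by
  obtain ⟨h1, h2, h3⟩ := h
  match ys, h1 with
  | [u, v, w], h1 =>
    simp only [List.map_cons, List.map_nil, List.cons.injEq, and_true] at h1
    refine ⟨u, h2 u (by simp), v, h2 v (by simp), w, h2 w (by simp), h1.2.1, h1.2.2.1, h1.2.2.2, ?_⟩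
    refine h3.trans ?_
    ext z
    simp [or_assoc, orbit_self_stabilizer]

theorem HasOrbits.self_four {x : Y} {n a b c d : ℕ}
    (h : HasOrbits (MulAction.stabilizer G x) T (x :: ys) [n, a, b, c, d]) :
    ∃ u ∈ T, ∃ v ∈ T, ∃ w ∈ T, ∃ r ∈ T, (MulAction.orbit (MulAction.stabilizer G x) u).ncard = a ∧
      (MulAction.orbit (MulAction.stabilizer G x) v).ncard = b ∧
      (MulAction.orbit (MulAction.stabilizer G x) w).ncard = c ∧
      (MulAction.orbit (MulAction.stabilizer G x) r).ncard = d ∧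
      T = {x} ∪ MulAction.orbit (MulAction.stabilizer G x) u ∪
        MulAction.orbit (MulAction.stabilizer G x) v ∪
        MulAction.orbit (MulAction.stabilizer G x) w ∪
        MulAction.orbit (MulAction.stabilizer G x) r := by
  obtain ⟨h1, h2, h3⟩ := h
  match ys, h1 with
  | [u, v, w, r], h1 =>
    simp only [List.map_cons, List.map_nil, List.cons.injEq, and_true] at h1
    refine ⟨u, h2 u (by simp), v, h2 v (by simp), w, h2 w (by simp), r, h2 r (by simp),
      h1.2.1, h1.2.2.1, h1.2.2.2.1, h1.2.2.2.2, ?_⟩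
    refine h3.trans ?_
    ext z
    simp [or_assoc, orbit_self_stabilizer]

theorem isCoatom_stabilizer_smul {x : Y} (h : IsCoatom (MulAction.stabilizer G x)) (g : G) :
    IsCoatom (MulAction.stabilizer G (g • x)) := by
  rw [MulAction.stabilizer_smul_eq_stabilizer_map_conj]
  exact ((MulAut.conj g).mapSubgroup.isCoatom_iff _).2 h

end

section
variable {X Y : Type} [MulAction (Equiv.Perm GolayPt) X] [MulAction (Equiv.Perm GolayPt) Y]
variable {S : Set X} {T : Set Y}

/-- orbits of any stabiliser of one kind on another kind -/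
theorem Kind.exists_hasOrbits (K₁ : Kind S) (K : Kind T) {gt : List ℕ}
    {ct : List (ℕ × List (ℕ × ℕ × ℕ))} (ht : K₁.splitOK [] gt ct = true) {i0 : ℕ}
    (hi0 : i0 < K₁.ix.n) {L : List (List ℕ)} (hL : L = [K₁.parts i0]) {gens : List ℕ}
    {cls : List (ℕ × List (ℕ × ℕ × ℕ))} (h : K.splitOK L gens cls = true) {ns : List ℕ}
    (hns : (cls.map fun c =>
      (classList K.ix.n fun i => decide (K.invsIx L i = K.invsIx L c.1)).length) = ns)
    {x : X} (hx : x ∈ S) :
    ∃ ys, HasOrbits (MulAction.stabilizer ↥M24 x) T ys ns := by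
  obtain ⟨g, rfl⟩ := K₁.exists_trans ht (K₁.ix.mem i0 hi0) hx
  subst hL
  exact ⟨_, (K.hasOrbits h (K₁.mem_stab_iff hi0) hns).transfer g (K.smul_set_eq g)⟩

/-- suborbits and maximality of any stabiliser -/
theorem Kind.exists_self (K : Kind S) {gt : List ℕ} {ct : List (ℕ × List (ℕ × ℕ × ℕ))}
    (ht : K.splitOK [] gt ct = true) {i0 : ℕ} (hi0 : i0 < K.ix.n) {L : List (List ℕ)}
    (hmem : ∀ g : ↥M24, g ∈ MulAction.stabilizer ↥M24 (K.ix.sem i0) ↔
      (g : Equiv.Perm GolayPt) ∈ famStab L) {gens : List ℕ}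
    {cls : List (ℕ × List (ℕ × ℕ × ℕ))} (h : K.splitOK L gens cls = true)
    {up : List ((ℕ × ℕ) × List (ℕ × ℕ × ℕ))} (hup : K.maxOK L gens i0 cls up = true)
    {ns : List ℕ} (hns : (cls.map fun c =>
      (classList K.ix.n fun i => decide (K.invsIx L i = K.invsIx L c.1)).length) = ns)
    {x : X} (hx : x ∈ S) :
    IsCoatom (MulAction.stabilizer ↥M24 x) ∧
      ∃ ys, HasOrbits (MulAction.stabilizer ↥M24 x) S (x :: ys) ns := by
  obtain ⟨g, rfl⟩ := K.exists_trans ht (K.ix.mem i0 hi0) hx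
  refine ⟨isCoatom_stabilizer_smul (K.isCoatom_stab hi0 h hmem hup) g, ?_⟩
  have hhead : cls.headI.1 = i0 ∧ cls.length = up.length + 1 := by
    simp only [Kind.maxOK, Bool.and_eq_true, Nat.beq_eq] at hup
    exact ⟨hup.1.1.2, hup.1.1.1.2⟩
  have H := (K.hasOrbits h hmem hns).transfer g (K.smul_set_eq g)
  cases cls with
  | nil => simp at hhead
  | cons c r =>
    simp only [List.headI_cons] at hhead
    refine ⟨(r.map fun c => K.ix.sem c.1).map (g • ·), ?_⟩
    simpa [hhead.1] using H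

/-- equal meeting numbers give a joint map -/
theorem Kind.exists_map_fix (K₁ : Kind S) (K : Kind T) {gt : List ℕ}
    {ct : List (ℕ × List (ℕ × ℕ × ℕ))} (ht : K₁.splitOK [] gt ct = true) {i0 : ℕ}
    (hi0 : i0 < K₁.ix.n) {L : List (List ℕ)} (hL : L = [K₁.parts i0]) {gens : List ℕ}
    {cls : List (ℕ × List (ℕ × ℕ × ℕ))} (h : K.splitOK L gens cls = true) {x : X} (hx : x ∈ S)
    {y z : Y} (hy : y ∈ T) (hz : z ∈ T)
    (e : famInv (K₁.fam x) (K.fam y) = famInv (K₁.fam x) (K.fam z)) :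
    ∃ g ∈ M24, g • x = x ∧ g • y = z := by
  obtain ⟨⟨g, hg⟩, hgx⟩ := K₁.exists_trans ht (K₁.ix.mem i0 hi0) hx
  change g • K₁.ix.sem i0 = x at hgx
  subst hgx
  subst hL
  have key : ∀ w, famInv (K₁.fam (g • K₁.ix.sem i0)) (K.fam w) =
      famInv (toFam (K₁.parts i0)) (K.fam (g⁻¹ • w)) := fun w => by
    rw [K₁.fam_smul, K.fam_smul, ← famInv_smul g⁻¹, inv_smul_smul, K₁.fam_eq i0 hi0]
  rw [key, key] at e
  obtain ⟨m, hm, hme⟩ := K.exists_map h (K.smul_mem _ (inv_mem hg) _ hy)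
    (K.smul_mem _ (inv_mem hg) _ hz) (by simp only [Kind.invs, List.map_cons, List.map_nil, e])
  have hfix : (⟨m, hm.1⟩ : ↥M24) ∈ MulAction.stabilizer ↥M24 (K₁.ix.sem i0) :=
    (K₁.mem_stab_iff hi0 _).2 hm
  refine ⟨g * m * g⁻¹, mul_mem (mul_mem hg hm.1) (inv_mem hg), ?_, ?_⟩
  · rw [mul_smul, mul_smul, inv_smul_smul]
    exact congrArg (g • ·) (show m • K₁.ix.sem i0 = _ from hfix)
  · rw [mul_smul, mul_smul, hme, smul_inv_smul]

theorem famInv_single (a b : Finset GolayPt) : famInv {a} {b} = 64 ^ (a ∩ b).card := by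
  simp [famInv]

/-- translating a counting set -/
theorem ncard_setOf_smul {g : Equiv.Perm GolayPt} (hg : g ∈ M24) (K : Kind T) {P Q : Y → Prop}
    (hPQ : ∀ y, P (g • y) ↔ Q y) :
    {y | y ∈ T ∧ P y}.ncard = {y | y ∈ T ∧ Q y}.ncard := by
  have : {y | y ∈ T ∧ P y} = g • {y | y ∈ T ∧ Q y} := by
    ext y
    rw [Set.mem_smul_set_iff_inv_smul_mem]
    constructor
    · rintro ⟨h1, h2⟩
      exact ⟨K.smul_mem _ (inv_mem hg) _ h1, (hPQ _).1 (by rwa [smul_inv_smul])⟩
    · rintro ⟨h1, h2⟩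
      refine ⟨?_, ?_⟩
      · have := K.smul_mem _ hg _ h1
        rwa [smul_inv_smul] at this
      · have := (hPQ _).2 h2
        rwa [smul_inv_smul] at this
  rw [this, Set.ncard_smul_set]

end

end CfsgLib.Spor
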