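import Cfsg.Agent.Lib.Spor.OrbitApply

/-!
Meets of dodecads, and of tetrads of sextets with triples.
-/

set_option autoImplicit false
set_option maxRecDepth 100000

namespace CfsgLib.Spor

open Cfsg
open scoped Pointwise

/-- number of dodecads meeting the first one in `k` points -/
def dodMeetCls (k : ℕ) : List ℕ :=
  classList 2576 fun i => decide (pop (getT 24 dodTbl 0 &&& getT 24 dodTbl i) = k)

theorem dodMeet_sizes : [4, 6, 8].map (fun k => (dodMeetCls k).length) = [495, 1584, 495] := by
  decide +kernel

theorem dodMeet_values : ((List.range 2576).all fun i =>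
    decide (i = 0) || [0, 4, 6, 8].contains (pop (getT 24 dodTbl 0 &&& getT 24 dodTbl i))) = true := by
  decide +kernel

theorem dodSem_meet (i : ℕ) : (dodK.ix.sem 0 ∩ dodK.ix.sem i).card =
    pop (getT 24 dodTbl 0 &&& getT 24 dodTbl i) := by
  show (toSet _ ∩ toSet _).card = _
  rw [← toSet_and, card_toSet]

theorem ncard_dodMeet (k : ℕ) : {y | y ∈ dodecads ∧ (dodK.ix.sem 0 ∩ y).card = k}.ncard =
    (dodMeetCls k).length :=
  dodK.ix.ncard_setOf (P := fun y => (dodK.ix.sem 0 ∩ y).card = k) fun i _ => by
    rw [decide_eq_true_eq, dodSem_meet]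

theorem smul_inter_card (g : Equiv.Perm GolayPt) (a b : Finset GolayPt) :
    ((g • a) ∩ (g • b)).card = (a ∩ b).card := by
  rw [← Finset.smul_finset_inter, Finset.card_smul_finset]

/-- the tetrads of a sextet meeting a set -/
def meetCount (S : Finset (Finset GolayPt)) (Y : Finset GolayPt) : ℕ :=
  (S.filter fun t => (t ∩ Y).Nonempty).card

theorem meetCount_smul (g : Equiv.Perm GolayPt) (S : Finset (Finset GolayPt))
    (Y : Finset GolayPt) : meetCount (g • S) (g • Y) = meetCount S Y := by
  show ((S.image (g • ·)).filter fun t => (t ∩ g • Y).Nonempty).card = _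
  rw [Finset.filter_image, Finset.card_image_of_injective _ (MulAction.injective g), meetCount]
  refine congrArg Finset.card (Finset.filter_congr fun t _ => ?_)
  rw [← Finset.smul_finset_inter, Finset.smul_finset_nonempty]

/-- computed count of meeting tetrads -/
def meetL (P : List ℕ) (m : ℕ) : ℕ := (P.filter fun a => decide (0 < pop (a &&& m))).length

theorem meetCount_toFam {P : List ℕ} (h : partsOK P = true) (m : ℕ) :
    meetCount (toFam P) (toSet m) = meetL P m := by
  have hn := map_toSet_nodup h
  have he : ((P.map toSet).toFinset.filter fun t => (t ∩ toSet m).Nonempty) =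
      ((P.map toSet).filter fun t => decide (t ∩ toSet m).Nonempty).toFinset := by
    ext t; simp
  rw [meetCount, toFam, he, List.toFinset_card_of_nodup (hn.filter _),
    List.filter_map, List.length_map, meetL]
  refine congrArg List.length (List.filter_congr fun a _ => ?_)
  simp [← toSet_and, ← Finset.card_pos, card_toSet]

theorem meetL_invs : ((List.range 1771).all fun i =>
    let k := meetL (sextetParts (getT 144 sexTbl i)) (getT 24 tripleTbl 0)
    [1, 2, 3].contains k && Nat.beq (invL [getT 24 tripleTbl 0] (sextetParts (getT 144 sexTbl i)))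
      (if k = 1 then 262149 else if k = 2 then 4164 else 195)) = true := by
  decide +kernel

/-- number of sextets with given count -/
def sexMeetCls (k : ℕ) : List ℕ :=
  classList 1771 fun i =>
    decide (meetL (sextetParts (getT 144 sexTbl i)) (getT 24 tripleTbl 0) = k)

theorem sexMeet_sizes : [1, 2, 3].map (fun k => (sexMeetCls k).length) = [21, 630, 1120] := by
  decide +kernel

theorem meetCount_sem {i : ℕ} (hi : i < 1771) :
    meetCount (sexK.ix.sem i) (tripleK.ix.sem 0) =
      meetL (sextetParts (getT 144 sexTbl i)) (getT 24 tripleTbl 0) := by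
  have h : sexK.ix.sem i = toFam (sexK.parts i) := sexK.fam_eq i hi
  rw [h]
  exact meetCount_toFam (List.all_eq_true.1 sexParts_ok i (List.mem_range.2 hi)) _

theorem ncard_sexMeet (k : ℕ) : {S | S ∈ sextets ∧ meetCount S (tripleK.ix.sem 0) = k}.ncard =
    (sexMeetCls k).length :=
  sexK.ix.ncard_setOf (P := fun S => meetCount S (tripleK.ix.sem 0) = k) fun i hi => by
    rw [decide_eq_true_eq, meetCount_sem hi]

/-- the meeting numbers are determined by the count -/
theorem famInv_eq_of_meetCount {S S' : Finset (Finset GolayPt)} (hS : S ∈ sextets)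
    (hS' : S' ∈ sextets)
    (h : meetCount S (tripleK.ix.sem 0) = meetCount S' (tripleK.ix.sem 0)) :
    famInv {tripleK.ix.sem 0} S = famInv {tripleK.ix.sem 0} S' := by
  obtain ⟨i, hi, rfl⟩ := sexK.ix.complete S hS
  obtain ⟨j, hj, rfl⟩ := sexK.ix.complete S' hS'
  rw [meetCount_sem hi, meetCount_sem hj] at h
  have key : ∀ l < 1771, famInv {tripleK.ix.sem 0} (sexK.ix.sem l) =
      (if meetL (sextetParts (getT 144 sexTbl l)) (getT 24 tripleTbl 0) = 1 then 262149
        else if meetL (sextetParts (getT 144 sexTbl l)) (getT 24 tripleTbl 0) = 2 then 4164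
        else 195) := fun l hl => by
    have h1 := List.all_eq_true.1 meetL_invs l (List.mem_range.2 hl)
    simp only [Bool.and_eq_true, Nat.beq_eq] at h1
    rw [← h1.2, ← famInv_toFam (partsOK_singleton (getT24_lt _ _))
      (List.all_eq_true.1 sexParts_ok l (List.mem_range.2 hl))]
    exact congrArg (famInv _) (sexK.fam_eq l hl)
  rw [key i hi, key j hj, h]

/-! ### Triples and the octads through them -/

/-- the octads through the first triple, as masks -/
def tripOcts : List ℕ :=
  octadList.filter fun o => decide (getT 24 tripleTbl 0 &&& o = getT 24 tripleTbl 0)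

theorem tripOcts_closed : ((List.range 759).all fun i =>
    decide (pop (getT 24 tripleTbl 0 &&& getT 24 octTbl i) = 3) ==
      tripOcts.contains (getT 24 octTbl i)) = true := by decide +kernel

theorem toSet_subset_toSet_iff {a b : ℕ} (h : pop a = 3) :
    toSet a ⊆ toSet b ↔ pop (a &&& b) = 3 := by
  rw [← h, ← card_toSet, ← card_toSet, toSet_and]
  constructor
  · intro hs; rw [Finset.inter_eq_left.2 hs]
  · intro he
    exact Finset.inter_eq_left.1 (Finset.eq_of_subset_of_card_le Finset.inter_subset_left he.ge)

theorem smul_toFam_tripOcts {g : Equiv.Perm GolayPt} (hg : g ∈ M24)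
    (h : g • tripleK.ix.sem 0 = tripleK.ix.sem 0) : g • toFam tripOcts = toFam tripOcts := by
  refine Finset.eq_of_subset_of_card_le ?_ (le_of_eq (Finset.card_smul_finset _ _).symm)
  intro x hx
  obtain ⟨y, hy, rfl⟩ := Finset.mem_smul_finset.1 hx
  obtain ⟨m, hm, rfl⟩ := List.mem_map.1 (List.mem_toFinset.1 hy)
  have hm' : m ∈ octadList := (List.mem_filter.1 hm).1
  rw [← octTbl_spec] at hm'
  obtain ⟨j, hj, rfl⟩ := List.mem_map.1 hm'
  rw [List.mem_range] at hj
  obtain ⟨i, hi, hie⟩ := octK.ix.complete _ (smul_octad_mem hg (octK.ix.mem j hj))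
  change toSet (getT 24 octTbl i) = g • toSet (getT 24 octTbl j) at hie
  have hj3 : decide (pop (getT 24 tripleTbl 0 &&& getT 24 octTbl j) = 3) = true := by
    have := List.all_eq_true.1 tripOcts_closed j (List.mem_range.2 hj)
    rw [List.contains_iff_mem.2 hm] at this
    simpa using this
  have hp : pop (getT 24 tripleTbl 0) = 3 := by decide +kernel
  have hsub := (toSet_subset_toSet_iff hp).2 (of_decide_eq_true hj3)
  have hsub' : toSet (getT 24 tripleTbl 0) ⊆ toSet (getT 24 octTbl i) := by
    rw [hie]
    have h2 := Finset.smul_finset_subset_smul_finset (a := g) hsub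
    calc toSet (getT 24 tripleTbl 0) = g • toSet (getT 24 tripleTbl 0) := h.symm
      _ ⊆ _ := h2
  have hi' := List.all_eq_true.1 tripOcts_closed i (List.mem_range.2 hi)
  rw [decide_eq_true ((toSet_subset_toSet_iff hp).1 hsub')] at hi'
  refine List.mem_toFinset.2 (List.mem_map.2 ⟨getT 24 octTbl i, ?_, hie⟩)
  simpa using hi'

theorem mem_triple_stab_iff (g : ↥M24) :
    g ∈ MulAction.stabilizer ↥M24 (tripleK.ix.sem 0) ↔
      (g : Equiv.Perm GolayPt) ∈ famStab [tripleK.parts 0, tripOcts] := by
  rw [tripleK.mem_stab_iff (by decide +kernel), mem_famStab, mem_famStab]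
  refine and_congr_right fun hg => ⟨fun h P hP => ?_, fun h P hP => h P ?_⟩
  · rcases List.mem_cons.1 hP with rfl | hP
    · exact h _ (List.mem_singleton_self _)
    · rw [List.mem_singleton.1 hP]
      refine smul_toFam_tripOcts hg (tripleK.fam_inj _ _ ?_)
      rw [tripleK.fam_smul, tripleK.fam_eq 0 (by decide +kernel)]
      exact h _ (List.mem_singleton_self _)
  · rw [List.mem_singleton.1 hP]; exact List.mem_cons_self

end CfsgLib.Spor
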