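import Cfsg.Agent.Lib.Spor.OrbitApply

/-!
Orbits of pointwise stabilisers of several sets of points, read off from the meets.
-/

set_option autoImplicit false
set_option maxRecDepth 100000

namespace CfsgLib.Spor

open Cfsg
open scoped Pointwise

/-- the singleton families of masks -/
def singles (ms : List ℕ) : List (List ℕ) := ms.map fun a => [a]

/-- meets with translated base sets -/
def meetsAt (g : Equiv.Perm GolayPt) (ms : List ℕ) (x : Finset GolayPt) : List ℕ :=
  ms.map fun a => ((g • toSet a) ∩ x).card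

theorem singleton_smul_iff (g : Equiv.Perm GolayPt) (a : Finset GolayPt) :
    g • ({a} : Finset (Finset GolayPt)) = {a} ↔ g • a = a := by
  rw [Finset.smul_finset_singleton, Finset.singleton_inj]

theorem smul_pt_singleton (g : Equiv.Perm GolayPt) (p : GolayPt) :
    g • ({p} : Finset GolayPt) = {g p} := by
  rw [Finset.smul_finset_singleton]; rfl

theorem smul_pt_eq_iff (g : Equiv.Perm GolayPt) (p : GolayPt) :
    g • ({p} : Finset GolayPt) = {p} ↔ g p = p := by
  rw [smul_pt_singleton, Finset.singleton_inj]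

theorem card_pt_inter (p : GolayPt) (x : Finset GolayPt) :
    (({p} : Finset GolayPt) ∩ x).card = if p ∈ x then 1 else 0 := by
  split_ifs with h
  · rw [Finset.singleton_inter_of_mem h, Finset.card_singleton]
  · rw [Finset.singleton_inter_of_notMem h, Finset.card_empty]

variable {X : Type} [MulAction (Equiv.Perm GolayPt) X] {S : Set X}

theorem Kind.invs_singles (K : Kind S) {mk : X → Finset GolayPt} (hmk : ∀ x, K.fam x = {mk x})
    (ms : List ℕ) (x : X) :
    K.invs (singles ms) x = ms.map fun a => 64 ^ ((toSet a) ∩ mk x).card := by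
  rw [Kind.invs, singles, List.map_map]
  refine List.map_congr_left fun a _ => ?_
  show famInv {toSet a} (K.fam x) = _
  rw [hmk, famInv_single]

theorem Kind.mk_smul (K : Kind S) {mk : X → Finset GolayPt} (hmk : ∀ x, K.fam x = {mk x})
    (g : Equiv.Perm GolayPt) (x : X) : mk (g • x) = g • mk x := by
  have h := K.fam_smul g x
  rw [hmk, hmk, Finset.smul_finset_singleton, Finset.singleton_inj] at h
  exact h

theorem meetsAt_inv (g : Equiv.Perm GolayPt) (ms : List ℕ) (x : Finset GolayPt) :
    meetsAt g ms x = ms.map fun a => ((toSet a) ∩ (g⁻¹ • x)).card :=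
  List.map_congr_left fun a _ => by
    conv_lhs => rw [← smul_inv_smul g x, ← Finset.smul_finset_inter, Finset.card_smul_finset]

/-- the translated base sets, fixed, and one object moved to another with the same meets -/
theorem Kind.exists_map_meets (K : Kind S) {mk : X → Finset GolayPt}
    (hmk : ∀ x, K.fam x = {mk x}) {ms gens : List ℕ} {cls : List (ℕ × List (ℕ × ℕ × ℕ))}
    (h : K.splitOK (singles ms) gens cls = true) {g : Equiv.Perm GolayPt} (hg : g ∈ M24) {y z : X}
    (hy : y ∈ S) (hz : z ∈ S) (e : meetsAt g ms (mk y) = meetsAt g ms (mk z)) :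
    ∃ m ∈ M24, (∀ a ∈ ms, m • (g • toSet a) = g • toSet a) ∧ m • y = z := by
  obtain ⟨m, hm, hme⟩ := K.exists_map h (x := g⁻¹ • y) (y := g⁻¹ • z)
    (K.smul_mem _ (inv_mem hg) _ hy) (K.smul_mem _ (inv_mem hg) _ hz) (by
      rw [K.invs_singles hmk, K.invs_singles hmk, K.mk_smul hmk, K.mk_smul hmk]
      have h2 := congrArg (List.map (64 ^ ·)) e
      rw [meetsAt_inv, meetsAt_inv, List.map_map, List.map_map] at h2
      exact h2)
  refine ⟨g * m * g⁻¹, mul_mem (mul_mem hg hm.1) (inv_mem hg), fun a ha => ?_, ?_⟩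
  · rw [mul_smul, mul_smul, inv_smul_smul]
    refine congrArg (g • ·) ?_
    exact (singleton_smul_iff m _).1 (hm.2 [a] (List.mem_map_of_mem ha))
  · rw [mul_smul, mul_smul, hme, smul_inv_smul]

/-- extending a base by one more object -/
theorem Kind.exists_base_step (K : Kind S) {mk : X → Finset GolayPt}
    (hmk : ∀ x, K.fam x = {mk x}) {ms gens : List ℕ} {cls : List (ℕ × List (ℕ × ℕ × ℕ))}
    (h : K.splitOK (singles ms) gens cls = true) {g : Equiv.Perm GolayPt} (hg : g ∈ M24) {i : ℕ}
    (hi : i < K.ix.n) {b : ℕ} (hb : mk (K.ix.sem i) = toSet b) {y : X} (hy : y ∈ S)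
    (e : meetsAt g ms (mk y) = ms.map fun a => pop (a &&& b)) :
    ∃ g' ∈ M24, (∀ a ∈ ms, g' • toSet a = g • toSet a) ∧ g' • toSet b = mk y ∧
      g' • K.ix.sem i = y := by
  obtain ⟨m, hm, hfix, hme⟩ := K.exists_map_meets hmk h hg
    (K.smul_mem _ hg _ (K.ix.mem i hi)) hy (by
      rw [e, K.mk_smul hmk, hb]
      refine List.map_congr_left fun a _ => ?_
      rw [← Finset.smul_finset_inter, Finset.card_smul_finset, ← toSet_and, card_toSet])
  refine ⟨m * g, mul_mem hm hg, fun a ha => by rw [mul_smul, hfix a ha], ?_, by rw [mul_smul, hme]⟩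
  rw [mul_smul, ← hb, ← K.mk_smul hmk, ← K.mk_smul hmk, hme]

/-- the indices with the given meets -/
def meetCls (n : ℕ) (mask : ℕ → ℕ) (ms ks : List ℕ) : List ℕ :=
  classList n fun i => decide (ms.map (fun a => pop (a &&& mask i)) = ks)

theorem Kind.ncard_meets (K : Kind S) {mk : X → Finset GolayPt} (hmk : ∀ x, K.fam x = {mk x})
    {mask : ℕ → ℕ} (hmask : ∀ i < K.ix.n, mk (K.ix.sem i) = toSet (mask i)) (ms ks : List ℕ)
    {g : Equiv.Perm GolayPt} (hg : g ∈ M24) :
    {x | x ∈ S ∧ meetsAt g ms (mk x) = ks}.ncard = (meetCls K.ix.n mask ms ks).length := by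
  rw [ncard_setOf_smul hg K (Q := fun x => meetsAt 1 ms (mk x) = ks) (fun y => by
    rw [meetsAt_inv, meetsAt_inv, K.mk_smul hmk, inv_smul_smul, inv_one, one_smul])]
  refine K.ix.ncard_setOf (P := fun x => meetsAt 1 ms (mk x) = ks) fun i hi => ?_
  rw [decide_eq_true_eq, meetsAt_inv, inv_one, one_smul, hmask i hi]
  simp only [← toSet_and, card_toSet]

/-- orbits of a group fixing exactly the translated base sets -/
theorem Kind.orbit_eq_meets (K : Kind S) {mk : X → Finset GolayPt}
    (hmk : ∀ x, K.fam x = {mk x}) {ms gens : List ℕ} {cls : List (ℕ × List (ℕ × ℕ × ℕ))}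
    (h : K.splitOK (singles ms) gens cls = true) {g : Equiv.Perm GolayPt} (hg : g ∈ M24)
    {H : Subgroup ↥M24} (hH : ∀ m : ↥M24, m ∈ H ↔
      ∀ a ∈ ms, (m : Equiv.Perm GolayPt) • (g • toSet a) = g • toSet a) {y : X} (hy : y ∈ S) :
    MulAction.orbit H y = {z | z ∈ S ∧ meetsAt g ms (mk z) = meetsAt g ms (mk y)} := by
  ext z
  constructor
  · rintro ⟨⟨m, hm⟩, rfl⟩
    refine ⟨K.smul_mem _ m.2 _ hy, ?_⟩
    show meetsAt g ms (mk ((m : Equiv.Perm GolayPt) • y)) = _
    refine List.map_congr_left fun a ha => ?_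
    rw [K.mk_smul hmk]
    conv_lhs => rw [← (hH m).1 hm a ha, ← Finset.smul_finset_inter, Finset.card_smul_finset]
  · rintro ⟨hz, e⟩
    obtain ⟨m, hm, hfix, hme⟩ := K.exists_map_meets hmk h hg hy hz e.symm
    exact ⟨⟨⟨m, hm⟩, (hH _).2 hfix⟩, hme⟩

theorem ptK_fam (x : GolayPt) : ptK.fam x = {{x}} := rfl

theorem octK_fam (x : Finset GolayPt) : octK.fam x = {x} := rfl

theorem dodK_fam (x : Finset GolayPt) : dodK.fam x = {x} := rfl

theorem octK_mask (i : ℕ) (_ : i < octK.ix.n) : octK.ix.sem i = toSet (getT 24 octTbl i) := rfl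

theorem dodK_mask (i : ℕ) (_ : i < dodK.ix.n) : dodK.ix.sem i = toSet (getT 24 dodTbl i) := rfl

theorem ptK_mask (i : ℕ) (hi : i < ptK.ix.n) :
    ({ptK.ix.sem i} : Finset GolayPt) = toSet (2 ^ i) := (toSet_two_pow i hi).symm

/-! ### Keys: arbitrary functions with the same fibres as the invariants -/

/-- the key has the same fibres as the invariants, class by class -/
def Kind.keyOK (K : Kind S) (L : List (List ℕ)) (key : ℕ → List ℕ)
    (cls : List (ℕ × List (ℕ × ℕ × ℕ))) : Bool :=
  (List.range K.ix.n).all fun i => cls.all fun c =>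
    decide (key i = key c.1) == decide (K.invsIx L i = K.invsIx L c.1)

/-- two indexed objects with equal keys are related by the joint stabiliser -/
theorem Kind.exists_map_key (K : Kind S) {L : List (List ℕ)} {key : ℕ → List ℕ} {gens : List ℕ}
    {cls : List (ℕ × List (ℕ × ℕ × ℕ))} (h : K.splitOK L gens cls = true)
    (hk : K.keyOK L key cls = true) {i j : ℕ} (hi : i < K.ix.n) (hj : j < K.ix.n)
    (e : key i = key j) : ∃ g ∈ famStab L, g • K.ix.sem i = K.ix.sem j := by
  obtain ⟨hL, -, -, hcov⟩ := K.splitOK_iff.1 h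
  obtain ⟨c, hc, hci⟩ := hcov i hi
  simp only [Kind.keyOK, List.all_eq_true, List.mem_range, beq_iff_eq, decide_eq_decide] at hk
  have h1 : key i = key c.1 := (hk i hi c hc).2 hci.symm
  have h2 : K.invsIx L j = K.invsIx L c.1 := (hk j hj c hc).1 (e ▸ h1)
  exact K.exists_map h (K.ix.mem i hi) (K.ix.mem j hj)
    (by rw [K.invs_eq hL hi, K.invs_eq hL hj, h2, hci])

/-! ### Octads containing a given set -/

/-- some listed octad contains the mask -/
def octCover (m : ℕ) : Bool := octadList.any fun o => Nat.beq (o &&& m) m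

theorem exists_octad_superset {m : ℕ} (hm : m < 16777216) :
    (∃ o ∈ octads, toSet m ⊆ o) ↔ octCover m = true := by
  simp only [octCover, List.any_eq_true, Nat.beq_eq]
  constructor
  · rintro ⟨o, ho, hs⟩
    refine ⟨mask o, mem_octads.1 ho, toSet_injOn ?_ hm ?_⟩
    · exact lt_of_le_of_lt Nat.and_le_right hm
    · rw [toSet_and, toSet_mask, Finset.inter_eq_right.2 hs]
  · rintro ⟨o, ho, he⟩
    refine ⟨toSet o, mem_octads.2 (by rwa [mask_toSet (lt_of_mem_octadList ho)]), ?_⟩
    rw [← he, toSet_and]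
    exact Finset.inter_subset_left

end CfsgLib.Spor
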