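import Cfsg.Agent.Lib.Spor.SixSym
import Cfsg.Agent.Lib.Spor.OctadFix
import Cfsg.Agent.Lib.Spor.Orb.TransOct
import Cfsg.Agent.Lib.Spor.Orb.TransDod
import Cfsg.Agent.Lib.Spor.Census

/-!
Stabilisers isomorphic to the symmetric group of degree six.
-/

set_option autoImplicit false
set_option maxRecDepth 100000

namespace CfsgLib.Spor

open Cfsg
open scoped Pointwise

theorem octadFix_free : (octadFixList.all fun a => Nat.beq (compP idP a) idP ||
    (List.range 759).all (fun j => !(Nat.beq (pop (5279 &&& getT 24 octTbl j)) 2 &&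
      Nat.beq (actP a (getT 24 octTbl j)) (getT 24 octTbl j))) &&
    (List.range 2576).all (fun j => !(Nat.beq (pop (5279 &&& getT 24 dodTbl j)) 6 &&
      Nat.beq (actP a (getT 24 dodTbl j)) (getT 24 dodTbl j)))) = true := by decide +kernel

theorem dodOct_six_count : (classList 759 fun j =>
    Nat.beq (pop (getT 24 dodTbl 0 &&& getT 24 octTbl j)) 6).length = 132 ∧
    (classList 759 fun j => Nat.beq (pop (getT 24 octTbl 0 &&& getT 24 octTbl j)) 2).length = 448 := by
  decide +kernel

/-- the second set is an octad or a dodecad in the right position -/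
def GoodPartner (o D : Finset GolayPt) : Prop :=
  (D ∈ octads ∧ (o ∩ D).card = 2) ∨ (D ∈ dodecads ∧ (o ∩ D).card = 6)

theorem GoodPartner.smul {o D : Finset GolayPt} (h : GoodPartner o D) {g : Equiv.Perm GolayPt}
    (hg : g ∈ M24) : GoodPartner (g • o) (g • D) := by
  have e : ((g • o) ∩ (g • D)).card = (o ∩ D).card := by
    rw [← Finset.smul_finset_inter, Finset.card_smul_finset]
  rcases h with ⟨h1, h2⟩ | ⟨h1, h2⟩
  · exact Or.inl ⟨smul_octad_mem hg h1, e.trans h2⟩
  · exact Or.inr ⟨smul_mem_dodecads hg h1, e.trans h2⟩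

theorem fix_octad_of_six {o s : Finset GolayPt} (ho : o ∈ octads) (hs : s ⊆ o) (h6 : s.card = 6)
    {g : Equiv.Perm GolayPt} (hg : g ∈ M24) (hgs : ∀ p ∈ s, g p = p) : ∀ p ∈ o, g p = p := by
  classical
  set A := M24 ⊓ fixingSubgroup (Equiv.Perm GolayPt) (o : Set GolayPt)
  set B := M24 ⊓ fixingSubgroup (Equiv.Perm GolayPt) (s : Set GolayPt)
  have hle : A ≤ B := fun x hx => ⟨hx.1, (mem_fixingSubgroup_iff _).2 fun p hp =>
    (mem_fixingSubgroup_iff _).1 hx.2 p (hs hp)⟩
  have hB : Nat.card B = 16 := by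
    rw [← if_pos (c := ∃ o ∈ octads, s ⊆ o) ⟨o, ho, hs⟩ (t := 16) (e := 3),
      ← natCard_six_fix_set h6]
    refine Nat.card_congr (Equiv.subtypeEquivRight fun x => ?_)
    exact and_congr_right fun _ => (mem_fixingSubgroup_iff _).trans Iff.rfl
  have he := Subgroup.eq_of_le_of_card_ge hle (by rw [hB, (octad_pointwise_stabilizer ho).1])
  have hgB : g ∈ B := ⟨hg, (mem_fixingSubgroup_iff _).2 hgs⟩
  rw [← he] at hgB
  exact fun p hp => (mem_fixingSubgroup_iff _).1 hgB.2 p hp

theorem eq_one_of_fix_six {o s D : Finset GolayPt} (ho : o ∈ octads) (hs : s ⊆ o) (h6 : s.card = 6)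
    (hD : GoodPartner o D) {g : Equiv.Perm GolayPt} (hg : g ∈ M24) (hgs : ∀ p ∈ s, g p = p)
    (hgD : g • D = D) : g = 1 := by
  have hfix := fix_octad_of_six ho hs h6 hg hgs
  obtain ⟨k, hk, rfl⟩ := exists_smul_octad baseOctad_mem ho
  obtain ⟨a, ha, hr⟩ := exists_rep_octadFix (g := k⁻¹ * g * k)
    ⟨M24.mul_mem (M24.mul_mem (M24.inv_mem hk) hg) hk, (mem_fixingSubgroup_iff _).2 fun p hp => by
      show k⁻¹ (g (k p)) = p
      rw [hfix (k p) (Finset.smul_mem_smul_finset (Finset.mem_coe.1 hp))]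
      simp⟩
  have hD' := hD.smul (inv_mem hk)
  rw [inv_smul_smul] at hD'
  have hfD : (k⁻¹ * g * k) • (k⁻¹ • D) = k⁻¹ • D := by
    rw [mul_smul, mul_smul, smul_inv_smul, hgD]
  have h := List.all_eq_true.1 octadFix_free a ha
  simp only [Bool.or_eq_true, Bool.and_eq_true, List.all_eq_true, List.mem_range,
    Bool.not_eq_true', Bool.and_eq_false_iff, Nat.beq_eq] at h
  rcases h with h | ⟨h1, h2⟩
  · have e : k⁻¹ * g * k = 1 := by
      have hcan : compP idP idP = idP := by decide +kernel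
      refine Equiv.ext fun p => idx_injective ?_
      have h3 := (rep_one.mul hr).get p
      rw [one_mul] at h3
      show idx ((k⁻¹ * g * k) p) = idx p
      rw [← h3]
      show getP (compP (packL (List.range 24)) a) (idx p) = idx p
      rw [show compP (packL (List.range 24)) a = idP from h]
      exact (rep_one : Rep 1 idP).get p
    calc g = k * (k⁻¹ * g * k) * k⁻¹ := by group
      _ = 1 := by rw [e]; group
  · exfalso
    rcases hD' with ⟨hO, hc⟩ | ⟨hO, hc⟩
    · obtain ⟨j, hj, hje⟩ := octI.complete _ hO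
      change toSet (getT 24 octTbl j) = _ at hje
      rw [← hje] at hfD hc
      rw [← hr.toSet_actP] at hfD
      rw [← toSet_and, card_toSet] at hc
      rcases h1 j hj with e | e
      · rw [show baseOctad = 5279 from rfl] at hc
        rw [hc] at e; exact absurd e (by decide)
      · rw [toSet_injOn (hr.actP_lt _) (getT24_lt _ _) hfD, Nat.beq_refl] at e
        exact Bool.noConfusion e
    · obtain ⟨j, hj, hje⟩ := dodI.complete _ hO
      change toSet (getT 24 dodTbl j) = _ at hje
      rw [← hje] at hfD hc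
      rw [← hr.toSet_actP] at hfD
      rw [← toSet_and, card_toSet] at hc
      rcases h2 j hj with e | e
      · rw [show baseOctad = 5279 from rfl] at hc
        rw [hc] at e; exact absurd e (by decide)
      · rw [toSet_injOn (hr.actP_lt _) (getT24_lt _ _) hfD, Nat.beq_refl] at e
        exact Bool.noConfusion e

theorem iso_sym_six {H : Subgroup ↥M24} {s : Finset GolayPt} (h6 : s.card = 6)
    (hpres : ∀ m ∈ H, (m : Equiv.Perm GolayPt) • s = s)
    (hinj : ∀ m ∈ H, (∀ p ∈ s, (m : Equiv.Perm GolayPt) p = p) → m = 1)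
    (hcard : 720 ≤ Nat.card H) : Nonempty (↥H ≃* Equiv.Perm (Fin 6)) := by
  have hmem : ∀ (k : Equiv.Perm GolayPt), k • s = s → ∀ p, k p ∈ s ↔ p ∈ s := fun k h p => by
    conv_lhs => rw [← h]
    exact Finset.smul_mem_smul_finset_iff k
  let ρ : ↥H →* Equiv.Perm ↥s :=
    { toFun := fun m => (m.1 : Equiv.Perm GolayPt).subtypePerm (p := fun p => p ∈ s)
        (hmem _ (hpres _ m.2))
      map_one' := Equiv.ext fun p => Subtype.ext rfl
      map_mul' := fun a b => Equiv.ext fun p => Subtype.ext rfl }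
  have hρ : Function.Injective ρ := by
    rw [injective_iff_map_eq_one]
    intro m hm
    exact Subtype.ext (hinj _ m.2 fun p hp => congrArg Subtype.val (Equiv.congr_fun hm ⟨p, hp⟩))
  have hP : Nat.card (Equiv.Perm ↥s) = 720 := by
    rw [Nat.card_perm, Nat.card_eq_fintype_card, Fintype.card_coe, h6]; rfl
  have hb : Function.Bijective ρ := by
    rw [Nat.bijective_iff_injective_and_card]
    exact ⟨hρ, le_antisymm (Nat.card_le_card_of_injective _ hρ) (hP ▸ hcard)⟩
  exact ⟨(MulEquiv.ofBijective ρ hb).trans (s.equivFinOfCardEq h6).permCongrHom⟩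

theorem card_lower {H : Subgroup ↥M24} {N K : ℕ} {o : Finset GolayPt} {T : Set (Finset GolayPt)}
    (hH : Nat.card H = N * K) (hK : 0 < K) (hT : T.ncard = K)
    (horb : MulAction.orbit H o ⊆ T) (hfin : T.Finite) :
    N ≤ Nat.card ↥(H ⊓ MulAction.stabilizer ↥M24 o) := by
  have h := natCard_inf_stabilizer H o
  have hle : (MulAction.orbit H o).ncard ≤ K := hT ▸ Set.ncard_le_ncard horb hfin
  by_contra hlt
  have h2 := Nat.mul_le_mul_left (Nat.card ↥(H ⊓ MulAction.stabilizer ↥M24 o)) hle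
  have h3 := Nat.mul_lt_mul_of_pos_right (not_le.1 hlt) hK
  omega

theorem inter_smul_card_of_fix {k : Equiv.Perm GolayPt} {A : Finset GolayPt} (h : k • A = A)
    (B : Finset GolayPt) : (A ∩ k • B).card = (A ∩ B).card := by
  conv_lhs => rw [← h]
  rw [← Finset.smul_finset_inter, Finset.card_smul_finset]

theorem two_octads_iso {o o' : Finset GolayPt} (ho : o ∈ octads) (ho' : o' ∈ octads)
    (h2 : (o ∩ o').card = 2) :
    Nonempty (↥(MulAction.stabilizer ↥M24 o ⊓ MulAction.stabilizer ↥M24 o') ≃*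
      Equiv.Perm (Fin 6)) := by
  have h6 : (o \ o').card = 6 := by
    have := Finset.card_sdiff_add_card_inter o o'
    rw [card_octad ho, h2] at this; omega
  refine iso_sym_six h6 (fun m hm => ?_) (fun m hm hfix => ?_) ?_
  · have e1 : (m : Equiv.Perm GolayPt) • o = o := hm.1
    have e2 : (m : Equiv.Perm GolayPt) • o' = o' := hm.2
    rw [Finset.smul_finset_sdiff, e1, e2]
  · exact Subtype.ext (eq_one_of_fix_six ho Finset.sdiff_subset h6 (Or.inl ⟨ho', h2⟩) m.2 hfix hm.2)
  · obtain ⟨g, rfl⟩ := octK.exists_trans transOct_ok (octK.ix.mem 0 (by decide +kernel)) ho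
    refine card_lower (T := {x | x ∈ octads ∧ ((g • octK.ix.sem 0) ∩ x).card = 2}) (K := 448)
      ((natCard_stab_octad ho).trans (by norm_num)) (by norm_num) ?_ ?_ (Set.toFinite _)
    · rw [ncard_setOf_smul g.2 octK (Q := fun x => (octK.ix.sem 0 ∩ x).card = 2) fun x => by
        show ((g : Equiv.Perm GolayPt) • (_ : Finset GolayPt) ∩ _ : Finset GolayPt).card = 2 ↔ _
        rw [← Finset.smul_finset_inter, Finset.card_smul_finset]]
      refine (octK.ix.ncard_setOf (P := fun x => (octK.ix.sem 0 ∩ x).card = 2) fun i _ => ?_).trans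
        dodOct_six_count.2
      rw [Nat.beq_eq]
      show _ ↔ (toSet _ ∩ toSet _).card = 2
      rw [← toSet_and, card_toSet]
    · rintro _ ⟨m, rfl⟩
      refine ⟨smul_octad_mem m.1.2 ho', ?_⟩
      have e1 : (m.1 : Equiv.Perm GolayPt) • (g • octK.ix.sem 0) = g • octK.ix.sem 0 := m.2
      show ((g • octK.ix.sem 0) ∩ ((m.1 : Equiv.Perm GolayPt) • o')).card = 2
      exact (inter_smul_card_of_fix e1 o').trans h2

theorem hexad_iso {d C : Finset GolayPt} (hd : d ∈ dodecads) (hC : C ∈ hexadsOn d) :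
    Nonempty (↥(MulAction.stabilizer ↥M24 d ⊓ MulAction.stabilizer ↥M24 C) ≃*
        Equiv.Perm (Fin 6)) ∧
      (∀ g ∈ MulAction.stabilizer ↥M24 d ⊓ MulAction.stabilizer ↥M24 C,
        (∀ p ∈ C, ((g : ↥M24) : Equiv.Perm GolayPt) p = p) → g = 1) ∧
      ∀ g ∈ MulAction.stabilizer ↥M24 d ⊓ MulAction.stabilizer ↥M24 C,
        (∀ p ∈ d \ C, ((g : ↥M24) : Equiv.Perm GolayPt) p = p) → g = 1 := by
  obtain ⟨h6, o, ho, rfl⟩ := hC
  have hinj : ∀ m ∈ MulAction.stabilizer ↥M24 d ⊓ MulAction.stabilizer ↥M24 (o ∩ d),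
      (∀ p ∈ o ∩ d, ((m : ↥M24) : Equiv.Perm GolayPt) p = p) → m = 1 := fun m hm hfix =>
    Subtype.ext (eq_one_of_fix_six ho Finset.inter_subset_left h6 (Or.inr ⟨hd, h6⟩) m.2 hfix hm.1)
  refine ⟨?_, hinj, fun m hm hfix => ?_⟩
  · refine iso_sym_six h6 (fun m hm => hm.2) hinj ?_
    have hle : MulAction.stabilizer ↥M24 d ⊓ MulAction.stabilizer ↥M24 o ≤
        MulAction.stabilizer ↥M24 d ⊓ MulAction.stabilizer ↥M24 (o ∩ d) := fun m hm => by
      refine ⟨hm.1, ?_⟩
      have e1 : (m : Equiv.Perm GolayPt) • d = d := hm.1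
      have e2 : (m : Equiv.Perm GolayPt) • o = o := hm.2
      show (m : Equiv.Perm GolayPt) • (o ∩ d) = o ∩ d
      rw [Finset.smul_finset_inter, e1, e2]
    refine le_trans ?_ (Subgroup.card_le_of_le hle)
    obtain ⟨g, rfl⟩ := dodK.exists_trans transDod_ok (dodK.ix.mem 0 (by decide +kernel)) hd
    refine card_lower (T := {x | x ∈ octads ∧ ((g • dodK.ix.sem 0) ∩ x).card = 6}) (K := 132)
      ((natCard_stab_dodecad hd).trans (by norm_num)) (by norm_num) ?_ ?_ (Set.toFinite _)
    · rw [ncard_setOf_smul g.2 octK (Q := fun x => (dodK.ix.sem 0 ∩ x).card = 6) fun x => by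
        show ((g : Equiv.Perm GolayPt) • (_ : Finset GolayPt) ∩ _ : Finset GolayPt).card = 6 ↔ _
        rw [← Finset.smul_finset_inter, Finset.card_smul_finset]]
      refine (octK.ix.ncard_setOf (P := fun x => (dodK.ix.sem 0 ∩ x).card = 6) fun i _ => ?_).trans
        dodOct_six_count.1
      rw [Nat.beq_eq]
      show _ ↔ (toSet _ ∩ toSet _).card = 6
      rw [← toSet_and, card_toSet]
    · rintro _ ⟨m, rfl⟩
      refine ⟨smul_octad_mem m.1.2 ho, ?_⟩
      have e1 : (m.1 : Equiv.Perm GolayPt) • (g • dodK.ix.sem 0) = g • dodK.ix.sem 0 := m.2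
      show ((g • dodK.ix.sem 0) ∩ ((m.1 : Equiv.Perm GolayPt) • o)).card = 6
      rw [inter_smul_card_of_fix e1 o, Finset.inter_comm]
      exact h6
  · -- the complementary hexad lies in the octad of the symmetric difference
    have ho' : symmDiff o d ∈ octads := by
      refine ⟨symmDiff_mem_supports ho.1 hd.1, ?_⟩
      have := card_symmDiff_add o d
      rw [card_octad ho, card_dodecad hd, h6] at this
      omega
    have hsub : d \ (o ∩ d) ⊆ symmDiff o d := by
      intro p hp
      simp only [Finset.mem_sdiff, Finset.mem_inter, not_and] at hp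
      exact Finset.mem_symmDiff.2 (Or.inr ⟨hp.1, fun h => hp.2 h hp.1⟩)
    have h6' : (d \ (o ∩ d)).card = 6 := by
      rw [Finset.card_sdiff_of_subset Finset.inter_subset_right, card_dodecad hd, h6]
    have hG : GoodPartner (symmDiff o d) d := by
      refine Or.inr ⟨hd, ?_⟩
      rw [show symmDiff o d ∩ d = d \ (o ∩ d) by
        ext p; simp only [Finset.mem_inter, Finset.mem_symmDiff, Finset.mem_sdiff]; tauto, h6']
    exact Subtype.ext (eq_one_of_fix_six ho' hsub h6' hG m.2 hfix hm.1)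

end CfsgLib.Spor
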