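import Mathlib.Data.List.Basic

/-!
Certificate data for the stabiliser of three points.
-/

set_option autoImplicit false

namespace CfsgLib.Spor

/-- the point labelled by each vector of the plane over four elements -/
def planeVec : List ℕ :=
  [0, 5, 5, 5, 4, 9, 18, 19, 4, 19, 9, 18, 4, 18, 19, 9, 3, 14, 23, 17, 12, 6, 13, 15, 10, 8, 22, 21, 7, 20, 16, 11, 3, 17, 14, 23, 7, 11, 20, 16, 12, 15, 6, 13, 10, 21, 8, 22, 3, 23, 17, 14, 10, 22, 21, 8, 7, 16, 11, 20, 12, 13, 15, 6]

/-- elements inducing the transvections -/
def planeTrans : List ℕ :=
  [984818244535754528103549039458486304,
    984818244535754528103549039458486304,
    984818244535754528103549039458486304,
    984818244535754528103549039458486304,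
    984818244535754528103549039458486304,
    970499966350631336865513127433832480,
    963721886883755259286232606933354528,
    967812279691448225500382947153381408,
    984818244535754528103549039458486304,
    720981692062171673584743151055243296,
    590072960059042287979885064796342304,
    220213109803259289183002082616117280,
    984818244535754528103549039458486304,
    561225190495839078725639875070396448,
    944397937647834838634175266627586080,
    682115957483838439786319496335296544,
    984818244535754528103549039458486304,
    984818244535754528103549039458486304,
    984818244535754528103549039458486304,
    984818244535754528103549039458486304,
    984818244535754528103549039458486304,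
    944319304547998642267612847938832416,
    681942991418186671700734416290678816,
    561475773312554808336860583768983584,
    984818244535754528103549039458486304,
    734314006698834082329304983377741856,
    137935104962206912083219455161370656,
    592348547565827762175298702812940320,
    984818244535754528103549039458486304,
    968708902336673183175954409307867168,
    966182099583441531322624363496310816,
    983548720921252936276249910206105632,
    984818244535754528103549039458486304,
    984818244535754528103549039458486304,
    984818244535754528103549039458486304,
    984818244535754528103549039458486304]

end CfsgLib.Spor
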