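import Cfsg.Agent.Lib.Spor.GenCert
import Cfsg.Agent.Lib.Spor.M24Points
import Cfsg.Agent.Lib.Spor.MathieuSimple
import Cfsg.Agent.Lib.Spor.OrbitKit
import Cfsg.Agent.Lib.Spor.PlaneData
import Cfsg.Agent.Lib.Spor.FourField
import Cfsg.Agent.Lib.Classical.SLGen
import Cfsg.Agent.Lib.Classical.Order
import Mathlib.LinearAlgebra.Projectivization.Action

/-!
The stabiliser of three points is `PSL(3, 4)`, permuting the other 21 points as the points of the
projective plane over four elements.
-/

set_option autoImplicit false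
set_option maxRecDepth 100000

namespace CfsgLib.Spor

open Cfsg
open scoped Pointwise LinearAlgebra.Projectivization

/-- the element with a given code -/
def qel (a : Fin 4) : QField := ⟨a⟩

/-- the code of a vector -/
def qvecCode (a b c : Fin 4) : ℕ := 16 * a.val + 4 * b.val + c.val

/-- the labelled point -/
def qvecPt (a b c : Fin 4) : ℕ := planeVec.getD (qvecCode a b c) 0

/-- the point of a vector -/
def planePt (w : Fin 3 → QField) : GolayPt := pt (qvecPt (w 0).val (w 1).val (w 2).val)

theorem plane_ok :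
    (∀ a b c : Fin 4, qvecPt a b c < 24) ∧
    (∀ t a b c : Fin 4, t.val = 0 ∨
      qvecPt (QField.qmul t a) (QField.qmul t b) (QField.qmul t c) = qvecPt a b c) ∧
    (∀ a b c a' b' c' : Fin 4, qvecPt a b c ≠ qvecPt a' b' c' ∨ qvecCode a b c = 0 ∨
      qvecCode a' b' c' = 0 ∨ ∃ t : Fin 4, t.val ≠ 0 ∧
        a' = QField.qmul t a ∧ b' = QField.qmul t b ∧ c' = QField.qmul t c) := by decide +kernel

theorem planePt_smul {t : QField} (ht : t ≠ 0) (w : Fin 3 → QField) :
    planePt (t • w) = planePt w :=
  congrArg pt ((plane_ok.2.1 t.val (w 0).val (w 1).val (w 2).val).resolve_left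
    fun h => ht (congrArg QField.mk (Fin.ext h)))

theorem exists_smul_of_planePt {u v : Fin 3 → QField} (hu : u ≠ 0) (hv : v ≠ 0)
    (h : planePt u = planePt v) : ∃ t : QField, t ≠ 0 ∧ v = t • u := by
  have h' : qvecPt (u 0).val (u 1).val (u 2).val = qvecPt (v 0).val (v 1).val (v 2).val := by
    have := congrArg idx h
    rwa [planePt, planePt, idx_pt (plane_ok.1 _ _ _), idx_pt (plane_ok.1 _ _ _)] at this
  have hne : ∀ w : Fin 3 → QField, w ≠ 0 → qvecCode (w 0).val (w 1).val (w 2).val ≠ 0 := by
    intro w hw e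
    refine hw (funext fun i => congrArg QField.mk (Fin.ext ?_))
    simp only [qvecCode] at e
    fin_cases i
    · show (w 0).val.val = 0
      omega
    · show (w 1).val.val = 0
      omega
    · show (w 2).val.val = 0
      omega
  obtain ⟨t, ht, ha, hb, hc⟩ := (((plane_ok.2.2 _ _ _ _ _ _).resolve_left (not_not.2 h')).resolve_left
    (hne u hu)).resolve_left (hne v hv)
  refine ⟨qel t, fun e => ht (congrArg (fun x : QField => x.val.val) e), funext fun i => ?_⟩
  fin_cases i
  · exact congrArg QField.mk ha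
  · exact congrArg QField.mk hb
  · exact congrArg QField.mk hc

/-- a packed element fixing the first three points -/
def threeOK (a : ℕ) : Bool :=
  isM24P a && Nat.beq (getP a 0) 0 && Nat.beq (getP a 1) 1 && Nat.beq (getP a 2) 2

/-- coordinates of the image of a vector under a transvection -/
def transImg (i j : Fin 3) (c : Fin 4) (w : Fin 3 → Fin 4) (k : Fin 3) : Fin 4 :=
  if k = i then QField.qadd (w k) (QField.qmul c (w j)) else w k

theorem planeTrans_ok : ∀ i j : Fin 3, i = j ∨ ∀ c : Fin 4,
    threeOK (planeTrans.getD ((3 * i.val + j.val) * 4 + c.val) 0) = true ∧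
    ∀ a b d : Fin 4, qvecCode a b d = 0 ∨
      getP (planeTrans.getD ((3 * i.val + j.val) * 4 + c.val) 0) (qvecPt a b d) =
        qvecPt (transImg i j c ![a, b, d] 0) (transImg i j c ![a, b, d] 1)
          (transImg i j c ![a, b, d] 2) := by decide +kernel

/-- the stabiliser of the first three points -/
abbrev threeStab : Subgroup ↥M24 :=
  MulAction.stabilizer M24 (pt 0) ⊓ MulAction.stabilizer M24 (pt 1) ⊓
    MulAction.stabilizer M24 (pt 2)

theorem natCard_threeStab : Nat.card threeStab = 20160 := by
  have h := natCard_inf_stabilizer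
    (MulAction.stabilizer M24 (pt 0) ⊓ MulAction.stabilizer M24 (pt 1)) (pt 2)
  have h01 : pt 0 ≠ pt 1 := by decide +kernel
  have h02 : pt 0 ≠ pt 2 := by decide +kernel
  have h12 : pt 1 ≠ pt 2 := by decide +kernel
  have horb : MulAction.orbit
      ↥(MulAction.stabilizer M24 (pt 0) ⊓ MulAction.stabilizer M24 (pt 1)) (pt 2) =
      ↑(((Finset.univ : Finset GolayPt).erase (pt 0)).erase (pt 1)) := by
    ext x
    simp only [Finset.coe_erase, Finset.coe_univ, Set.mem_sdiff, Set.mem_univ,
      Set.mem_singleton_iff, true_and]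
    constructor
    · rintro ⟨⟨g, g0, g1⟩, rfl⟩
      exact ⟨fun e => h02 (smul_left_cancel g ((show g • pt 0 = pt 0 from g0).trans e.symm)),
        fun e => h12 (smul_left_cancel g ((show g • pt 1 = pt 1 from g1).trans e.symm))⟩
    · rintro ⟨hx0, hx1⟩
      obtain ⟨g, hg, h⟩ := exists_list_map_M24 (l := [pt 0, pt 1, pt 2]) (l' := [pt 0, pt 1, x])
        (by simp [h01, h02, h12]) (by simp [h01, Ne.symm hx0, Ne.symm hx1]) rfl (by simp)
      simp only [List.map_cons, List.map_nil, List.cons.injEq, and_true] at h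
      exact ⟨⟨⟨g, hg⟩, h.1, h.2.1⟩, h.2.2⟩
  rw [horb, Set.ncard_coe_finset, Finset.card_erase_of_mem (by simp [h01.symm]),
    Finset.card_erase_of_mem (Finset.mem_univ _), Finset.card_univ, card_golayPt,
    natCard_stab_two h01] at h
  exact Nat.eq_of_mul_eq_mul_right (by norm_num : 0 < 24 - 1 - 1) (h.trans (by norm_num))

/-- the point of a line -/
noncomputable def planeObj (v : ℙ QField (Fin 3 → QField)) : GolayPt := planePt v.rep

theorem planeObj_mk (w : Fin 3 → QField) (hw : w ≠ 0) :
    planeObj (Projectivization.mk QField w hw) = planePt w := by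
  obtain ⟨t, ht⟩ := Projectivization.exists_smul_eq_mk_rep QField w hw
  rw [planeObj, ← ht]
  exact planePt_smul t.ne_zero w

theorem planeObj_injective : Function.Injective planeObj := by
  intro u v h
  obtain ⟨t, ht, hv⟩ := exists_smul_of_planePt u.rep_nonzero v.rep_nonzero h
  rw [← u.mk_rep, ← v.mk_rep, Projectivization.mk_eq_mk_iff']
  exact ⟨t⁻¹, by rw [hv, inv_smul_smul₀ ht]⟩

theorem transvection_planeObj {i j : Fin 3} (hij : i ≠ j) (c : QField) :
    ∃ k ∈ threeStab, ∀ v, k • planeObj v =
      planeObj ((Matrix.SpecialLinearGroup.transvection hij c :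
        Matrix.SpecialLinearGroup (Fin 3) QField) • v) := by
  obtain ⟨hok, hact⟩ := (planeTrans_ok i j).resolve_left hij c.val
  simp only [threeOK, Bool.and_eq_true, Nat.beq_eq] at hok
  obtain ⟨σ, hσ, hσa⟩ := exists_rep_M24 hok.1.1.1
  refine ⟨⟨σ, hσ⟩, ⟨⟨(hσa.fix_iff (by norm_num)).2 hok.1.1.2, (hσa.fix_iff (by norm_num)).2 hok.1.2⟩,
    (hσa.fix_iff (by norm_num)).2 hok.2⟩, fun v => ?_⟩
  set g : Matrix.SpecialLinearGroup (Fin 3) QField := Matrix.SpecialLinearGroup.transvection hij c
  have hne : g • v.rep ≠ 0 := fun h => v.rep_nonzero (by simpa using congrArg (g⁻¹ • ·) h)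
  have hgv : g • v = Projectivization.mk QField (g • v.rep) hne := by
    conv_lhs => rw [← v.mk_rep]
    rfl
  rw [hgv, planeObj_mk]
  have hcode : qvecCode (v.rep 0).val (v.rep 1).val (v.rep 2).val ≠ 0 := by
    intro e
    refine v.rep_nonzero (funext fun k => congrArg QField.mk (Fin.ext ?_))
    simp only [qvecCode] at e
    fin_cases k
    · show (v.rep 0).val.val = 0
      omega
    · show (v.rep 1).val.val = 0
      omega
    · show (v.rep 2).val.val = 0
      omega
  have h := (hact _ _ _).resolve_left hcode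
  rw [hσa _ (plane_ok.1 _ _ _)] at h
  show σ (planePt v.rep) = planePt (g • v.rep)
  have hcoord : ∀ k, ((g • v.rep) k).val =
      transImg i j c.val ![(v.rep 0).val, (v.rep 1).val, (v.rep 2).val] k := by
    intro k
    show (g.1.mulVec v.rep k).val = _
    rw [CfsgLib.Classical.transvection_mulVec]
    have e : ∀ m, (![(v.rep 0).val, (v.rep 1).val, (v.rep 2).val] : Fin 3 → Fin 4) m = (v.rep m).val := by
      intro m; fin_cases m <;> rfl
    rw [transImg, e, e]
    by_cases hk : k = i
    · subst hk
      rw [if_pos rfl, Pi.add_apply, Pi.single_eq_same]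
      rfl
    · rw [if_neg hk, Pi.add_apply, Pi.single_eq_of_ne hk, add_zero]
  rw [planePt, planePt, hcoord, hcoord, hcoord, ← pt_idx (σ (pt _)), h]

theorem plane_iso : Nonempty (↥threeStab ≃* Matrix.ProjectiveSpecialLinearGroup (Fin 3) QField) := by
  classical
  let ρ := Projectivization.PSLAction.toPermHom (ι := Fin 3) (K := QField)
  have hρ : Function.Injective ρ := Matrix.ProjectiveSpecialLinearGroup.toPermHom_injective
  have himg : ∀ g : Matrix.SpecialLinearGroup (Fin 3) QField,
      ∃ k ∈ threeStab, ∀ v, k • planeObj v = planeObj (g • v) := by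
    let P : Subgroup (Matrix.SpecialLinearGroup (Fin 3) QField) :=
      { carrier := {g | ∃ k ∈ threeStab, ∀ v, k • planeObj v = planeObj (g • v)}
        one_mem' := ⟨1, one_mem _, fun v => by simp⟩
        mul_mem' := by
          rintro g h ⟨k, hk, hk'⟩ ⟨l, hl, hl'⟩
          exact ⟨k * l, mul_mem hk hl, fun v => by rw [mul_smul, hl', hk', mul_smul]⟩
        inv_mem' := by
          rintro g ⟨k, hk, hk'⟩
          refine ⟨k⁻¹, inv_mem hk, fun v => ?_⟩
          rw [inv_smul_eq_iff, hk', smul_inv_smul] }
    have hP : P = ⊤ := CfsgLib.Classical.eq_top_of_transvection_mem P fun i j hij c =>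
      transvection_planeObj hij c
    exact fun g => (hP ▸ Subgroup.mem_top g : g ∈ P)
  have hall : ∀ x : Matrix.ProjectiveSpecialLinearGroup (Fin 3) QField,
      ∃ k, k ∈ threeStab ∧ ∀ v, k • planeObj v = planeObj (ρ x v) := fun x => by
    obtain ⟨g, hg⟩ := QuotientGroup.mk_surjective x
    obtain ⟨k, hk, hk'⟩ := himg g
    exact ⟨k, hk, fun v => by rw [hk' v, ← hg]; rfl⟩
  choose f hfK hf using hall
  have hcard : Nat.card (Matrix.ProjectiveSpecialLinearGroup (Fin 3) QField) = 20160 := by
    rw [CfsgLib.Classical.card_PSL_fin 3 (by norm_num), CfsgLib.Classical.card_SL_fin',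
      Nat.card_eq_fintype_card, QField.card_eq]
    decide
  let F : Matrix.ProjectiveSpecialLinearGroup (Fin 3) QField → ↥threeStab := fun x => ⟨f x, hfK x⟩
  have hFi : Function.Injective F := fun x y h =>
    equivar_unique planeObj_injective hρ (hf x)
      (by rw [show f x = f y from congrArg Subtype.val h]; exact hf y)
  have hFb := hFi.bijective_of_nat_card_le (by rw [natCard_threeStab, hcard])
  have hle : threeStab ≤ equivarSub (G := ↥M24) planeObj ρ := fun k hk => by
    obtain ⟨x, hx⟩ := hFb.2 ⟨k, hk⟩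
    exact ⟨x, by rw [← show f x = k from congrArg Subtype.val hx]; exact hf x⟩
  let φ := equivarHom planeObj_injective hρ threeStab hle
  have hφs : Function.Surjective φ := fun x =>
    ⟨F x, equivarHom_eq planeObj_injective hρ threeStab hle (hf x)⟩
  exact ⟨MulEquiv.ofBijective φ (hφs.bijective_of_nat_card_le
    (by rw [natCard_threeStab, hcard]))⟩

end CfsgLib.Spor
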