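import Cfsg.Agent.Lib.Spor.M24Points
import Cfsg.Agent.Lib.Spor.QuartetData
import Cfsg.Agent.Lib.Spor.Family

/-!
Checks of the tables for quartets.
-/

set_option autoImplicit false
set_option maxRecDepth 100000

namespace CfsgLib.Spor

open Cfsg
open scoped Pointwise

/-- the base dodecad -/
abbrev dset : Finset GolayPt := toSet dodec0

/-- membership among the hexads of the base dodecad -/
def isHex (m : ℕ) : Bool :=
  hexBits.testBit (m % hexMod) &&
    (hexBucket.getD (m % 13) []).any fun o => Nat.beq (o &&& dodec0) m

theorem hexBucket_spec : (hexBucket.all fun B => B.all fun o =>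
    inCode o && Nat.beq (pop o) 8 && Nat.blt o 16777216 && Nat.beq (pop (o &&& dodec0)) 6) = true := by
  decide +kernel

theorem hex_complete : (octadList.all fun o =>
    !Nat.beq (pop (o &&& dodec0)) 6 || isHex (o &&& dodec0)) = true := by
  decide +kernel

theorem tri0_check : ascending tri0 = true ∧ (tri0.all fun m =>
    Nat.beq (m &&& dodec0) m && Nat.beq (pop m) 3) = true ∧ tri0.length = 220 := by
  decide +kernel

/-- the triples making a hexad with a given one -/
def triPartners (a : ℕ) : List ℕ := tri0.filter fun b => Nat.beq (a &&& b) 0 && isHex (a ||| b)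

theorem quartAdj_spec : quartAdj.map (fun e => (e.1, e.2.map Prod.fst)) =
    tri0.map (fun a => (a, triPartners a)) := by decide +kernel

/-- the listed quartet through a pair contains every common partner -/
def commonOK (a : ℕ) (P : List (ℕ × ℕ)) : Bool :=
  P.all fun bi => Nat.blt bi.2 220 &&
    (let q := quartList.getD bi.2 []
     q.contains a && q.contains bi.1 && P.all fun c =>
       !(Nat.beq (bi.1 &&& c.1) 0 && isHex (bi.1 ||| c.1)) || q.contains c.1)

theorem quartAdj_ok : quartAdj.all (fun e => commonOK e.1 e.2) = true := by decide +kernel

theorem quartList_spec : quartList.length = 220 ∧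
    (quartList.all fun l => Nat.beq l.length 4 && decide l.Nodup && l.all fun a =>
      Nat.beq (a &&& dodec0) a && Nat.beq (pop a) 3 &&
      l.all fun b => Nat.ble b a || (Nat.beq (a &&& b) 0 && isHex (a ||| b))) = true ∧
    ascending (quartList.map fun l => (l.map fun m => m * m).sum) = true := by decide +kernel

/-- the action test -/
def quartStep (g _ i j : ℕ) : Bool :=
  (quartList.getD i []).all fun m => (quartList.getD j []).contains (actP g m)

theorem dodGens_ok : (dodGens.all fun a => isM24P a && Nat.beq (actP a dodec0) dodec0) = true := by
  decide +kernel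

theorem quartTree_ok : idxOrbitOK quartStep 220 dodGens 0 quartTree (fun _ => true) = true := by
  decide +kernel

end CfsgLib.Spor
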