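import Cfsg.Agent.Lib.Spor.OrbitKit
import Cfsg.Agent.Lib.Spor.Orb.Rigid

/-!
Certificates for the rigidity of the code modulo the full word.
-/

set_option autoImplicit false
set_option maxRecDepth 100000

namespace CfsgLib.Spor

open Cfsg

/-- weight class of the octads and their complements -/
def clsB (m : ℕ) : Bool := Nat.beq (pop m) 8 || Nat.beq (pop m) 16

/-- the test words at a step -/
def rigTests : List ℕ → List ℕ
  | [] => [0]
  | b :: bs => rigTests bs ++ (b :: bs.map (b ^^^ ·))

/-- indices of the octads looking like the next base octad -/
def rigCand (k : ℕ) : List ℕ :=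
  (List.range 759).filter fun i =>
    ((rigTests (rigB.take k)).all fun u =>
      clsB (getT 24 octTbl i ^^^ u) == clsB (rigB.getD k 0 ^^^ u)) &&
    !(spanList (16777215 :: rigB.take k)).contains (getT 24 octTbl i)

theorem rig_checks :
    ((List.range 11).all fun k => (rigCand k == (rigW.getD k []).map Prod.fst) &&
      ((rigW.getD k []).all fun e => isM24P e.2 &&
        ((rigB.take k).all fun b => Nat.beq (actP e.2 b) b) &&
        Nat.beq (actP e.2 (rigB.getD k 0)) (getT 24 octTbl e.1))) = true ∧
    (rigB.all fun b => inCode b && Nat.blt b 16777216 && Nat.beq (pop b) 8) = true ∧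
    ((List.range 11).all fun k =>
      !(spanList (16777215 :: rigB.take k)).contains (rigB.getD k 0)) = true ∧
    (golayBasis.all fun m => (spanList (16777215 :: rigB)).contains m) = true ∧
    rigB.length = 11 := by
  decide +kernel

end CfsgLib.Spor
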