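import Cfsg.Agent.Lib.Spor.CodeModules
import Cfsg.Agent.Lib.Spor.OrbitKit
import Cfsg.Agent.Lib.Spor.RigidCheck

/-!
A linear map of the code modulo the full word respecting the weight classes is induced from M24.
-/

set_option autoImplicit false
set_option maxRecDepth 100000

namespace CfsgLib.Spor

open Cfsg
open scoped Pointwise

theorem rigTests_mem {l : List ℕ} {u : ℕ} (h : u ∈ rigTests l) : u ∈ spanList l := by
  induction l generalizing u with
  | nil => simpa [rigTests, spanList] using h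
  | cons b bs ih =>
    have hz : ∀ l : List ℕ, 0 ∈ spanList l := by
      intro l
      induction l with
      | nil => simp [spanList]
      | cons c cs ihc => exact List.mem_append.2 (Or.inl ihc)
    have hs : ∀ (l : List ℕ), ∀ x ∈ l, x ∈ spanList l := by
      intro l
      induction l with
      | nil => simp
      | cons c cs ihc =>
        intro x hx
        rcases List.mem_cons.1 hx with rfl | hx
        · exact List.mem_append.2 (Or.inr (List.mem_map.2 ⟨0, hz cs, by simp⟩))
        · exact List.mem_append.2 (Or.inl (ihc x hx))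
    rcases List.mem_append.1 h with h | h
    · exact List.mem_append.2 (Or.inl (ih h))
    rcases List.mem_cons.1 h with rfl | h
    · exact hs _ _ List.mem_cons_self
    · obtain ⟨x, hx, rfl⟩ := List.mem_map.1 h
      exact List.mem_append.2 (Or.inr (List.mem_map.2 ⟨x, hs bs x hx, rfl⟩))

theorem pop_compl {m : ℕ} (hm : m < 2 ^ 24) : pop (16777215 ^^^ m) = 24 - pop m := by
  rw [← mask_toSet hm, ← mask_compl, pop_mask, pop_mask, Finset.card_compl, card_golayPt]

theorem clsB_compl {m : ℕ} (hm : m < 2 ^ 24) : clsB (16777215 ^^^ m) = clsB m := by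
  have h24 : pop m ≤ 24 := by
    rw [← card_toSet]; exact (Finset.card_le_univ _).trans card_golayPt.le
  rw [Bool.eq_iff_iff]
  simp only [clsB, Bool.or_eq_true, Nat.beq_eq]
  rw [pop_compl hm]
  omega

theorem xor_xor_self_left (a b : ℕ) : a ^^^ (a ^^^ b) = b := by
  rw [← Nat.xor_assoc, Nat.xor_self, Nat.zero_xor]

theorem xor_zero_eq {a b : ℕ} (h : a ^^^ b = 0) : a = b := by
  have e := congrArg (a ^^^ ·) h
  simp only [xor_xor_self_left, Nat.xor_zero] at e
  exact e.symm

theorem eq_or_compl_trans {a b : ℕ} (h : a = b ∨ a = 16777215 ^^^ b) :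
    16777215 ^^^ a = b ∨ 16777215 ^^^ a = 16777215 ^^^ b := by
  rcases h with h | h
  · exact Or.inr (by rw [h])
  · exact Or.inl (by rw [h, xor_xor_self_left])

/-- an endomap of the code on masks -/
structure MaskMap where
  /-- the map -/
  Y : ℕ → ℕ
  mem : ∀ {m}, m ∈ codeList → Y m ∈ codeList
  add : ∀ {a b}, a ∈ codeList → b ∈ codeList → Y (a ^^^ b) = Y a ^^^ Y b
  full : Y 16777215 = 16777215
  inj : ∀ {m}, m ∈ codeList → Y m = 0 → m = 0
  cls : ∀ {m}, m ∈ codeList → clsB (Y m) = clsB m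

theorem zero_mem_code : 0 ∈ codeList := by decide +kernel

theorem full_mem_code : 16777215 ∈ codeList := by decide +kernel

theorem xor_mem_code {a b : ℕ} (ha : a ∈ codeList) (hb : b ∈ codeList) : a ^^^ b ∈ codeList := by
  rw [mem_codeList_iff] at *
  exact ⟨Nat.xor_lt_two_pow ha.1 hb.1, inCode_xor ha.2 hb.2⟩

theorem MaskMap.zero (M : MaskMap) : M.Y 0 = 0 := by
  have h := M.add zero_mem_code zero_mem_code
  simpa using h

theorem MaskMap.fixed_span (M : MaskMap) {L : List ℕ}
    (hL : ∀ b ∈ L, b ∈ codeList ∧ (M.Y b = b ∨ M.Y b = 16777215 ^^^ b)) {v : ℕ}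
    (hv : v ∈ spanList L) : v ∈ codeList ∧ (M.Y v = v ∨ M.Y v = 16777215 ^^^ v) := by
  refine spanList_induction (P := fun v => v ∈ codeList ∧ (M.Y v = v ∨ M.Y v = 16777215 ^^^ v))
    ⟨zero_mem_code, Or.inl M.zero⟩ hL ?_ _ hv
  rintro a b ⟨ha, ha'⟩ ⟨hb, hb'⟩
  refine ⟨xor_mem_code ha hb, ?_⟩
  rw [M.add ha hb]
  rcases ha' with ha' | ha' <;> rcases hb' with hb' | hb' <;> rw [ha', hb']
  · exact Or.inl rfl
  · exact Or.inr (by ac_rfl)
  · exact Or.inr (by ac_rfl)
  · refine Or.inl ?_
    rw [show (16777215 ^^^ a) ^^^ (16777215 ^^^ b) = (16777215 ^^^ 16777215) ^^^ (a ^^^ b) by ac_rfl,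
      Nat.xor_self, Nat.zero_xor]

/-- compose with the inverse of an element -/
noncomputable def MaskMap.comp (M : MaskMap) {g : Equiv.Perm GolayPt} (hg : g ∈ M24) : MaskMap where
  Y m := mask (g • toSet (M.Y m))
  mem {m} hm := by
    have h := M.mem hm
    exact mem_M24_iff.1 hg _ ((mask_toSet (lt_of_mem_codeList h)).symm ▸ h)
  add {a b} ha hb := by
    rw [M.add ha hb, toSet_xor, Finset.smul_finset_symmDiff]
    conv_rhs => rw [← mask_toSet (Nat.xor_lt_two_pow (mask_lt _) (mask_lt _))]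
    rw [toSet_xor, toSet_mask, toSet_mask]
  full := by
    rw [M.full, show toSet 16777215 = Finset.univ by decide +kernel, Finset.smul_finset_univ]
    decide +kernel
  inj {m} hm h := by
    refine M.inj hm ?_
    have h2 := congrArg toSet h
    rw [toSet_mask, show toSet 0 = ∅ by decide +kernel, Finset.smul_finset_eq_empty] at h2
    have h3 := congrArg mask h2
    rwa [mask_toSet (lt_of_mem_codeList (M.mem hm)), mask_empty] at h3
  cls {m} hm := by
    rw [← M.cls hm]
    simp only [clsB, pop_mask, Finset.card_smul_finset, card_toSet]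

theorem rig_step (M : MaskMap) {k : ℕ} (hk : k < 11)
    (h : ∀ b ∈ rigB.take k, M.Y b = b ∨ M.Y b = 16777215 ^^^ b) :
    ∃ g ∈ M24, ∀ hg : g ∈ M24,
      ∀ b ∈ rigB.take (k + 1), (M.comp hg).Y b = b ∨ (M.comp hg).Y b = 16777215 ^^^ b := by
  obtain ⟨hW, hB, hnot, -, hlen⟩ := rig_checks
  have hcode : ∀ b ∈ rigB, b ∈ codeList ∧ pop b = 8 := fun b hb => by
    have h' := List.all_eq_true.1 hB b hb
    simp only [Bool.and_eq_true, Nat.blt_eq, Nat.beq_eq] at h'
    exact ⟨mem_codeList_iff.2 ⟨by simpa using h'.1.2, h'.1.1⟩, h'.2⟩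
  set c := rigB.getD k 0 with hc
  have hkl : k < rigB.length := by omega
  have hcB : c ∈ rigB := by rw [hc, List.getD_eq_getElem _ _ hkl]; exact List.getElem_mem hkl
  obtain ⟨hcC, hc8⟩ := hcode c hcB
  have hY := M.mem hcC
  have hcls : clsB (M.Y c) = true := by rw [M.cls hcC, clsB, hc8]; rfl
  obtain ⟨i, hi, hic⟩ : ∃ i < 759, M.Y c = getT 24 octTbl i ∨
      M.Y c = 16777215 ^^^ getT 24 octTbl i := by
    have hcases : pop (M.Y c) = 8 ∨ pop (M.Y c) = 16 := by
      simpa [clsB, Bool.or_eq_true, Nat.beq_eq] using hcls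
    have hlt := lt_of_mem_codeList hY
    rcases hcases with h8 | h16
    · obtain ⟨i, hi, e⟩ := octK.ix.complete (toSet (M.Y c))
        ⟨toSet_mem_supports hY, by rw [card_toSet, h8]⟩
      refine ⟨i, hi, Or.inl ?_⟩
      rw [← mask_toSet hlt, ← e]
      exact mask_toSet (getT24_lt _ _)
    · obtain ⟨i, hi, e⟩ := octK.ix.complete (toSet (16777215 ^^^ M.Y c))
        ⟨toSet_mem_supports (xor_mem_code full_mem_code hY), by
          rw [card_toSet, pop_compl hlt, h16]⟩
      refine ⟨i, hi, Or.inr ?_⟩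
      have e2 := congrArg mask e
      rw [mask_toSet (Nat.xor_lt_two_pow (by norm_num) hlt)] at e2
      rw [show getT 24 octTbl i = 16777215 ^^^ M.Y c from
        (mask_toSet (getT24_lt _ _)).symm.trans e2, xor_xor_self_left]
  have hfix : ∀ v ∈ spanList (16777215 :: rigB.take k),
      v ∈ codeList ∧ (M.Y v = v ∨ M.Y v = 16777215 ^^^ v) := fun v hv =>
    M.fixed_span (fun b hb => by
      rcases List.mem_cons.1 hb with rfl | hb
      · exact ⟨full_mem_code, Or.inl M.full⟩
      · exact ⟨(hcode b (List.mem_of_mem_take hb)).1, h b hb⟩) hv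
  have hcand : i ∈ rigCand k := by
    refine List.mem_filter.2 ⟨List.mem_range.2 hi, ?_⟩
    simp only [Bool.and_eq_true, List.all_eq_true, beq_iff_eq, Bool.not_eq_true']
    refine ⟨fun u hu => ?_, ?_⟩
    · have hu' : u ∈ spanList (16777215 :: rigB.take k) :=
        List.mem_append.2 (Or.inl (rigTests_mem hu))
      obtain ⟨huC, hu2⟩ := hfix u hu'
      show clsB (getT 24 octTbl i ^^^ u) = clsB (c ^^^ u)
      rw [← M.cls (xor_mem_code hcC huC), M.add hcC huC]
      have hult := lt_of_mem_codeList huC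
      have hilt : getT 24 octTbl i < 2 ^ 24 := getT24_lt _ _
      have hx := Nat.xor_lt_two_pow hilt hult
      rcases hic with e | e <;> rcases hu2 with e' | e' <;> rw [e, e']
      · rw [show getT 24 octTbl i ^^^ (16777215 ^^^ u) = 16777215 ^^^ (getT 24 octTbl i ^^^ u) by
          ac_rfl, clsB_compl hx]
      · rw [Nat.xor_assoc, clsB_compl hx]
      · rw [show (16777215 ^^^ getT 24 octTbl i) ^^^ (16777215 ^^^ u) =
          (16777215 ^^^ 16777215) ^^^ (getT 24 octTbl i ^^^ u) by ac_rfl, Nat.xor_self, Nat.zero_xor]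
    · rw [← Bool.not_eq_true, List.contains_iff_mem]
      intro hmem
      obtain ⟨hvC, hv2⟩ := hfix _ hmem
      set v := getT 24 octTbl i
      have hd : M.Y (c ^^^ v) = 0 ∨ M.Y (c ^^^ v) = 16777215 := by
        rw [M.add hcC hvC]
        rcases hic with e | e <;> rcases hv2 with e' | e' <;> rw [e, e']
        · exact Or.inl (Nat.xor_self _)
        · exact Or.inr (by rw [show v ^^^ (16777215 ^^^ v) = 16777215 ^^^ (v ^^^ v) by ac_rfl,
            Nat.xor_self, Nat.xor_zero])
        · exact Or.inr (by rw [Nat.xor_assoc, Nat.xor_self, Nat.xor_zero])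
        · exact Or.inl (Nat.xor_self _)
      have hcv : c ^^^ v = 0 ∨ c ^^^ v = 16777215 := by
        rcases hd with hd | hd
        · exact Or.inl (M.inj (xor_mem_code hcC hvC) hd)
        · refine Or.inr ?_
          have h0 : M.Y ((c ^^^ v) ^^^ 16777215) = 0 := by
            rw [M.add (xor_mem_code hcC hvC) full_mem_code, hd, M.full, Nat.xor_self]
          exact xor_zero_eq (M.inj (xor_mem_code (xor_mem_code hcC hvC) full_mem_code) h0)
      have hn := List.all_eq_true.1 hnot k (List.mem_range.2 hk)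
      simp only [Bool.not_eq_true', ← Bool.not_eq_true, List.contains_iff_mem] at hn
      apply hn
      rcases hcv with e | e
      · rw [← hc, xor_zero_eq e]; exact hmem
      · have e2 : c = 16777215 ^^^ v := by
          rw [← e, Nat.xor_assoc, Nat.xor_self, Nat.xor_zero]
        rw [← hc, e2]
        rcases List.mem_append.1 hmem with hm | hm
        · exact List.mem_append.2 (Or.inr (List.mem_map.2 ⟨v, hm, rfl⟩))
        · obtain ⟨w, hw, e3⟩ := List.mem_map.1 hm
          refine List.mem_append.2 (Or.inl ?_)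
          rw [← e3, xor_xor_self_left]
          exact hw
  have hk' := List.all_eq_true.1 hW k (List.mem_range.2 hk)
  simp only [Bool.and_eq_true, beq_iff_eq] at hk'
  obtain ⟨hlist, hwit⟩ := hk'
  rw [hlist] at hcand
  obtain ⟨⟨j, a⟩, he, rfl⟩ := List.mem_map.1 hcand
  have h' := List.all_eq_true.1 hwit _ he
  simp only [Bool.and_eq_true, List.all_eq_true, Nat.beq_eq] at h'
  obtain ⟨⟨ha, hafix⟩, hac⟩ := h'
  obtain ⟨g, hg, hgr⟩ := exists_rep_M24 ha
  refine ⟨g⁻¹, inv_mem hg, fun hg' b hb => ?_⟩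
  show mask (g⁻¹ • toSet (M.Y b)) = b ∨ mask (g⁻¹ • toSet (M.Y b)) = 16777215 ^^^ b
  rw [List.take_succ_eq_append_getElem hkl, List.mem_append, List.mem_singleton,
    ← List.getD_eq_getElem rigB 0 hkl] at hb
  obtain ⟨x, hgx, hYb, hblt⟩ : ∃ x, actP a b = x ∧ (M.Y b = x ∨ M.Y b = 16777215 ^^^ x) ∧
      b < 2 ^ 24 := by
    rcases hb with hb | hb
    · exact ⟨b, hafix b hb, h b hb, lt_of_mem_codeList (hcode b (List.mem_of_mem_take hb)).1⟩
    · subst hb
      exact ⟨_, hac, hic, lt_of_mem_codeList hcC⟩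
  have e1 : g⁻¹ • toSet x = toSet b := by
    rw [inv_smul_eq_iff, ← hgr.toSet_actP, hgx]
  rcases hYb with e | e
  · left
    rw [e, e1, mask_toSet hblt]
  · right
    rw [e, toSet_compl, show g⁻¹ • (toSet x)ᶜ = (g⁻¹ • toSet x)ᶜ by
      ext p; simp [← Finset.inv_smul_mem_iff], e1, mask_compl, mask_toSet hblt]

theorem rigid_maskMap (M : MaskMap) :
    ∃ g ∈ M24, ∀ hg : g ∈ M24, ∀ m ∈ codeList,
      (M.comp hg).Y m = m ∨ (M.comp hg).Y m = 16777215 ^^^ m := by
  have key : ∀ k ≤ 11, ∃ g ∈ M24, ∀ hg : g ∈ M24, ∀ b ∈ rigB.take k,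
      (M.comp hg).Y b = b ∨ (M.comp hg).Y b = 16777215 ^^^ b := by
    intro k
    induction k with
    | zero => exact fun _ => ⟨1, one_mem _, fun _ b hb => by simp at hb⟩
    | succ k ih =>
      intro hk
      obtain ⟨g, hg, h⟩ := ih (by omega)
      obtain ⟨f, hf, h'⟩ := rig_step (M.comp hg) (by omega) (h hg)
      refine ⟨f * g, mul_mem hf hg, fun hfg b hb => ?_⟩
      have e : ((M.comp hg).comp hf).Y b = (M.comp hfg).Y b := by
        show mask (f • toSet (mask (g • toSet (M.Y b)))) = mask ((f * g) • toSet (M.Y b))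
        rw [toSet_mask, mul_smul]
      exact e ▸ h' hf b hb
  obtain ⟨g, hg, h⟩ := key 11 le_rfl
  refine ⟨g, hg, fun hg' m hm => ?_⟩
  obtain ⟨-, hB, -, hbasis, hlen⟩ := rig_checks
  rw [List.take_of_length_le hlen.le] at h
  have hgen : ∀ b ∈ golayBasis.reverse,
      b ∈ codeList ∧ ((M.comp hg').Y b = b ∨ (M.comp hg').Y b = 16777215 ^^^ b) := by
    intro b hb
    refine (M.comp hg').fixed_span (L := 16777215 :: rigB) (fun x hx => ?_)
      (by simpa using List.all_eq_true.1 hbasis b (List.mem_reverse.1 hb))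
    rcases List.mem_cons.1 hx with rfl | hx
    · exact ⟨full_mem_code, Or.inl (M.comp hg').full⟩
    · have hx' := List.all_eq_true.1 hB x hx
      simp only [Bool.and_eq_true, Nat.blt_eq] at hx'
      exact ⟨mem_codeList_iff.2 ⟨by simpa using hx'.1.2, hx'.1.1⟩, h hg' x hx⟩
  exact ((M.comp hg').fixed_span hgen hm).2

end CfsgLib.Spor
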