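import Cfsg.Agent.Lib.Spor.Rigid

/-!
Linear maps of the code that agree with M24 on each word modulo the full word.
-/

set_option autoImplicit false

namespace CfsgLib.Spor

open Cfsg
open scoped Pointwise

theorem mask_univ_eq : mask (Finset.univ : Finset GolayPt) = 16777215 := by decide +kernel

theorem word_full_eq : word 16777215 = (fun _ => 1 : GolayPt → ZMod 2) := by
  rw [one_eq_ind, ind, mask_univ_eq]

theorem mask_word {m : ℕ} (hm : m < 2 ^ 24) : mask (support₂ (word m)) = m := by
  rw [support₂_word, mask_toSet hm]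

theorem orbitwise_linear_is_mathieu
    (x : ↥golayCode ≃ₗ[ZMod 2] ↥golayCode)
    (h1 : ∀ e : ↥golayCode, (e : GolayPt → ZMod 2) = (fun _ => (1 : ZMod 2)) → x e = e)
    (horb : ∀ c : ↥golayCode, ∃ σ ∈ M24,
      ((x c : ↥golayCode) : GolayPt → ZMod 2) = (fun p => (c : GolayPt → ZMod 2) (σ.symm p)) ∨
      ((x c : ↥golayCode) : GolayPt → ZMod 2) =
        (fun p => (c : GolayPt → ZMod 2) (σ.symm p)) + fun _ => (1 : ZMod 2)) :
    ∃ σ ∈ M24, ∀ c : ↥golayCode,
      ((x c : ↥golayCode) : GolayPt → ZMod 2) = (fun p => (c : GolayPt → ZMod 2) (σ.symm p)) ∨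
      ((x c : ↥golayCode) : GolayPt → ZMod 2) =
        (fun p => (c : GolayPt → ZMod 2) (σ.symm p)) + fun _ => (1 : ZMod 2) := by
  classical
  have hw : ∀ {m}, m ∈ codeList → word m ∈ golayCode := fun h => word_mem_of_mem_codeList h
  let Y : ℕ → ℕ := fun m => if h : word m ∈ golayCode then
    mask (support₂ ((x ⟨word m, h⟩ : ↥golayCode) : GolayPt → ZMod 2)) else 0
  have hY : ∀ {m} (h : m ∈ codeList),
      Y m = mask (support₂ ((x ⟨word m, hw h⟩ : ↥golayCode) : GolayPt → ZMod 2)) :=
    fun {m} h => dif_pos (hw h)
  let M : MaskMap :=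
    { Y := Y
      mem := fun {m} h => by rw [hY h]; exact mem_golayCode_iff.1 (x _).2
      add := fun {a b} ha hb => by
        rw [hY (xor_mem_code ha hb), hY ha, hY hb, ← mask_support₂_add, ← Submodule.coe_add,
          ← map_add]
        congr 4
        exact Subtype.ext (word_xor a b)
      full := by
        rw [hY full_mem_code, h1 ⟨word 16777215, hw full_mem_code⟩ word_full_eq,
          mask_word (by norm_num)]
      inj := fun {m} hm h => by
        rw [hY hm] at h
        have h2 : x ⟨word m, hw hm⟩ = 0 := by
          refine Subtype.ext ?_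
          rw [← word_mask_support₂ ((x _ : ↥golayCode) : GolayPt → ZMod 2), h, word_zero]
          rfl
        rw [LinearEquiv.map_eq_zero_iff] at h2
        have h3 : word m = word 0 := by rw [word_zero]; exact congrArg Subtype.val h2
        rw [← mask_word (lt_of_mem_codeList hm), h3, mask_word (by norm_num)]
      cls := fun {m} hm => by
        rw [hY hm]
        obtain ⟨σ, hσ, hh⟩ := horb ⟨word m, hw hm⟩
        have hact : clsB (mask (support₂ (act σ (word m)))) = clsB m := by
          simp only [clsB, pop_mask, support₂_act, Finset.card_smul_finset, support₂_word,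
            card_toSet]
        rcases hh with hh | hh
        · rw [hh]; exact hact
        · rw [hh, mask_support₂_add, show (fun _ => (1 : ZMod 2)) = word 16777215 from
            word_full_eq.symm, mask_word (by norm_num), Nat.xor_comm, clsB_compl (mask_lt _)]
          exact hact }
  obtain ⟨g, hg, h⟩ := rigid_maskMap M
  refine ⟨g⁻¹, inv_mem hg, fun c => ?_⟩
  set m := mask (support₂ (c : GolayPt → ZMod 2)) with hm
  have hmC : m ∈ codeList := mem_golayCode_iff.1 c.2
  have hc : (⟨word m, hw hmC⟩ : ↥golayCode) = c := Subtype.ext (word_mask_support₂ _)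
  have hsup : toSet (Y m) = support₂ ((x c : ↥golayCode) : GolayPt → ZMod 2) := by
    rw [hY hmC, hc, toSet_mask]
  have hm2 : toSet m = support₂ (c : GolayPt → ZMod 2) := toSet_mask _
  rcases h hg m hmC with e | e
  · left
    apply support₂_injective
    show _ = support₂ (act g⁻¹ (c : GolayPt → ZMod 2))
    have e2 := congrArg toSet (show mask (g • toSet (Y m)) = m from e)
    rw [toSet_mask, hsup, hm2] at e2
    rw [support₂_act, ← e2, inv_smul_smul]
  · right
    have e2 := congrArg toSet (show mask (g • toSet (Y m)) = 16777215 ^^^ m from e)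
    rw [toSet_mask, hsup, toSet_compl, hm2] at e2
    apply support₂_injective
    show _ = support₂ (act g⁻¹ (c : GolayPt → ZMod 2) + fun _ => (1 : ZMod 2))
    have e3 := congrArg toSet (mask_support₂_add (act g⁻¹ (c : GolayPt → ZMod 2)) (fun _ => (1 : ZMod 2)))
    rw [toSet_mask, show (fun _ => (1 : ZMod 2)) = word 16777215 from word_full_eq.symm,
      mask_word (by norm_num), Nat.xor_comm, toSet_compl, toSet_mask, support₂_act] at e3
    rw [show (fun _ => (1 : ZMod 2)) = word 16777215 from word_full_eq.symm, e3,
      ← inv_smul_smul g (support₂ ((x c : ↥golayCode) : GolayPt → ZMod 2)), e2]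
    ext p
    simp [← Finset.inv_smul_mem_iff]

end CfsgLib.Spor
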