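import Cfsg.Agent.Lib.Spor.OrbitApply
import Cfsg.Agent.Lib.Spor.ListedTools
import Cfsg.Agent.Lib.Spor.Orb.SexKer
import Cfsg.Agent.Lib.Spor.Orb.TransSex

/-!
The action of a sextet stabiliser on its six tetrads.
-/

set_option autoImplicit false
set_option maxRecDepth 100000

namespace CfsgLib.Spor

open Cfsg
open scoped Pointwise

/-- the six masks of the first sextet -/
def sexBase : List ℕ := sextetParts (getT 144 sexTbl 0)

/-- the tetrad with a given number -/
def tetradB (k : Fin 6) : Finset GolayPt := toSet (sexBase.getD k 0)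

/-- the fourfold kernel elements of order at most two -/
def sexInvol : List ℕ :=
  ((List.range 192).map (getT 120 sexKerTbl)).filter fun a => Nat.beq (powP a 2) idP

theorem sexBase_facts :
    sexBase.length = 6 ∧ sexBase.all (fun m => Nat.blt m 16777216) = true ∧ sexBase.Nodup ∧
    (sexKerGens.all fun a => isM24P a && (sexBase.all fun m => Nat.beq (actP a m) m)) = true ∧
    sexInvol.length = 64 ∧ sexInvol.Nodup ∧
    (sexInvol.all fun a => sexInvol.all fun b => Nat.beq (powP (compP a b) 2) idP) = true ∧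
    sexSwaps.length = 5 ∧
    ((List.range 5).all fun k => isM24P (sexSwaps.getD k 0) && (List.range 6).all fun j =>
      Nat.beq (actP (sexSwaps.getD k 0) (sexBase.getD j 0))
        (sexBase.getD (if Nat.beq j k then k + 1 else if Nat.beq j (k + 1) then k else j) 0)) = true := by
  decide +kernel

theorem tetradB_injective : Function.Injective tetradB := by
  intro i j h
  obtain ⟨hlen, hlt, hnd, -⟩ := sexBase_facts
  have hi : (i : ℕ) < sexBase.length := by omega
  have hj : (j : ℕ) < sexBase.length := by omega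
  simp only [tetradB, List.getD_eq_getElem _ _ hi, List.getD_eq_getElem _ _ hj] at h
  have e := toSet_injOn (by simpa using List.all_eq_true.1 hlt _ (List.getElem_mem hi))
    (by simpa using List.all_eq_true.1 hlt _ (List.getElem_mem hj)) h
  exact Fin.ext ((hnd.getElem_inj_iff).1 e)

theorem sexSem_zero : sexK.ix.sem 0 = Finset.univ.image tetradB := by
  rw [show sexK.ix.sem 0 = toFam sexBase from sexK.fam_eq 0 (by decide +kernel)]
  obtain ⟨hlen, -⟩ := sexBase_facts
  ext t
  simp only [toFam, List.mem_toFinset, List.mem_map, Finset.mem_image, Finset.mem_univ, true_and]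
  constructor
  · rintro ⟨m, hm, rfl⟩
    obtain ⟨k, hk, rfl⟩ := List.mem_iff_getElem.1 hm
    exact ⟨⟨k, by omega⟩, by rw [tetradB, List.getD_eq_getElem _ _ hk]⟩
  · rintro ⟨k, rfl⟩
    have hk : (k : ℕ) < sexBase.length := by omega
    exact ⟨_, List.getElem_mem hk, by rw [tetradB, List.getD_eq_getElem _ _ hk]⟩

theorem exists_tetrad_perm (π : Equiv.Perm (Fin 6)) :
    ∃ g ∈ M24, ∀ k, g • tetradB k = tetradB (π k) := by
  have htop : π ∈ Submonoid.closure
      (Set.range fun i : Fin 5 => Equiv.swap i.castSucc i.succ) := by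
    rw [Equiv.Perm.mclosure_swap_castSucc_succ]; trivial
  induction htop using Submonoid.closure_induction with
  | one => exact ⟨1, one_mem _, fun k => by simp⟩
  | mul a b _ _ iha ihb =>
    obtain ⟨g, hg, hga⟩ := iha
    obtain ⟨h, hh, hhb⟩ := ihb
    exact ⟨g * h, mul_mem hg hh, fun k => by rw [mul_smul, hhb, hga, Equiv.Perm.mul_apply]⟩
  | mem x hx =>
    obtain ⟨i, rfl⟩ := hx
    have h := List.all_eq_true.1 sexBase_facts.2.2.2.2.2.2.2.2 i (List.mem_range.2 i.2)
    simp only [Bool.and_eq_true, List.all_eq_true, List.mem_range, Nat.beq_eq] at h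
    obtain ⟨σ, hσ, hr⟩ := exists_rep_M24 h.1
    refine ⟨σ, hσ, fun k => ?_⟩
    show σ • toSet _ = toSet _
    rw [← hr.toSet_actP, h.2 k k.2]
    refine congrArg (fun j => toSet (sexBase.getD j 0)) ?_
    rcases eq_or_ne k i.castSucc with rfl | h1
    · simp
    rcases eq_or_ne k i.succ with rfl | h2
    · simp
    rw [Equiv.swap_apply_of_ne_of_ne h1 h2, if_neg, if_neg]
    · intro h3; exact h2 (Fin.ext (by simpa using h3))
    · intro h3; exact h1 (Fin.ext (by simpa using h3))

theorem sextet_surj {S : Finset (Finset GolayPt)} (hS : S ∈ sextets) (e : Equiv.Perm ↥S) :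
    ∃ g ∈ MulAction.stabilizer ↥M24 S, ∀ t : ↥S,
      ((g : ↥M24) : Equiv.Perm GolayPt) • (t : Finset GolayPt) = ((e t : ↥S) : Finset GolayPt) := by
  obtain ⟨⟨c, hc⟩, hcS⟩ := sexK.exists_trans transSex_ok (sexK.ix.mem 0 (by decide +kernel)) hS
  change c • sexK.ix.sem 0 = S at hcS
  rw [sexSem_zero] at hcS
  have hmem : ∀ k, c • tetradB k ∈ S := fun k => hcS ▸ Finset.smul_mem_smul_finset (by simp)
  let u : Fin 6 → ↥S := fun k => ⟨c • tetradB k, hmem k⟩
  have hu : Function.Bijective u := by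
    refine ⟨fun i j h => tetradB_injective (smul_left_cancel c (congrArg Subtype.val h)), ?_⟩
    rintro ⟨t, ht⟩
    rw [← hcS] at ht
    obtain ⟨y, hy, rfl⟩ := Finset.mem_smul_finset.1 ht
    obtain ⟨k, -, rfl⟩ := Finset.mem_image.1 hy
    exact ⟨k, rfl⟩
  let U := Equiv.ofBijective u hu
  obtain ⟨g, hg, hgk⟩ := exists_tetrad_perm ((U.trans e).trans U.symm)
  have hk : ∀ k, (c * g * c⁻¹) • (c • tetradB k) = ((e (u k) : ↥S) : Finset GolayPt) := fun k => by
    rw [mul_smul, mul_smul, inv_smul_smul, hgk]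
    show ((U (U.symm (e (U k)))) : Finset GolayPt) = _
    rw [U.apply_symm_apply]
    rfl
  have hall : ∀ t : ↥S, (c * g * c⁻¹) • (t : Finset GolayPt) = ((e t : ↥S) : Finset GolayPt) := fun t => by
    obtain ⟨k, rfl⟩ := hu.2 t
    exact hk k
  refine ⟨⟨c * g * c⁻¹, mul_mem (mul_mem hc hg) (inv_mem hc)⟩, ?_, hall⟩
  refine Finset.eq_of_subset_of_card_le (fun x hx => ?_) (Finset.card_smul_finset _ _).ge
  obtain ⟨t, ht, rfl⟩ := Finset.mem_smul_finset.1 hx
  show (c * g * c⁻¹) • t ∈ S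
  rw [hall ⟨t, ht⟩]
  exact (e ⟨t, ht⟩).2

/-- the tetradwise stabiliser of the first sextet, as a listed group -/
theorem tetradwise_eq {g : Equiv.Perm GolayPt} :
    g ∈ genGroup sexKerGens → g ∈ M24 ∧ ∀ t ∈ sexK.ix.sem 0, g • t = t := by
  intro hg
  refine ⟨genGroup_le _ hg, ?_⟩
  have hle : genGroup sexKerGens ≤ ⨅ k : Fin 6, MulAction.stabilizer (Equiv.Perm GolayPt) (tetradB k) := by
    rw [genGroup, Subgroup.closure_le]
    rintro σ ⟨-, a, ha, hr⟩
    simp only [SetLike.mem_coe, Subgroup.mem_iInf, MulAction.mem_stabilizer_iff]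
    intro k
    have h := List.all_eq_true.1 sexBase_facts.2.2.2.1 a ha
    simp only [Bool.and_eq_true, List.all_eq_true, Nat.beq_eq] at h
    have hk : (k : ℕ) < sexBase.length := by rw [sexBase_facts.1]; exact k.2
    rw [tetradB, List.getD_eq_getElem _ _ hk, ← hr.toSet_actP, h.2 _ (List.getElem_mem hk)]
  intro t ht
  rw [sexSem_zero] at ht
  obtain ⟨k, -, rfl⟩ := Finset.mem_image.1 ht
  exact (Subgroup.mem_iInf.1 (hle hg) k)

theorem natCard_tetradwise {S : Finset (Finset GolayPt)} (hS : S ∈ sextets) :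
    Nat.card {g : ↥(MulAction.stabilizer ↥M24 S) //
      ∀ t ∈ S, ((g : ↥M24) : Equiv.Perm GolayPt) • t = t} = 192 := by
  have hmem : ∀ (m : ↥(MulAction.stabilizer ↥M24 S)), ∀ t ∈ S,
      ((m : ↥M24) : Equiv.Perm GolayPt) • t ∈ S := fun m t ht => by
    have h : ((m : ↥M24) : Equiv.Perm GolayPt) • S = S := m.2
    have h2 := Finset.smul_mem_smul_finset (a := ((m : ↥M24) : Equiv.Perm GolayPt)) ht
    rwa [h] at h2
  let ρ : ↥(MulAction.stabilizer ↥M24 S) →* Equiv.Perm ↥S := MonoidHom.mk' (fun m =>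
    Equiv.ofBijective (fun t : ↥S => (⟨_, hmem m t.1 t.2⟩ : ↥S))
      (Finite.injective_iff_bijective.1 fun a b h =>
        Subtype.ext (smul_left_cancel _ (congrArg Subtype.val h))))
    fun a b => Equiv.ext fun t => Subtype.ext (mul_smul _ _ _)
  have hsur : Function.Surjective ρ := fun e => by
    obtain ⟨g, hg, h⟩ := sextet_surj hS e
    exact ⟨⟨g, hg⟩, Equiv.ext fun t => Subtype.ext (h t)⟩
  have hk := ρ.ker.card_mul_index
  rw [Subgroup.index_ker, MonoidHom.range_eq_top.2 hsur, Subgroup.card_top,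
    sexK.natCard_stab transSex_ok hS (k := 138240) (by decide +kernel)] at hk
  have hc : Nat.card (Equiv.Perm ↥S) = 720 := by
    have h6 : S.card = 6 := by
      obtain ⟨i, hi, rfl⟩ := sexK.ix.complete S hS
      rw [show sexK.ix.sem i = toFam (sexK.parts i) from sexK.fam_eq i hi, toFam,
        List.toFinset_card_of_nodup (map_toSet_nodup (sexK.parts_ok i hi)), List.length_map]
      rfl
    rw [Nat.card_perm, Nat.card_eq_fintype_card, Fintype.card_coe, h6]; rfl
  rw [hc] at hk
  have e : Nat.card {g : ↥(MulAction.stabilizer ↥M24 S) //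
      ∀ t ∈ S, ((g : ↥M24) : Equiv.Perm GolayPt) • t = t} = Nat.card ρ.ker :=
    Nat.card_congr (Equiv.subtypeEquivRight fun g => by
      constructor
      · intro h; exact Equiv.ext fun t => Subtype.ext (h t.1 t.2)
      · intro h t ht; exact congrArg Subtype.val (Equiv.congr_fun h ⟨t, ht⟩))
  omega

/-- the involutions of the base tetradwise stabiliser, with the identity -/
def baseSq : Set (Equiv.Perm GolayPt) :=
  {g | g ∈ M24 ∧ (∀ t ∈ sexK.ix.sem 0, g • t = t) ∧ g * g = 1}

theorem baseKer_subset {g : Equiv.Perm GolayPt} (hg : g ∈ M24)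
    (hfix : ∀ t ∈ sexK.ix.sem 0, g • t = t) : g ∈ genGroup sexKerGens := by
  set S := sexK.ix.sem 0
  have hS : S ∈ sextets := sexK.ix.mem 0 (by decide +kernel)
  let H : Set (Equiv.Perm GolayPt) := {g | g ∈ M24 ∧ ∀ t ∈ S, g • t = t}
  have hH : H.ncard = 192 := by
    rw [← Nat.card_coe_set_eq, ← natCard_tetradwise hS]
    refine Nat.card_congr
      { toFun := fun g => ⟨⟨⟨g.1, g.2.1⟩, Finset.eq_of_subset_of_card_le (fun x hx => by
          obtain ⟨t, ht, rfl⟩ := Finset.mem_smul_finset.1 hx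
          show g.1 • t ∈ S
          rw [g.2.2 t ht]; exact ht) (Finset.card_smul_finset _ _).ge⟩, g.2.2⟩
        invFun := fun g => ⟨g.1.1.1, g.1.1.2, g.2⟩
        left_inv := fun _ => rfl
        right_inv := fun _ => rfl }
  have hsub : (genGroup sexKerGens : Set (Equiv.Perm GolayPt)) ⊆ H := fun x hx => tetradwise_eq hx
  have heq := Set.eq_of_subset_of_ncard_le hsub (by
    rw [hH, ← Nat.card_coe_set_eq]
    exact (natCard_genGroup sexKer_listed).ge) (Set.toFinite _)
  exact (heq ▸ (show g ∈ H from ⟨hg, hfix⟩) : g ∈ (genGroup sexKerGens : Set (Equiv.Perm GolayPt)))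

theorem baseSq_mul {f g : Equiv.Perm GolayPt} (hf : f ∈ baseSq) (hg : g ∈ baseSq) :
    f * g ∈ baseSq := by
  refine ⟨mul_mem hf.1 hg.1, fun t ht => by rw [mul_smul, hg.2.1 t ht, hf.2.1 t ht], ?_⟩
  have hix : ∀ x ∈ baseSq, ∃ a ∈ sexInvol, Rep x a := by
    intro x hx
    obtain ⟨i, hi, hr⟩ := listed_complete sexKer_listed (baseKer_subset hx.1 hx.2.1)
    refine ⟨_, List.mem_filter.2 ⟨List.mem_map.2 ⟨i, List.mem_range.2 hi, rfl⟩, ?_⟩, hr⟩
    rw [Nat.beq_eq, show powP (getT 120 sexKerTbl i) 2 = compP _ (powP _ 1) from rfl,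
      hr.compP_eq (hr.pow 1), pow_one, hx.2.2]
    decide +kernel
  obtain ⟨a, ha, har⟩ := hix f hf
  obtain ⟨b, hb, hbr⟩ := hix g hg
  have h := List.all_eq_true.1 (List.all_eq_true.1 sexBase_facts.2.2.2.2.2.2.1 a ha) b hb
  rw [Nat.beq_eq] at h
  have h2 := (har.mul hbr).pow 2
  rw [h] at h2
  exact (pow_two (f * g)).symm.trans (h2.inj rep_one)

theorem ncard_baseSq : baseSq.ncard = 64 := by
  classical
  have hlist : ∀ a ∈ sexInvol, ∃ x ∈ baseSq, Rep x a := by
    intro a ha
    obtain ⟨hm, hsq⟩ := List.mem_filter.1 ha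
    obtain ⟨i, hi, rfl⟩ := List.mem_map.1 hm
    obtain ⟨σ, hσ, hr⟩ := listed_mem sexKer_listed (List.mem_range.1 hi)
    refine ⟨σ, ⟨(tetradwise_eq hσ).1, (tetradwise_eq hσ).2, ?_⟩, hr⟩
    rw [Nat.beq_eq] at hsq
    have h2 := hr.pow 2
    rw [hsq] at h2
    exact (pow_two σ).symm.trans (h2.inj rep_one)
  choose F hF hFr using hlist
  have e : baseSq = Set.range fun a : ↥sexInvol.toFinset => F a.1 (List.mem_toFinset.1 a.2) := by
    ext x
    constructor
    · intro hx
      obtain ⟨i, hi, hr⟩ := listed_complete sexKer_listed (baseKer_subset hx.1 hx.2.1)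
      have ha : getT 120 sexKerTbl i ∈ sexInvol := by
        refine List.mem_filter.2 ⟨List.mem_map.2 ⟨i, List.mem_range.2 hi, rfl⟩, ?_⟩
        rw [Nat.beq_eq, show powP (getT 120 sexKerTbl i) 2 = compP _ (powP _ 1) from rfl,
          hr.compP_eq (hr.pow 1), pow_one, hx.2.2]
        decide +kernel
      exact ⟨⟨_, List.mem_toFinset.2 ha⟩, (hFr _ ha).inj hr⟩
    · rintro ⟨a, rfl⟩; exact hF _ _
  rw [e, Set.ncard_range_of_injective, Nat.card_eq_fintype_card, Fintype.card_coe,
    List.toFinset_card_of_nodup sexBase_facts.2.2.2.2.2.1]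
  · exact sexBase_facts.2.2.2.2.1
  · intro a b hab
    simp only at hab
    obtain ⟨i, hi, hia⟩ := List.mem_map.1 (List.mem_filter.1 (List.mem_toFinset.1 a.2)).1
    obtain ⟨j, hj, hjb⟩ := List.mem_map.1 (List.mem_filter.1 (List.mem_toFinset.1 b.2)).1
    have h1 := hFr _ (List.mem_toFinset.1 a.2)
    have h2 := hFr _ (List.mem_toFinset.1 b.2)
    rw [hab] at h1
    have hij : i = j := listed_index_unique sexKer_listed (List.mem_range.1 hi) (List.mem_range.1 hj)
      ((congrArg (Rep _) hia.symm).mp h1) ((congrArg (Rep _) hjb.symm).mp h2)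
    exact Subtype.ext (by rw [← hia, ← hjb, hij])

theorem sextet_normal_subgroup {S : Finset (Finset GolayPt)} (hS : S ∈ sextets) :
    ∃ N : Subgroup ↥(MulAction.stabilizer ↥M24 S), N.Normal ∧ Nat.card N = 64 ∧
      ∀ x ∈ N, x * x = 1 := by
  obtain ⟨⟨c, hc⟩, hcS⟩ := sexK.exists_trans transSex_ok (sexK.ix.mem 0 (by decide +kernel)) hS
  change c • sexK.ix.sem 0 = S at hcS
  subst hcS
  set S0 := sexK.ix.sem 0
  -- membership after moving to the base sextet
  let v : ↥(MulAction.stabilizer ↥M24 (c • S0)) → Equiv.Perm GolayPt := fun m =>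
    c⁻¹ * ((m : ↥M24) : Equiv.Perm GolayPt) * c
  have hv : ∀ m, v m ∈ M24 := fun m => mul_mem (mul_mem (inv_mem hc) (m : ↥M24).2) hc
  have hfix : ∀ m, v m • S0 = S0 := fun m => by
    have h : ((m : ↥M24) : Equiv.Perm GolayPt) • (c • S0) = c • S0 := m.2
    simp only [v, mul_smul, h, inv_smul_smul]
  have hvm : ∀ a b, v (a * b) = v a * v b := fun a b => by
    show c⁻¹ * (((a : ↥M24) : Equiv.Perm GolayPt) * ((b : ↥M24) : Equiv.Perm GolayPt)) * c = _
    simp only [v]
    group
  let N : Subgroup ↥(MulAction.stabilizer ↥M24 (c • S0)) :=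
    { carrier := {m | v m ∈ baseSq}
      mul_mem' := fun {a b} ha hb => by
        show v (a * b) ∈ baseSq
        rw [hvm]; exact baseSq_mul ha hb
      one_mem' := by
        show c⁻¹ * 1 * c ∈ baseSq
        rw [mul_one, inv_mul_cancel]
        exact ⟨one_mem _, fun t _ => one_smul _ t, one_mul 1⟩
      inv_mem' := fun {a} ha => by
        show v a⁻¹ ∈ baseSq
        have e : v a⁻¹ = v a := by
          have h : v a * v a = 1 := ha.2.2
          calc v a⁻¹ = v a⁻¹ * (v a * v a) := by rw [h, mul_one]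
            _ = v a := by rw [← mul_assoc, ← hvm, inv_mul_cancel]; simp [v]
        rw [e]; exact ha }
  refine ⟨N, ⟨fun n hn g => ?_⟩, ?_, fun x hx => ?_⟩
  · show v (g * n * g⁻¹) ∈ baseSq
    obtain ⟨hn1, hn2, hn3⟩ := (show v n ∈ baseSq from hn)
    have hinv : v g⁻¹ = (v g)⁻¹ := eq_inv_of_mul_eq_one_left (by rw [← hvm]; simp [v])
    rw [hvm, hvm, hinv]
    refine ⟨mul_mem (mul_mem (hv g) hn1) (inv_mem (hv g)), fun t ht => ?_, ?_⟩
    · have ht' : (v g)⁻¹ • t ∈ S0 := by
        have h := Finset.smul_mem_smul_finset (a := (v g)⁻¹) ht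
        rwa [show (v g)⁻¹ • S0 = S0 by rw [inv_smul_eq_iff, hfix g]] at h
      rw [mul_smul, mul_smul, hn2 _ ht', smul_inv_smul]
    · calc v g * v n * (v g)⁻¹ * (v g * v n * (v g)⁻¹) = v g * (v n * v n) * (v g)⁻¹ := by group
        _ = 1 := by rw [hn3]; group
  · rw [← ncard_baseSq, ← Nat.card_coe_set_eq]
    refine Nat.card_congr
      { toFun := fun m => ⟨v m.1, m.2⟩
        invFun := fun g => ⟨⟨⟨c * g.1 * c⁻¹, mul_mem (mul_mem hc g.2.1) (inv_mem hc)⟩, ?_⟩, ?_⟩
        left_inv := fun m => Subtype.ext (Subtype.ext (Subtype.ext (by simp [v, mul_assoc])))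
        right_inv := fun g => Subtype.ext (by simp [v, mul_assoc]) }
    · show (c * g.1 * c⁻¹) • (c • S0) = c • S0
      rw [mul_smul, mul_smul, inv_smul_smul]
      refine congrArg (c • ·) (Finset.eq_of_subset_of_card_le (fun x hx => ?_) (Finset.card_smul_finset _ _).ge)
      obtain ⟨t, ht, rfl⟩ := Finset.mem_smul_finset.1 hx
      rw [g.2.2.1 t ht]; exact ht
    · show c⁻¹ * (c * g.1 * c⁻¹) * c ∈ baseSq
      have e : c⁻¹ * (c * g.1 * c⁻¹) * c = g.1 := by group
      rw [e]; exact g.2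
  · have h : v x * v x = 1 := (show v x ∈ baseSq from hx).2.2
    rw [← hvm] at h
    apply Subtype.ext
    apply Subtype.ext
    have h2 : c * v (x * x) * c⁻¹ = 1 := by rw [h]; group
    simpa [v, mul_assoc] using h2

end CfsgLib.Spor
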