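import Cfsg.Agent.Lib.Spor.GolayFacts
import Cfsg.Agent.Lib.Spor.SteinerSmall
import Cfsg.Agent.Lib.Spor.Chain
import Cfsg.Prelude.Def_SporadicCombinatorics

/-!
Elementary theory of sextets and trios.
-/

set_option autoImplicit false

namespace CfsgLib.Spor

open Cfsg
open scoped Pointwise symmDiff

/-- the sextet through a tetrad -/
noncomputable def sextetOf (t : Finset GolayPt) : Finset (Finset GolayPt) :=
  insert t ((blocksThrough octads t).image fun o => o \ t)

theorem octad_inter_card {o o' : Finset GolayPt} (ho : o ∈ octads) (ho' : o' ∈ octads)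
    (h : o ≠ o') : (o ∩ o').card ≤ 4 := by
  by_contra hc
  exact h (octad_eq_of_five ho ho' (by omega))

theorem card_blocksThrough_four {t : Finset GolayPt} (ht : t.card = 4) :
    (blocksThrough octads t).card = 5 :=
  card_blocksThrough_eq isSteinerSystem_octads t ht (by norm_num) (by decide +kernel)
    (by rw [card_golayPt]; decide +kernel)

theorem sdiff_injOn_blocks {t : Finset GolayPt} :
    Set.InjOn (fun o => o \ t) (blocksThrough octads t : Set (Finset GolayPt)) := by
  intro o ho o' ho' h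
  rw [← Finset.sdiff_union_of_subset (mem_blocksThrough.1 ho).2,
    ← Finset.sdiff_union_of_subset (mem_blocksThrough.1 ho').2]
  exact congrArg (· ∪ t) h

theorem union_sdiff_octad {t o : Finset GolayPt} (ho : o ∈ blocksThrough octads t) :
    t ∪ (o \ t) ∈ octads := by
  rw [Finset.union_sdiff_of_subset (mem_blocksThrough.1 ho).2]
  exact (mem_blocksThrough.1 ho).1

theorem ne_sdiff {t o : Finset GolayPt} (ht : t.card = 4) : t ≠ o \ t := by
  intro h
  obtain ⟨x, hx⟩ := Finset.card_pos.1 (by omega : 0 < t.card)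
  exact (Finset.mem_sdiff.1 (h ▸ hx)).2 hx

theorem blocks_inter_eq {t o o' : Finset GolayPt} (ht : t.card = 4)
    (ho : o ∈ blocksThrough octads t) (ho' : o' ∈ blocksThrough octads t) (hne : o ≠ o') :
    o ∩ o' = t := by
  obtain ⟨hoB, hto⟩ := mem_blocksThrough.1 ho
  obtain ⟨hoB', hto'⟩ := mem_blocksThrough.1 ho'
  exact (Finset.eq_of_subset_of_card_le (Finset.subset_inter hto hto')
    (by rw [ht]; exact octad_inter_card hoB hoB' hne)).symm

theorem sdiff_union_sdiff {t o o' : Finset GolayPt} (ht : t.card = 4)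
    (ho : o ∈ blocksThrough octads t) (ho' : o' ∈ blocksThrough octads t) (hne : o ≠ o') :
    (o \ t) ∪ (o' \ t) ∈ octads := by
  have hi := blocks_inter_eq ht ho ho' hne
  have : (o \ t) ∪ (o' \ t) = symmDiff o o' := by
    subst hi
    show _ = (o \ o') ∪ (o' \ o)
    rw [Finset.sdiff_inter_self_left, Finset.inter_comm, Finset.sdiff_inter_self_left]
  rw [this]
  exact s5824_symmDiff_mem card_golayPt isSteinerSystem_octads (mem_blocksThrough.1 ho).1
    (mem_blocksThrough.1 ho').1 (by rw [hi, ht])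

theorem card_sdiff_block {t o : Finset GolayPt} (ht : t.card = 4)
    (ho : o ∈ blocksThrough octads t) : (o \ t).card = 4 := by
  rw [Finset.card_sdiff_of_subset (mem_blocksThrough.1 ho).2, ht,
    card_octad (mem_blocksThrough.1 ho).1]

theorem self_mem_sextetOf (t : Finset GolayPt) : t ∈ sextetOf t := Finset.mem_insert_self _ _

theorem sextetOf_mem {t : Finset GolayPt} (ht : t.card = 4) : sextetOf t ∈ sextets := by
  refine ⟨?_, ?_, ?_⟩
  · rw [sextetOf, Finset.card_insert_of_notMem, Finset.card_image_of_injOn sdiff_injOn_blocks,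
      card_blocksThrough_four ht]
    intro h
    obtain ⟨o, -, ho⟩ := Finset.mem_image.1 h
    exact ne_sdiff ht ho.symm
  · intro u hu
    rcases Finset.mem_insert.1 hu with rfl | hu
    · exact ht
    · obtain ⟨o, ho, rfl⟩ := Finset.mem_image.1 hu
      exact card_sdiff_block ht ho
  · intro u hu v hv huv
    rcases Finset.mem_insert.1 hu with rfl | hu <;> rcases Finset.mem_insert.1 hv with rfl | hv
    · exact absurd rfl huv
    · obtain ⟨o, ho, rfl⟩ := Finset.mem_image.1 hv
      exact union_sdiff_octad ho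
    · obtain ⟨o, ho, rfl⟩ := Finset.mem_image.1 hu
      rw [Finset.union_comm]; exact union_sdiff_octad ho
    · obtain ⟨o, ho, rfl⟩ := Finset.mem_image.1 hu
      obtain ⟨o', ho', rfl⟩ := Finset.mem_image.1 hv
      exact sdiff_union_sdiff ht ho ho' (fun h => huv (by rw [h]))

theorem sextet_disjoint {S : Finset (Finset GolayPt)} (hS : S ∈ sextets) {t u : Finset GolayPt}
    (ht : t ∈ S) (hu : u ∈ S) (hne : t ≠ u) : Disjoint t u := by
  have h1 := card_octad (hS.2.2 t ht u hu hne)
  rw [Finset.disjoint_iff_inter_eq_empty, ← Finset.card_eq_zero]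
  have := Finset.card_union_add_card_inter t u
  rw [h1, hS.2.1 t ht, hS.2.1 u hu] at this
  omega

theorem eq_sextetOf {S : Finset (Finset GolayPt)} (hS : S ∈ sextets) {t : Finset GolayPt}
    (ht : t ∈ S) : S = sextetOf t := by
  have hc := hS.2.1 t ht
  refine Finset.eq_of_subset_of_card_le (fun u hu => ?_) (by rw [hS.1, (sextetOf_mem hc).1])
  by_cases h : u = t
  · subst h; exact self_mem_sextetOf u
  refine Finset.mem_insert_of_mem (Finset.mem_image.2 ⟨t ∪ u, ?_, ?_⟩)
  · exact mem_blocksThrough.2 ⟨hS.2.2 t ht u hu (Ne.symm h), Finset.subset_union_left⟩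
  · rw [Finset.union_sdiff_left]
    exact Finset.sdiff_eq_self_of_disjoint (sextet_disjoint hS ht hu (Ne.symm h)).symm

theorem sextet_cover {S : Finset (Finset GolayPt)} (hS : S ∈ sextets) (p : GolayPt) :
    ∃ t ∈ S, p ∈ t := by
  have hdisj : (S : Set (Finset GolayPt)).PairwiseDisjoint id :=
    fun t ht u hu hne => sextet_disjoint hS ht hu hne
  have hcard : (S.biUnion id).card = Fintype.card GolayPt := by
    rw [Finset.card_biUnion hdisj]
    simp only [id_eq]
    rw [Finset.sum_congr rfl (fun t ht => hS.2.1 t ht), Finset.sum_const,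
      hS.1, card_golayPt]
    rfl
  rw [Finset.card_eq_iff_eq_univ] at hcard
  have hp := Finset.mem_univ p
  rw [← hcard] at hp
  simpa using hp

theorem existsUnique_sextet {t : Finset GolayPt} (ht : t.card = 4) :
    ∃! S : Finset (Finset GolayPt), S ∈ sextets ∧ t ∈ S :=
  ⟨sextetOf t, ⟨sextetOf_mem ht, self_mem_sextetOf t⟩, fun _ h => eq_sextetOf h.1 h.2⟩

theorem smul_mem_sextets {g : Equiv.Perm GolayPt} (hg : g ∈ M24)
    {S : Finset (Finset GolayPt)} (hS : S ∈ sextets) : g • S ∈ sextets := by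
  refine ⟨by rw [Finset.card_smul_finset]; exact hS.1, ?_, ?_⟩
  · intro t ht
    obtain ⟨u, hu, rfl⟩ := Finset.mem_smul_finset.1 ht
    rw [Finset.card_smul_finset]; exact hS.2.1 u hu
  · intro t ht v hv hne
    obtain ⟨u, hu, rfl⟩ := Finset.mem_smul_finset.1 ht
    obtain ⟨w, hw, rfl⟩ := Finset.mem_smul_finset.1 hv
    rw [← Finset.smul_finset_union]
    exact smul_octad_mem hg (hS.2.2 u hu w hw fun h => hne (by rw [h]))

theorem compl_union_octad {o o' : Finset GolayPt} (ho : o ∈ octads) (ho' : o' ∈ octads)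
    (hd : Disjoint o o') : (o ∪ o')ᶜ ∈ octads := by
  refine ⟨?_, by rw [Finset.card_compl, Finset.card_union_of_disjoint hd, card_octad ho,
    card_octad ho', card_golayPt]⟩
  have huniv : Finset.univ ∈ supports (golayCode : Set (GolayPt → ZMod 2)) :=
    mem_supports_iff.2 qr_one_mem_codeList.1
  have h1 : o ∪ o' = symmDiff o o' := by
    rw [symmDiff_eq_sup_sdiff_inf, disjoint_iff.1 hd, sdiff_bot]; rfl
  have h2 : ∀ s : Finset GolayPt, sᶜ = symmDiff Finset.univ s := fun s => by
    rw [show symmDiff Finset.univ s = (Finset.univ \ s) ∪ (s \ Finset.univ) from rfl]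
    ext x; simp
  rw [h2, h1]
  exact symmDiff_mem_supports huniv (symmDiff_mem_supports ho.1 ho'.1)

/-- the trio through two disjoint octads -/
def trioOf (o o' : Finset GolayPt) : Finset (Finset GolayPt) := {o, o', (o ∪ o')ᶜ}

theorem octad_nonempty {o : Finset GolayPt} (ho : o ∈ octads) : o.Nonempty :=
  Finset.card_pos.1 (by rw [card_octad ho]; norm_num)

theorem octad_ne_of_disjoint {o o' : Finset GolayPt} (ho : o ∈ octads) (hd : Disjoint o o') :
    o ≠ o' := by
  rintro rfl
  exact (octad_nonempty ho).ne_empty (disjoint_self.1 hd)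

theorem trioOf_mem {o o' : Finset GolayPt} (ho : o ∈ octads) (ho' : o' ∈ octads)
    (hd : Disjoint o o') : trioOf o o' ∈ trios := by
  have h3 := compl_union_octad ho ho' hd
  have d1 : Disjoint o (o ∪ o')ᶜ := disjoint_compl_right.mono_left Finset.subset_union_left
  have d2 : Disjoint o' (o ∪ o')ᶜ := disjoint_compl_right.mono_left Finset.subset_union_right
  refine ⟨?_, ?_, ?_⟩
  · exact Finset.card_eq_three.2 ⟨o, o', _, octad_ne_of_disjoint ho hd,
      octad_ne_of_disjoint ho d1, octad_ne_of_disjoint ho' d2, rfl⟩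
  · intro x hx
    simp only [trioOf, Finset.mem_insert, Finset.mem_singleton] at hx
    rcases hx with rfl | rfl | rfl <;> assumption
  · intro x hx y hy hne
    simp only [trioOf, Finset.mem_insert, Finset.mem_singleton] at hx hy
    rcases hx with rfl | rfl | rfl <;> rcases hy with rfl | rfl | rfl <;>
      first
      | exact absurd rfl hne
      | assumption
      | exact hd.symm
      | exact d1.symm
      | exact d2.symm

theorem eq_trioOf {T : Finset (Finset GolayPt)} (hT : T ∈ trios) {o o' : Finset GolayPt}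
    (ho : o ∈ T) (ho' : o' ∈ T) (hne : o ≠ o') : T = trioOf o o' := by
  obtain ⟨hc, hoct, hdisj⟩ := hT
  obtain ⟨r, hr⟩ : ∃ r, r ∈ (T.erase o).erase o' := by
    apply Finset.card_pos.1
    rw [Finset.card_erase_of_mem (Finset.mem_erase.2 ⟨Ne.symm hne, ho'⟩),
      Finset.card_erase_of_mem ho, hc]
    norm_num
  simp only [Finset.mem_erase] at hr
  obtain ⟨hr1, hr2, hrT⟩ := hr
  have hsub : r ⊆ (o ∪ o')ᶜ := by
    rw [Finset.subset_compl_iff_disjoint_right]
    exact Finset.disjoint_union_right.2 ⟨hdisj r hrT o ho hr2, hdisj r hrT o' ho' hr1⟩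
  have hreq : r = (o ∪ o')ᶜ := Finset.eq_of_subset_of_card_le hsub
    (by rw [card_octad (compl_union_octad (hoct o ho) (hoct o' ho') (hdisj o ho o' ho' hne)),
      card_octad (hoct r hrT)])
  have hsub' : trioOf o o' ⊆ T := by
    intro x hx
    simp only [trioOf, Finset.mem_insert, Finset.mem_singleton] at hx
    rcases hx with rfl | rfl | rfl
    · exact ho
    · exact ho'
    · rw [← hreq]; exact hrT
  exact (Finset.eq_of_subset_of_card_le hsub' (by
    rw [hc, (trioOf_mem (hoct o ho) (hoct o' ho') (hdisj o ho o' ho' hne)).1])).symm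

theorem smul_mem_trios {g : Equiv.Perm GolayPt} (hg : g ∈ M24)
    {T : Finset (Finset GolayPt)} (hT : T ∈ trios) : g • T ∈ trios := by
  refine ⟨by rw [Finset.card_smul_finset]; exact hT.1, ?_, ?_⟩
  · intro t ht
    obtain ⟨u, hu, rfl⟩ := Finset.mem_smul_finset.1 ht
    exact smul_octad_mem hg (hT.2.1 u hu)
  · intro t ht v hv hne
    obtain ⟨u, hu, rfl⟩ := Finset.mem_smul_finset.1 ht
    obtain ⟨w, hw, rfl⟩ := Finset.mem_smul_finset.1 hv
    rw [Finset.disjoint_iff_inter_eq_empty, ← Finset.smul_finset_inter,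
      Finset.disjoint_iff_inter_eq_empty.1 (hT.2.2 u hu w hw fun h => hne (by rw [h])),
      Finset.smul_finset_empty]

theorem trio_cover {T : Finset (Finset GolayPt)} (hT : T ∈ trios) (p : GolayPt) :
    ∃ o ∈ T, p ∈ o := by
  obtain ⟨o, o', o'', h1, h2, h3, rfl⟩ := Finset.card_eq_three.1 hT.1
  have h := eq_trioOf hT (o := o) (o' := o') (by simp) (by simp) h1
  by_cases hp : p ∈ o ∪ o'
  · rcases Finset.mem_union.1 hp with hp | hp
    · exact ⟨o, by simp, hp⟩
    · exact ⟨o', by simp, hp⟩
  · exact ⟨(o ∪ o')ᶜ, h ▸ by simp [trioOf], Finset.mem_compl.2 hp⟩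

end CfsgLib.Spor
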