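import Cfsg.Agent.Lib.Spor.OrbitBases
import Cfsg.Agent.Lib.Spor.Orb.FivePt

/-!
Six points of the code group: the two classes and their pointwise stabilisers.
-/

set_option autoImplicit false
set_option maxRecDepth 100000

namespace CfsgLib.Spor

open Cfsg
open scoped Pointwise

/-- the sixth base index -/
def sixthIdx (inOct : Bool) : ℕ := if inOct then 7 else 5

theorem five_facts :
    m24Chain.map Prod.fst = [0, 1, 2, 3, 4, 5, 7] ∧
    (m24Chain.map fun x => x.2.length) = [24, 23, 22, 21, 20, 16, 3] ∧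
    singles [1, 2, 4, 8, 16, 5279] = fivePtL ∧
    ((List.range 24).all fun j => Nat.blt j 5 ||
      (octCover (31 ||| 2 ^ j) == Nat.testBit 5279 j)) = true := by decide +kernel

/-- the fixer of the first five points -/
def fixFive : Subgroup ↥M24 := (fixL M24 [0, 1, 2, 3, 4]).subgroupOf M24

theorem mem_fixFive {m : ↥M24} : m ∈ fixFive ↔
    ∀ i < 5, (m : Equiv.Perm GolayPt) (pt i) = pt i := by
  rw [fixFive, Subgroup.mem_subgroupOf, mem_fixL]
  constructor
  · exact fun h i hi => h.2 i (by interval_cases i <;> simp)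
  · exact fun h => ⟨m.2, fun b hb => h b (by revert b; decide)⟩

theorem natCard_fixFive : Nat.card fixFive = 48 := by
  have h := isChain_M24.card_fixL 5
  rw [List.map_take, five_facts.1, List.map_drop, five_facts.2.1] at h
  rw [fixFive, Nat.card_congr (Subgroup.subgroupOfEquivOfLe (fun g hg => (mem_fixL.1 hg).1)).toEquiv]
  exact h

theorem five_meets {a : Equiv.Perm GolayPt} {x : Fin 5 → GolayPt}
    (h : ∀ i : Fin 5, a (pt i) = x i) {y : GolayPt} (hy : ∀ i, x i ≠ y) :
    meetsAt a [1, 2, 4, 8, 16, 5279] {y} =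
      [0, 0, 0, 0, 0, ((a • toSet 5279) ∩ {y}).card] := by
  have hm : ∀ i : Fin 5, ((a • toSet (2 ^ (i : ℕ))) ∩ ({y} : Finset GolayPt)).card = 0 := by
    intro i
    rw [toSet_two_pow _ (by omega), smul_pt_singleton, h i, card_pt_inter_zero]
    simpa using hy i
  simp only [meetsAt, List.map_cons, List.map_nil]
  rw [show ((a • toSet 1) ∩ ({y} : Finset GolayPt)).card = 0 from hm 0,
    show ((a • toSet 2) ∩ ({y} : Finset GolayPt)).card = 0 from hm 1,
    show ((a • toSet 4) ∩ ({y} : Finset GolayPt)).card = 0 from hm 2,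
    show ((a • toSet 8) ∩ ({y} : Finset GolayPt)).card = 0 from hm 3,
    show ((a • toSet 16) ∩ ({y} : Finset GolayPt)).card = 0 from hm 4]

theorem exists_six_normal (x : Fin 6 ↪ GolayPt) :
    ∃ a ∈ M24, ∃ b : Bool, (∀ i : Fin 5, a (pt i) = x i.castSucc) ∧
      a (pt (sixthIdx b)) = x 5 ∧ (b = true ↔ ∃ o ∈ octads, Finset.univ.map x ⊆ o) := by
  obtain ⟨a, ha, hax⟩ := exists_five_base (Fin.castSuccEmb.trans x)
  change ∀ i : Fin 5, a (pt i) = x i.castSucc at hax
  set j := idx (a⁻¹ (x 5)) with hj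
  have hjlt : j < 24 := idx_lt _
  have haj : a (pt j) = x 5 := by rw [hj, pt_idx]; simp
  have hj5 : ¬ j < 5 := fun h => by
    have h2 := hax ⟨j, h⟩
    rw [haj] at h2
    exact absurd (x.injective h2) (by simp [Fin.ext_iff]; omega)
  set b := Nat.testBit 5279 j with hb
  have hcov : (∃ o ∈ octads, Finset.univ.map x ⊆ o) ↔ b = true := by
    have e : Finset.univ.map x = a • toSet (31 ||| 2 ^ j) := by
      rw [toSet_or, show toSet 31 = Finset.univ.image (fun i : Fin 5 => pt i) by decide +kernel,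
        toSet_two_pow j hjlt, Finset.smul_finset_union, smul_pt_singleton, haj]
      ext z
      simp only [Finset.mem_map, Finset.mem_univ, true_and, Finset.mem_union, Finset.mem_singleton,
        Finset.mem_smul_finset, Finset.mem_image, exists_exists_eq_and, Equiv.Perm.smul_def]
      constructor
      · rintro ⟨i, rfl⟩
        induction i using Fin.lastCases with
        | last => exact Or.inr rfl
        | cast i => exact Or.inl ⟨i, hax i⟩
      · rintro (⟨i, rfl⟩ | rfl)
        · exact ⟨i.castSucc, (hax i).symm⟩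
        · exact ⟨5, rfl⟩
    have h1 := List.all_eq_true.1 five_facts.2.2.2 j (List.mem_range.2 hjlt)
    simp only [Bool.or_eq_true, Nat.blt_eq, hj5, false_or, beq_iff_eq] at h1
    rw [e, exists_octad_smul ha, exists_octad_superset (Nat.or_lt_two_pow (n := 24) (by norm_num)
      (Nat.pow_lt_pow_right (by norm_num) hjlt)), h1]
  have hc : sixthIdx b < 24 ∧ ¬ sixthIdx b < 5 ∧ Nat.testBit 5279 (sixthIdx b) = b := by
    cases b <;> decide +kernel
  have hne : ∀ k, k < 24 → ¬ k < 5 → ∀ i : Fin 5, x i.castSucc ≠ a (pt k) := fun k hk hk5 i e => by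
    rw [← hax i] at e
    have := congrArg idx (a.injective e)
    rw [idx_pt (by omega), idx_pt hk] at this
    omega
  obtain ⟨m, hm, hfix, hme⟩ := ptK.exists_map_meets (mk := fun z => {z}) ptK_fam
    (ms := [1, 2, 4, 8, 16, 5279]) (gens := fivePtGens) (cls := fivePtCls)
    (by rw [five_facts.2.2.1]; exact fivePt_ok) ha (y := a (pt (sixthIdx b))) (z := x 5)
    (Set.mem_univ _) (Set.mem_univ _) (by
      rw [five_meets hax (hne _ hc.1 hc.2.1), ← haj, five_meets hax (hne _ hjlt hj5)]
      simp only [List.cons.injEq, true_and, and_true]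
      rw [← smul_pt_singleton, ← smul_pt_singleton, ← Finset.smul_finset_inter,
        ← Finset.smul_finset_inter, Finset.card_smul_finset, Finset.card_smul_finset,
        Finset.inter_comm, card_pt_inter, Finset.inter_comm, card_pt_inter]
      simp only [mem_toSet, idx_pt hc.1, idx_pt hjlt, hc.2.2, ← hb])
  refine ⟨m * a, mul_mem hm ha, b, fun i => ?_, ?_, hcov.symm⟩
  · have h2 := hfix (2 ^ (i : ℕ)) (by fin_cases i <;> simp)
    rw [toSet_two_pow _ (by omega), smul_pt_singleton, hax, smul_pt_singleton,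
      Finset.singleton_inj] at h2
    show m (a (pt i)) = _
    rw [hax, h2]
  · exact hme

theorem exists_six_map {x y : Fin 6 ↪ GolayPt}
    (h : (∃ o ∈ octads, Finset.univ.map x ⊆ o) ↔ ∃ o ∈ octads, Finset.univ.map y ⊆ o) :
    ∃ g ∈ M24, ∀ i, g (x i) = y i := by
  obtain ⟨a, ha, b, hax, hab, hb⟩ := exists_six_normal x
  obtain ⟨c, hc, b', hcy, hcb, hb'⟩ := exists_six_normal y
  obtain rfl : b = b' := Bool.eq_iff_iff.2 (hb.trans (h.trans hb'.symm))
  refine ⟨c * a⁻¹, mul_mem hc (inv_mem ha), fun i => ?_⟩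
  rw [Equiv.Perm.mul_apply]
  induction i using Fin.lastCases with
  | last => rw [show Fin.last 5 = (5 : Fin 6) from rfl, ← hab, ← hcb]; simp
  | cast i => rw [← hax i, ← hcy i]; simp

theorem natCard_six_base (b : Bool) :
    Nat.card ↥(fixFive ⊓ MulAction.stabilizer ↥M24 (pt (sixthIdx b))) = if b then 16 else 3 := by
  have hH : ∀ m : ↥M24, m ∈ fixFive ↔ ∀ a ∈ [1, 2, 4, 8, 16, 5279],
      (m : Equiv.Perm GolayPt) • ((1 : Equiv.Perm GolayPt) • toSet a) =
        (1 : Equiv.Perm GolayPt) • toSet a := by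
    intro m
    simp only [one_smul]
    rw [mem_fixFive]
    have e1 : ∀ i < 5, ((m : Equiv.Perm GolayPt) • toSet (2 ^ i) = toSet (2 ^ i) ↔
        (m : Equiv.Perm GolayPt) (pt i) = pt i) := fun i hi => by
      rw [toSet_two_pow i (by omega), smul_pt_eq_iff]
    constructor
    · intro h a ha
      simp only [List.mem_cons, List.not_mem_nil, or_false] at ha
      rcases ha with rfl | rfl | rfl | rfl | rfl | rfl
      · exact (e1 0 (by norm_num)).2 (h 0 (by norm_num))
      · exact (e1 1 (by norm_num)).2 (h 1 (by norm_num))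
      · exact (e1 2 (by norm_num)).2 (h 2 (by norm_num))
      · exact (e1 3 (by norm_num)).2 (h 3 (by norm_num))
      · exact (e1 4 (by norm_num)).2 (h 4 (by norm_num))
      · exact cover_five m.2 fun c hc => h c (by revert c; decide)
    · exact fun h i hi => (e1 i hi).1 (h _ (by interval_cases i <;> simp))
  have ho : (MulAction.orbit fixFive (pt (sixthIdx b))).ncard = if b then 3 else 16 := by
    rw [ptK.orbit_eq_meets (mk := fun z => {z}) ptK_fam (gens := fivePtGens) (cls := fivePtCls)
      (by rw [five_facts.2.2.1]; exact fivePt_ok) (one_mem _) hH (Set.mem_univ _),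
      ptK.ncard_meets (mk := fun z => {z}) ptK_fam ptK_mask _ _ (one_mem _)]
    cases b <;>
    · simp only [meetsAt, one_smul, List.map_cons, List.map_nil]
      decide +kernel
  have h := natCard_inf_stabilizer fixFive (pt (sixthIdx b))
  rw [ho, natCard_fixFive] at h
  cases b <;> simp only [if_true, if_false, Bool.false_eq_true] at h ⊢ <;> omega

open Classical in
theorem natCard_six_fix (x : Fin 6 ↪ GolayPt) :
    Nat.card {g : Equiv.Perm GolayPt // g ∈ M24 ∧ ∀ i, g (x i) = x i} =
      if (∃ o ∈ octads, Finset.univ.map x ⊆ o) then 16 else 3 := by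
  obtain ⟨a, ha, b, hax, hab, hb⟩ := exists_six_normal x
  have key : Nat.card {g : Equiv.Perm GolayPt // g ∈ M24 ∧ ∀ i, g (x i) = x i} =
      Nat.card ↥(fixFive ⊓ MulAction.stabilizer ↥M24 (pt (sixthIdx b))) := by
    refine Nat.card_congr
      { toFun := fun g => ⟨⟨a⁻¹ * g.1 * a, mul_mem (mul_mem (inv_mem ha) g.2.1) ha⟩,
          mem_fixFive.2 fun i hi => ?_, ?_⟩
        invFun := fun m => ⟨a * m.1.1 * a⁻¹, mul_mem (mul_mem ha m.1.2) (inv_mem ha), fun i => ?_⟩
        left_inv := fun g => Subtype.ext (by simp [mul_assoc])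
        right_inv := fun m => Subtype.ext (Subtype.ext (by simp [mul_assoc])) }
    · show a⁻¹ (g.1 (a (pt i))) = pt i
      rw [hax ⟨i, hi⟩, g.2.2, ← hax ⟨i, hi⟩]; simp
    · show a⁻¹ (g.1 (a (pt (sixthIdx b)))) = pt (sixthIdx b)
      rw [hab, g.2.2, ← hab]; simp
    · show a (m.1.1 (a⁻¹ (x i))) = x i
      have h1 := mem_fixFive.1 m.2.1
      have h2 : m.1.1 (pt (sixthIdx b)) = pt (sixthIdx b) := m.2.2
      induction i using Fin.lastCases with
      | last =>
        rw [show Fin.last 5 = (5 : Fin 6) from rfl, ← hab]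
        simp [h2]
      | cast i =>
        rw [← hax i]
        simp [h1 i i.2]
  rw [key, natCard_six_base]
  classical
  by_cases h : ∃ o ∈ octads, Finset.univ.map x ⊆ o
  · rw [if_pos h, if_pos (hb.2 h)]
  · rw [if_neg h, if_neg (fun e => h (hb.1 e))]

end CfsgLib.Spor
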