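import Cfsg.Agent.Lib.Spor.SubgroupTools
import Cfsg.Agent.Lib.Spor.SubgroupData

/-!
Orders that do not occur among the subgroups of the stabiliser of two points, by Sylow counting.
-/

set_option autoImplicit false
set_option maxRecDepth 100000

namespace CfsgLib.Spor.Subgp

open Cfsg CfsgLib.MathieuOut
open scoped Pointwise

theorem elev_norm_ok : normOK [23, 0] elevA 11 elevPlan elevN = true ∧ elevN.length = 55 := by
  decide +kernel

theorem sev_norm_ok : normOK [23, 0] sevA 7 sevPlan sevN = true ∧ sevN.length = 21 := by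
  decide +kernel

theorem fiv_norm_ok : normOK [23, 0] fivA 5 fivPlan fivN = true ∧ fivN.length = 20 := by
  decide +kernel

theorem sev_odd_ok : (sevN.all fun x => eqP (MathieuOut.powP x 21) MathieuOut.idP) = true := by
  decide +kernel

theorem elev_lev_ok : levCertOK [elevA, fivA, fivB] elevRows elevLev = true ∧
    (elevLev.map fun l => l.2.length).prod = 9240 := by decide +kernel

theorem chosen_mem_ok : elevN.contains fivA = true ∧ fivN.contains fivB = true := by decide +kernel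

theorem elems_ok : ([(elevA, 11), (sevA, 7), (fivA, 5)].all fun e =>
    inStabP [] [23, 0] e.1 && eqP (MathieuOut.powP e.1 e.2) MathieuOut.idP
      && !eqP e.1 MathieuOut.idP) = true := by decide +kernel

theorem natCard_two : Nat.card (stabG [] [23, 0]) = 443520 := by
  have h : stabG [] [23, 0] = M24 ⊓ ptStab (pt 23) ⊓ ptStab (pt 0) := by
    ext g
    simp [mem_stabG, and_assoc]
  rw [h, ← natCard_stab_two (p := pt 23) (q := pt 0) (by decide +kernel)]
  exact Nat.card_congr ⟨fun g => ⟨⟨g.1, g.2.1.1⟩, g.2.1.2, g.2.2⟩,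
    fun g => ⟨g.1.1, ⟨g.1.2, g.2.1⟩, g.2.2⟩, fun _ => rfl, fun _ => rfl⟩

theorem exists_elem {a p : ℕ} (hp : p.Prime) (h : (a, p) ∈ [(elevA, 11), (sevA, 7), (fivA, 5)]) :
    ∃ A ∈ stabG [] [23, 0], Rep A a ∧ orderOf A = p := by
  haveI : Fact p.Prime := ⟨hp⟩
  have h' := List.all_eq_true.1 elems_ok _ h
  simp only [Bool.and_eq_true, Bool.not_eq_true'] at h'
  obtain ⟨⟨h1, h2⟩, h3⟩ := h'
  obtain ⟨A, hA, hr⟩ := repIn_of_inStabP (by simp) h1
  refine ⟨A, hA, hr, orderOf_eq_prime ((eqP_iff (MathieuOut.rep_pow hr p) rep_idP).1 h2) ?_⟩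
  intro he
  rw [(eqP_iff hr rep_idP).2 he] at h3
  exact absurd h3 (by simp)

/-- moving an element of prime order into a subgroup of the right order -/
theorem exists_conj_mem {p : ℕ} [hp : Fact p.Prime] {K : Subgroup (Equiv.Perm GolayPt)}
    (hK : K ≤ stabG [] [23, 0]) {A : Equiv.Perm GolayPt} (hA : A ∈ stabG [] [23, 0])
    (ho : orderOf A = p) (hd : p ∣ Nat.card K) (hn : ¬ p ^ 2 ∣ 443520) :
    ∃ K' : Subgroup (Equiv.Perm GolayPt), K' ≤ stabG [] [23, 0] ∧ A ∈ K' ∧
      Nat.card K' = Nat.card K := by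
  obtain ⟨c, hc, hle⟩ := exists_conj_le (p := p) (n := 1) (P := Subgroup.zpowers A) hK
    (Subgroup.zpowers_le.2 hA) (by rw [Nat.card_zpowers, ho, pow_one]) (by rwa [pow_one])
    (by rwa [natCard_two])
  exact ⟨conjG c K, conjG_le hc hK, hle (Subgroup.mem_zpowers A), natCard_conjG c K⟩

/-- a normaliser in a subgroup is listed -/
theorem exists_count {p a : ℕ} [hp : Fact p.Prime] {plan : List (ℕ × ℕ × List ℕ)} {l : List ℕ}
    (hl : normOK [23, 0] a p plan l = true) {A : Equiv.Perm GolayPt} (hr : Rep A a)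
    (ho : orderOf A = p) {K : Subgroup (Equiv.Perm GolayPt)} (hK : K ≤ stabG [] [23, 0])
    (hA : A ∈ K) (hn : ¬ p ^ 2 ∣ Nat.card K) :
    ∃ N ≤ K, p ∣ Nat.card N ∧ Nat.card N ≤ l.length ∧ (∀ g ∈ N, canon g ∈ l) ∧
      (l.length ≤ Nat.card N → ∀ x ∈ l, RepIn K x) ∧
      ∃ n, Nat.card N * n = Nat.card K ∧ n % p = 1 := by
  obtain ⟨N, hN, hp', hconj, hcount⟩ := exists_sylow_count hA ho hn
  have hl' : ∀ g ∈ N, canon g ∈ l := fun g hg =>
    canon_mem_of_normOK (by simp) hl hr ho (hK (hN hg)) (hconj g hg)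
  obtain ⟨h1, h2⟩ := natCard_le_list hl'
  exact ⟨N, hN, hp', h1, hl', fun h x hx => (h2 h x hx).imp fun σ h => ⟨hN h.1, h.2⟩, hcount⟩

theorem no_order_2112 {K : Subgroup (Equiv.Perm GolayPt)} (hK : K ≤ stabG [] [23, 0]) :
    Nat.card K ≠ 2112 := by
  intro hc
  haveI : Fact (Nat.Prime 11) := ⟨by norm_num⟩
  obtain ⟨A, hA, hr, ho⟩ := exists_elem (a := elevA) (p := 11) (by norm_num) (by simp)
  obtain ⟨K', hK', hA', hc'⟩ := exists_conj_mem hK hA ho (by rw [hc]; norm_num) (by norm_num)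
  obtain ⟨N, -, ⟨k, hk⟩, hle, -, -, n, hn, hn1⟩ := exists_count elev_norm_ok.1 hr ho hK' hA'
    (by rw [hc', hc]; norm_num)
  rw [hc', hc, hk] at hn
  rw [elev_norm_ok.2, hk] at hle
  have : k ≤ 5 := by omega
  interval_cases k <;> omega

theorem no_order_7920 {K : Subgroup (Equiv.Perm GolayPt)} (hK : K ≤ stabG [] [23, 0]) :
    Nat.card K ≠ 7920 := by
  intro hc
  haveI : Fact (Nat.Prime 11) := ⟨by norm_num⟩
  haveI : Fact (Nat.Prime 5) := ⟨by norm_num⟩
  obtain ⟨A, hA, hr, ho⟩ := exists_elem (a := elevA) (p := 11) (by norm_num) (by simp)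
  obtain ⟨K', hK', hA', hc'⟩ := exists_conj_mem hK hA ho (by rw [hc]; norm_num) (by norm_num)
  rw [hc] at hc'
  obtain ⟨N, -, ⟨k, hk⟩, hle, -, hfull, n, hn, hn1⟩ := exists_count elev_norm_ok.1 hr ho hK' hA'
    (by rw [hc']; norm_num)
  rw [hc', hk] at hn
  rw [elev_norm_ok.2, hk] at hle
  rw [elev_norm_ok.2, hk] at hfull
  have hk5 : k = 5 := by
    have : k ≤ 5 := by omega
    interval_cases k <;> omega
  have hall := hfull (by omega)
  obtain ⟨Y, hY, hYr⟩ := hall fivA (List.contains_iff_mem.1 chosen_mem_ok.1)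
  obtain ⟨Y', -, hY'r, hY'o⟩ := exists_elem (a := fivA) (p := 5) (by norm_num) (by simp)
  have hYo : orderOf Y = 5 := by rw [hYr.inj hY'r]; exact hY'o
  obtain ⟨N', -, ⟨j, hj⟩, hle', -, hfull', n', hn', hn1'⟩ := exists_count fiv_norm_ok.1 hYr hYo hK' hY
    (by rw [hc']; norm_num)
  rw [hc', hj] at hn'
  rw [fiv_norm_ok.2, hj] at hle'
  rw [fiv_norm_ok.2, hj] at hfull'
  have hj4 : j = 4 := by
    have : j ≤ 4 := by omega
    interval_cases j <;> omega
  have hall' := hfull' (by omega)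
  have hgens : ∀ a ∈ [elevA, fivA, fivB], RepIn K' a := by
    intro a ha
    simp only [List.mem_cons, List.not_mem_nil, or_false] at ha
    rcases ha with rfl | rfl | rfl
    · exact ⟨A, hA', hr⟩
    · exact ⟨Y, hY, hYr⟩
    · exact hall' _ (List.contains_iff_mem.1 chosen_mem_ok.2)
  have := le_natCard_of_levCert elev_lev_ok.1 hgens
  rw [elev_lev_ok.2, hc'] at this
  omega

theorem no_order_36960 {K : Subgroup (Equiv.Perm GolayPt)} (hK : K ≤ stabG [] [23, 0]) :
    Nat.card K ≠ 36960 := by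
  intro hc
  haveI : Fact (Nat.Prime 7) := ⟨by norm_num⟩
  obtain ⟨A, hA, hr, ho⟩ := exists_elem (a := sevA) (p := 7) (by norm_num) (by simp)
  obtain ⟨K', hK', hA', hc'⟩ := exists_conj_mem hK hA ho (by rw [hc]; norm_num) (by norm_num)
  rw [hc] at hc'
  obtain ⟨N, -, ⟨k, hk⟩, hle, hl, -, n, hn, hn1⟩ := exists_count sev_norm_ok.1 hr ho hK' hA'
    (by rw [hc']; norm_num)
  rw [hc', hk] at hn
  rw [sev_norm_ok.2, hk] at hle
  have hodd : ¬ 2 ∣ Nat.card N := by
    intro h2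
    haveI : Fact (Nat.Prime 2) := ⟨Nat.prime_two⟩
    obtain ⟨⟨g, hg⟩, hgo⟩ := exists_prime_orderOf_dvd_card' 2 h2
    have hgo' : orderOf g = 2 := by
      rw [← hgo]; exact orderOf_injective N.subtype Subtype.val_injective ⟨g, hg⟩
    have h1 := (eqP_iff (MathieuOut.rep_pow (rep_canon g) 21) rep_idP).1
      (List.all_eq_true.1 sev_odd_ok _ (hl g hg))
    have h3 := orderOf_dvd_of_pow_eq_one h1
    rw [hgo'] at h3
    exact absurd h3 (by norm_num)
  rw [hk] at hodd
  have : k ≤ 3 := by omega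
  interval_cases k <;> omega

end CfsgLib.Spor.Subgp
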