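import Cfsg.Agent.Lib.Spor.SubgroupCore
import Cfsg.Agent.Lib.Spor.SubgroupSylow

/-!
Subgroups of small index in the large Mathieu groups, in a standard frame.
-/

set_option autoImplicit false
set_option maxRecDepth 100000

namespace CfsgLib.Spor.Subgp

open Cfsg CfsgLib.MathieuOut
open scoped Pointwise

/-- the setwise stabiliser in `M24` -/
abbrev setStab {X : Type*} [MulAction (Equiv.Perm GolayPt) X] (x : X) :
    Subgroup (Equiv.Perm GolayPt) :=
  M24 ⊓ MulAction.stabilizer (Equiv.Perm GolayPt) x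

/-- the sextet through the invariant tetrad -/
noncomputable def sexU : Finset (Finset GolayPt) := sextetOf (toSet mTet)

theorem sexU_mem : sexU ∈ sextets := sextetOf_mem mTet_card

theorem smul_sexU_of_tet {g : Equiv.Perm GolayPt} (hg : g ∈ M24)
    (h : g • toSet mTet ∈ sexU) : g • sexU = sexU :=
  (eq_sextetOf (smul_mem_sextets hg sexU_mem)
    (Finset.smul_mem_smul_finset (self_mem_sextetOf _))).trans (eq_sextetOf sexU_mem h).symm

theorem toSet_mSex_mem {u : ℕ} (hu : u ∈ mSex) : toSet u ∈ sexU := by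
  have h := List.all_eq_true.1 mSex_ok u hu
  simp only [Bool.or_eq_true, Bool.and_eq_true, Nat.beq_eq] at h
  rcases h with rfl | ⟨⟨hc, h8⟩, hd⟩
  · exact self_mem_sextetOf _
  · refine Finset.mem_insert_of_mem (Finset.mem_image.2 ⟨toSet mTet ∪ toSet u, ?_, ?_⟩)
    · refine mem_blocksThrough.2 ⟨?_, Finset.subset_union_left⟩
      have hlt : mTet ||| u < 16777216 := by
        revert u; decide +kernel
      rw [← toSet_or]
      exact toSet_mem_octads hc h8 hlt
    · rw [Finset.union_sdiff_left]
      refine Finset.sdiff_eq_self_of_disjoint ?_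
      rw [Finset.disjoint_iff_inter_eq_empty, ← toSet_and, Nat.and_comm, hd, toSet_zero]

theorem sylS_le_sexU : sylS ≤ setStab sexU := by
  refine (Subgroup.closure_le _).2 fun σ ⟨hσ, a, ha, hr⟩ => ⟨hσ, ?_⟩
  have h := List.all_eq_true.1 syl2Gens_ok a ha
  simp only [Bool.and_eq_true, List.any_eq_true, Nat.beq_eq] at h
  obtain ⟨u, hu, e⟩ := h.2
  exact smul_sexU_of_tet hσ (by rw [hr.smul_toSet_eq e]; exact toSet_mSex_mem hu)

theorem sylS_le_oct : sylS ≤ setStab (toSet mOct) := by
  refine (Subgroup.closure_le _).2 fun σ ⟨hσ, a, ha, hr⟩ => ⟨hσ, ?_⟩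
  have h := List.all_eq_true.1 syl2Gens_ok a ha
  simp only [Bool.and_eq_true, Nat.beq_eq] at h
  exact hr.smul_toSet_eq h.1.2

theorem natCard_setStab_oct : Nat.card ↥(setStab (toSet mOct)) = 322560 :=
  (natCard_inf_stab _).trans (natCard_stab_octad mOct_mem)

theorem natCard_setStab_sexU : Nat.card ↥(setStab sexU) = 138240 :=
  (natCard_inf_stab _).trans (natCard_stab_sextet sexU_mem)

theorem toSet_mOct_subset_orbF {W : Subgroup (Equiv.Perm GolayPt)} (hW : sylS ≤ W) :
    toSet mOct ⊆ orbF W (pt 0) :=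
  subset_of_cls sylCls_ok
    (gens_smul_of_le (fun a ha => (repIn_sylS ha).imp fun σ h => ⟨hW h.1, h.2⟩)
      fun g hg => smul_orbF hg)
    (by simp) (p := pt 0) (by decide +kernel) (self_mem_orbF W _)

theorem natCard_oct_point : Nat.card ↥(setStab (toSet mOct) ⊓ ptStab (pt 0)) ≤ 40320 := by
  have h1 := natCard_eq_orbF_mul (setStab (toSet mOct)) (pt 0)
  have h2 := Finset.card_le_card (toSet_mOct_subset_orbF sylS_le_oct)
  rw [card_toSet, show pop mOct = 8 by decide +kernel] at h2
  rw [natCard_setStab_oct] at h1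
  nlinarith

theorem natCard_dvd_three {W : Subgroup (Equiv.Perm GolayPt)} (hW : W ≤ M24)
    (h : ∀ g ∈ W, g (pt 0) = pt 0 ∧ g (pt 2) = pt 2 ∧ g (pt 4) = pt 4) :
    Nat.card W ∣ 20160 := by
  have hd := natCard_dvd_fix_tuple (k := 3) (by norm_num)
    ⟨![pt 0, pt 2, pt 4], by decide +kernel⟩ hW (fun g hg i => by
      fin_cases i
      exacts [(h g hg).1, (h g hg).2.1, (h g hg).2.2])
  rw [show Nat.descFactorial 24 3 = 12144 from rfl, show 244823040 = 20160 * 12144 by norm_num] at hd
  exact Nat.dvd_of_mul_dvd_mul_right (by norm_num) hd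

theorem fix_four {g : Equiv.Perm GolayPt} (h2 : g • toSet mTwo = toSet mTwo)
    (hg : g (pt 2) = pt 2) : g (pt 4) = pt 4 := by
  have hm : g • pt 4 ∈ g • toSet mTwo := Finset.smul_mem_smul_finset (by decide +kernel)
  rw [h2] at hm
  have hall : ∀ q : GolayPt, q ∈ toSet mTwo → q = pt 2 ∨ q = pt 4 := by decide +kernel
  rcases hall _ hm with h | h
  · exfalso
    have h' : pt 4 = pt 2 := g.injective ((h : g (pt 4) = pt 2).trans hg.symm)
    exact absurd h' (by decide +kernel)
  · exact h

theorem natCard_le_two_mul {K : Subgroup (Equiv.Perm GolayPt)}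
    (h2 : ∀ g ∈ K, g • toSet mTwo = toSet mTwo) :
    Nat.card K ≤ 2 * Nat.card ↥(K ⊓ ptStab (pt 2)) := by
  have := natCard_le_orbit_bound (W := K) (p := pt 2) (T := toSet mTwo) (by decide +kernel) h2
  rwa [card_toSet, show pop mTwo = 2 by decide +kernel] at this

theorem natCard_pair_point : Nat.card ↥(setStab (toSet mTwo) ⊓ ptStab (pt 0)) ≤ 40320 := by
  set W := setStab (toSet mTwo) ⊓ ptStab (pt 0)
  have h1 := natCard_le_two_mul (K := W) fun g hg => hg.1.2
  have h2 := natCard_dvd_three (W := W ⊓ ptStab (pt 2)) (fun g hg => hg.1.1.1)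
    (fun g hg => ⟨hg.1.2, hg.2, fix_four hg.1.1.2 hg.2⟩)
  have := Nat.le_of_dvd (by norm_num) h2
  omega

/-- subgroups of index 253 of the stabiliser of a point, in the standard frame -/
theorem cases_40320 {K : Subgroup (Equiv.Perm GolayPt)} (hK : K ≤ M24 ⊓ ptStab (pt 0))
    (hP : sylP ≤ K) (hc : Nat.card K = 40320) :
    K = setStab (toSet mOct) ⊓ ptStab (pt 0) ∨ K = setStab (toSet mTwo) ⊓ ptStab (pt 0) := by
  rcases core hK hP with h | ⟨h, -⟩ | ⟨h, -⟩ | h | h
  · left
    exact Subgroup.eq_of_le_of_card_ge (fun g hg => ⟨⟨(hK hg).1, h g hg⟩, (hK hg).2⟩)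
      (hc ▸ natCard_oct_point)
  · exfalso
    have hle : K ≤ setStab sexU := fun g hg =>
      ⟨(hK hg).1, smul_sexU_of_tet (hK hg).1 (by rw [h g hg]; exact self_mem_sextetOf _)⟩
    have := Subgroup.card_dvd_of_le hle
    rw [hc, natCard_setStab_sexU] at this
    omega
  · right
    exact Subgroup.eq_of_le_of_card_ge (fun g hg => ⟨⟨(hK hg).1, h g hg⟩, (hK hg).2⟩)
      (hc ▸ natCard_pair_point)
  · rw [hc] at h; omega
  · rw [hc] at h; omega

theorem orbF_zero_cases {H : Subgroup (Equiv.Perm GolayPt)} (hS : sylS ≤ H) :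
    orbF H (pt 0) = toSet mOct ∨ orbF H (pt 0) = Finset.univ := by
  set T := orbF H (pt 0)
  have hT := gens_smul_of_le (K := H) (fun a ha => (repIn_sylS ha).imp fun σ h => ⟨hS h.1, h.2⟩)
    (T := T) fun g hg => smul_orbF hg
  have h0 := toSet_mOct_subset_orbF hS
  have huniv : ∀ p : GolayPt, p ∈ toSet 16777215 := by decide +kernel
  by_cases h5 : pt 5 ∈ T
  · right
    refine Finset.eq_univ_of_forall fun p => ?_
    obtain ⟨c, hc, hp⟩ := exists_cls sylCls_ok (huniv p)
    simp only [List.mem_cons, List.not_mem_nil, or_false] at hc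
    rcases hc with rfl | rfl
    · exact h0 hp
    · exact subset_of_cls sylCls_ok hT (by simp) (p := pt 5) (by decide +kernel) h5 hp
  · left
    refine Finset.Subset.antisymm (fun p hp => ?_) h0
    obtain ⟨c, hc, hpc⟩ := exists_cls sylCls_ok (huniv p)
    simp only [List.mem_cons, List.not_mem_nil, or_false] at hc
    rcases hc with rfl | rfl
    · exact hpc
    · exact absurd (subset_of_cls sylCls_ok hT (by simp) hpc hp (by decide +kernel)) h5

/-- a transitive subgroup whose point stabiliser fixes the octad fixes a trio -/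
theorem natCard_le_trio {H : Subgroup (Equiv.Perm GolayPt)} (hH : H ≤ M24) (hS : sylS ≤ H)
    (htr : orbF H (pt 0) = Finset.univ)
    (hfix : ∀ g ∈ H ⊓ ptStab (pt 0), g • toSet mOct = toSet mOct) : Nat.card H ≤ 64512 := by
  classical
  set O := toSet mOct
  have hreach : ∀ q ∈ O, ∃ s ∈ sylS, s (pt 0) = q := fun q hq =>
    mem_orbF.1 (toSet_mOct_subset_orbF le_rfl hq)
  -- images of the octad are equal or disjoint
  have key : ∀ g ∈ H, ∀ h ∈ H, g (pt 0) ∈ h • O → g • O = h • O := by
    intro g hg h hh hmem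
    obtain ⟨q, hq, e⟩ := Finset.mem_smul_finset.1 hmem
    obtain ⟨s, hs, rfl⟩ := hreach q hq
    rw [Equiv.Perm.smul_def] at e
    have hfx : ((h * s)⁻¹ * g) (pt 0) = pt 0 := by
      rw [Equiv.Perm.mul_apply, ← e, ← Equiv.Perm.mul_apply h]
      simp
    have := hfix _ (Subgroup.mem_inf.2 ⟨mul_mem (inv_mem (mul_mem hh (hS hs))) hg, hfx⟩)
    rw [mul_smul, inv_smul_eq_iff] at this
    rw [this, mul_smul, (sylS_le_oct hs).2]
  have himg : ∀ r, ∃ g ∈ H, g (pt 0) = r := fun r => mem_orbF.1 (htr ▸ Finset.mem_univ r)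
  have h00 : pt 0 ∈ O := by decide +kernel
  have hdisj : ∀ g ∈ H, ∀ h ∈ H, g • O = h • O ∨ Disjoint (g • O) (h • O) := by
    intro g hg h hh
    by_cases hd : Disjoint (g • O) (h • O)
    · exact Or.inr hd
    · obtain ⟨r, hr1, hr2⟩ := Finset.not_disjoint_iff.1 hd
      obtain ⟨f, hf, rfl⟩ := himg r
      exact Or.inl ((key f hf g hg hr1).symm.trans (key f hf h hh hr2))
  obtain ⟨g1, hg1, e1⟩ := himg (pt 5)
  have hm1 : g1 • O ∈ octads := smul_octad_mem (hH hg1) mOct_mem
  have hd1 : Disjoint O (g1 • O) := by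
    rcases hdisj 1 (one_mem H) g1 hg1 with h | h
    · exfalso
      have h5 : g1 • pt 0 ∈ g1 • O := Finset.smul_mem_smul_finset h00
      rw [Equiv.Perm.smul_def, e1, ← h, one_smul] at h5
      exact absurd h5 (by decide +kernel)
    · simpa using h
  set T := trioOf O (g1 • O) with hT
  have hTm := trioOf_mem mOct_mem hm1 hd1
  have hmem : ∀ g ∈ H, g • O ∈ T := by
    intro g hg
    rcases hdisj g hg 1 (one_mem H) with h | h
    · rw [h, one_smul]; simp [hT, trioOf]
    rcases hdisj g hg g1 hg1 with h' | h'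
    · rw [h']; simp [hT, trioOf]
    rw [one_smul] at h
    have hsub : g • O ⊆ (O ∪ g1 • O)ᶜ := by
      intro x hx
      rw [Finset.mem_compl, Finset.mem_union]
      rintro (hx' | hx')
      · exact Finset.disjoint_left.1 h hx hx'
      · exact Finset.disjoint_left.1 h' hx hx'
    rw [Finset.eq_of_subset_of_card_le hsub (by
      rw [card_octad (compl_union_octad mOct_mem hm1 hd1),
        card_octad (smul_octad_mem (hH hg) mOct_mem)])]
    simp [hT, trioOf]
  have hall : ∀ x ∈ T, ∃ h ∈ H, h • O = x := by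
    intro x hx
    have hxo := hTm.2.1 x hx
    obtain ⟨r, hr⟩ := octad_nonempty hxo
    obtain ⟨f, hf, rfl⟩ := himg r
    refine ⟨f, hf, ?_⟩
    by_contra hne
    have hmem' : f (pt 0) ∈ f • O := by
      rw [← Equiv.Perm.smul_def]; exact Finset.smul_mem_smul_finset h00
    exact Finset.disjoint_left.1 (hTm.2.2 (f • O) (hmem f hf) x hx hne) hmem' hr
  have hle : H ≤ setStab T := by
    refine fun g hg => ⟨hH hg, ?_⟩
    refine Finset.eq_of_subset_of_card_le (fun y hy => ?_) (by rw [Finset.card_smul_finset])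
    obtain ⟨x, hx, rfl⟩ := Finset.mem_smul_finset.1 hy
    obtain ⟨h, hh, rfl⟩ := hall x hx
    rw [← mul_smul]
    exact hmem _ (mul_mem hg hh)
  have := Subgroup.card_le_of_le hle
  rwa [natCard_inf_stab, natCard_stab_trio hTm] at this

/-- subgroups containing the Sylow 2-subgroup of three given orders -/
theorem cases_big {H : Subgroup (Equiv.Perm GolayPt)} (hH : H ≤ M24) (hS : sylS ≤ H) :
    (Nat.card H = 322560 → H = setStab (toSet mOct)) ∧
    (Nat.card H = 138240 → H = setStab sexU) ∧ Nat.card H ≠ 967680 := by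
  rcases orbF_zero_cases hS with hT | hT
  · have hle : H ≤ setStab (toSet mOct) := fun g hg =>
      ⟨hH hg, hT ▸ smul_orbF hg⟩
    have hdvd := Subgroup.card_dvd_of_le hle
    rw [natCard_setStab_oct] at hdvd
    refine ⟨fun hc => Subgroup.eq_of_le_of_card_ge hle (by rw [natCard_setStab_oct, hc]),
      fun hc => ?_, fun hc => ?_⟩
    · rw [hc] at hdvd; omega
    · rw [hc] at hdvd; omega
  · set K := H ⊓ ptStab (pt 0) with hK
    have hcard : Nat.card H = 24 * Nat.card K := by
      rw [natCard_eq_orbF_mul H (pt 0), hT, Finset.card_univ, card_golayPt]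
    have hKle : K ≤ M24 ⊓ ptStab (pt 0) := inf_le_inf_right _ hH
    have hP : sylP ≤ K := sylP_le.trans (inf_le_inf_right _ hS)
    rcases core hKle hP with h | ⟨h, g, hg, hg5⟩ | ⟨h, h21⟩ | h | h
    · have := natCard_le_trio hH hS hT h
      exact ⟨fun hc => by omega, fun hc => by omega, fun hc => by omega⟩
    · set W := H ⊓ MulAction.stabilizer (Equiv.Perm GolayPt) sexU with hW
      have hKW : K ≤ W := fun k hk => ⟨hk.1, smul_sexU_of_tet (hH hk.1)
        (by rw [h k hk]; exact self_mem_sextetOf _)⟩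
      have hSW : sylS ≤ W := le_inf hS (sylS_le_sexU.trans inf_le_right)
      have hW5 : pt 5 ∈ orbF W (pt 0) := by
        obtain ⟨s, hs, e⟩ := mem_orbF.1 (toSet_mOct_subset_orbF hSW
          ((by decide +kernel : pt 1 ∈ toSet mOct)))
        exact mem_orbF.2 ⟨g * s, mul_mem (hKW hg) hs, by rw [Equiv.Perm.mul_apply, e, hg5]⟩
      have hWT : orbF W (pt 0) = Finset.univ := by
        rcases orbF_zero_cases hSW with h' | h'
        · rw [h'] at hW5; exact absurd hW5 (by decide +kernel)
        · exact h'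
      have hWeq : W = H := by
        refine Subgroup.eq_of_le_of_card_ge inf_le_left ?_
        rw [hcard, natCard_eq_orbF_mul W (pt 0), hWT, Finset.card_univ, card_golayPt]
        exact Nat.mul_le_mul_left _ (Subgroup.card_le_of_le (le_inf hKW inf_le_right))
      have hle : H ≤ setStab sexU := le_inf hH (hWeq ▸ inf_le_right)
      have hle' := Subgroup.card_le_of_le hle
      rw [natCard_setStab_sexU] at hle'
      exact ⟨fun hc => by omega,
        fun hc => Subgroup.eq_of_le_of_card_ge hle (by rw [natCard_setStab_sexU, hc]),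
        fun hc => by omega⟩
    · haveI : Fact (Nat.Prime 7) := ⟨by norm_num⟩
      set L := K ⊓ ptStab (pt 2) with hL
      have hKL : Nat.card K ≤ 2 * Nat.card L := natCard_le_two_mul h
      set M := stabG [] [0, 2, 4] with hM
      have hLM : L ≤ M := by
        intro g hg
        refine mem_stabG.2 ⟨hH hg.1.1, by simp, ?_⟩
        simp only [List.mem_cons, List.not_mem_nil, or_false]
        rintro b (rfl | rfl | rfl)
        · exact hg.1.2
        · exact hg.2
        · exact fix_four (h g hg.1) hg.2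
      have hMc : Nat.card M ≤ 20160 := Nat.le_of_dvd (by norm_num)
        (natCard_dvd_three (W := M) (fun g hg => hg.1)
          (fun g hg => ⟨hg.2.2 0 (by simp), hg.2.2 2 (by simp), hg.2.2 4 (by simp)⟩))
      have hgens : 6720 ≤ Nat.card L → ∀ a ∈ sevenGens, RepIn L a := by
        intro hL6 a ha
        have ha' := List.all_eq_true.1 sevenGens_ok a ha
        simp only [Bool.and_eq_true] at ha'
        obtain ⟨σ, hσ, hr⟩ := repIn_of_inStabP (by simp) ha'.1
        exact ⟨σ, mem_of_small_index hLM (by omega) hσ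
          ((eqP_iff (MathieuOut.rep_pow hr 7) rep_idP).1 ha'.2), hr⟩
      refine ⟨fun hc => ?_, fun hc => ?_, fun hc => ?_⟩
      · have := le_natCard_of_levCert mpt_lev_ok.1 (hgens (by omega))
        rw [mpt_lev_ok.2] at this
        have : Nat.card L ≤ Nat.card K := Subgroup.card_le_of_le inf_le_left
        omega
      · obtain ⟨j, hj⟩ := h21
        omega
      · have := le_natCard_of_levCert big_lev_ok.1 (K := H) (fun a ha => by
          rcases List.mem_append.1 ha with ha | ha
          · exact (hgens (by omega) a ha).imp fun σ h => ⟨h.1.1.1, h.2⟩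
          · exact (repIn_sylS ha).imp fun σ h => ⟨hS h.1, h.2⟩)
        rw [big_lev_ok.2] at this
        omega
    · obtain ⟨j, hj⟩ := h
      exact ⟨fun hc => by omega, fun hc => by omega, fun hc => by omega⟩
    · obtain ⟨j, hj⟩ := h
      exact ⟨fun hc => by omega, fun hc => by omega, fun hc => by omega⟩

/-! ### Index 276 -/

/-- orbits of the element of order 11 -/
def elevCls : List ℕ := [1, 7653466, 735140, 8388608]

/-- some powers of the element of order 11 -/
def elevPows : List ℕ := [1, 2, 4, 8].map (MathieuOut.powP elevA)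

theorem elevCls_ok : clsOK elevPows elevCls 16777215 = true := by decide +kernel

/-- union of some classes -/
def orList (l : List ℕ) : ℕ := l.foldr (· ||| ·) 0

theorem mem_toSet_orList {l : List ℕ} {p : GolayPt} :
    p ∈ toSet (orList l) ↔ ∃ c ∈ l, p ∈ toSet c := by
  induction l with
  | nil => simp [orList]
  | cons a l ih => rw [show orList (a :: l) = a ||| orList l from rfl, toSet_or_list, ih]; simp

theorem exists_sublist_cls {gens cls : List ℕ} (h : clsOK gens cls 16777215 = true)
    {T : Finset GolayPt} (hT : ∀ g ∈ gens, ∃ σ, Rep σ g ∧ σ • T = T) :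
    ∃ s ∈ cls.sublists, T = toSet (orList s) := by
  classical
  refine ⟨cls.filter fun c => decide (toSet c ⊆ T), List.mem_sublists.2 List.filter_sublist, ?_⟩
  ext p
  rw [mem_toSet_orList]
  constructor
  · intro hp
    obtain ⟨c, hc, hpc⟩ := exists_cls h ((by decide +kernel : ∀ q : GolayPt, q ∈ toSet 16777215) p)
    exact ⟨c, List.mem_filter.2 ⟨hc, by simpa using subset_of_cls h hT hc hpc hp⟩, hpc⟩
  · rintro ⟨c, hc, hpc⟩
    rw [List.mem_filter, decide_eq_true_eq] at hc
    exact hc.2 hpc

theorem elev_first_ok : (elevCls.sublists.all fun s =>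
    !(orList s).testBit 23 || [12, 13, 23, 24].contains (pop (orList s))
      || Nat.beq (orList s) 8388608 || Nat.beq (orList s) 8388609) = true := by decide +kernel

theorem elev_second_ok : (elevCls.sublists.all fun s =>
    (orList s).testBit 23 || !(orList s).testBit 0 || [12, 23].contains (pop (orList s))
      || Nat.beq (orList s) 1) = true := by decide +kernel

theorem case_887040 {H : Subgroup (Equiv.Perm GolayPt)} (hH : H ≤ M24) {A : Equiv.Perm GolayPt}
    (hA : A ∈ H) (hr : Rep A elevA) (hA' : A ∈ stabG [] [23, 0]) (hc : Nat.card H = 887040) :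
    H = setStab (toSet 8388609) := by
  have hgens : ∀ {K : Subgroup (Equiv.Perm GolayPt)} {T : Finset GolayPt}, A ∈ K →
      (∀ g ∈ K, g • T = T) → ∀ g ∈ elevPows, ∃ σ, Rep σ g ∧ σ • T = T := by
    intro K T hAK hT g hg
    obtain ⟨k, -, rfl⟩ := List.mem_map.1 hg
    exact ⟨A ^ k, MathieuOut.rep_pow hr k, hT _ (pow_mem hAK k)⟩
  obtain ⟨s, hs, hT⟩ := exists_sublist_cls elevCls_ok
    (hgens hA fun g hg => smul_orbF (p := pt 23) hg)
  have hself : (orList s).testBit 23 = true := by
    have := mem_toSet.1 (hT ▸ self_mem_orbF H (pt 23))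
    rwa [idx_pt (by norm_num)] at this
  have hinv : ∀ g ∈ H, g • toSet (orList s) = toSet (orList s) := fun g hg => by
    rw [← hT]; exact smul_orbF hg
  have hdvd : pop (orList s) ∣ 887040 := by
    rw [← hc, ← card_toSet, ← hT]; exact ⟨_, natCard_eq_orbF_mul H (pt 23)⟩
  have hok := List.all_eq_true.1 elev_first_ok s hs
  simp only [hself, Bool.not_true, Bool.false_or, Bool.or_eq_true, List.contains_iff_mem,
    List.mem_cons, List.not_mem_nil, or_false, Nat.beq_eq] at hok
  rcases hok with ((h12 | h13 | h23 | h24) | h1) | h2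
  · exfalso
    refine not_seven_of_twelve hH (D := toSet (orList s)) (by rw [card_toSet, h12]) hinv ?_
    rw [hc]; norm_num
  · rw [h13] at hdvd; omega
  · rw [h23] at hdvd; omega
  · exfalso
    set K := H ⊓ ptStab (pt 23) with hK
    have hKc : Nat.card K = 36960 := by
      have h' : Nat.card H = (orbF H (pt 23)).card * Nat.card K := natCard_eq_orbF_mul H (pt 23)
      rw [hT, card_toSet, h24, hc] at h'
      omega
    have hAK : A ∈ K := ⟨hA, hA'.2.2 23 (by simp)⟩
    obtain ⟨u, hu, hU⟩ := exists_sublist_cls elevCls_ok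
      (hgens hAK fun g hg => smul_orbF (p := pt 0) hg)
    have hu0 : (orList u).testBit 0 = true := by
      have := mem_toSet.1 (hU ▸ self_mem_orbF K (pt 0))
      rwa [idx_pt (by norm_num)] at this
    have hu23 : (orList u).testBit 23 = false := by
      rw [Bool.eq_false_iff]
      intro h'
      have h'' : pt 23 ∈ orbF K (pt 0) := by
        rw [hU, mem_toSet, idx_pt (by norm_num)]; exact h'
      obtain ⟨g, hg, e⟩ := mem_orbF.1 h''
      exact absurd (g.injective (e.trans (hg.2 : g (pt 23) = pt 23).symm)) (by decide +kernel)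
    have hok' := List.all_eq_true.1 elev_second_ok u hu
    simp only [hu0, hu23, Bool.not_true, Bool.false_or, Bool.or_eq_true, List.contains_iff_mem,
      List.mem_cons, List.not_mem_nil, or_false, Nat.beq_eq] at hok'
    rcases hok' with (k12 | k23) | k1
    · refine not_seven_of_twelve (W := K) (inf_le_left.trans hH) (D := toSet (orList u))
        (by rw [card_toSet, k12]) (fun g hg => by rw [← hU]; exact smul_orbF hg) ?_
      rw [hKc]; norm_num
    · have hd : pop (orList u) ∣ 36960 := by
        rw [← hKc, ← card_toSet, ← hU]; exact ⟨_, natCard_eq_orbF_mul K (pt 0)⟩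
      rw [k23] at hd; omega
    · refine no_order_36960 (K := K) (fun g hg => mem_stabG.2 ⟨hH hg.1, by simp, ?_⟩) hKc
      simp only [List.mem_cons, List.not_mem_nil, or_false]
      rintro b (rfl | rfl)
      · exact hg.2
      · have hm : g (pt 0) ∈ orbF K (pt 0) := mem_orbF.2 ⟨g, hg, rfl⟩
        rw [hU, k1] at hm
        exact (by decide +kernel : ∀ q : GolayPt, q ∈ toSet 1 → q = pt 0) _ hm
  · exfalso
    rw [h1] at hT
    have hle : H ≤ M24 ⊓ ptStab (pt 23) := fun g hg => ⟨hH hg, by
      have hm : g (pt 23) ∈ orbF H (pt 23) := mem_orbF.2 ⟨g, hg, rfl⟩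
      rw [hT] at hm
      exact (by decide +kernel : ∀ q : GolayPt, q ∈ toSet 8388608 → q = pt 23) _ hm⟩
    have := Subgroup.card_dvd_of_le hle
    rw [hc, natCard_inf_stab, natCard_stab_point] at this
    omega
  · rw [h2] at hinv
    refine Subgroup.eq_of_le_of_card_ge (fun g hg => ⟨hH hg, hinv g hg⟩) ?_
    have h' := natCard_le_orbit_bound (W := setStab (toSet 8388609)) (p := pt 23)
      (T := toSet 8388609) (by decide +kernel) fun g hg => hg.2
    have hle : setStab (toSet 8388609) ⊓ ptStab (pt 23) ≤ stabG [] [23, 0] := by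
      intro g hg
      refine mem_stabG.2 ⟨hg.1.1, by simp, ?_⟩
      simp only [List.mem_cons, List.not_mem_nil, or_false]
      rintro b (rfl | rfl)
      · exact hg.2
      · have hm : g • pt 0 ∈ g • toSet 8388609 := Finset.smul_mem_smul_finset (by decide +kernel)
        rw [hg.1.2] at hm
        rcases (by decide +kernel : ∀ q : GolayPt, q ∈ toSet 8388609 → q = pt 23 ∨ q = pt 0) _ hm
          with e | e
        · exact absurd (g.injective ((e : g (pt 0) = pt 23).trans (hg.2 : g (pt 23) = pt 23).symm))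
            (by decide +kernel)
        · exact e
    have h'' := Subgroup.card_le_of_le hle
    rw [natCard_two] at h''
    rw [card_toSet, show pop 8388609 = 2 by decide +kernel] at h'
    omega

/-! ### Changing the frame -/

theorem natCard_map_subtype {W : Subgroup (Equiv.Perm GolayPt)} (H : Subgroup ↥W) :
    Nat.card (H.map W.subtype) = Nat.card H :=
  (Nat.card_congr (H.equivMapOfInjective _ Subtype.val_injective).toEquiv).symm

theorem eq_stabilizer_of_conj {X : Type*} [MulAction (Equiv.Perm GolayPt) X] {H : Subgroup ↥M24}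
    {a : Equiv.Perm GolayPt} (ha : a ∈ M24) {x : X}
    (h : conjG a (H.map M24.subtype) = setStab x) : H = MulAction.stabilizer M24 (a⁻¹ • x) := by
  ext g
  have h1 : g ∈ H ↔ a * (g : Equiv.Perm GolayPt) * a⁻¹ ∈ setStab x := by
    rw [← h, mem_conjG, show a⁻¹ * (a * (g : Equiv.Perm GolayPt) * a⁻¹) * a = g by group]
    constructor
    · exact fun hg => ⟨g, hg, rfl⟩
    · rintro ⟨g', hg', e⟩; exact (Subtype.ext e : g' = g) ▸ hg'
  rw [h1]
  constructor
  · intro h2
    show (g : Equiv.Perm GolayPt) • a⁻¹ • x = a⁻¹ • x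
    have h3 : (a * (g : Equiv.Perm GolayPt) * a⁻¹) • x = x := h2.2
    rw [mul_smul, mul_smul] at h3
    exact eq_inv_smul_iff.2 h3
  · intro h2
    have h3 : (g : Equiv.Perm GolayPt) • a⁻¹ • x = a⁻¹ • x := h2
    refine Subgroup.mem_inf.2 ⟨mul_mem (mul_mem ha g.2) (inv_mem ha), ?_⟩
    show (a * (g : Equiv.Perm GolayPt) * a⁻¹) • x = x
    rw [mul_smul, mul_smul, h3, smul_inv_smul]

end CfsgLib.Spor.Subgp
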