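import Cfsg.Agent.Lib.KnownA.MathieuOut.Dfs
import Cfsg.Agent.Lib.Spor.M24Points

/-!
Tools for recognising subgroups of `Cfsg.M24` of given order: conjugation into a standard frame,
orbit counting, Sylow counting and bounds on normalisers.
-/

set_option autoImplicit false

namespace CfsgLib.Spor.Subgp

open Cfsg CfsgLib.MathieuOut
open scoped Pointwise

/-- conjugate subgroup -/
def conjG {G : Type*} [Group G] (a : G) (H : Subgroup G) : Subgroup G :=
  H.map (MulAut.conj a).toMonoidHom

section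
variable {G : Type*} [Group G]

theorem mem_conjG {a : G} {H : Subgroup G} {σ : G} : σ ∈ conjG a H ↔ a⁻¹ * σ * a ∈ H := by
  simp only [conjG, Subgroup.mem_map, MulEquiv.coe_toMonoidHom, MulAut.conj_apply]
  constructor
  · rintro ⟨x, hx, rfl⟩
    simpa [mul_assoc] using hx
  · intro h
    exact ⟨_, h, by simp [mul_assoc]⟩

theorem natCard_conjG (a : G) (H : Subgroup G) : Nat.card (conjG a H) = Nat.card H :=
  Nat.card_congr (H.equivMapOfInjective _ (MulAut.conj a).injective).toEquiv.symm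

theorem conjG_mul (a b : G) (H : Subgroup G) : conjG a (conjG b H) = conjG (a * b) H := by
  ext σ
  simp only [mem_conjG, mul_inv_rev, mul_assoc]

theorem conjG_le {a : G} {H M : Subgroup G} (ha : a ∈ M) (hH : H ≤ M) : conjG a H ≤ M := by
  intro σ hσ
  have := M.mul_mem (M.mul_mem ha (hH (mem_conjG.1 hσ))) (M.inv_mem ha)
  simpa [mul_assoc] using this

/-- a `p`-group of full order is contained in a conjugate of any subgroup of large enough order -/
theorem exists_conj_le [Finite G] {p n : ℕ} [hp : Fact p.Prime] {M H P : Subgroup G} (hH : H ≤ M)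
    (hP : P ≤ M) (hPc : Nat.card P = p ^ n) (hd : p ^ n ∣ Nat.card H)
    (hn : ¬ p ^ (n + 1) ∣ Nat.card M) : ∃ a ∈ M, P ≤ conjG a H := by
  have h0 : Nat.card M ≠ 0 := Nat.card_pos.ne'
  have hf : (Nat.card M).factorization p = n := by
    have h1 := (hp.out.pow_dvd_iff_le_factorization h0).1
      (hd.trans (Subgroup.card_dvd_of_le hH))
    by_contra hne
    exact hn ((hp.out.pow_dvd_iff_le_factorization h0).2 (by omega))
  have hd' : p ^ n ∣ Nat.card (H.subgroupOf M) := by
    rwa [Nat.card_congr (Subgroup.subgroupOfEquivOfLe hH).toEquiv]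
  obtain ⟨Q₀, hQ₀⟩ := Sylow.exists_subgroup_card_pow_prime p hd'
  set Q := Q₀.map (H.subgroupOf M).subtype with hQ
  have hQc : Nat.card Q = p ^ (Nat.card M).factorization p := by
    rw [hf, hQ, ← hQ₀]
    exact (Nat.card_congr (Q₀.equivMapOfInjective _ Subtype.val_injective).toEquiv).symm
  have hPc' : Nat.card (P.subgroupOf M) = p ^ (Nat.card M).factorization p := by
    rw [hf, Nat.card_congr (Subgroup.subgroupOfEquivOfLe hP).toEquiv, hPc]
  let SQ : Sylow p M := Sylow.ofCard Q hQc
  let SP : Sylow p M := Sylow.ofCard (P.subgroupOf M) hPc'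
  obtain ⟨g, hg⟩ := MulAction.exists_smul_eq M SQ SP
  refine ⟨g, g.2, fun σ hσ => ?_⟩
  have h1 : (⟨σ, hP hσ⟩ : M) ∈ ((g • SQ : Sylow p M) : Subgroup M) := by
    rw [hg, Sylow.coe_ofCard]; exact hσ
  rw [Sylow.coe_subgroup_smul, Sylow.coe_ofCard,
    Subgroup.mem_pointwise_smul_iff_inv_smul_mem] at h1
  simp only [hQ, Subgroup.mem_map, Subgroup.coe_subtype] at h1
  obtain ⟨⟨⟨y, hyM⟩, hyH⟩, -, hy⟩ := h1
  rw [mem_conjG]
  have h2 : y = (g : G)⁻¹ * σ * g := by
    have := congrArg Subtype.val hy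
    simpa [MulAut.smul_def, MulAut.conj_symm_apply] using this
  exact h2 ▸ Subgroup.mem_subgroupOf.1 hyH

/-- Sylow counting for a subgroup of prime order -/
theorem exists_sylow_count [Finite G] {p : ℕ} [hp : Fact p.Prime] {K : Subgroup G} {a : G}
    (ha : a ∈ K) (ho : orderOf a = p) (h1 : ¬ p ^ 2 ∣ Nat.card K) :
    ∃ N : Subgroup G, N ≤ K ∧ p ∣ Nat.card N ∧ (∀ g ∈ N, g * a * g⁻¹ ∈ Subgroup.zpowers a) ∧
      ∃ n, Nat.card N * n = Nat.card K ∧ n % p = 1 := by
  have h0 : Nat.card K ≠ 0 := Nat.card_pos.ne'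
  have ho' : orderOf (⟨a, ha⟩ : K) = p := by
    rw [← orderOf_injective K.subtype Subtype.val_injective ⟨a, ha⟩]; exact ho
  have hdvd : p ∣ Nat.card K := ho' ▸ orderOf_dvd_natCard _
  have hf : (Nat.card K).factorization p = 1 := by
    have h2 := (hp.out.dvd_iff_one_le_factorization h0).1 hdvd
    by_contra hne
    exact h1 ((hp.out.pow_dvd_iff_le_factorization h0).2 (by omega))
  let P : Sylow p K := Sylow.ofCard (Subgroup.zpowers ⟨a, ha⟩)
    (by rw [hf, pow_one, Nat.card_zpowers, ho'])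
  set N' := Subgroup.normalizer ((P : Subgroup K) : Set K) with hN'
  have hc : Nat.card (N'.map K.subtype) = Nat.card N' :=
    (Nat.card_congr (N'.equivMapOfInjective _ Subtype.val_injective).toEquiv).symm
  refine ⟨N'.map K.subtype, Subgroup.map_subtype_le _, ?_, ?_, Nat.card (Sylow p K), ?_, ?_⟩
  · rw [hc]
    have h2 : (⟨a, ha⟩ : K) ∈ N' := Subgroup.le_normalizer (by
      rw [Sylow.coe_ofCard]; exact Subgroup.mem_zpowers _)
    have h3 : orderOf (⟨⟨a, ha⟩, h2⟩ : N') = p := by
      rw [← orderOf_injective N'.subtype Subtype.val_injective ⟨⟨a, ha⟩, h2⟩]; exact ho'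
    exact h3 ▸ orderOf_dvd_natCard _
  · rintro g hg
    obtain ⟨g, hg', rfl⟩ := Subgroup.mem_map.1 hg
    have h2 := (Subgroup.mem_normalizer_iff.1 hg' ⟨a, ha⟩).1
      (by rw [Sylow.coe_ofCard]; exact Subgroup.mem_zpowers _)
    rw [Sylow.coe_ofCard, Subgroup.mem_zpowers_iff] at h2
    obtain ⟨k, hk⟩ := h2
    refine Subgroup.mem_zpowers_iff.2 ⟨k, ?_⟩
    simpa using congrArg Subtype.val hk
  · rw [hc, Sylow.card_eq_index_normalizer P]
    exact Subgroup.card_mul_index N'
  · have := card_sylow_modEq_one p K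
    rwa [Nat.ModEq, Nat.mod_eq_of_lt hp.out.one_lt] at this

/-- a subgroup of small index contains every element of larger prime order -/
theorem mem_of_small_index [Finite G] {p : ℕ} [hp : Fact p.Prime] {M L : Subgroup G} (hLM : L ≤ M)
    (hc : Nat.card M < p * Nat.card L) {t : G} (ht : t ∈ M) (htp : t ^ p = 1) : t ∈ L := by
  set L' := L.subgroupOf M
  have hi : L'.index ≠ 0 := Subgroup.index_ne_zero_of_finite
  obtain ⟨m, hm0, hm, hmem⟩ := Subgroup.exists_pow_mem_of_index_ne_zero hi (⟨t, ht⟩ : M)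
  have hmp : m < p := by
    have h1 := L'.card_mul_index
    rw [Nat.card_congr (Subgroup.subgroupOfEquivOfLe hLM).toEquiv] at h1
    by_contra hcon
    have h2 : p * Nat.card L ≤ Nat.card L * L'.index := by
      rw [mul_comm p]; exact Nat.mul_le_mul_left _ (by omega)
    omega
  have h1 : t ^ m ∈ L := by simpa [L', Subgroup.mem_subgroupOf] using hmem
  rcases hp.out.eq_one_or_self_of_dvd _ (orderOf_dvd_of_pow_eq_one htp) with h | h
  · rw [orderOf_eq_one_iff.1 h]; exact L.one_mem
  · have hcop : Nat.Coprime m (orderOf t) := by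
      rw [h]
      exact (hp.out.coprime_iff_not_dvd.2 fun hd => absurd (Nat.le_of_dvd hm0 hd) (by omega)).symm
    obtain ⟨k, hk⟩ := exists_pow_eq_self_of_coprime hcop
    exact hk ▸ L.pow_mem h1 k

end

/-! ### Permutations of the 24 points -/

/-- point stabiliser in the symmetric group -/
abbrev ptStab (p : GolayPt) : Subgroup (Equiv.Perm GolayPt) :=
  MulAction.stabilizer (Equiv.Perm GolayPt) p

theorem natCard_inf_stab {X : Type*} [MulAction (Equiv.Perm GolayPt) X] (x : X) :
    Nat.card ↥(M24 ⊓ MulAction.stabilizer (Equiv.Perm GolayPt) x) =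
      Nat.card (MulAction.stabilizer M24 x) :=
  Nat.card_congr ⟨fun g => ⟨⟨g.1, g.2.1⟩, g.2.2⟩, fun g => ⟨g.1.1, g.1.2, g.2⟩,
    fun _ => rfl, fun _ => rfl⟩

theorem natCard_eq_orbit_mul (W : Subgroup (Equiv.Perm GolayPt)) (p : GolayPt) :
    Nat.card W = (MulAction.orbit W p).ncard * Nat.card ↥(W ⊓ ptStab p) := by
  have hstab : Nat.card (MulAction.stabilizer W p) = Nat.card ↥(W ⊓ ptStab p) :=
    Nat.card_congr ⟨fun g => ⟨g.1.1, g.1.2, g.2⟩, fun g => ⟨⟨g.1, g.2.1⟩, g.2.2⟩,
      fun _ => rfl, fun _ => rfl⟩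
  rw [← hstab, ← Subgroup.card_mul_index (MulAction.stabilizer W p), MulAction.index_stabilizer,
    mul_comm]

/-- the orbit as a finite set -/
noncomputable def orbF (W : Subgroup (Equiv.Perm GolayPt)) (p : GolayPt) : Finset GolayPt :=
  (Set.toFinite (MulAction.orbit W p)).toFinset

theorem mem_orbF {W : Subgroup (Equiv.Perm GolayPt)} {p q : GolayPt} :
    q ∈ orbF W p ↔ ∃ g ∈ W, g p = q := by
  simp only [orbF, Set.Finite.mem_toFinset, MulAction.mem_orbit_iff]
  exact ⟨fun ⟨g, hg⟩ => ⟨g, g.2, hg⟩, fun ⟨g, hg, h⟩ => ⟨⟨g, hg⟩, h⟩⟩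

theorem self_mem_orbF (W : Subgroup (Equiv.Perm GolayPt)) (p : GolayPt) : p ∈ orbF W p :=
  mem_orbF.2 ⟨1, one_mem _, rfl⟩

theorem natCard_eq_orbF_mul (W : Subgroup (Equiv.Perm GolayPt)) (p : GolayPt) :
    Nat.card W = (orbF W p).card * Nat.card ↥(W ⊓ ptStab p) := by
  rw [orbF, ← Set.ncard_eq_toFinset_card]
  exact natCard_eq_orbit_mul W p

theorem smul_orbF {W : Subgroup (Equiv.Perm GolayPt)} {p : GolayPt} {g : Equiv.Perm GolayPt}
    (hg : g ∈ W) : g • orbF W p = orbF W p := by
  ext q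
  rw [← Finset.inv_smul_mem_iff, mem_orbF, mem_orbF]
  constructor
  · rintro ⟨h, hh, e⟩
    exact ⟨g * h, mul_mem hg hh, by rw [Equiv.Perm.mul_apply, e]; simp⟩
  · rintro ⟨h, hh, rfl⟩
    exact ⟨g⁻¹ * h, mul_mem (inv_mem hg) hh, rfl⟩

theorem natCard_le_orbit_bound {W : Subgroup (Equiv.Perm GolayPt)} {p : GolayPt}
    {T : Finset GolayPt} (hp : p ∈ T) (hT : ∀ g ∈ W, g • T = T) :
    Nat.card W ≤ T.card * Nat.card ↥(W ⊓ ptStab p) := by
  rw [natCard_eq_orbF_mul W p]
  refine Nat.mul_le_mul_right _ (Finset.card_le_card fun q hq => ?_)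
  obtain ⟨g, hg, rfl⟩ := mem_orbF.1 hq
  rw [← hT g hg]
  exact Finset.smul_mem_smul_finset hp

/-- order of a pointwise stabiliser of at most five points -/
theorem natCard_fix_tuple {k : ℕ} (hk : k ≤ 5) (x : Fin k ↪ GolayPt) :
    Nat.card (MulAction.stabilizer M24 x) * Nat.descFactorial 24 k = 244823040 := by
  haveI := isMultiplyPretransitive_le_five hk
  have horb : MulAction.orbit M24 x = Set.univ :=
    Set.eq_univ_of_forall fun y => MulAction.isMultiplyPretransitive_iff.1 inferInstance x y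
  rw [← natCard_M24, ← Subgroup.card_mul_index (MulAction.stabilizer M24 x),
    MulAction.index_stabilizer]
  refine congrArg _ ?_
  calc Nat.descFactorial 24 k = Nat.card (Fin k ↪ GolayPt) := by
        rw [Nat.card_eq_fintype_card, Fintype.card_embedding_eq, card_golayPt, Fintype.card_fin]
    _ = _ := by rw [← Set.ncard_univ]; exact (congrArg Set.ncard horb).symm

/-- a subgroup fixing the listed distinct points is small -/
theorem natCard_dvd_fix_tuple {k : ℕ} (hk : k ≤ 5) (x : Fin k ↪ GolayPt)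
    {W : Subgroup (Equiv.Perm GolayPt)} (hW : W ≤ M24) (h : ∀ g ∈ W, ∀ i, g (x i) = x i) :
    Nat.card W * Nat.descFactorial 24 k ∣ 244823040 := by
  rw [← natCard_fix_tuple hk x]
  refine Nat.mul_dvd_mul_right ?_ _
  let F : W →* MulAction.stabilizer M24 x :=
    (Subgroup.inclusion hW).codRestrict _ fun g => DFunLike.ext _ _ fun i => h g.1 g.2 i
  refine Subgroup.card_dvd_of_injective F fun g g' e => Subtype.ext ?_
  exact congrArg (fun z : MulAction.stabilizer M24 x => ((z : M24) : Equiv.Perm GolayPt)) e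

/-- an element of order seven in a subgroup with an invariant 12-set fixes five of its points -/
theorem not_seven_of_twelve {W : Subgroup (Equiv.Perm GolayPt)} (hW : W ≤ M24)
    {D : Finset GolayPt} (hD : D.card = 12) (hinv : ∀ g ∈ W, g • D = D) :
    ¬ 7 ∣ Nat.card W := by
  classical
  intro h7
  haveI : Fact (Nat.Prime 7) := ⟨by norm_num⟩
  obtain ⟨⟨t, ht⟩, ht7⟩ := exists_prime_orderOf_dvd_card' 7 h7
  have hto : orderOf t = 7 := by
    rw [← ht7]
    exact orderOf_injective W.subtype Subtype.val_injective ⟨t, ht⟩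
  have hmem : ∀ q, t q ∈ D ↔ q ∈ D := fun q => by
    conv_lhs => rw [← hinv t ht, ← Equiv.Perm.smul_def, Finset.smul_mem_smul_finset_iff]
  set τ : Equiv.Perm {q // q ∈ D} := t.subtypePerm hmem with hτ
  have hτ7 : τ ^ 7 ^ 1 = 1 := by
    refine Equiv.ext fun q => Subtype.ext ?_
    rw [pow_one, hτ, Equiv.Perm.subtypePerm_pow]
    show (t ^ 7) q.1 = q.1
    rw [← hto, pow_orderOf_eq_one]; rfl
  have hmod := Equiv.Perm.card_compl_support_modEq (p := 7) (σ := τ) hτ7
  rw [Fintype.card_coe, hD] at hmod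
  have h5 : 5 ≤ τ.supportᶜ.card := by
    rw [Nat.ModEq] at hmod; omega
  obtain ⟨F, hF, hFc⟩ := Finset.exists_subset_card_eq h5
  let x : Fin 5 ↪ GolayPt :=
    ((F.equivFinOfCardEq hFc).symm.toEmbedding.trans (Function.Embedding.subtype _)).trans
      (Function.Embedding.subtype _)
  have hfix : ∀ i, t (x i) = x i := by
    intro i
    have := hF ((F.equivFinOfCardEq hFc).symm i).2
    rw [Finset.mem_compl, Equiv.Perm.notMem_support] at this
    exact congrArg Subtype.val this
  have hd := natCard_dvd_fix_tuple (le_refl 5) x (W := Subgroup.zpowers t)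
    ((Subgroup.zpowers_le).2 (hW ht)) (fun g hg i => by
      obtain ⟨n, rfl⟩ := Subgroup.mem_zpowers_iff.1 hg
      exact Equiv.Perm.zpow_apply_eq_self_of_apply_eq_self (hfix i) n)
  rw [Nat.card_zpowers, hto] at hd
  revert hd
  decide

/-! ### Certificates -/

/-- a straight-line program and levels whose entries lie in the generated subgroup -/
def levCertOK (gens : List ℕ) (rows : List (ℕ × ℕ × ℕ)) (L : List (ℕ × List ℕ)) : Bool :=
  checkSLP rows gens && levelsLow [] L &&
    L.all fun l => l.2.all fun t =>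
      Nat.beq t MathieuOut.idP || gens.any (Nat.beq t) || rows.any fun e => Nat.beq t e.1

theorem le_natCard_of_levCert {gens : List ℕ} {rows : List (ℕ × ℕ × ℕ)} {L : List (ℕ × List ℕ)}
    (h : levCertOK gens rows L = true) {K : Subgroup (Equiv.Perm GolayPt)}
    (hK : ∀ a ∈ gens, RepIn K a) : (L.map fun l => l.2.length).prod ≤ Nat.card K := by
  simp only [levCertOK, Bool.and_eq_true] at h
  obtain ⟨⟨hrows, hlow⟩, hsub⟩ := h
  have hall := repIn_of_checkSLP rows gens hrows hK
  refine (prod_le_card L [] hlow (by simp) fun l hl t ht => ?_).trans (le_of_eq rfl)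
  have h0 := List.all_eq_true.1 (List.all_eq_true.1 hsub l hl) t ht
  simp only [Bool.or_eq_true, Nat.beq_eq, List.any_eq_true] at h0
  rcases h0 with (h | ⟨e, he, h⟩) | ⟨e, he, h⟩
  · rw [h, ← MathieuOut.idP_eq]; exact RepIn.one K
  · rw [h]; exact hK e he
  · rw [h]; exact hall e he

/-- the points reachable from a mask -/
def reachP (gens : List ℕ) : ℕ → ℕ → ℕ
  | 0, m => m
  | n + 1, m => reachP gens n (gens.foldl (fun acc g => acc ||| actP g m) m)

/-- every point of a class reaches the whole class, and the classes cover the given points -/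
def clsOK (gens cls : List ℕ) (univ : ℕ) : Bool :=
  (cls.all fun c => (List.range 24).all fun j => !c.testBit j ||
      Nat.beq (reachP gens 6 (1 <<< j)) c) &&
    (List.range 24).all fun j => !univ.testBit j || cls.any fun c => c.testBit j

theorem toSet_reachP {gens : List ℕ} {T : Finset GolayPt}
    (hT : ∀ g ∈ gens, ∃ σ, Rep σ g ∧ σ • T = T) :
    ∀ (n m : ℕ), toSet m ⊆ T → toSet (reachP gens n m) ⊆ T
  | 0, _, h => h
  | n + 1, m, h => by
    refine toSet_reachP hT n _ ?_
    have key : ∀ (l : List ℕ) (acc : ℕ), (∀ g ∈ l, g ∈ gens) → toSet acc ⊆ T →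
        toSet (l.foldl (fun acc g => acc ||| actP g m) acc) ⊆ T := by
      intro l
      induction l with
      | nil => intro acc _ ha; exact ha
      | cons g l ih =>
        intro acc hl ha
        refine ih _ (fun x hx => hl x (List.mem_cons_of_mem _ hx)) ?_
        rw [toSet_or]
        refine Finset.union_subset ha ?_
        obtain ⟨σ, hσ, hσT⟩ := hT g (hl g List.mem_cons_self)
        rw [← hσ.smul_toSet_eq (m := m) rfl, ← hσT]
        exact Finset.smul_finset_subset_smul_finset h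
    exact key gens m (fun _ h => h) h

theorem subset_of_cls {gens cls : List ℕ} {univ : ℕ} (h : clsOK gens cls univ = true)
    {T : Finset GolayPt} (hT : ∀ g ∈ gens, ∃ σ, Rep σ g ∧ σ • T = T) {c : ℕ} (hc : c ∈ cls)
    {p : GolayPt} (hp : p ∈ toSet c) (hpT : p ∈ T) : toSet c ⊆ T := by
  simp only [clsOK, Bool.and_eq_true, List.all_eq_true, List.mem_range, Bool.or_eq_true,
    Bool.not_eq_true', Nat.beq_eq] at h
  rcases h.1 c hc (idx p) (idx_lt p) with h1 | h1
  · rw [mem_toSet.1 hp] at h1; exact absurd h1 (by simp)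
  · rw [← h1]
    refine toSet_reachP hT 6 _ ?_
    intro q hq
    rw [mem_toSet, Nat.one_shiftLeft, Nat.testBit_two_pow, decide_eq_true_eq] at hq
    rwa [← idx_injective hq]

theorem exists_cls {gens cls : List ℕ} {univ : ℕ} (h : clsOK gens cls univ = true) {p : GolayPt}
    (hp : p ∈ toSet univ) : ∃ c ∈ cls, p ∈ toSet c := by
  simp only [clsOK, Bool.and_eq_true, List.all_eq_true, List.mem_range, Bool.or_eq_true,
    Bool.not_eq_true', List.any_eq_true] at h
  rcases h.2 (idx p) (idx_lt p) with h1 | ⟨c, hc, h1⟩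
  · rw [mem_toSet.1 hp] at h1; exact absurd h1 (by simp)
  · exact ⟨c, hc, mem_toSet.2 h1⟩

/-- the search for all powers finds only listed elements -/
def normOK (prev : List ℕ) (a p : ℕ) (plan : List (ℕ × ℕ × List ℕ)) (l : List ℕ) : Bool :=
  planOK a plan [] && (List.range p).all fun i => Nat.beq i 0 ||
    (dfs [] prev a (MathieuOut.powP a i) plan []).all fun x => l.any (Nat.beq x)

theorem canon_mem_of_normOK {prev : List ℕ} (hprev : ∀ b ∈ prev, b < 24) {a p : ℕ}
    {plan : List (ℕ × ℕ × List ℕ)} {l : List ℕ} (h : normOK prev a p plan l = true)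
    {A : Equiv.Perm GolayPt} (hA : Rep A a) [hp : Fact p.Prime] (ho : orderOf A = p)
    {g : Equiv.Perm GolayPt} (hg : g ∈ stabG [] prev)
    (hgA : g * A * g⁻¹ ∈ Subgroup.zpowers A) : canon g ∈ l := by
  simp only [normOK, Bool.and_eq_true, List.all_eq_true, List.mem_range, Bool.or_eq_true,
    Nat.beq_eq, List.any_eq_true] at h
  obtain ⟨j, hj⟩ := (isOfFinOrder_of_finite A).mem_powers_iff_mem_zpowers.2 hgA
  have hj' : g * A * g⁻¹ = A ^ (j % p) := by
    rw [← ho, pow_mod_orderOf]; exact hj.symm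
  have hne : j % p ≠ 0 := by
    intro h0
    rw [h0, pow_zero, conj_eq_one_iff] at hj'
    rw [hj', orderOf_one] at ho
    exact hp.out.one_lt.ne ho
  rcases h.2 (j % p) (Nat.mod_lt _ hp.out.pos) with h1 | h1
  · exact absurd h1 hne
  · obtain ⟨x, hx, e⟩ := h1 _ (canon_mem_dfs h.1 hg hprev hA (MathieuOut.rep_pow hA _)
      (mul_inv_eq_iff_eq_mul.1 hj'))
    exact e ▸ hx

theorem natCard_le_list {W : Subgroup (Equiv.Perm GolayPt)} {l : List ℕ}
    (h : ∀ g ∈ W, canon g ∈ l) :
    Nat.card W ≤ l.length ∧ (l.length ≤ Nat.card W → ∀ x ∈ l, RepIn W x) := by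
  classical
  let F : W → {x // x ∈ l.toFinset} := fun g => ⟨canon g.1, List.mem_toFinset.2 (h g.1 g.2)⟩
  have hF : Function.Injective F := fun g g' e =>
    Subtype.ext (canon_injective (congrArg Subtype.val e))
  have h1 := Nat.card_le_card_of_injective F hF
  rw [Nat.card_eq_fintype_card (α := {x // x ∈ l.toFinset}), Fintype.card_coe] at h1
  refine ⟨h1.trans l.toFinset_card_le, fun hle x hx => ?_⟩
  have hs : Function.Surjective F := by
    refine ((Nat.bijective_iff_injective_and_card F).2 ⟨hF, ?_⟩).2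
    rw [Nat.card_eq_fintype_card (α := {x // x ∈ l.toFinset}), Fintype.card_coe]
    exact le_antisymm h1 (l.toFinset_card_le.trans hle)
  obtain ⟨g, hg⟩ := hs ⟨x, List.mem_toFinset.2 hx⟩
  refine ⟨g.1, g.2, ?_⟩
  have : canon g.1 = x := congrArg Subtype.val hg
  exact this ▸ rep_canon g.1

end CfsgLib.Spor.Subgp
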