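import Cfsg.Agent.Lib.Spor.Syl2
import Cfsg.Agent.Lib.Spor.Orb.OctTrio
import Cfsg.Agent.Lib.Spor.Orb.FlagSex
import Cfsg.Agent.Lib.Spor.Orb.TransOct

/-!
A Sylow 2-subgroup of `Cfsg.M24` is its own normaliser.
-/

set_option autoImplicit false
set_option maxRecDepth 100000

namespace CfsgLib.Spor

open Cfsg
open scoped Pointwise

/-- the unique fixed octad, trio and sextet of the listed Sylow subgroup, and a witness -/
theorem flag_facts :
    (octK.ix.n = 759 ∧ trioK.ix.n = 3795 ∧ sexK.ix.n = 1771) ∧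
    (classList 759 fun i => syl2Gens.all fun a => fixPartsB a (octK.parts i)) = [0] ∧
    (classList 3795 fun i => syl2Gens.all fun a => fixPartsB a (trioK.parts i)) = [0] ∧
    (classList 1771 fun i => syl2Gens.all fun a => fixPartsB a (sexK.parts i)) = [3] ∧
    [[getT 24 octTbl 0]] = octTrioL ∧ [[getT 24 octTbl 0], trioK.parts 0] = flagSexL ∧
    (isM24P 359208375076189975491137338281691456 &&
      fixPartsB 359208375076189975491137338281691456 (octK.parts 0) &&
      fixPartsB 359208375076189975491137338281691456 (trioK.parts 0) &&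
      fixPartsB 359208375076189975491137338281691456 (sexK.parts 3) &&
      isM24P 924461392209737406109276442718149706 &&
      Nat.beq (compP 359208375076189975491137338281691456 (syl2Gens.getD 0 idP))
        (compP 924461392209737406109276442718149706 359208375076189975491137338281691456) &&
      (List.range 1024).all (fun i =>
        !Nat.beq (compP idP (getT 120 syl2Tbl i)) (compP idP 924461392209737406109276442718149706))) = true := by
  decide +kernel

theorem unique_fixed {X : Type} [MulAction (Equiv.Perm GolayPt) X] {S : Set X} (K : Kind S)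
    {n i0 : ℕ} (hn : K.ix.n = n)
    (h : (classList n fun i => syl2Gens.all fun a => fixPartsB a (K.parts i)) = [i0])
    {x : X} (hx : x ∈ S) :
    (∀ g ∈ genGroup syl2Gens, g • x = x) ↔ x = K.ix.sem i0 := by
  subst hn
  have hrep : ∀ a ∈ syl2Gens, ∃ σ ∈ genGroup syl2Gens, Rep σ a := fun a ha => by
    have hl := syl2_listed
    simp only [listedOK, Bool.and_eq_true, List.all_eq_true] at hl
    obtain ⟨σ, hσ, hr⟩ := exists_rep_M24 (hl.1.1.1.1.1.1.1.1.2 a ha)
    exact ⟨σ, Subgroup.subset_closure ⟨hσ, a, ha, hr⟩, hr⟩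
  have key : ∀ i < K.ix.n, (∀ g ∈ genGroup syl2Gens, g • K.ix.sem i = K.ix.sem i) ↔ i = i0 := by
    intro i hi
    have hiff : (syl2Gens.all fun a => fixPartsB a (K.parts i)) = true ↔
        ∀ g ∈ genGroup syl2Gens, g • K.ix.sem i = K.ix.sem i := by
      simp only [List.all_eq_true]
      constructor
      · intro hall
        have hsub : genGroup syl2Gens ≤ MulAction.stabilizer (Equiv.Perm GolayPt) (K.ix.sem i) := by
          rw [genGroup, Subgroup.closure_le]
          rintro σ ⟨-, a, ha, hr⟩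
          refine K.fam_inj _ _ ?_
          rw [K.fam_smul, K.fam_eq i hi]
          exact (smul_toFam_eq_iff hr (K.parts_ok i hi)).2 (hall a ha)
        exact fun g hg => hsub hg
      · intro hfix a ha
        obtain ⟨σ, hσ, hr⟩ := hrep a ha
        refine (smul_toFam_eq_iff hr (K.parts_ok i hi)).1 ?_
        rw [← K.fam_eq i hi, ← K.fam_smul, hfix σ hσ]
    rw [← hiff]
    constructor
    · intro ht
      have : i ∈ classList K.ix.n fun i => syl2Gens.all fun a => fixPartsB a (K.parts i) :=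
        List.mem_filter.2 ⟨List.mem_range.2 hi, ht⟩
      rw [h] at this
      simpa using this
    · rintro rfl
      have : i ∈ classList K.ix.n fun i => syl2Gens.all fun a => fixPartsB a (K.parts i) := by
        rw [h]; simp
      exact (List.mem_filter.1 this).2
  obtain ⟨i, hi, rfl⟩ := K.ix.complete x hx
  have hi0 : i0 < K.ix.n := by
    have : i0 ∈ classList K.ix.n fun i => syl2Gens.all fun a => fixPartsB a (K.parts i) := by
      rw [h]; simp
    exact List.mem_range.1 (List.mem_filter.1 this).1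
  rw [key i hi]
  exact ⟨fun e => by rw [e], fun e => K.ix.inj i hi i0 hi0 e⟩

theorem sylow_two_self_normalizing (S : Sylow 2 ↥M24) :
    Subgroup.normalizer ((S : Subgroup ↥M24) : Set ↥M24) = (S : Subgroup ↥M24) := by
  haveI : Fact (Nat.Prime 2) := ⟨Nat.prime_two⟩
  obtain ⟨⟨hno, hnt, hns⟩, fo, ft, fs, hLo, hLf, hw⟩ := flag_facts
  set P := (genGroup syl2Gens).subgroupOf M24 with hP
  have hcardP : Nat.card P = 2 ^ 10 := by
    rw [Nat.card_congr (Subgroup.subgroupOfEquivOfLe (genGroup_le _)).toEquiv,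
      natCard_genGroup syl2_listed]
    norm_num
  have hPidx : P.index = 239085 := by
    have := P.card_mul_index
    rw [hcardP, natCard_M24] at this
    omega
  let P0 : Sylow 2 ↥M24 := (IsPGroup.of_card hcardP).toSylow (by rw [hPidx]; norm_num)
  -- the flag stabiliser
  set O := octK.ix.sem 0
  set T := trioK.ix.sem 0
  set X := sexK.ix.sem 3
  set F1 := MulAction.stabilizer ↥M24 O ⊓ MulAction.stabilizer ↥M24 T with hF1
  set F := F1 ⊓ MulAction.stabilizer ↥M24 X with hF
  have h0o : (0 : ℕ) < octK.ix.n := by rw [hno]; norm_num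
  have h0t : (0 : ℕ) < trioK.ix.n := by rw [hnt]; norm_num
  have h3s : (3 : ℕ) < sexK.ix.n := by rw [hns]; norm_num
  have hmem1 : ∀ g : ↥M24, g ∈ F1 ↔ (g : Equiv.Perm GolayPt) ∈ famStab flagSexL := fun g => by
    rw [hF1, Subgroup.mem_inf, octK.mem_stab_iff h0o, trioK.mem_stab_iff h0t, ← hLf]
    simp only [mem_famStab, List.forall_mem_cons, List.not_mem_nil, IsEmpty.forall_iff,
      implies_true, and_true]
    exact ⟨fun h => ⟨h.1.1, h.1.2, h.2.2⟩, fun h => ⟨⟨h.1, h.2.1⟩, h.1, h.2.2⟩⟩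
  have hcardF : Nat.card F = 3072 := by
    have e1 := natCard_inf_stabilizer (MulAction.stabilizer ↥M24 O) T
    have o1 : (MulAction.orbit (MulAction.stabilizer ↥M24 O) T).ncard = 15 := by
      rw [trioK.orbit_eq_class octTrio_ok (hLo ▸ octK.mem_stab_iff h0o) (trioK.ix.mem 0 h0t),
        trioK.invs_eq (trioK.splitOK_iff.1 octTrio_ok).1 h0t,
        trioK.ncard_class (trioK.splitOK_iff.1 octTrio_ok).1]
      decide +kernel
    rw [o1, natCard_stab_octad (octK.ix.mem 0 h0o)] at e1
    have e2 := natCard_inf_stabilizer F1 X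
    have o2 : (MulAction.orbit F1 X).ncard = 7 := by
      rw [sexK.orbit_eq_class flagSex_ok hmem1 (sexK.ix.mem 3 h3s),
        sexK.invs_eq (sexK.splitOK_iff.1 flagSex_ok).1 h3s,
        sexK.ncard_class (sexK.splitOK_iff.1 flagSex_ok).1]
      decide +kernel
    rw [o2] at e2
    change Nat.card F1 * 15 = 322560 at e1
    change Nat.card F * 7 = Nat.card F1 at e2
    omega
  have hmemF : ∀ n : ↥M24, n ∈ F ↔ n • O = O ∧ n • T = T ∧ n • X = X := fun n => by
    simp [hF, hF1, Subgroup.mem_inf, MulAction.mem_stabilizer_iff, and_assoc]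
  have hnorm : ∀ {Y : Type} [MulAction (Equiv.Perm GolayPt) Y] {V : Set Y} (K : Kind V)
      (n : ℕ) (i0 : ℕ), K.ix.n = n → i0 < n →
      (classList n fun i => syl2Gens.all fun a => fixPartsB a (K.parts i)) = [i0] →
      ∀ g : ↥M24, g ∈ Subgroup.normalizer (P : Set ↥M24) → g • K.ix.sem i0 = K.ix.sem i0 := by
    intro Y _ V K n i0 hn hi hcls g hg
    refine (unique_fixed K hn hcls (K.smul_mem _ g.2 _ (K.ix.mem i0 (hn ▸ hi)))).1 fun x hx => ?_
    have hxP : (⟨x, genGroup_le _ hx⟩ : ↥M24) ∈ P := Subgroup.mem_subgroupOf.2 hx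
    have h2 := (Subgroup.mem_normalizer_iff''.1 hg _).1 hxP
    have h3 := (unique_fixed K hn hcls (K.ix.mem i0 (hn ▸ hi))).2 rfl _ (Subgroup.mem_subgroupOf.1 h2)
    change ((g : Equiv.Perm GolayPt)⁻¹ * x * g) • K.ix.sem i0 = K.ix.sem i0 at h3
    rw [mul_smul, mul_smul, inv_smul_eq_iff] at h3
    exact h3
  have hNF : Subgroup.normalizer (P : Set ↥M24) ≤ F := fun g hg => (hmemF g).2
    ⟨hnorm octK 759 0 hno (by norm_num) fo g hg, hnorm trioK 3795 0 hnt (by norm_num) ft g hg,
      hnorm sexK 1771 3 hns (by norm_num) fs g hg⟩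
  have hPN : P ≤ Subgroup.normalizer (P : Set ↥M24) := Subgroup.le_normalizer
  simp only [Bool.and_eq_true, List.all_eq_true, List.mem_range, Bool.not_eq_true'] at hw
  obtain ⟨⟨⟨⟨⟨⟨hh, hho⟩, hht⟩, hhs⟩, hc⟩, heq⟩, hout⟩ := hw
  obtain ⟨η, hη, hηr⟩ := exists_rep_M24 hh
  have hηF : (⟨η, hη⟩ : ↥M24) ∈ F := (hmemF _).2 ⟨
    octK.fam_inj _ _ (by
      show octK.fam (η • octK.ix.sem 0) = _
      rw [octK.fam_smul, octK.fam_eq 0 h0o]; exact (smul_toFam_eq_iff hηr (octK.parts_ok 0 h0o)).2 hho),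
    trioK.fam_inj _ _ (by
      show trioK.fam (η • trioK.ix.sem 0) = _
      rw [trioK.fam_smul, trioK.fam_eq 0 h0t]; exact (smul_toFam_eq_iff hηr (trioK.parts_ok 0 h0t)).2 hht),
    sexK.fam_inj _ _ (by
      show sexK.fam (η • sexK.ix.sem 3) = _
      rw [sexK.fam_smul, sexK.fam_eq 3 h3s]; exact (smul_toFam_eq_iff hηr (sexK.parts_ok 3 h3s)).2 hhs)⟩
  have hηN : (⟨η, hη⟩ : ↥M24) ∉ Subgroup.normalizer (P : Set ↥M24) := by
    intro hN
    have hl := syl2_listed
    simp only [listedOK, Bool.and_eq_true, List.all_eq_true] at hl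
    have hmem : syl2Gens.getD 0 idP ∈ syl2Gens := by decide +kernel
    obtain ⟨σ, hσ, hr⟩ := exists_rep_M24 (hl.1.1.1.1.1.1.1.1.2 _ hmem)
    obtain ⟨γ, hγ, hγr⟩ := exists_rep_M24 hc
    have hconj := hηr.mul hr
    rw [Nat.eq_of_beq_eq_true heq] at hconj
    have e : η * σ = γ * η := hconj.inj (hγr.mul hηr)
    have h1 : (⟨σ, hσ⟩ : ↥M24) ∈ P :=
      Subgroup.mem_subgroupOf.2 (Subgroup.subset_closure ⟨hσ, _, hmem, hr⟩)
    have h2 := Subgroup.mem_subgroupOf.1 ((Subgroup.mem_normalizer_iff.1 hN _).1 h1)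
    change η * σ * η⁻¹ ∈ genGroup syl2Gens at h2
    rw [e, mul_inv_cancel_right] at h2
    obtain ⟨i, hi, hir⟩ := listed_complete syl2_listed h2
    have h3 := hout i hi
    rw [hir.compP_idP hγr, Nat.beq_refl] at h3
    exact Bool.noConfusion h3
  have hN : Nat.card (Subgroup.normalizer (P : Set ↥M24)) = 1024 := by
    have d1 := Subgroup.card_dvd_of_le hPN
    have d2 := Subgroup.card_dvd_of_le hNF
    rw [hcardP] at d1
    rw [hcardF] at d2
    obtain ⟨k, hk⟩ := d1
    rw [hk] at d2
    have hk3 : k ∣ 3 := by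
      rw [show 3072 = 2 ^ 10 * 3 by norm_num] at d2
      exact (Nat.mul_dvd_mul_iff_left (by norm_num)).1 d2
    rcases (Nat.dvd_prime Nat.prime_three).1 hk3 with rfl | rfl
    · rw [hk]; norm_num
    · exfalso
      have he := Subgroup.eq_of_le_of_card_ge hNF (by rw [hk, hcardF]; norm_num)
      exact hηN (he ▸ hηF)
  refine (Subgroup.eq_of_le_of_card_ge Subgroup.le_normalizer ?_).symm
  have e1 := Sylow.card_eq_index_normalizer S
  have e2 := Sylow.card_eq_index_normalizer P0
  have hidx : (Subgroup.normalizer ((S : Subgroup ↥M24) : Set ↥M24)).index =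
      (Subgroup.normalizer (P : Set ↥M24)).index := e1.symm.trans e2
  have c1 := (Subgroup.normalizer ((S : Subgroup ↥M24) : Set ↥M24)).card_mul_index
  have c2 := (Subgroup.normalizer (P : Set ↥M24)).card_mul_index
  rw [hidx, ← c2] at c1
  have hpos : 0 < (Subgroup.normalizer (P : Set ↥M24)).index :=
    Nat.pos_of_ne_zero Subgroup.index_ne_zero_of_finite
  rw [Nat.eq_of_mul_eq_mul_right hpos c1, hN, Sylow.card_eq_multiplicity]
  have := (Sylow.card_eq_multiplicity P0).symm.trans hcardP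
  rw [this]
  norm_num

end CfsgLib.Spor
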