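import Cfsg.Agent.Lib.Spor.TernaryGolay

/-!
The automorphisms of the hexad system of the ternary Golay code and their monomial lifts.
-/

set_option autoImplicit false
set_option maxRecDepth 100000

namespace CfsgLib.Spor.Ternary

open Cfsg
open scoped Pointwise

/-- the hexads -/
def hexB : Set (Finset ArrayPt) :=
  {h | ∃ x ∈ ternaryGolayCode, ternarySupport x = h ∧ h.card = 6}

/-- the position with a given number -/
def tPt (k : ℕ) : ArrayPt := (⟨k / 3 % 4, Nat.mod_lt _ (by norm_num)⟩, ((k % 3 : ℕ) : ZMod 3))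

theorem tPt_tIdx : ∀ p : ArrayPt, tPt (tIdx p) = p := by decide

theorem tIdx_tPt : ∀ k < 12, tIdx (tPt k) = k := by decide

theorem tMask_tSet_hex : ∀ m ∈ hexList, tMask (tSet m) = m := by decide +kernel

theorem mem_hexB {h : Finset ArrayPt} : h ∈ hexB ↔ tMask h ∈ hexList := by
  rw [hexB, hexads_eq]; rfl

theorem mem_hexAut_iff {σ : Equiv.Perm ArrayPt} :
    σ ∈ setSystemAut hexB ↔ ∀ h ∈ hexB, σ • h ∈ hexB := by
  rw [MulAction.mem_stabilizer_set_iff_smul_set_subset (Set.toFinite _)]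
  constructor
  · exact fun H h hh => H (Set.smul_mem_smul_set hh)
  · rintro H _ ⟨h, hh, rfl⟩; exact H h hh

/-! ### Rigidity -/

/-- the hexads inside the assigned positions go to hexads -/
def preOK (l : List ℕ) : Bool :=
  hexList.all fun h => !Nat.blt h (2 ^ l.length) ||
    hexList.contains (tMask ((tSet h).image fun p => tPt (l.getD (tIdx p) 0)))

/-- completions of a partial assignment -/
def preExt : ℕ → List ℕ → List (List ℕ)
  | 0, l => [l]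
  | f + 1, l => (List.range 12).flatMap fun r =>
      if !l.contains r && preOK (l ++ [r]) then preExt f (l ++ [r]) else []

theorem preExt_five : preExt 7 [0, 1, 2, 3, 4] = [List.range 12] := by decide +kernel

/-- the images of the first positions -/
def preImg (σ : Equiv.Perm ArrayPt) (k : ℕ) : List ℕ :=
  (List.range k).map fun i => tIdx (σ (tPt i))

theorem preOK_preImg {σ : Equiv.Perm ArrayPt} (hσ : σ ∈ setSystemAut hexB) (k : ℕ) :
    preOK (preImg σ k) = true := by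
  simp only [preOK, List.all_eq_true, Bool.or_eq_true, Bool.not_eq_true', List.contains_iff_mem]
  intro h hh
  by_cases hk : h < 2 ^ k
  · right
    have hmem : tSet h ∈ hexB := mem_hexB.2 (by rw [tMask_tSet_hex h hh]; exact hh)
    have := mem_hexB.1 (mem_hexAut_iff.1 hσ _ hmem)
    convert this using 2
    refine Finset.image_congr fun p hp => ?_
    have hlt : tIdx p < k := by
      by_contra hc
      have h1 := Nat.testBit_lt_two_pow (lt_of_lt_of_le hk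
        (Nat.pow_le_pow_right (by norm_num : 0 < 2) (not_lt.1 hc)))
      simp [tSet, h1] at hp
    simp [preImg, hlt, tPt_tIdx]
  · left
    rw [Bool.eq_false_iff, ne_eq, Nat.blt_eq]
    simpa [preImg] using hk

theorem preImg_mem_preExt {σ : Equiv.Perm ArrayPt} (hσ : σ ∈ setSystemAut hexB) :
    ∀ f k, k + f = 12 → preImg σ 12 ∈ preExt f (preImg σ k) := by
  intro f
  induction f with
  | zero => intro k hk; obtain rfl : k = 12 := by omega
            simp [preExt]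
  | succ f ih =>
    intro k hk
    have hstep : preImg σ (k + 1) = preImg σ k ++ [tIdx (σ (tPt k))] := by
      simp [preImg, List.range_succ]
    simp only [preExt, List.mem_flatMap, List.mem_range]
    refine ⟨tIdx (σ (tPt k)), tIdx_lt _, ?_⟩
    rw [← hstep, preOK_preImg hσ, if_pos]
    · exact ih _ (by omega)
    · simp only [Bool.and_true, Bool.not_eq_true', List.contains_eq_mem, decide_eq_false_iff_not,
        preImg, List.mem_map, List.mem_range]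
      rintro ⟨i, hi, he⟩
      have h1 : σ (tPt i) = σ (tPt k) := by rw [← tPt_tIdx (σ (tPt i)), he, tPt_tIdx]
      have h2 := congrArg tIdx (σ.injective h1)
      rw [tIdx_tPt i (by omega), tIdx_tPt k (by omega)] at h2
      omega

theorem eq_one_of_fix_five {σ : Equiv.Perm ArrayPt} (hσ : σ ∈ setSystemAut hexB)
    (h : ∀ i < 5, σ (tPt i) = tPt i) : σ = 1 := by
  have h5 : preImg σ 5 = [0, 1, 2, 3, 4] := by
    have : preImg σ 5 = (List.range 5).map id := List.map_congr_left fun i hi => by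
      rw [h i (List.mem_range.1 hi), tIdx_tPt i (by have := List.mem_range.1 hi; omega)]; rfl
    simpa [List.range, List.range.loop] using this
  have hm := preImg_mem_preExt hσ 7 5 (by norm_num)
  rw [h5, preExt_five, List.mem_singleton] at hm
  refine Equiv.ext fun p => ?_
  have := congrArg (fun l => l.getD (tIdx p) 0) hm
  simp [preImg, tIdx_lt, tPt_tIdx] at this
  rw [← tPt_tIdx (σ p), this, tPt_tIdx]; rfl

/-! ### Monomial lifts -/

/-- `(σ, c)` preserves the code -/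
def Preserves (σ : Equiv.Perm ArrayPt) (c : ArrayPt → (ZMod 3)ˣ) : Prop :=
  ∀ x ∈ ternaryGolayCode, monomialMap σ c x ∈ ternaryGolayCode

/-- `σ` has a monomial lift -/
def HasLift (σ : Equiv.Perm ArrayPt) : Prop := ∃ c, Preserves σ c

theorem Preserves.mul {σ τ : Equiv.Perm ArrayPt} {c d : ArrayPt → (ZMod 3)ˣ} (h : Preserves σ c)
    (h' : Preserves τ d) : Preserves (σ * τ) (fun i => c i * d (σ.symm i)) := by
  intro x hx
  have e : monomialMap (σ * τ) (fun i => c i * d (σ.symm i)) x =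
      monomialMap σ c (monomialMap τ d x) := by
    funext i
    simp [monomialMap, Equiv.Perm.mul_def, mul_assoc]
  rw [e]; exact h _ (h' _ hx)

theorem HasLift.mul {σ τ : Equiv.Perm ArrayPt} : HasLift σ → HasLift τ → HasLift (σ * τ) :=
  fun ⟨_, h⟩ ⟨_, h'⟩ => ⟨_, h.mul h'⟩

theorem hasLift_one : HasLift 1 := ⟨fun _ => 1, fun x hx => by
  have e : monomialMap (1 : Equiv.Perm ArrayPt) (fun _ => (1 : (ZMod 3)ˣ)) x = x := by
    funext i; simp [monomialMap]; rfl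
  rwa [e]⟩

theorem HasLift.mem_aut {σ : Equiv.Perm ArrayPt} (h : HasLift σ) : σ ∈ setSystemAut hexB := by
  obtain ⟨c, hc⟩ := h
  rw [mem_hexAut_iff]
  rintro _ ⟨x, hx, rfl, h6⟩
  refine ⟨_, hc x hx, ?_, by rw [Finset.card_smul_finset]; exact h6⟩
  ext i
  rw [← Finset.inv_smul_mem_iff]
  simp [ternarySupport, monomialMap]

/-- image function of a listed monomial -/
def liftFun (t : List ℕ × List ℕ) (p : ArrayPt) : ArrayPt := tPt (t.1.getD (tIdx p) 0)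

/-- preimage function of a listed monomial -/
def liftInv (t : List ℕ × List ℕ) (p : ArrayPt) : ArrayPt := tPt (t.1.idxOf (tIdx p))

/-- signs of a listed monomial -/
def liftSign (t : List ℕ × List ℕ) (p : ArrayPt) : (ZMod 3)ˣ :=
  if Nat.beq (t.2.getD (tIdx p) 0) 1 then 1 else -1

/-- the image of a basis word under a listed monomial -/
def liftWord (t : List ℕ × List ℕ) (j : Fin 6) (i : ArrayPt) : ZMod 3 :=
  (liftSign t i : ZMod 3) * tBasis j (liftInv t i)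

/-- five levels of monomials, level `i` fixing the earlier positions and moving position `i` to
every later one -/
def liftLevels : List (List (List ℕ × List ℕ)) :=
[
   [([0, 1, 2, 3, 4, 5, 6, 7, 8, 9, 10, 11], [1, 1, 1, 1, 1, 1, 1, 1, 1, 1, 1, 1]),
    ([1, 0, 2, 3, 4, 5, 11, 9, 10, 7, 8, 6], [1, 1, 1, 1, 1, 1, 1, 1, 1, 1, 1, 1]),
    ([2, 0, 1, 3, 4, 5, 8, 6, 7, 10, 11, 9], [1, 1, 1, 1, 1, 1, 1, 1, 1, 1, 1, 1]),
    ([3, 0, 1, 2, 4, 5, 10, 7, 6, 8, 9, 11], [1, 1, 2, 2, 1, 1, 2, 2, 1, 2, 1, 2]),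
    ([4, 0, 1, 2, 3, 5, 6, 9, 10, 11, 7, 8], [1, 1, 2, 1, 2, 1, 1, 2, 2, 2, 2, 1]),
    ([5, 0, 1, 2, 3, 4, 9, 6, 8, 7, 11, 10], [1, 1, 2, 1, 1, 2, 2, 1, 2, 1, 2, 2]),
    ([6, 0, 1, 2, 3, 9, 5, 4, 7, 10, 8, 11], [1, 2, 1, 1, 2, 1, 2, 2, 2, 1, 1, 2]),
    ([7, 0, 1, 2, 3, 11, 10, 8, 9, 4, 5, 6], [1, 2, 2, 2, 2, 1, 1, 1, 1, 1, 2, 2]),
    ([8, 0, 1, 2, 3, 10, 7, 11, 4, 6, 9, 5], [1, 1, 1, 2, 1, 1, 2, 2, 1, 1, 2, 1]),
    ([9, 0, 1, 2, 3, 6, 4, 5, 11, 8, 10, 7], [1, 2, 1, 1, 1, 2, 1, 2, 1, 2, 2, 2]),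
    ([10, 0, 1, 2, 3, 8, 11, 7, 5, 9, 6, 4], [1, 1, 1, 2, 1, 1, 1, 1, 2, 2, 1, 2]),
    ([11, 0, 1, 2, 3, 7, 8, 10, 6, 5, 4, 9], [1, 2, 2, 2, 1, 2, 1, 2, 2, 1, 1, 1])],
   [([0, 1, 2, 3, 4, 5, 6, 7, 8, 9, 10, 11], [1, 1, 1, 1, 1, 1, 1, 1, 1, 1, 1, 1]),
    ([0, 2, 1, 3, 4, 5, 9, 10, 11, 6, 7, 8], [1, 1, 1, 1, 1, 1, 1, 1, 1, 1, 1, 1]),
    ([0, 3, 1, 2, 4, 5, 11, 8, 9, 7, 6, 10], [1, 1, 2, 2, 1, 1, 2, 2, 1, 2, 1, 2]),
    ([0, 4, 1, 2, 3, 5, 8, 11, 7, 9, 10, 6], [1, 1, 2, 1, 2, 1, 1, 2, 2, 2, 2, 1]),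
    ([0, 5, 1, 2, 3, 4, 10, 7, 11, 6, 8, 9], [1, 1, 2, 1, 1, 2, 2, 1, 2, 1, 2, 2]),
    ([0, 6, 1, 2, 3, 9, 11, 10, 8, 4, 7, 5], [1, 2, 1, 1, 2, 1, 2, 2, 2, 1, 1, 2]),
    ([0, 7, 1, 2, 3, 11, 6, 4, 5, 8, 9, 10], [1, 2, 2, 2, 2, 1, 1, 1, 1, 1, 2, 2]),
    ([0, 8, 1, 2, 3, 10, 5, 6, 9, 11, 4, 7], [1, 1, 1, 2, 1, 1, 2, 2, 1, 1, 2, 1]),
    ([0, 9, 1, 2, 3, 6, 7, 8, 10, 5, 11, 4], [1, 2, 1, 1, 1, 2, 1, 2, 1, 2, 2, 2]),
    ([0, 10, 1, 2, 3, 8, 4, 9, 6, 7, 5, 11], [1, 1, 1, 2, 1, 1, 1, 1, 2, 2, 1, 2]),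
    ([0, 11, 1, 2, 3, 7, 9, 5, 4, 10, 6, 8], [1, 2, 2, 2, 1, 2, 1, 2, 2, 1, 1, 1])],
   [([0, 1, 2, 3, 4, 5, 6, 7, 8, 9, 10, 11], [1, 1, 1, 1, 1, 1, 1, 1, 1, 1, 1, 1]),
    ([0, 1, 3, 2, 4, 5, 7, 6, 10, 11, 8, 9], [1, 1, 2, 2, 1, 1, 2, 2, 1, 2, 1, 2]),
    ([0, 1, 4, 2, 3, 5, 9, 10, 6, 8, 11, 7], [1, 1, 2, 1, 2, 1, 1, 2, 2, 2, 2, 1]),
    ([0, 1, 5, 2, 3, 4, 6, 8, 9, 10, 7, 11], [1, 1, 2, 1, 1, 2, 2, 1, 2, 1, 2, 2]),
    ([0, 1, 6, 2, 3, 9, 4, 7, 5, 11, 10, 8], [1, 2, 1, 1, 2, 1, 2, 2, 2, 1, 1, 2]),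
    ([0, 1, 7, 2, 3, 11, 8, 9, 10, 6, 4, 5], [1, 2, 2, 2, 2, 1, 1, 1, 1, 1, 2, 2]),
    ([0, 1, 8, 2, 3, 10, 11, 4, 7, 5, 6, 9], [1, 1, 1, 2, 1, 1, 2, 2, 1, 1, 2, 1]),
    ([0, 1, 9, 2, 3, 6, 5, 11, 4, 7, 8, 10], [1, 2, 1, 1, 1, 2, 1, 2, 1, 2, 2, 2]),
    ([0, 1, 10, 2, 3, 8, 7, 5, 11, 4, 9, 6], [1, 1, 1, 2, 1, 1, 1, 1, 2, 2, 1, 2]),
    ([0, 1, 11, 2, 3, 7, 10, 6, 8, 9, 5, 4], [1, 2, 2, 2, 1, 2, 1, 2, 2, 1, 1, 1])],
   [([0, 1, 2, 3, 4, 5, 6, 7, 8, 9, 10, 11], [1, 1, 1, 1, 1, 1, 1, 1, 1, 1, 1, 1]),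
    ([0, 1, 2, 4, 3, 5, 10, 9, 11, 7, 6, 8], [1, 1, 1, 1, 1, 1, 1, 1, 1, 1, 1, 1]),
    ([0, 1, 2, 5, 3, 4, 8, 6, 7, 11, 9, 10], [1, 1, 1, 1, 1, 1, 1, 1, 1, 1, 1, 1]),
    ([0, 1, 2, 6, 3, 9, 7, 4, 10, 8, 5, 11], [1, 2, 2, 1, 1, 1, 1, 1, 1, 1, 1, 1]),
    ([0, 1, 2, 7, 3, 11, 9, 8, 4, 5, 10, 6], [1, 2, 1, 2, 2, 2, 2, 2, 2, 2, 2, 2]),
    ([0, 1, 2, 8, 3, 10, 4, 11, 6, 9, 7, 5], [1, 1, 2, 2, 2, 2, 2, 2, 2, 2, 2, 2]),
    ([0, 1, 2, 9, 3, 6, 11, 5, 8, 10, 4, 7], [1, 2, 2, 1, 1, 1, 1, 1, 1, 1, 1, 1]),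
    ([0, 1, 2, 10, 3, 8, 5, 7, 9, 6, 11, 4], [1, 1, 2, 2, 2, 2, 2, 2, 2, 2, 2, 2]),
    ([0, 1, 2, 11, 3, 7, 6, 10, 5, 4, 8, 9], [1, 2, 1, 2, 2, 2, 2, 2, 2, 2, 2, 2])],
   [([0, 1, 2, 3, 4, 5, 6, 7, 8, 9, 10, 11], [1, 1, 1, 1, 1, 1, 1, 1, 1, 1, 1, 1]),
    ([0, 1, 2, 3, 5, 4, 9, 11, 10, 6, 8, 7], [1, 1, 1, 1, 1, 1, 1, 1, 1, 1, 1, 1]),
    ([0, 1, 2, 3, 6, 9, 5, 8, 11, 4, 7, 10], [1, 2, 2, 1, 1, 1, 1, 1, 1, 1, 1, 1]),
    ([0, 1, 2, 3, 7, 11, 10, 5, 6, 8, 9, 4], [1, 2, 1, 2, 2, 2, 2, 2, 2, 2, 2, 2]),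
    ([0, 1, 2, 3, 8, 10, 7, 9, 5, 11, 4, 6], [1, 1, 2, 2, 2, 2, 2, 2, 2, 2, 2, 2]),
    ([0, 1, 2, 3, 9, 6, 4, 10, 7, 5, 11, 8], [1, 2, 2, 1, 1, 1, 1, 1, 1, 1, 1, 1]),
    ([0, 1, 2, 3, 10, 8, 11, 6, 4, 7, 5, 9], [1, 1, 2, 2, 2, 2, 2, 2, 2, 2, 2, 2]),
    ([0, 1, 2, 3, 11, 7, 8, 4, 9, 10, 6, 5], [1, 2, 1, 2, 2, 2, 2, 2, 2, 2, 2, 2])]]

theorem liftLevels_ok : ∀ L ∈ liftLevels, ∀ t ∈ L,
    (∀ p, liftInv t (liftFun t p) = p ∧ liftFun t (liftInv t p) = p) ∧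
    ∀ j i, tEnc (fun k => liftWord t j (tFree k)) i = liftWord t j i := by
  decide +kernel

theorem liftLevels_cover : ∀ i < 5, ∀ r < 12, r < i ∨ ∃ t ∈ liftLevels.getD i [],
    t.1.getD i 0 = r ∧ ∀ m < i, t.1.getD m 0 = m := by
  decide +kernel

theorem exists_lift_of_listed {L : List (List ℕ × List ℕ)} (hL : L ∈ liftLevels)
    {t : List ℕ × List ℕ} (ht : t ∈ L) :
    ∃ σ, HasLift σ ∧ ∀ p, σ p = liftFun t p := by
  obtain ⟨h1, h2⟩ := liftLevels_ok L hL t ht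
  refine ⟨⟨liftFun t, liftInv t, fun p => (h1 p).1, fun p => (h1 p).2⟩,
    ⟨liftSign t, fun x hx => ?_⟩, fun _ => rfl⟩
  obtain ⟨d, rfl⟩ := mem_code_iff.1 hx
  have e : monomialMap (⟨liftFun t, liftInv t, fun p => (h1 p).1, fun p => (h1 p).2⟩ :
      Equiv.Perm ArrayPt) (liftSign t) (tEnc d) = ∑ j, d j • liftWord t j := by
    funext i
    simp only [monomialMap, tEnc, Finset.mul_sum, Finset.sum_apply, Pi.smul_apply, smul_eq_mul,
      liftWord, Equiv.coe_fn_symm_mk]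
    exact Finset.sum_congr rfl fun j _ => by ring
  rw [e]
  refine Submodule.sum_mem _ fun j _ => Submodule.smul_mem _ _ ?_
  rw [show liftWord t j = tEnc fun k => liftWord t j (tFree k) from funext fun i => (h2 j i).symm]
  exact tEnc_mem _

/-- lifts reach every assignment of the first five positions -/
theorem exists_lift_agree (σ : Equiv.Perm ArrayPt) :
    ∀ k ≤ 5, ∃ g, HasLift g ∧ ∀ i < k, g (tPt i) = σ (tPt i) := by
  intro k
  induction k with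
  | zero => exact fun _ => ⟨1, hasLift_one, fun i hi => absurd hi (Nat.not_lt_zero i)⟩
  | succ k ih =>
    intro hk
    obtain ⟨g, hg, hgi⟩ := ih (by omega)
    set q := g.symm (σ (tPt k)) with hq
    rcases liftLevels_cover k (by omega) (tIdx q) (tIdx_lt q) with hlt | ⟨t, ht, htk, htm⟩
    · exfalso
      have h1 := hgi _ hlt
      rw [tPt_tIdx, hq, Equiv.apply_symm_apply] at h1
      have h2 := congrArg tIdx (σ.injective h1)
      rw [tIdx_tPt k (by omega), ← hq] at h2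
      omega
    · have hlen : liftLevels.getD k [] ∈ liftLevels := by
        have : k < liftLevels.length := by show k < 5; omega
        rw [List.getD_eq_getElem _ _ this]; exact List.getElem_mem _
      obtain ⟨τ, hτ, hτe⟩ := exists_lift_of_listed hlen ht
      refine ⟨g * τ, hg.mul hτ, fun i hi => ?_⟩
      rw [Equiv.Perm.mul_apply, hτe, liftFun, tIdx_tPt i (by omega)]
      rcases Nat.lt_succ_iff_lt_or_eq.1 hi with hi | rfl
      · rw [htm i hi]; exact hgi i hi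
      · rw [htk, tPt_tIdx, hq, Equiv.apply_symm_apply]

theorem hasLift_iff {σ : Equiv.Perm ArrayPt} : HasLift σ ↔ σ ∈ setSystemAut hexB := by
  refine ⟨HasLift.mem_aut, fun h => ?_⟩
  obtain ⟨g, hg, hgi⟩ := exists_lift_agree σ 5 le_rfl
  have := eq_one_of_fix_five (σ := g⁻¹ * σ) (mul_mem (inv_mem hg.mem_aut) h) fun i hi => by
    rw [Equiv.Perm.mul_apply, ← hgi i hi]; exact g.symm_apply_apply _
  rwa [← inv_mul_eq_one.1 this]

theorem natCard_hexAut : Nat.card ↥(setSystemAut hexB) = 95040 := by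
  let b : Fin 5 ↪ ArrayPt := ⟨fun i => tPt i, fun i j h => Fin.ext <| by
    have := congrArg tIdx h
    rwa [tIdx_tPt _ (by omega), tIdx_tPt _ (by omega)] at this⟩
  have hb : Function.Bijective fun g : setSystemAut hexB => (g : Equiv.Perm ArrayPt) • b := by
    constructor
    · intro g g' h
      refine Subtype.ext (inv_mul_eq_one.1 (eq_one_of_fix_five
        (mul_mem (inv_mem g'.2) g.2) fun i hi => ?_)).symm
      have h' := DFunLike.congr_fun h ⟨i, hi⟩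
      change (g : Equiv.Perm ArrayPt) (tPt i) = (g' : Equiv.Perm ArrayPt) (tPt i) at h'
      rw [Equiv.Perm.mul_apply, h']
      exact (g' : Equiv.Perm ArrayPt).symm_apply_apply _
    · intro x
      have := Equiv.Perm.isMultiplyPretransitive ArrayPt 5
      obtain ⟨σ, hσ⟩ := MulAction.exists_smul_eq (Equiv.Perm ArrayPt) b x
      obtain ⟨g, hg, hgi⟩ := exists_lift_agree σ 5 le_rfl
      exact ⟨⟨g, hg.mem_aut⟩, DFunLike.ext _ _ fun i => by
        rw [← hσ]; exact hgi i i.2⟩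
  rw [Nat.card_congr (Equiv.ofBijective _ hb), Nat.card_eq_fintype_card,
    Fintype.card_embedding_eq]
  rfl

theorem Preserves.neg {σ : Equiv.Perm ArrayPt} {c : ArrayPt → (ZMod 3)ˣ} (h : Preserves σ c) :
    Preserves σ fun i => -c i := by
  intro x hx
  have e : monomialMap σ (fun i => -c i) x = -monomialMap σ c x := by
    funext i; simp [monomialMap]
  rw [e]; exact Submodule.neg_mem _ (h x hx)

/-- a lift is determined up to sign -/
theorem Preserves.eq_or_neg {σ : Equiv.Perm ArrayPt} {c c' : ArrayPt → (ZMod 3)ˣ}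
    (h : Preserves σ c) (h' : Preserves σ c') : (∀ i, c' i = c i) ∨ ∀ i, c' i = -c i := by
  obtain ⟨d, hd⟩ := hasLift_iff.2 (inv_mem (HasLift.mem_aut ⟨c, h⟩))
  have h1 := hd.mul h
  have h2 := hd.mul h'
  rw [inv_mul_cancel] at h1 h2
  have hσσ : ∀ i, (σ⁻¹).symm (σ.symm i) = i := fun i => σ.apply_symm_apply i
  have hu : ∀ u v w : (ZMod 3)ˣ, u * v = w → v = u * w := by decide
  rcases monomial_kernel _ h1 with e1 | e1 <;> rcases monomial_kernel _ h2 with e2 | e2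
  · exact Or.inl fun i => by
      rw [hu _ _ _ (show d (σ.symm i) * c' i = 1 by simpa only [hσσ] using e2 (σ.symm i)),
        hu _ _ _ (show d (σ.symm i) * c i = 1 by simpa only [hσσ] using e1 (σ.symm i))]
  · exact Or.inr fun i => by
      rw [hu _ _ _ (show d (σ.symm i) * c' i = -1 by simpa only [hσσ] using e2 (σ.symm i)),
        hu _ _ _ (show d (σ.symm i) * c i = 1 by simpa only [hσσ] using e1 (σ.symm i))]
      simp
  · exact Or.inr fun i => by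
      rw [hu _ _ _ (show d (σ.symm i) * c' i = 1 by simpa only [hσσ] using e2 (σ.symm i)),
        hu _ _ _ (show d (σ.symm i) * c i = -1 by simpa only [hσσ] using e1 (σ.symm i))]
      simp
  · exact Or.inl fun i => by
      rw [hu _ _ _ (show d (σ.symm i) * c' i = -1 by simpa only [hσσ] using e2 (σ.symm i)),
        hu _ _ _ (show d (σ.symm i) * c i = -1 by simpa only [hσσ] using e1 (σ.symm i))]

theorem natCard_monomialAut :
    Nat.card {f : Equiv.Perm ArrayPt × (ArrayPt → (ZMod 3)ˣ) // Preserves f.1 f.2} = 190080 := by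
  choose c hc using fun g : ↥(setSystemAut hexB) => hasLift_iff.2 g.2
  let F : ↥(setSystemAut hexB) × Bool →
      {f : Equiv.Perm ArrayPt × (ArrayPt → (ZMod 3)ˣ) // Preserves f.1 f.2} := fun gb =>
    ⟨(gb.1, fun i => if gb.2 then c gb.1 i else -c gb.1 i), by
      rcases gb with ⟨g, _ | _⟩
      · simpa using (hc g).neg
      · simpa using hc g⟩
  have hF : Function.Bijective F := by
    constructor
    · rintro ⟨g, b⟩ ⟨g', b'⟩ h
      obtain rfl : g = g' := Subtype.ext (congrArg (fun f => f.1.1) h)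
      have h2 := congrFun (congrArg (fun f => f.1.2) h) (tPt 0)
      have hu : ∀ u : (ZMod 3)ˣ, u ≠ -u := by decide
      cases b <;> cases b' <;> simp [F] at h2 ⊢
      · exact hu _ h2.symm
      · exact hu _ h2
    · rintro ⟨⟨σ, d⟩, hd⟩
      have hσ : σ ∈ setSystemAut hexB := HasLift.mem_aut ⟨d, hd⟩
      rcases (hc ⟨σ, hσ⟩).eq_or_neg hd with e | e
      · exact ⟨(⟨σ, hσ⟩, true), Subtype.ext (Prod.ext rfl (funext fun i => by simpa [F] using (e i).symm))⟩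
      · exact ⟨(⟨σ, hσ⟩, false), Subtype.ext (Prod.ext rfl (funext fun i => by simpa [F] using (e i).symm))⟩
  rw [← Nat.card_congr (Equiv.ofBijective F hF), Nat.card_prod, natCard_hexAut]
  simp

end CfsgLib.Spor.Ternary
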