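import Mathlib
import Cfsg.Prelude.Def_SporadicCombinatorics

/-!
The ternary Golay code of length 12 on the 4 × 3 array: enumeration through an information set.
-/

set_option autoImplicit false

namespace CfsgLib.Spor.Ternary

open Cfsg

/-- The number of an array position. -/
def tIdx (p : ArrayPt) : ℕ := 3 * (p.1 : ℕ) + p.2.val

/-- A basis of the code, dual to the information set `tFree`. -/
def tBasisList : List (List ℕ) :=
  [[1, 0, 0, 0, 0, 1, 0, 0, 1, 1, 1, 2], [0, 1, 0, 0, 0, 1, 0, 2, 2, 2, 0, 2],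
   [0, 0, 1, 0, 0, 1, 0, 1, 0, 2, 1, 1], [0, 0, 0, 1, 0, 2, 0, 2, 1, 2, 1, 0],
   [0, 0, 0, 0, 1, 2, 0, 1, 2, 0, 1, 2], [0, 0, 0, 0, 0, 0, 1, 1, 1, 2, 2, 2]]

def tBasis (j : Fin 6) (p : ArrayPt) : ZMod 3 :=
  (((tBasisList.getD j []).getD (tIdx p) 0 : ℕ) : ZMod 3)

/-- The information set. -/
def tFree : Fin 6 → ArrayPt := ![(0, 0), (0, 1), (0, 2), (1, 0), (1, 1), (2, 0)]

/-- The word with given entries on the information set. -/
def tEnc (d : Fin 6 → ZMod 3) : ArrayPt → ZMod 3 := fun p => ∑ j, d j * tBasis j p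

/-- The nine tetracode words. -/
def tetraWord (a b : ZMod 3) : Fin 4 → ZMod 3 := a • ![0, 1, 1, 1] + b • ![1, 0, 1, 2]

theorem mem_tetracode {t : Fin 4 → ZMod 3} : t ∈ tetracode ↔ ∃ a b, tetraWord a b = t := by
  rw [tetracode, Submodule.mem_span_pair]; rfl

theorem tBasis_cols : ∀ j : Fin 6, ∃ s : ZMod 3, (∀ i : Fin 4, ∑ r : ZMod 3, tBasis j (i, r) = -s) ∧
    ∀ a b : ZMod 3, ∑ i : Fin 4, tBasis j (i, tetraWord a b i) = s := by
  decide +kernel

theorem tBasis_mem (j : Fin 6) : tBasis j ∈ ternaryGolayCode := by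
  obtain ⟨s, h1, h2⟩ := tBasis_cols j
  refine ⟨s, h1, fun t ht => ?_⟩
  obtain ⟨a, b, rfl⟩ := mem_tetracode.1 ht
  exact h2 a b

theorem tEnc_eq_sum (d : Fin 6 → ZMod 3) : tEnc d = ∑ j, d j • tBasis j := by
  funext p
  simp [tEnc, Finset.sum_apply]

theorem tEnc_mem (d : Fin 6 → ZMod 3) : tEnc d ∈ ternaryGolayCode := by
  rw [tEnc_eq_sum]
  exact Submodule.sum_mem _ fun j _ => Submodule.smul_mem _ _ (tBasis_mem j)

theorem tEnc_free : ∀ d : Fin 6 → ZMod 3, ∀ j, tEnc d (tFree j) = d j := by decide +kernel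

/-- The six positions outside the information set. -/
def tRest : Fin 6 → ArrayPt := ![(1, 2), (2, 1), (2, 2), (3, 0), (3, 1), (3, 2)]

theorem tCover : ∀ p : ArrayPt, (∃ j, tFree j = p) ∨ ∃ j, tRest j = p := by decide

/-- The word vanishing on the information set with given remaining entries. -/
def tPad (d : Fin 6 → ZMod 3) : ArrayPt → ZMod 3 := fun p =>
  ∑ j, if tRest j = p then d j else 0

theorem tPad_check : ∀ d : Fin 6 → ZMod 3,
    (∃ s : ZMod 3, (∀ i : Fin 4, ∑ r : ZMod 3, tPad d (i, r) = -s) ∧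
      ∀ a b : ZMod 3, ∑ i : Fin 4, tPad d (i, tetraWord a b i) = s) → ∀ j, d j = 0 := by
  decide +kernel

theorem tRest_inj : ∀ j k, tRest j = tRest k → j = k := by decide

theorem tFree_ne_rest : ∀ j k, tRest j ≠ tFree k := by decide

theorem eq_zero_of_free {x : ArrayPt → ZMod 3} (hx : x ∈ ternaryGolayCode)
    (h : ∀ j, x (tFree j) = 0) : x = 0 := by
  have hpad : tPad (fun j => x (tRest j)) = x := by
    funext p
    rcases tCover p with ⟨j, rfl⟩ | ⟨j, rfl⟩
    · rw [h j]; exact Finset.sum_eq_zero fun k _ => if_neg (tFree_ne_rest k j)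
    · rw [tPad, Finset.sum_eq_single j]
      · rw [if_pos rfl]
      · exact fun k _ hk => if_neg fun h' => hk (tRest_inj k j h')
      · simp
  obtain ⟨s, h1, h2⟩ := hx
  have h0 := tPad_check (fun j => x (tRest j)) ⟨s, by rw [hpad]; exact h1, by
    rw [hpad]; exact fun a b => h2 _ (mem_tetracode.2 ⟨a, b, rfl⟩)⟩
  funext p
  rcases tCover p with ⟨j, rfl⟩ | ⟨j, rfl⟩
  · exact h j
  · exact h0 j

theorem mem_code_iff {x : ArrayPt → ZMod 3} :
    x ∈ ternaryGolayCode ↔ ∃ d, tEnc d = x := by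
  refine ⟨fun hx => ⟨fun j => x (tFree j), ?_⟩, ?_⟩
  · rw [← sub_eq_zero]
    exact eq_zero_of_free (Submodule.sub_mem _ (tEnc_mem _) hx) fun j => by
      simp [tEnc_free]
  · rintro ⟨d, rfl⟩; exact tEnc_mem d

theorem tEnc_injective : Function.Injective tEnc := fun d e h => funext fun j => by
  rw [← tEnc_free d j, ← tEnc_free e j, h]

theorem tWeights : ∀ d : Fin 6 → ZMod 3, d = 0 ∨ (ternarySupport (tEnc d)).card = 6 ∨
    (ternarySupport (tEnc d)).card = 9 ∨ (ternarySupport (tEnc d)).card = 12 := by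
  decide +kernel

theorem tCount : (Finset.univ.filter fun d => (ternarySupport (tEnc d)).card = 6).card = 264 ∧
    (Finset.univ.filter fun d => (ternarySupport (tEnc d)).card = 9).card = 440 ∧
    (Finset.univ.filter fun d => (ternarySupport (tEnc d)).card = 12).card = 24 := by
  decide +kernel

theorem ncard_weight (n : ℕ) :
    {x : ArrayPt → ZMod 3 | x ∈ ternaryGolayCode ∧ (ternarySupport x).card = n}.ncard =
      (Finset.univ.filter fun d => (ternarySupport (tEnc d)).card = n).card := by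
  rw [← Finset.card_image_of_injective _ tEnc_injective, ← Set.ncard_coe_finset]
  congr 1
  ext x
  simp only [Set.mem_setOf_eq, Finset.coe_image, Finset.coe_filter, Finset.mem_univ, true_and,
    Set.mem_image, mem_code_iff]
  constructor
  · rintro ⟨⟨d, rfl⟩, h⟩; exact ⟨d, h, rfl⟩
  · rintro ⟨d, h, rfl⟩; exact ⟨⟨d, rfl⟩, h⟩

theorem card_weights :
    Nat.card ↥ternaryGolayCode = 729 ∧
    (∀ x ∈ ternaryGolayCode, x ≠ 0 → (ternarySupport x).card = 6 ∨ (ternarySupport x).card = 9 ∨
      (ternarySupport x).card = 12) ∧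
    {x : ArrayPt → ZMod 3 | x ∈ ternaryGolayCode ∧ (ternarySupport x).card = 6}.ncard = 264 ∧
    {x : ArrayPt → ZMod 3 | x ∈ ternaryGolayCode ∧ (ternarySupport x).card = 9}.ncard = 440 ∧
    {x : ArrayPt → ZMod 3 | x ∈ ternaryGolayCode ∧ (ternarySupport x).card = 12}.ncard = 24 := by
  refine ⟨?_, fun x hx hx0 => ?_, ?_, ?_, ?_⟩
  · have e : (Fin 6 → ZMod 3) ≃ ↥ternaryGolayCode :=
      Equiv.ofBijective (fun d => ⟨tEnc d, tEnc_mem d⟩)
        ⟨fun d e h => tEnc_injective (congrArg Subtype.val h), fun x => by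
          obtain ⟨d, hd⟩ := mem_code_iff.1 x.2; exact ⟨d, Subtype.ext hd⟩⟩
    rw [← Nat.card_congr e, Nat.card_eq_fintype_card]; simp
  · obtain ⟨d, rfl⟩ := mem_code_iff.1 hx
    refine (tWeights d).resolve_left fun h => hx0 ?_
    subst h; funext p; simp [tEnc]
  · rw [ncard_weight]; exact tCount.1
  · rw [ncard_weight]; exact tCount.2.1
  · rw [ncard_weight]; exact tCount.2.2

theorem tGram : ∀ j k : Fin 6, ∑ p, tBasis j p * tBasis k p = 0 := by decide +kernel

theorem self_orthogonal {x y : ArrayPt → ZMod 3} (hx : x ∈ ternaryGolayCode)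
    (hy : y ∈ ternaryGolayCode) : ∑ p, x p * y p = 0 := by
  obtain ⟨d, rfl⟩ := mem_code_iff.1 hx
  obtain ⟨e, rfl⟩ := mem_code_iff.1 hy
  show ∑ p, (∑ j, d j * tBasis j p) * (∑ k, e k * tBasis k p) = 0
  rw [Finset.sum_congr rfl fun p _ => Finset.sum_mul_sum _ _ _ _]
  rw [Finset.sum_comm]
  refine Finset.sum_eq_zero fun j _ => ?_
  rw [Finset.sum_comm]
  refine Finset.sum_eq_zero fun k _ => ?_
  calc ∑ p, d j * tBasis j p * (e k * tBasis k p)
      = d j * e k * ∑ p, tBasis j p * tBasis k p := by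
        rw [Finset.mul_sum]; exact Finset.sum_congr rfl fun p _ => by ring
    _ = 0 := by rw [tGram, mul_zero]

/-- The bitmask of a set of array positions. -/
def tMask (s : Finset ArrayPt) : ℕ :=
  Nat.ofBits fun k : Fin 12 => decide (((⟨(k : ℕ) / 3, by omega⟩ : Fin 4), (((k : ℕ) % 3 : ℕ) : ZMod 3)) ∈ s)

/-- The set of array positions of a bitmask. -/
def tSet (m : ℕ) : Finset ArrayPt := Finset.univ.filter fun p => m.testBit (tIdx p)

theorem tIdx_lt : ∀ p : ArrayPt, tIdx p < 12 := by decide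

theorem tSet_tMask (s : Finset ArrayPt) : tSet (tMask s) = s := by
  ext p
  rw [tSet, Finset.mem_filter, and_iff_right (Finset.mem_univ p), tMask,
    Nat.testBit_ofBits_lt _ _ (tIdx_lt p), decide_eq_true_iff]
  have hi : (tIdx p) / 3 = (p.1 : ℕ) := by
    have := ZMod.val_lt p.2; unfold tIdx; omega
  have hr : (tIdx p) % 3 = p.2.val := by
    have := ZMod.val_lt p.2; unfold tIdx; omega
  have hp : ((⟨(tIdx p) / 3, by have := tIdx_lt p; omega⟩ : Fin 4), (((tIdx p) % 3 : ℕ) : ZMod 3))
      = p := by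
    refine Prod.ext (Fin.ext hi) ?_
    show (((tIdx p) % 3 : ℕ) : ZMod 3) = p.2
    rw [hr, ZMod.natCast_rightInverse]
  simp only [hp]

theorem tMask_injective : Function.Injective tMask := fun s t h => by
  rw [← tSet_tMask s, h, tSet_tMask]

/-- The hexads, as a list of bitmasks. -/
def hexList : List ℕ := [63,222,237,243,347,366,373,413,427,438,455,504,591,630,633,667,679,700,725,746,791,813,826,860,867,910,945,969,978,996,1117,1127,1146,1175,1198,1209,1227,1268,1295,1331,1340,1366,1385,1434,1445,1484,1489,1506,1566,1579,1589,1619,1644,1677,1714,1734,1752,1761,1817,1830,1861,1866,1904,1923,1940,1960,2135,2155,2172,2191,2229,2234,2265,2278,2334,2343,2361,2381,2418,2451,2476,2506,2516,2529,2589,2606,2611,2650,2661,2710,2729,2755,2764,2800,2827,2868,2886,2897,2920,2949,2968,2978,3099,3117,3126,3150,3185,3228,3235,3269,3282,3304,3349,3370,3395,3416,3428,3462,3465,3504,3591,3640,3657,3668,3682,3722,3729,3748,3852,3858,3873,4032]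

theorem hexList_fwd : ∀ d : Fin 6 → ZMod 3, (ternarySupport (tEnc d)).card = 6 →
    tMask (ternarySupport (tEnc d)) ∈ hexList := by decide +kernel

theorem hexList_bwd : ∀ m ∈ hexList, ∃ d : Fin 6 → ZMod 3,
    (ternarySupport (tEnc d)).card = 6 ∧ tMask (ternarySupport (tEnc d)) = m := by decide +kernel

theorem hexList_nodup : hexList.Nodup := by decide +kernel

/-- The number of ones below twelve. -/
def tPop (m : ℕ) : ℕ := ((List.range 12).filter fun i => m.testBit i).length

theorem hexList_steiner_aux : ∀ a b : Fin 64, tPop (64 * a + b) = 5 →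
    (hexList.filter fun h => Nat.beq ((64 * a + b) &&& h) (64 * a + b)).length = 1 := by
  decide +kernel

theorem hexList_steiner {n : ℕ} (h : n < 4096) : tPop n = 5 →
    (hexList.filter fun h => Nat.beq (n &&& h) n).length = 1 := by
  have := hexList_steiner_aux ⟨n / 64, by omega⟩ ⟨n % 64, by omega⟩
  simpa [Nat.div_add_mod] using this

theorem hexads_eq :
    {h : Finset ArrayPt | ∃ x ∈ ternaryGolayCode, ternarySupport x = h ∧ h.card = 6} =
      {h | tMask h ∈ hexList} := by
  ext h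
  constructor
  · rintro ⟨x, hx, rfl, hc⟩
    obtain ⟨d, rfl⟩ := mem_code_iff.1 hx
    exact hexList_fwd d hc
  · intro hm
    obtain ⟨d, hd, he⟩ := hexList_bwd _ hm
    refine ⟨tEnc d, tEnc_mem d, tMask_injective he, ?_⟩
    rw [← tMask_injective he]; exact hd

theorem tPop_card_aux : ∀ a b : Fin 64, (tSet (64 * a + b)).card = tPop (64 * a + b) := by
  decide +kernel

theorem tPop_card {n : ℕ} (h : n < 4096) : (tSet n).card = tPop n := by
  have := tPop_card_aux ⟨n / 64, by omega⟩ ⟨n % 64, by omega⟩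
  simpa [Nat.div_add_mod] using this

theorem tIdx_surj : ∀ k : Fin 12, ∃ p, tIdx p = k := by decide

theorem tMask_lt (s : Finset ArrayPt) : tMask s < 4096 := Nat.ofBits_lt_two_pow _

theorem testBit_tMask (s : Finset ArrayPt) (p : ArrayPt) :
    (tMask s).testBit (tIdx p) = true ↔ p ∈ s := by
  conv_rhs => rw [← tSet_tMask s]
  simp [tSet]

theorem subset_iff_and (s h : Finset ArrayPt) : s ⊆ h ↔ tMask s &&& tMask h = tMask s := by
  constructor
  · intro hs
    apply Nat.eq_of_testBit_eq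
    intro i
    rw [Nat.testBit_and]
    by_cases hb : (tMask s).testBit i = true
    · have hi : i < 12 := by
        by_contra hi
        rw [Nat.testBit_lt_two_pow (lt_of_lt_of_le (show tMask s < 2 ^ 12 from Nat.ofBits_lt_two_pow _)
          (Nat.pow_le_pow_right (by norm_num) (not_lt.1 hi)))] at hb
        exact Bool.false_ne_true hb
      obtain ⟨p, hp⟩ := tIdx_surj ⟨i, hi⟩
      obtain rfl : tIdx p = i := hp
      rw [hb, (testBit_tMask h p).2 (hs ((testBit_tMask s p).1 hb))]; rfl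
    · rw [Bool.not_eq_true] at hb; rw [hb]; rfl
  · intro he p hp
    have := (testBit_tMask s p).2 hp
    rw [← he, Nat.testBit_and, Bool.and_eq_true] at this
    exact (testBit_tMask h p).1 this.2

theorem hexads_steiner :
    IsSteinerSystem 5 6
      {h : Finset ArrayPt | ∃ x ∈ ternaryGolayCode, ternarySupport x = h ∧ h.card = 6} ∧
    {h : Finset ArrayPt | ∃ x ∈ ternaryGolayCode, ternarySupport x = h ∧ h.card = 6}.ncard = 132 := by
  rw [hexads_eq]
  refine ⟨⟨fun b hb => ?_, fun s hs => ?_⟩, ?_⟩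
  · obtain ⟨d, hd, he⟩ := hexList_bwd _ hb
    rw [← tMask_injective he]; exact hd
  · have h5 : tPop (tMask s) = 5 := by rw [← tPop_card (tMask_lt s), tSet_tMask, hs]
    obtain ⟨m, hm⟩ := List.length_eq_one_iff.1 (hexList_steiner (tMask_lt s) h5)
    have hmem : m ∈ hexList ∧ Nat.beq (tMask s &&& m) (tMask s) = true :=
      List.mem_filter.1 (hm ▸ List.mem_singleton_self m)
    obtain ⟨d, -, he⟩ := hexList_bwd _ hmem.1
    refine ⟨ternarySupport (tEnc d), ⟨(show tMask _ ∈ hexList from he.symm ▸ hmem.1),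
      (subset_iff_and _ _).2 (by rw [he]; exact Nat.eq_of_beq_eq_true hmem.2)⟩, ?_⟩
    rintro b ⟨hb, hsb⟩
    have : tMask b ∈ hexList.filter fun h => Nat.beq (tMask s &&& h) (tMask s) :=
      List.mem_filter.2 ⟨hb, by rw [(subset_iff_and _ _).1 hsb]; exact Nat.beq_refl _⟩
    rw [hm, List.mem_singleton] at this
    exact tMask_injective (this.trans he.symm)
  · have h1 : tMask '' {h : Finset ArrayPt | tMask h ∈ hexList} = {m | m ∈ hexList} := by
      ext m
      constructor
      · rintro ⟨h, hh, rfl⟩; exact hh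
      · intro hm
        obtain ⟨d, -, he⟩ := hexList_bwd _ hm
        exact ⟨_, (show tMask _ ∈ hexList from he.symm ▸ hm), he⟩
    rw [← Set.ncard_image_of_injective _ tMask_injective, h1,
      show {m | m ∈ hexList} = ((hexList.toFinset : Finset ℕ) : Set ℕ) by ext; simp,
      Set.ncard_coe_finset, List.toFinset_card_of_nodup hexList_nodup]
    rfl

/-- The sign vector of a pair of six-bit numbers. -/
def tSign (a b : Fin 64) (p : ArrayPt) : Bool := (64 * (a : ℕ) + b).testBit (tIdx p)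

theorem exists_tSign (c : ArrayPt → Bool) : ∃ a b, tSign a b = c := by
  have hlt := tMask_lt (Finset.univ.filter fun p => c p = true)
  refine ⟨⟨tMask (Finset.univ.filter fun p => c p = true) / 64, by omega⟩,
    ⟨tMask (Finset.univ.filter fun p => c p = true) % 64, by omega⟩, funext fun p => ?_⟩
  rw [Bool.eq_iff_iff, tSign]
  simp only [Nat.div_add_mod]
  rw [testBit_tMask]
  simp

theorem monomial_kernel_check_aux : ∀ a b : Fin 64,
    (∀ j, ∃ s : ZMod 3,
      (∀ i : Fin 4, ∑ r : ZMod 3, (if tSign a b (i, r) then (1 : ZMod 3) else -1) * tBasis j (i, r)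
        = -s) ∧
      ∀ x y : ZMod 3, ∑ i : Fin 4, (if tSign a b (i, tetraWord x y i) then (1 : ZMod 3) else -1) *
        tBasis j (i, tetraWord x y i) = s) →
    (∀ p, tSign a b p = true) ∨ (∀ p, tSign a b p = false) := by decide +kernel

theorem monomial_kernel_check (c : ArrayPt → Bool) :
    (∀ j, ∃ s : ZMod 3,
      (∀ i : Fin 4, ∑ r : ZMod 3, (if c (i, r) then (1 : ZMod 3) else -1) * tBasis j (i, r) = -s) ∧
      ∀ a b : ZMod 3, ∑ i : Fin 4, (if c (i, tetraWord a b i) then (1 : ZMod 3) else -1) *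
        tBasis j (i, tetraWord a b i) = s) →
    (∀ p, c p = true) ∨ (∀ p, c p = false) := by
  obtain ⟨a, b, rfl⟩ := exists_tSign c
  exact monomial_kernel_check_aux a b

theorem monomial_kernel (c : ArrayPt → (ZMod 3)ˣ)
    (h : ∀ x ∈ ternaryGolayCode, monomialMap 1 c x ∈ ternaryGolayCode) :
    (∀ p, c p = 1) ∨ (∀ p, c p = -1) := by
  have hu : ∀ u : (ZMod 3)ˣ, u = 1 ∨ u = -1 := by decide
  have hcp : ∀ p, (c p : ZMod 3) = if decide (c p = 1) then (1 : ZMod 3) else -1 := by
    intro p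
    rcases hu (c p) with h' | h' <;> simp [h']
    decide
  rcases monomial_kernel_check (fun p => decide (c p = 1)) (fun j => by
    obtain ⟨s, h1, h2⟩ := h _ (tBasis_mem j)
    refine ⟨s, fun i => ?_, fun a b => ?_⟩
    · rw [← h1 i]; exact Finset.sum_congr rfl fun r _ => by rw [← hcp]; rfl
    · rw [← h2 _ (mem_tetracode.2 ⟨a, b, rfl⟩)]
      exact Finset.sum_congr rfl fun r _ => by rw [← hcp]; rfl) with h' | h'
  · exact Or.inl fun p => of_decide_eq_true (h' p)
  · exact Or.inr fun p => (hu (c p)).resolve_left (of_decide_eq_false (h' p))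

end CfsgLib.Spor.Ternary
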