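import Cfsg.Agent.Lib.Spor.OctadFix
import Cfsg.Agent.Lib.Spor.OrbitApply
import Cfsg.Agent.Lib.Spor.Orb.TrioChain
import Cfsg.Agent.Lib.Spor.Orb.TransOct

/-!
The trios through an octad and their pointwise stabiliser.
-/

set_option autoImplicit false
set_option maxRecDepth 100000

namespace CfsgLib.Spor

open Cfsg
open scoped Pointwise

/-- the trios through the base octad are the first fifteen -/
theorem trioThru_spec : ((List.range 3795).all fun i =>
    (trioK.parts i).contains (getT 24 octTbl 0) == Nat.blt i 15) = true := by decide +kernel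

theorem mem_trioSem_iff {i : ℕ} (hi : i < 3795) :
    toSet (getT 24 octTbl 0) ∈ trioK.ix.sem i ↔ i < 15 := by
  have h := List.all_eq_true.1 trioThru_spec i (List.mem_range.2 hi)
  simp only [beq_iff_eq] at h
  rw [← Nat.blt_eq, ← h, List.contains_iff_mem]
  have e : trioK.ix.sem i = toFam (trioK.parts i) := trioK.fam_eq i hi
  rw [e, toFam, List.mem_toFinset, List.mem_map]
  constructor
  · rintro ⟨m, hm, he⟩
    have hlt := trioK.parts_ok i hi
    simp only [partsOK, Bool.and_eq_true, List.all_eq_true, Nat.blt_eq] at hlt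
    rwa [← toSet_injOn (by simpa using hlt.1 m hm) (getT24_lt _ _) he]
  · exact fun hm => ⟨_, hm, rfl⟩

/-- a packed permutation fixes an indexed trio -/
def fixTrioB (a i : ℕ) : Bool := (trioK.parts i).all fun m => (trioK.parts i).contains (actP a m)

theorem octadFix_trios :
    (octadFixList.all fun a => (List.range 15).all fun i => fixTrioB a i) = true := by
  decide +kernel

theorem Rep.smul_trio {σ : Equiv.Perm GolayPt} {a i : ℕ} (h : Rep σ a) (hi : i < 3795)
    (hf : fixTrioB a i = true) : σ • trioK.ix.sem i = trioK.ix.sem i := by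
  simp only [fixTrioB, List.all_eq_true, List.contains_iff_mem] at hf
  have e : trioK.ix.sem i = toFam (trioK.parts i) := trioK.fam_eq i hi
  rw [e]
  refine Finset.eq_of_subset_of_card_le ?_ (le_of_eq (Finset.card_smul_finset _ _).symm)
  intro x hx
  obtain ⟨y, hy, rfl⟩ := Finset.mem_smul_finset.1 hx
  obtain ⟨m, hm, rfl⟩ := List.mem_map.1 (List.mem_toFinset.1 hy)
  exact List.mem_toFinset.2 (List.mem_map.2 ⟨_, hf m hm, h.toSet_actP m⟩)

/-- the stabiliser of the base octad and of the first `k` base trios -/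
def trioLevGrp : ℕ → Subgroup ↥M24
  | 0 => MulAction.stabilizer ↥M24 (toSet (getT 24 octTbl 0))
  | k + 1 => trioLevGrp k ⊓ MulAction.stabilizer ↥M24 (trioK.ix.sem (trioBase.getD k 0))

/-- the generators fix the earlier data -/
def levOK (k : ℕ) (gens : List ℕ) : Bool :=
  gens.all fun a => isM24P a && Nat.beq (actP a (getT 24 octTbl 0)) (getT 24 octTbl 0) &&
    (List.range k).all fun j => fixTrioB a (trioBase.getD j 0)

theorem trioBase_lt : ∀ j, trioBase.getD j 0 < 3795 := by
  intro j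
  by_cases hj : j < trioBase.length
  · rw [List.getD_eq_getElem _ _ hj]
    exact (show ∀ b ∈ trioBase, b < 3795 by decide +kernel) _ (List.getElem_mem hj)
  · rw [List.getD_eq_default _ _ (not_lt.1 hj)]; norm_num

theorem repIn_trioLev {k : ℕ} {gens : List ℕ} (h : levOK k gens = true) {a : ℕ} (ha : a ∈ gens) :
    RepIn ((trioLevGrp k).map M24.subtype) a := by
  simp only [levOK, List.all_eq_true, Bool.and_eq_true, Nat.beq_eq, List.mem_range] at h
  obtain ⟨⟨hM, ho⟩, ht⟩ := h a ha
  obtain ⟨σ, hσ, hr⟩ := exists_rep_M24 hM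
  refine ⟨σ, ⟨⟨σ, hσ⟩, ?_, rfl⟩, hr⟩
  suffices ∀ n ≤ k, (⟨σ, hσ⟩ : ↥M24) ∈ trioLevGrp n from this k le_rfl
  intro n hn
  induction n with
  | zero =>
    show σ • toSet (getT 24 octTbl 0) = toSet (getT 24 octTbl 0)
    rw [← hr.toSet_actP, ho]
  | succ n ih =>
    exact ⟨ih (by omega), hr.smul_trio (trioBase_lt n) (ht n (by omega))⟩

theorem trioLev_orbit {k : ℕ} {gens : List ℕ} (h : levOK k gens = true) {idx : List ℕ}
    {r : List (ℕ × ℕ × ℕ)}
    (ht : idxOrbitOK trioK.step trioK.ix.n gens (trioBase.getD k 0) r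
      (fun i => idx.contains i) = true)
    (hnd : idx.Nodup) (hlt : ∀ i ∈ idx, i < 3795) :
    idx.length * Nat.card (trioLevGrp (k + 1)) ≤ Nat.card (trioLevGrp k) := by
  have hmul := natCard_inf_stabilizer (trioLevGrp k) (trioK.ix.sem (trioBase.getD k 0))
  rw [show trioLevGrp (k + 1) =
    trioLevGrp k ⊓ MulAction.stabilizer ↥M24 (trioK.ix.sem (trioBase.getD k 0)) from rfl, ← hmul,
    mul_comm]
  refine Nat.mul_le_mul_left _ ?_
  have hsub : ↑(idx.toFinset.image trioK.ix.sem) ⊆
      MulAction.orbit (trioLevGrp k) (trioK.ix.sem (trioBase.getD k 0)) := by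
    intro x hx
    obtain ⟨i, hi, rfl⟩ := Finset.mem_image.1 (Finset.mem_coe.1 hx)
    rw [List.mem_toFinset] at hi
    obtain ⟨_, ⟨m, hm, rfl⟩, hme⟩ := trioK.ix.exists_smul trioK.step_ok
      (K := (trioLevGrp k).map M24.subtype) (by rintro _ ⟨x, -, rfl⟩; exact x.2)
      (fun a ha => repIn_trioLev h ha) ht (hlt i hi) (List.contains_iff_mem.2 hi)
    exact ⟨⟨m, hm⟩, hme⟩
  calc idx.length = (↑(idx.toFinset.image trioK.ix.sem) : Set _).ncard := by
        rw [Set.ncard_coe_finset, Finset.card_image_of_injOn, List.toFinset_card_of_nodup hnd]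
        intro i hi j hj e
        simp only [Finset.mem_coe, List.mem_toFinset] at hi hj
        exact trioK.ix.inj i (hlt i hi) j (hlt j hj) e
    _ ≤ _ := Set.ncard_le_ncard hsub (Set.toFinite _)

theorem trioLev_data :
    (levOK 0 trioLev0Gens && levOK 1 trioLev1Gens && levOK 2 trioLev2Gens &&
      levOK 3 trioLev3Gens) = true ∧
    (idxOrbitOK trioK.step trioK.ix.n trioLev0Gens (trioBase.getD 0 0) trioLev0Tree
        (fun i => trioLev0Idx.contains i) &&
      idxOrbitOK trioK.step trioK.ix.n trioLev1Gens (trioBase.getD 1 0) trioLev1Tree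
        (fun i => trioLev1Idx.contains i) &&
      idxOrbitOK trioK.step trioK.ix.n trioLev2Gens (trioBase.getD 2 0) trioLev2Tree
        (fun i => trioLev2Idx.contains i) &&
      idxOrbitOK trioK.step trioK.ix.n trioLev3Gens (trioBase.getD 3 0) trioLev3Tree
        (fun i => trioLev3Idx.contains i)) = true := by decide +kernel

theorem trioLev_idx : (trioLev0Idx.Nodup ∧ trioLev1Idx.Nodup ∧ trioLev2Idx.Nodup ∧
    trioLev3Idx.Nodup) ∧ (∀ i ∈ trioLev0Idx, i < 3795) ∧ (∀ i ∈ trioLev1Idx, i < 3795) ∧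
    (∀ i ∈ trioLev2Idx, i < 3795) ∧ (∀ i ∈ trioLev3Idx, i < 3795) ∧
    trioLev0Idx.length = 15 ∧ trioLev1Idx.length = 14 ∧ trioLev2Idx.length = 12 ∧
    trioLev3Idx.length = 8 ∧ (∀ j < 4, trioBase.getD j 0 < 15) := by decide +kernel

/-- an element of the base octad stabiliser fixing all trios through it fixes it pointwise -/
theorem fix_of_fix_trios {g : Equiv.Perm GolayPt} (hg : g ∈ M24)
    (ho : g • toSet (getT 24 octTbl 0) = toSet (getT 24 octTbl 0))
    (ht : ∀ i < 15, g • trioK.ix.sem i = trioK.ix.sem i) :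
    ∀ p ∈ toSet (getT 24 octTbl 0), g p = p := by
  obtain ⟨⟨n0, n1, n2, n3⟩, b0, b1, b2, b3, l0, l1, l2, l3, hb⟩ := trioLev_idx
  obtain ⟨hl, hi⟩ := trioLev_data
  simp only [Bool.and_eq_true] at hl hi
  have e0 := trioLev_orbit hl.1.1.1 hi.1.1.1 n0 b0
  have e1 := trioLev_orbit hl.1.1.2 hi.1.1.2 n1 b1
  have e2 := trioLev_orbit hl.1.2 hi.1.2 n2 b2
  have e3 := trioLev_orbit hl.2 hi.2 n3 b3
  rw [l0] at e0
  rw [l1] at e1
  rw [l2] at e2
  rw [l3] at e3
  have h0 : Nat.card (trioLevGrp 0) = 322560 := natCard_stab_octad (octK.ix.mem 0 (by decide +kernel))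
  have hle : Nat.card (trioLevGrp 4) ≤ 16 := by
    have h1 : 15 * (14 * (12 * (8 * Nat.card (trioLevGrp 4)))) ≤ 322560 := by
      calc 15 * (14 * (12 * (8 * Nat.card (trioLevGrp 4))))
          ≤ 15 * (14 * (12 * Nat.card (trioLevGrp 3))) := by gcongr
        _ ≤ 15 * (14 * Nat.card (trioLevGrp 2)) := by gcongr
        _ ≤ 15 * Nat.card (trioLevGrp 1) := by gcongr
        _ ≤ 322560 := e0.trans h0.le
    omega
  set E := (M24 ⊓ fixingSubgroup (Equiv.Perm GolayPt)
    (↑(toSet baseOctad) : Set GolayPt)).subgroupOf M24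
  have hbase : toSet (getT 24 octTbl 0) = toSet baseOctad := by decide +kernel
  have hE : Nat.card E = 16 := by
    rw [Nat.card_congr (Subgroup.subgroupOfEquivOfLe inf_le_left).toEquiv, natCard_octadFix_base]
  have hsub : E ≤ trioLevGrp 4 := by
    intro m hm
    have hm' := Subgroup.mem_subgroupOf.1 hm
    obtain ⟨a, ha, hr⟩ := exists_rep_octadFix hm'
    have hf : ∀ i < 15, (m : Equiv.Perm GolayPt) • trioK.ix.sem i = trioK.ix.sem i := fun i hi' =>
      hr.smul_trio (by omega)
        (List.all_eq_true.1 (List.all_eq_true.1 octadFix_trios a ha) i (List.mem_range.2 hi'))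
    suffices ∀ n ≤ 4, m ∈ trioLevGrp n from this 4 le_rfl
    intro n hn
    induction n with
    | zero =>
      show (m : Equiv.Perm GolayPt) • toSet (getT 24 octTbl 0) = toSet (getT 24 octTbl 0)
      rw [hbase]
      refine Finset.eq_of_subset_of_card_le (fun y hy => ?_) (Finset.card_smul_finset _ _).ge
      obtain ⟨x, hx, rfl⟩ := Finset.mem_smul_finset.1 hy
      rw [(mem_fixingSubgroup_iff _).1 hm'.2 x hx]
      exact hx
    | succ n ih => exact ⟨ih (by omega), hf _ (hb n (by omega))⟩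
  have heq : E = trioLevGrp 4 := Subgroup.eq_of_le_of_card_ge hsub (hle.trans hE.ge)
  have hgm : (⟨g, hg⟩ : ↥M24) ∈ trioLevGrp 4 := by
    suffices ∀ n ≤ 4, (⟨g, hg⟩ : ↥M24) ∈ trioLevGrp n from this 4 le_rfl
    intro n hn
    induction n with
    | zero => exact ho
    | succ n ih => exact ⟨ih (by omega), ht _ (hb n (by omega))⟩
  rw [← heq] at hgm
  intro p hp
  exact (mem_fixingSubgroup_iff _).1 (Subgroup.mem_subgroupOf.1 hgm).2 p (hbase ▸ hp)

/-- a permutation fixing the octad pointwise fixes the trios through it -/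
theorem fix_trios_of_fix {g : Equiv.Perm GolayPt} (hg : g ∈ M24)
    (h : ∀ p ∈ toSet (getT 24 octTbl 0), g p = p) {i : ℕ} (hi : i < 15) :
    g • trioK.ix.sem i = trioK.ix.sem i := by
  have hbase : toSet (getT 24 octTbl 0) = toSet baseOctad := by decide +kernel
  obtain ⟨a, ha, hr⟩ := exists_rep_octadFix (g := g)
    ⟨hg, (mem_fixingSubgroup_iff _).2 fun p hp => h p (hbase ▸ hp)⟩
  exact hr.smul_trio (by omega)
    (List.all_eq_true.1 (List.all_eq_true.1 octadFix_trios a ha) i (List.mem_range.2 hi))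

theorem trioThru_invs : ((List.range 15).all fun i =>
    Nat.beq (invL [getT 24 octTbl 0] (trioK.parts i)) (64 ^ 8 + 2) &&
    (Nat.beq i 0 || decide (trioK.invsIx [[getT 24 octTbl 0], trioK.parts 0] i =
      trioK.invsIx [[getT 24 octTbl 0], trioK.parts 0] 1))) = true := by decide +kernel

end CfsgLib.Spor
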