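import Cfsg.Agent.Lib.Spor.StabCert

/-!
The stabiliser of a trio modulo its normal subgroup of order 64 is `GL(3, 2) × S₃`: its action on
the seven sextets refining the trio and on the three octads.
-/

set_option autoImplicit false
set_option maxRecDepth 100000

namespace CfsgLib.Spor

open Cfsg
open scoped Pointwise

/-- the masks of the first trio -/
def trioP0 : List ℕ := trioParts (getT 72 trioTbl 0)

/-- the first trio -/
noncomputable def trio0 : Finset (Finset GolayPt) := trioK.ix.sem 0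

theorem trio0_eq : trio0 = toFam trioP0 := rfl

/-- the masks of a labelled object: a vector or an octad -/
def trioObjP : (Fin 3 → ZMod 2) ⊕ Fin 3 → List ℕ
  | Sum.inl v =>
    if v = 0 then trioP0
    else sextetParts (getT 144 sexTbl
      (trioObjIdx.getD ((v 0).val + 2 * (v 1).val + 4 * (v 2).val - 1) 0))
  | Sum.inr i => [trioP0.getD i.val 0]

/-- the labelled objects -/
def trioObj (v : (Fin 3 → ZMod 2) ⊕ Fin 3) : Finset (Finset GolayPt) := toFam (trioObjP v)

theorem trioObjP_ok : (∀ v, partsOK (trioObjP v) = true) ∧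
    (∀ v w, (∀ m ∈ trioObjP v, m ∈ trioObjP w) → (∀ m ∈ trioObjP w, m ∈ trioObjP v) → v = w) := by
  decide +kernel

theorem trioObj_injective : Function.Injective trioObj := by
  intro v w h
  have key : ∀ v w, trioObj v = trioObj w → ∀ m ∈ trioObjP v, m ∈ trioObjP w := by
    intro v w h m hm
    have hv : toSet m ∈ trioObj w :=
      h ▸ List.mem_toFinset.2 (List.mem_map.2 ⟨m, hm, rfl⟩)
    obtain ⟨m', hm', e⟩ := List.mem_map.1 (List.mem_toFinset.1 hv)
    have h1 := trioObjP_ok.1 v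
    have h2 := trioObjP_ok.1 w
    simp only [partsOK, Bool.and_eq_true, List.all_eq_true, Nat.blt_eq] at h1 h2
    rwa [← toSet_injOn (by simpa using h2.1 m' hm') (by simpa using h1.1 m hm) e]
  exact trioObjP_ok.2 v w (key v w h) (key w v h.symm)

/-- the action on the labels -/
noncomputable def trioRho :
    GL (Fin 3) (ZMod 2) × Equiv.Perm (Fin 3) →* Equiv.Perm ((Fin 3 → ZMod 2) ⊕ Fin 3) :=
  (Equiv.Perm.sumCongrHom _ _).comp
    ((mulVecPerm (Fin 3) (ZMod 2)).prodMap (MonoidHom.id (Equiv.Perm (Fin 3))))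

theorem trioRho_inl (m : GL (Fin 3) (ZMod 2) × Equiv.Perm (Fin 3)) (v : Fin 3 → ZMod 2) :
    trioRho m (Sum.inl v) = Sum.inl ((m.1 : Matrix (Fin 3) (Fin 3) (ZMod 2)).mulVec v) := rfl

theorem trioRho_inr (m : GL (Fin 3) (ZMod 2) × Equiv.Perm (Fin 3)) (i : Fin 3) :
    trioRho m (Sum.inr i) = Sum.inr (m.2 i) := rfl

theorem trioRho_injective : Function.Injective trioRho := by
  intro m n h
  refine Prod.ext (mulVecPerm_injective _ _ (Equiv.ext fun v => ?_)) (Equiv.ext fun i => ?_)
  · exact Sum.inl_injective (DFunLike.congr_fun h (Sum.inl v))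
  · exact Sum.inr_injective (DFunLike.congr_fun h (Sum.inr i))

/-- the entries with a given code -/
def entOfCode (c : ℕ) (i j : Fin 3) : ZMod 2 := if c.testBit (3 * i.val + j.val) then 1 else 0

/-- the matrix with a given code -/
def matOfCode (c : ℕ) : Matrix (Fin 3) (Fin 3) (ZMod 2) := Matrix.of (entOfCode c)

/-- a packed permutation acts on the labels by a matrix and a list of images -/
def labOK (a c : ℕ) (p : List ℕ) : Bool :=
  isM24P a && mapsP a trioP0 trioP0 &&
    (decide (∀ v : Fin 3 → ZMod 2,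
      mapsP a (trioObjP (Sum.inl v)) (trioObjP (Sum.inl ((matOfCode c).mulVec v))) = true)) &&
    (decide (∀ i : Fin 3, p.getD i.val 0 < 3 ∧
      mapsP a (trioObjP (Sum.inr i)) [trioP0.getD (p.getD i.val 0) 0] = true))

theorem acts_of_labOK {a c : ℕ} {p : List ℕ} (h : labOK a c p = true)
    {σ : Equiv.Perm GolayPt} (hσ : Rep σ a) (m : GL (Fin 3) (ZMod 2) × Equiv.Perm (Fin 3))
    (hc : (m.1 : Matrix (Fin 3) (Fin 3) (ZMod 2)) = matOfCode c)
    (hp : ∀ i, (m.2 i).val = p.getD i.val 0) (v : (Fin 3 → ZMod 2) ⊕ Fin 3) :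
    σ • trioObj v = trioObj (trioRho m v) := by
  simp only [labOK, Bool.and_eq_true, decide_eq_true_eq] at h
  rcases v with v | i
  · rw [trioRho_inl, hc]
    exact hσ.smul_toFam (h.1.2 v)
  · rw [trioRho_inr]
    show σ • toFam _ = toFam [trioP0.getD (m.2 i).val 0]
    rw [hp]
    exact hσ.smul_toFam (h.2 i).2

theorem trioStab_ok :
    (trioStabGens.all fun a => isM24P a && mapsP a trioP0 trioP0) = true ∧
    trioStabGens.all isPermP = true ∧
    genOrderOK trioStabGens trioStabSLP trioStabChain 64512 = true := by decide +kernel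

theorem map_stab_trio0 : (MulAction.stabilizer M24 trio0).map M24.subtype = permGenSub trioStabGens :=
  map_stab_eq_genSub trio0_eq trioStab_ok.2.2
    (natCard_stab_trio (trioK.ix.mem 0 (by decide +kernel))) trioStab_ok.1

theorem trioGenLab_ok :
    trioStabGenLab.map Prod.fst = trioStabGens ∧
    (trioStabGenLab.all fun e => labOK e.1 e.2.1 e.2.2) = true ∧
    (∀ e ∈ trioStabGenLab, (matOfCode e.2.1).det ≠ 0 ∧
      ([e.2.2.getD 0 0, e.2.2.getD 1 0, e.2.2.getD 2 0] : List ℕ).Nodup) := by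
  decide +kernel

theorem genSub_trio_le : permGenSub trioStabGens ≤ equivarSub trioObj trioRho := by
  refine genSub_le fun a ha => ?_
  obtain ⟨hfst, hlab, hunit⟩ := trioGenLab_ok
  rw [← hfst] at ha
  obtain ⟨e, he, rfl⟩ := List.mem_map.1 ha
  have hl := List.all_eq_true.1 hlab e he
  obtain ⟨hdet, hnd⟩ := hunit e he
  have hl' := hl
  simp only [labOK, Bool.and_eq_true, decide_eq_true_eq] at hl'
  obtain ⟨σ, hσ, hσa⟩ := exists_rep_M24 hl'.1.1.1
  have hinj : Function.Injective fun i : Fin 3 => (⟨_, (hl'.2 i).1⟩ : Fin 3) := by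
    intro i j hij
    have hij' : e.2.2.getD i.val 0 = e.2.2.getD j.val 0 := congrArg Fin.val hij
    simp only [List.nodup_cons, List.mem_cons, List.not_mem_nil, or_false, not_or] at hnd
    fin_cases i <;> fin_cases j <;> first
      | rfl
      | exact absurd hij' hnd.1.1
      | exact absurd hij' hnd.1.2
      | exact absurd hij' hnd.2.1
      | exact absurd hij'.symm hnd.1.1
      | exact absurd hij'.symm hnd.1.2
      | exact absurd hij'.symm hnd.2.1
  exact ⟨σ, ⟨(Matrix.GeneralLinearGroup.mkOfDetNeZero _ hdet,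
    Equiv.ofBijective _ (Finite.injective_iff_bijective.1 hinj)),
    fun v => acts_of_labOK hl hσa _ rfl (fun i => rfl) v⟩, hσa⟩

theorem trioStab_mem (g : ↥(MulAction.stabilizer M24 trio0)) :
    (((g : M24) : Equiv.Perm GolayPt)) ∈ permGenSub trioStabGens :=
  map_stab_trio0 ▸ ⟨(g : M24), g.2, rfl⟩

/-- the action of the stabiliser on the labels -/
noncomputable def trioHom :
    ↥(MulAction.stabilizer M24 trio0) →* GL (Fin 3) (ZMod 2) × Equiv.Perm (Fin 3) :=
  (equivarHom trioObj_injective trioRho_injective (permGenSub trioStabGens) genSub_trio_le).comp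
    ((M24.subtype.comp (MulAction.stabilizer M24 trio0).subtype).codRestrict _ trioStab_mem)

theorem trioHom_eq (g : ↥(MulAction.stabilizer M24 trio0))
    {m : GL (Fin 3) (ZMod 2) × Equiv.Perm (Fin 3)}
    (h : ∀ v, ((g : M24) : Equiv.Perm GolayPt) • trioObj v = trioObj (trioRho m v)) :
    trioHom g = m :=
  equivarHom_eq trioObj_injective trioRho_injective (permGenSub trioStabGens) genSub_trio_le
    (h := ⟨_, trioStab_mem g⟩) h

theorem trioPreMat_ok : (trioStabPreMat.all fun e => labOK e.1 e.2 [0, 1, 2]) = true := by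
  decide +kernel

theorem trioPreMat_all : ∀ M : Fin 3 → Fin 3 → ZMod 2, Matrix.det (Matrix.of M) = 0 ∨
    ∃ e ∈ trioStabPreMat, ∀ i j, M i j = entOfCode e.2 i j := by decide +kernel

theorem trioPrePerm_ok : (trioStabPrePerm.all fun e => labOK e.1 273 e.2) = true ∧
    matOfCode 273 = 1 ∧
    ∀ π : Equiv.Perm (Fin 3), ∃ e ∈ trioStabPrePerm, ∀ i, (π i).val = e.2.getD i.val 0 := by
  decide +kernel

theorem exists_trioHom_eq {a c : ℕ} {p : List ℕ} (h : labOK a c p = true)
    (m : GL (Fin 3) (ZMod 2) × Equiv.Perm (Fin 3))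
    (hc : (m.1 : Matrix (Fin 3) (Fin 3) (ZMod 2)) = matOfCode c)
    (hp : ∀ i, (m.2 i).val = p.getD i.val 0) : ∃ g, trioHom g = m := by
  have h' := h
  simp only [labOK, Bool.and_eq_true] at h'
  obtain ⟨σ, hσ, hσa⟩ := exists_rep_M24 h'.1.1.1
  exact ⟨⟨⟨σ, hσ⟩, MulAction.mem_stabilizer_iff.2 (trio0_eq ▸ hσa.smul_toFam h'.1.1.2)⟩,
    trioHom_eq _ (acts_of_labOK h hσa m hc hp)⟩

theorem trioHom_surjective : Function.Surjective trioHom := by
  rintro ⟨A, π⟩
  obtain ⟨e, he, hM⟩ := (trioPreMat_all fun i j => (A : Matrix (Fin 3) (Fin 3) (ZMod 2)) i j).resolve_left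
    (fun h => Matrix.GeneralLinearGroup.det_ne_zero A h)
  obtain ⟨g, hg⟩ := exists_trioHom_eq (List.all_eq_true.1 trioPreMat_ok e he) (A, 1)
    (Matrix.ext hM) (show ∀ i : Fin 3, ((1 : Equiv.Perm (Fin 3)) i).val = [0, 1, 2].getD i.val 0 by decide)
  obtain ⟨e', he', hp⟩ := trioPrePerm_ok.2.2 π
  obtain ⟨k, hk⟩ := exists_trioHom_eq (List.all_eq_true.1 trioPrePerm_ok.1 e' he') (1, π)
    (by rw [trioPrePerm_ok.2.1]; rfl) hp
  exact ⟨g * k, by rw [map_mul, hg, hk, Prod.mk_mul_mk, mul_one, one_mul]⟩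

theorem natCard_trioLabels : Nat.card (GL (Fin 3) (ZMod 2) × Equiv.Perm (Fin 3)) = 1008 := by
  have e : Nat.card (GL (Fin 3) (ZMod 2)) = 168 := by
    rw [Matrix.card_GL_field]
    simp [Fin.prod_univ_three]
  rw [Nat.card_prod, e, Nat.card_perm, Nat.card_fin]
  rfl

theorem trioNormal_ok : listClosed trioStabSixtyFour = true ∧ distinctP trioStabSixtyFour = true ∧
    normalisedBy trioStabGens trioStabSixtyFour = true ∧ trioStabSixtyFour.length = 64 ∧
    (trioStabSixtyFour.all fun a => Nat.beq (compP a a) (packL (List.range 24))) = true ∧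
    (trioStabSixtyFour.all fun a => labOK a 273 [0, 1, 2]) = true := by decide +kernel

theorem exists_trio_normal : ∃ (N : Subgroup ↥(MulAction.stabilizer M24 trio0)) (_ : N.Normal),
    Nat.card N = 64 ∧ (∀ y ∈ N, y * y = 1) ∧
      Nonempty (↥(MulAction.stabilizer M24 trio0) ⧸ N ≃*
        GL (Fin 3) (ZMod 2) × Equiv.Perm (Fin 3)) := by
  obtain ⟨hc, hd, hn, h64, h2, hm⟩ := trioNormal_ok
  obtain ⟨N, h1, h2', h3, hmem⟩ := exists_listed_normal map_stab_trio0 hc hd trioStab_ok.2.1 hn
    (fun a ha => by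
      have h' := List.all_eq_true.1 hm a ha
      simp only [labOK, Bool.and_eq_true] at h'
      obtain ⟨σ, hσ, hσa⟩ := exists_rep_M24 h'.1.1.1
      refine ⟨σ, map_stab_trio0 ▸ ⟨⟨σ, hσ⟩, ?_, rfl⟩, hσa⟩
      exact MulAction.mem_stabilizer_iff.2 (trio0_eq ▸ hσa.smul_toFam h'.1.1.2)) h2
  have hle : N ≤ trioHom.ker := by
    intro y hy
    obtain ⟨a, ha, hya⟩ := (hmem y).1 hy
    exact trioHom_eq y (acts_of_labOK (List.all_eq_true.1 hm a ha) hya 1
      (by rw [trioPrePerm_ok.2.1]; rfl) (by decide))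
  have hker : Nat.card trioHom.ker = 64 := by
    have h := Subgroup.card_mul_index trioHom.ker
    rw [Subgroup.index_ker, MonoidHom.range_eq_top.2 trioHom_surjective, Subgroup.card_top,
      natCard_trioLabels, natCard_stab_trio (T := trio0) (trioK.ix.mem 0 (by decide +kernel))] at h
    omega
  have hN : trioHom.ker = N :=
    (Subgroup.eq_of_le_of_card_ge hle (by rw [hker, h2', h64])).symm
  subst hN
  exact ⟨trioHom.ker, h1, h2'.trans h64, h3,
    ⟨QuotientGroup.quotientKerEquivOfSurjective _ trioHom_surjective⟩⟩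

theorem trioMember_perm {T : Finset (Finset GolayPt)} (g : ↥M24) (hT : g • trio0 = T)
    (e : Equiv.Perm ↥T) : ∃ h : ↥(MulAction.stabilizer M24 T), ∀ o : ↥T,
      ((h : M24) : Equiv.Perm GolayPt) • (o : Finset GolayPt) = ((e o : ↥T) : Finset GolayPt) := by
  subst hT
  have hnd := map_toSet_nodup (P := trioP0) (by decide +kernel)
  have hlen : trioP0.length = 3 := by decide +kernel
  let f : Fin 3 → ↥(g • trio0) := fun i => ⟨(g : Equiv.Perm GolayPt) • toSet (trioP0.getD i.val 0),
    Finset.smul_mem_smul_finset (trio0_eq ▸ List.mem_toFinset.2 (List.mem_map.2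
      ⟨_, by rw [List.getD_eq_getElem _ _ (by omega)]; exact List.getElem_mem _, rfl⟩))⟩
  have hf : Function.Bijective f := by
    constructor
    · intro i j h
      have h1 : toSet (trioP0.getD i.val 0) = toSet (trioP0.getD j.val 0) :=
        smul_left_cancel _ (congrArg Subtype.val h)
      rw [List.getD_eq_getElem _ _ (by omega), List.getD_eq_getElem _ _ (by omega)] at h1
      exact Fin.ext ((hnd.getElem_inj_iff (hi := by simp; omega) (hj := by simp; omega)).1
        (by simpa using h1))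
    · rintro ⟨o, ho⟩
      obtain ⟨o', ho', rfl⟩ := Finset.mem_smul_finset.1 ho
      have ho'' : o' ∈ toFam trioP0 := trio0_eq ▸ ho'
      obtain ⟨m, hm, rfl⟩ := List.mem_map.1 (List.mem_toFinset.1 ho'')
      obtain ⟨i, hi, rfl⟩ := List.mem_iff_getElem.1 hm
      refine ⟨⟨i, by omega⟩, Subtype.ext ?_⟩
      show _ • toSet (trioP0.getD i 0) = _
      rw [List.getD_eq_getElem _ _ hi]
      rfl
  let c := Equiv.ofBijective f hf
  obtain ⟨h, hh⟩ := trioHom_surjective (1, (c.trans e).trans c.symm)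
  have hm : g * (h : M24) * g⁻¹ ∈ MulAction.stabilizer M24 (g • trio0) := by
    rw [MulAction.mem_stabilizer_iff, mul_smul, mul_smul, inv_smul_smul]
    exact congrArg (g • ·) h.2
  refine ⟨⟨_, hm⟩, fun o => ?_⟩
  obtain ⟨i, rfl⟩ := c.surjective o
  have h1 := equivarHom_spec trioObj_injective trioRho_injective _ genSub_trio_le
    ⟨_, trioStab_mem h⟩ (Sum.inr i)
  change _ = trioObj (trioRho (trioHom h) _) at h1
  rw [hh, trioRho_inr] at h1
  change ((h : M24) : Equiv.Perm GolayPt) • toFam [_] = toFam [_] at h1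
  simp only [toFam, List.map_cons, List.map_nil, List.toFinset_cons, List.toFinset_nil,
    insert_empty_eq, Finset.smul_finset_singleton, Finset.singleton_inj] at h1
  show ((g : Equiv.Perm GolayPt) * ((h : M24) : Equiv.Perm GolayPt) *
        (g : Equiv.Perm GolayPt)⁻¹) • ((g : Equiv.Perm GolayPt) • toSet _) = _
  rw [mul_smul, inv_smul_smul, mul_smul, h1]
  exact congrArg Subtype.val (c.apply_symm_apply (e (c i)))

theorem trio_stabilizer {T : Finset (Finset GolayPt)} (hT : T ∈ trios) :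
    (∀ e : Equiv.Perm ↥T, ∃ g ∈ MulAction.stabilizer M24 T, ∀ o : ↥T,
      (g : Equiv.Perm GolayPt) • (o : Finset GolayPt) = ((e o : ↥T) : Finset GolayPt)) ∧
    ∃ (N : Subgroup ↥(MulAction.stabilizer M24 T)) (_ : N.Normal), Nat.card N = 64 ∧
      (∀ x ∈ N, x * x = 1) ∧
      Nonempty (↥(MulAction.stabilizer M24 T) ⧸ N ≃*
        GL (Fin 3) (ZMod 2) × Equiv.Perm (Fin 3)) := by
  obtain ⟨g, hg⟩ := trioK.exists_trans transTrio_ok (trioK.ix.mem 0 (by decide +kernel)) hT
  change g • trio0 = T at hg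
  refine ⟨fun e => ?_, ?_⟩
  · obtain ⟨h, hh⟩ := trioMember_perm g hg e
    exact ⟨h, h.2, hh⟩
  subst hg
  obtain ⟨N, hN, h64, h2, ⟨q⟩⟩ := exists_trio_normal
  let e := MulAction.stabilizerEquivStabilizer (g := g) (a := trio0) (b := g • trio0) rfl
  have hNe : (N.map e.toMonoidHom).Normal := hN.map _ e.surjective
  refine ⟨N.map e.toMonoidHom, hNe, ?_, ?_,
    ⟨(QuotientGroup.congr N (N.map e.toMonoidHom) e rfl).symm.trans q⟩⟩
  · rw [← h64, Nat.card_congr (N.equivMapOfInjective e.toMonoidHom e.injective).toEquiv]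
  · rintro _ ⟨y, hy, rfl⟩
    rw [← map_mul, h2 y hy, map_one]

end CfsgLib.Spor
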